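import Cfsg.Agent.BG.S01
import Cfsg.Agent.PLoc.NPC
/-!
Bender–Glauberman, appendix A: `p`-stability of groups of odd order; Theorem 6.1.
-/
set_option autoImplicit false

namespace Cfsg.Agent.BG
open Subgroup PHom

variable {G : Type*} [Group G] [Finite G] {G' : Type*} [Group G'] [Finite G']
variable {A B C D E H K L M N P Q R S T U V W X Y Z : Subgroup G} {x y g : G} {π ρ : Set ℕ} {p q r m n : ℕ}
  {φ : PHom G G'}

theorem PiG.eq_bot_of_odd (h : PiG {2} A) (ho : Odd #H) (h1 : A ≤ H) : A = ⊥ := by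
  by_contra hn
  exact h.ne_two (ho.of_dvd_nat (cardS h1)) hn rfl

theorem abSyl2_of_odd (ho : Odd (Nat.card G)) : PLoc.AbSyl2 (⊤ : Subgroup G) := fun T _ hT => by
  have : T = ⊥ := (pig_of_pg Nat.prime_two hT).eq_bot_of_odd (H := ⊤) (by rwa [card_top]) le_top
  rw [this]; exact abel_bot.comm

theorem le_OM_of_inOp (hp : p.Prime) (h1 : H ≤ N[K]) (h : PLoc.InOp p A H K) : A ≤ OM {p} K H := by
  haveI := Fact.mk hp
  obtain ⟨D, a, b, c, d⟩ := h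
  refine a.trans (le_OM h1 b (normY c h1) ?_)
  obtain ⟨k, hk⟩ := PLoc.relIndex_pResOf (p := p) D
  exact (hk ▸ pin_pow_self hp k).of_dvd (relIndex_dvd_left d D)

theorem inOp_of_le_OM (hp : p.Prime) (h0 : K ≤ H) (h1 : H ≤ N[K]) (h : A ≤ OM {p} K H) : PLoc.InOp p A H K := by
  haveI := Fact.mk hp
  refine ⟨_, h, OM_le h0 h1, normOM h1 (normG H), ?_⟩
  obtain ⟨k, hk⟩ := (pin_single hp (relIndex_pos _ _).ne').1 (OM_idx {p} K H)
  exact PLoc.pResOf_le_of_relIndex ((OM_le h0 h1).trans h1) ⟨k, hk⟩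

/-- groups of odd order are `p`-stable -/
theorem odd_stable (hp : p.Prime) (ho : Odd #H) (hP : PiG {p} P) (h1 : P ≤ H)
    (h2 : H ≤ N[P]) (hA : PiG {p} A) (h3 : A ≤ H) (h4 : ⁅⁅P, A⁆, A⁆ = ⊥) :
    A ≤ OM {p} (H ⊓ C[P]) H := by
  haveI := Fact.mk hp
  by_cases e : p = 2
  · subst e; rw [hA.eq_bot_of_odd ho h3]; exact bot_le
  refine le_OM_of_inOp hp (normI (normG H) (normC h2)) ((PLoc.inOp_subgroupOf_iff h3).1 ?_)
  have a := PLoc.stabN_of_abSyl2 e (abSyl2_of_odd (G := H) ho) (A.subgroupOf H) (P.subgroupOf H)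
    (hA.pg hp).comap_subtype (hP.pg hp).comap_subtype (normal_subgroupOf h2) (by
      have : (rst H).im ⁅⁅P, A⁆, A⁆ = ⊥ := by rw [h4, im_bot]
      rwa [im_comm (comm_le h1 h3) h3, im_comm h1 h3, rst_im, rst_im] at this)
  refine a.mono le_rfl fun x hx => mem_subgroupOf.2 ⟨x.2, mem_C.2 fun y hy => ?_⟩
  exact congrArg Subtype.val (mem_C.1 hx ⟨y, h1 hy⟩ hy)

/-- BG A.4(c) -/
theorem odd_p_stable (hp : p.Prime) (ho : Odd #H) (hP : PiG {p} P) (h1 : P ≤ H)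
    (hA : PiG {p} A) (h3 : A ≤ H ⊓ N[P]) (h4 : ⁅⁅P, A⁆, A⁆ = ⊥) :
    A ≤ OM {p} (H ⊓ C[P]) (H ⊓ N[P]) := by
  have := odd_stable hp (ho.of_dvd_nat (cardS inf_le_left)) hP (le_inf h1 (normG P)) inf_le_right hA h3 h4
  rwa [inf_assoc, inf_eq_right.2 (C_le_N P)] at this

/-- BG A.5(a) -/
theorem odd_abel_gen_stable (hp : p.Prime) (ho : Odd #H) (hP : PiG {p} P) (h1 : P ≤ H) (h2 : H ≤ N[P])
    (hA : PiG {p} A) (h3 : A ≤ H) (h4 : Abel A) (h5 : P ≤ N[A]) : A ≤ OM {p} (H ⊓ C[P]) H :=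
  odd_stable hp ho hP h1 h2 hA h3 (comm_eq_bot.2 ((commR h5).trans h4))

theorem PiG.OM_le (hK : PiG π K) (h1 : K ≤ H) (h2 : H ≤ N[K]) : OM π K H ≤ O[π](H) :=
  le_O (BG.OM_le h1 h2) (normOM h2 (normG H)) (hK.ext (OM_idx _ _ _))

/-- BG A.5(b) -/
theorem odd_abel_gen_constrained (hp : p.Prime) (ho : Odd #H) (hs : Sol H) (hP : PiG {p} P) (h1 : P ≤ H)
    (h2 : H ≤ N[P]) (h6 : O[{p}ᶜ](H) = ⊥) (h7 : O[{p}](H) ⊓ C[P] ≤ P)
    (hA : PiG {p} A) (h3 : A ≤ H) (h4 : Abel A) (h5 : P ≤ N[A]) : A ≤ O[{p}](H) := by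
  refine (odd_abel_gen_stable hp ho hP h1 h2 hA h3 h4 h5).trans
    (PiG.OM_le (pig_of_prime_elts fun x hx hq => ?_) inf_le_left (normI (normG H) (normC h2)))
  by_contra hn
  have a1 : PiG {p}ᶜ (zpowers x) := pig_zpowers.2 ((pin_prime hq).2 hn)
  have a2 : zpowers x ≤ C[O[{p}](H)] := cop_self_cent (O_pig _ _).nil ((zpowers_le.2 hx.1).trans (O_norm _ _))
    (a1.coprime' (O_pig _ _)) (le_O h1 h2 hP) (cent_symm (zpowers_le.2 hx.2)) h7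
  have a3 := ((O_pig _ _).of_le ((le_inf (zpowers_le.2 hx.1) a2).trans (C_O_le hs h6))).eq_bot a1
  rw [zpowers_eq_bot.1 a3, orderOf_one] at hq
  exact Nat.not_prime_one hq

/-- BG 6.1 -/
theorem odd_p_abel_constrained (hp : p.Prime) (ho : Odd #H) (hs : Sol H) (hS : Syl p S H) (hA : Abel A)
    (h1 : A ≤ S) (h2 : S ≤ N[A]) : A ≤ O2[{p}ᶜ, {p}](H) := by
  set K := O[{p}ᶜ](H)
  have nK : H ≤ N[K] := O_norm _ _
  refine (le_pre_iff ((h1.trans hS.le).trans nK)).2 ?_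
  have h0 : O[{p}ᶜ](H ÷ K) = ⊥ := O_quo_O _ _
  exact odd_abel_gen_constrained hp (ho.of_dvd_nat (card_im_dvd _)) (hs.im _) (O_pig _ _) (O_le _ _) (O_norm _ _) h0
    inf_le_left ((hS.pi.of_le h1).im _) (im_mono (h1.trans hS.le)) (hA.im _)
    ((hS.im nK).O_le.trans (im_norm h2))

end Cfsg.Agent.BG
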