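import Cfsg.Agent.BG.AppA
/-!
Bender–Glauberman, appendix B: the Puig subgroup; Theorem 6.2.
-/
set_option autoImplicit false

namespace Cfsg.Agent.BG
open Subgroup PHom

variable {G : Type*} [Group G] {G' : Type*} [Group G']
variable {A B C D E H K L M N P Q R S T U V W X Y Z : Subgroup G} {x y g : G} {π ρ : Set ℕ} {p q r m n : ℕ}
  {φ : PHom G G'}

/-- the subgroup of `H` generated by the abelian subgroups normalized by `X` -/
def LStep (H X : Subgroup G) : Subgroup G := sSup {A | A ≤ H ∧ Abel A ∧ X ≤ N[A]}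
/-- the Puig series -/
def LSeq (H : Subgroup G) : ℕ → Subgroup G
  | 0 => ⊥
  | n + 1 => LStep H (LSeq H n)
/-- the Puig subgroup `L(S)` -/
def Puig (S : Subgroup G) : Subgroup G := ⨅ n, LSeq S (2 * n + 1)
/-- the lower Puig subgroup `L_*(S)` -/
def PuigL (S : Subgroup G) : Subgroup G := ⨆ n, LSeq S (2 * n)

theorem LStep_le_iff : LStep H X ≤ K ↔ ∀ A, A ≤ H → Abel A → X ≤ N[A] → A ≤ K :=
  ⟨fun h A a b c => (le_sSup (s := {A | A ≤ H ∧ Abel A ∧ X ≤ N[A]}) ⟨a, b, c⟩).trans h,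
    fun h => sSup_le fun A a => h A a.1 a.2.1 a.2.2⟩
theorem le_LStep (h1 : A ≤ H) (h2 : Abel A) (h3 : X ≤ N[A]) : A ≤ LStep H X := LStep_le_iff.1 le_rfl A h1 h2 h3
theorem LStep_le (H X : Subgroup G) : LStep H X ≤ H := LStep_le_iff.2 fun _ a _ _ => a
theorem LStep_mono (h1 : H ≤ K) (h2 : Y ≤ X) : LStep H X ≤ LStep K Y :=
  LStep_le_iff.2 fun _ a b c => le_LStep (a.trans h1) b (h2.trans c)
theorem LSeq_succ (H : Subgroup G) (n : ℕ) : LSeq H (n + 1) = LStep H (LSeq H n) := rfl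
theorem LSeq_le (H : Subgroup G) : ∀ n, LSeq H n ≤ H
  | 0 => bot_le
  | _ + 1 => LStep_le _ _
theorem LSeq_one (H : Subgroup G) : LSeq H 1 = H := le_antisymm (LSeq_le _ _) fun x hx =>
  le_LStep (zpowers_le.2 hx) (abel_zpowers x) bot_le (mem_zpowers x)
theorem LSeq_even_le (H : Subgroup G) : ∀ m n, 2 * m ≤ n → LSeq H (2 * m) ≤ LSeq H n ∧
    LSeq H (n + 1) ≤ LSeq H (2 * m + 1)
  | 0, n, _ => ⟨bot_le, by rw [mul_zero, zero_add, LSeq_one]; exact LSeq_le _ _⟩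
  | m + 1, n, h => by
    obtain ⟨k, rfl⟩ : ∃ k, n = k + 2 := ⟨n - 2, by omega⟩
    have a := LStep_mono (le_refl H) (LSeq_even_le H m k (by omega)).2
    exact ⟨a, LStep_mono le_rfl a⟩
theorem LSeq_even_odd (H : Subgroup G) (m n : ℕ) : LSeq H (2 * m) ≤ LSeq H (2 * n + 1) := by
  rcases le_or_gt (2 * m) (2 * n + 1) with h | h
  · exact (LSeq_even_le H m _ h).1
  · obtain ⟨k, hk⟩ : ∃ k, 2 * m = k + 1 := ⟨2 * m - 1, by omega⟩
    rw [hk]; exact (LSeq_even_le H n k (by omega)).2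
theorem Puig_le_LSeq (S : Subgroup G) (n : ℕ) : Puig S ≤ LSeq S (2 * n + 1) :=
  iInf_le (fun n => LSeq S (2 * n + 1)) n
theorem LSeq_le_PuigL (S : Subgroup G) (n : ℕ) : LSeq S (2 * n) ≤ PuigL S := le_iSup (fun n => LSeq S (2 * n)) n
theorem Puig_le (S : Subgroup G) : Puig S ≤ S := (Puig_le_LSeq S 0).trans (LSeq_le _ _)
theorem PuigL_le_Puig (S : Subgroup G) : PuigL S ≤ Puig S :=
  iSup_le fun m => le_iInf fun n => LSeq_even_odd S m n

theorem im_LStep (h1 : S ≤ φ.dom) (h2 : S ⊓ φ.ker = ⊥) (hX : X ≤ S) :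
    φ.im (LStep S X) = LStep (φ.im S) (φ.im X) := by
  refine le_antisymm ((le_pre_iff ((LStep_le _ _).trans h1)).1 (LStep_le_iff.2 fun A a b c =>
    (le_pre_iff (a.trans h1)).2 (le_LStep (im_mono a) (b.im _) (im_norm c)))) (LStep_le_iff.2 fun A a b c => ?_)
  obtain ⟨B, d, e, rfl⟩ := exists_im_eq' a
  have f : B ⊓ φ.ker = ⊥ := eq_bot_iff.2 (h2 ▸ inf_le_inf_right _ d)
  refine im_mono (le_LStep d (abel_of_im_inj e f b) ?_)
  have i := normI (normsG hX) (norm_sup_ker (hX.trans h1) e c)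
  rwa [inf_comm, modl_r (e.trans dom_norm_ker) d, inf_comm, h2, sup_bot_eq] at i
theorem im_LSeq (h1 : S ≤ φ.dom) (h2 : S ⊓ φ.ker = ⊥) : ∀ n, φ.im (LSeq S n) = LSeq (φ.im S) n
  | 0 => im_bot
  | n + 1 => by rw [LSeq_succ, LSeq_succ, im_LStep h1 h2 (LSeq_le _ _), im_LSeq h1 h2 n]
theorem map_LSeq {f : G →* G'} (hf : Function.Injective f) (S : Subgroup G) (n : ℕ) :
    (LSeq S n).map f = LSeq (S.map f) n := by
  have := im_LSeq (φ := tot f) (S := S) le_top (by rw [tot_ker, (f.ker_eq_bot_iff).2 hf, inf_bot_eq]) n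
  rwa [tot_im, tot_im] at this
theorem normLSeq (n : ℕ) (h : X ≤ N[S]) : X ≤ N[LSeq S n] :=
  norm_fun (fun S => LSeq S n) (fun g S => map_LSeq (cj_inj g) S n) h
theorem normPuig (h : X ≤ N[S]) : X ≤ N[Puig S] := norm_iInf fun _ => normLSeq _ h
theorem normZPuig (h : X ≤ N[S]) : X ≤ N[Z[Puig S]] := normZ (normPuig h)
theorem puigStep_eq (X : Subgroup G) : puigStep X = LStep ⊤ X := by
  unfold puigStep LStep
  congr 1; ext A; simp [abel_iff]
theorem puigSeq_eq : ∀ n, puigSeq G n = LSeq ⊤ n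
  | 0 => rfl
  | n + 1 => by rw [puigSeq, puigStep_eq, puigSeq_eq n]; rfl
theorem puigSubgroup_eq : puigSubgroup G = Puig ⊤ := by simp only [puigSubgroup, Puig, puigSeq_eq]
theorem puigLower_eq : puigLower G = PuigL ⊤ := by simp only [puigLower, PuigL, puigSeq_eq]
/-- every abelian normal subgroup lies in the Puig subgroups -/
theorem le_LSeq_of_abel (h1 : A ≤ S) (h2 : S ≤ N[A]) (h3 : Abel A) (n : ℕ) : A ≤ LSeq S (n + 1) :=
  le_LStep h1 h3 ((LSeq_le _ _).trans h2)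
theorem le_PuigL_of_abel (h1 : A ≤ S) (h2 : S ≤ N[A]) (h3 : Abel A) : A ≤ PuigL S :=
  (le_LSeq_of_abel h1 h2 h3 1).trans (LSeq_le_PuigL S 1)
theorem le_Puig_of_abel (h1 : A ≤ S) (h2 : S ≤ N[A]) (h3 : Abel A) : A ≤ Puig S :=
  (le_PuigL_of_abel h1 h2 h3).trans (PuigL_le_Puig S)
theorem Z_le_ZPuig (S : Subgroup G) : Z[S] ≤ Z[Puig S] :=
  le_inf (le_Puig_of_abel inf_le_left (normZ (normG S)) (abel_Z S)) (inf_le_right.trans (centS (Puig_le S)))

variable [Finite G] [Finite G']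

theorem Puig_limit (S : Subgroup G) : ∃ k, ∀ n, k ≤ n → LSeq S (2 * n) = PuigL S ∧ LSeq S (2 * n + 1) = Puig S := by
  have hm : Monotone fun n => LSeq S (2 * n) := fun a b h => (LSeq_even_le S a _ (by omega)).1
  obtain ⟨k, hk⟩ := (WellFoundedGT.monotone_chain_condition (α := Subgroup G)) ⟨_, hm⟩
  simp only [OrderHom.coe_mk] at hk
  have a : ∀ n, k ≤ n → LSeq S (2 * n) = PuigL S := fun n hn => le_antisymm (LSeq_le_PuigL S n)
    (iSup_le fun m => by
      rcases le_total m n with h | h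
      · exact hm h
      · rw [← hk m (hn.trans h), hk n hn])
  refine ⟨k, fun n hn => ⟨a n hn, le_antisymm (le_iInf fun m => ?_) (Puig_le_LSeq S n)⟩⟩
  rw [LSeq_succ, a n hn]
  exact LStep_mono le_rfl (LSeq_le_PuigL S m)
theorem LStep_PuigL (S : Subgroup G) : LStep S (PuigL S) = Puig S := by
  obtain ⟨k, hk⟩ := Puig_limit S
  rw [← (hk k le_rfl).1, ← (hk k le_rfl).2]; rfl
theorem LStep_Puig (S : Subgroup G) : LStep S (Puig S) = PuigL S := by
  obtain ⟨k, hk⟩ := Puig_limit S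
  rw [← (hk (k + 1) (by omega)).1, ← (hk k le_rfl).2]; rfl
theorem im_Puig (h1 : S ≤ φ.dom) (h2 : S ⊓ φ.ker = ⊥) :
    φ.im (Puig S) = Puig (φ.im S) ∧ φ.im (PuigL S) = PuigL (φ.im S) := by
  obtain ⟨k, hk⟩ := Puig_limit S
  obtain ⟨l, hl⟩ := Puig_limit (φ.im S)
  rw [← (hk (k + l) (by omega)).1, ← (hk (k + l) (by omega)).2, ← (hl (k + l) (by omega)).1,
    ← (hl (k + l) (by omega)).2]
  exact ⟨im_LSeq h1 h2 _, im_LSeq h1 h2 _⟩
theorem map_Puig {f : G →* G'} (hf : Function.Injective f) (S : Subgroup G) :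
    (Puig S).map f = Puig (S.map f) ∧ (PuigL S).map f = PuigL (S.map f) := by
  have := im_Puig (φ := tot f) (S := S) le_top (by rw [tot_ker, (f.ker_eq_bot_iff).2 hf, inf_bot_eq])
  simpa only [tot_im] using this
theorem cj_Puig (g : G) (S : Subgroup G) : cj g (Puig S) = Puig (cj g S) := (map_Puig (cj_inj g) S).1
theorem puigSubgroup_map (S : Subgroup G) : (puigSubgroup S).map S.subtype = Puig S := by
  rw [puigSubgroup_eq, (map_Puig S.subtype_injective _).1, map_subtype_top]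
theorem puigLower_map (S : Subgroup G) : (puigLower S).map S.subtype = PuigL S := by
  rw [puigLower_eq, (map_Puig S.subtype_injective _).2, map_subtype_top]
/-- BG B.2 -/
theorem Puig_eq_of_le (h1 : Puig S ≤ H) (h2 : H ≤ S) : Puig H = Puig S := by
  have e1 : LStep H (PuigL S) = Puig S := le_antisymm ((LStep_mono h2 le_rfl).trans (LStep_PuigL S).le)
    ((LStep_PuigL S).ge.trans (LStep_le_iff.2 fun A a b c =>
      le_LStep (((le_LStep a b c).trans (LStep_PuigL S).le).trans h1) b c))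
  have a1 : ∀ n, LSeq H (2 * n) ≤ PuigL S := fun n => by
    induction n with
    | zero => exact bot_le
    | succ n ih => exact (LStep_mono h2 (e1.ge.trans (LStep_mono le_rfl ih))).trans (LStep_Puig S).le
  have a2 : Puig S ≤ Puig H := le_iInf fun n => e1.ge.trans (LStep_mono le_rfl (a1 n))
  have a3 : ∀ n, LSeq S (2 * n) ≤ PuigL H := fun n => by
    induction n with
    | zero => exact bot_le
    | succ n ih =>
      have b : Puig H ≤ LSeq S (2 * n + 1) := (LStep_PuigL H).ge.trans (LStep_mono h2 ih)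
      refine (LStep_mono le_rfl b).trans (LStep_le_iff.2 fun A a c d => ?_)
      exact (le_LStep ((((le_LStep a c (a2.trans d)).trans (LStep_Puig S).le).trans (PuigL_le_Puig S)).trans h1)
        c d).trans (LStep_Puig H).le
  exact le_antisymm (le_iInf fun n => (LStep_PuigL H).ge.trans (LStep_mono h2 (a3 n))) a2
/-- BG B.1(f) -/
theorem Nil.C_le_of (hS : Nil S) (h : ∀ A, A ≤ S → S ≤ N[A] → Abel A → A ≤ K) : S ⊓ C[K] ≤ K := by
  obtain ⟨B, -, hB⟩ := hS.exists_scn bot_le (norm_bot _) abel_bot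
  have a := h B hB.le hB.norm hB.abel
  exact ((inf_le_inf_left _ (centS a)).trans hB.cent.le).trans a
theorem ZPuig_ne_bot (hS : PiG {p} S) (h : S ≠ ⊥) : Z[Puig S] ≠ ⊥ := fun e =>
  hS.nil.Z_ne_bot h (le_bot_iff.1 (e ▸ Z_le_ZPuig S))
/-- BG B.3 -/
theorem O_syl_Puig (hp : p.Prime) (ho : Odd #H) (hs : Sol H) (hS : Syl p S H) (h : O[{p}ᶜ](H) = ⊥) :
    PuigL S ≤ PuigL O[{p}](H) ∧ Puig O[{p}](H) ≤ Puig S := by
  set T := O[{p}](H)
  have pT : PiG {p} T := O_pig _ _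
  have a : ∀ n, LSeq S (2 * n) ≤ LSeq T (2 * n) := fun n => by
    induction n with
    | zero => exact bot_le
    | succ n ih =>
      have b : LSeq T (2 * n + 1) ≤ LSeq S (2 * n + 1) := LStep_mono hS.O_le ih
      refine (LStep_mono le_rfl b).trans (LStep_le_iff.2 fun A c d e => le_LStep ?_ d e)
      exact odd_abel_gen_constrained hp ho hs (pT.of_le (LSeq_le _ _)) ((LSeq_le _ _).trans (O_le _ _))
        (normLSeq _ (O_norm _ _)) h (pT.nil.C_le_of fun B i j k => le_LSeq_of_abel i j k _)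
        (hS.pi.of_le c) (c.trans hS.le) d e
  exact ⟨iSup_mono a, iInf_mono fun n => LStep_mono hS.O_le (a n)⟩
/-- BG B.4(b) -/
theorem ZPuig_normal (hp : p.Prime) (ho : Odd #H) (hs : Sol H) (hS : Syl p S H) (h : O[{p}ᶜ](H) = ⊥) :
    H ≤ N[Z[Puig S]] := by
  obtain ⟨a1, a2⟩ := O_syl_Puig hp ho hs hS h
  set T := O[{p}](H)
  set Y := Z[Puig T]
  have a3 : Z[Puig S] ≤ Y := le_inf
    (((inf_le_inf (Puig_le S) (centS (PuigL_le_Puig S))).trans
      (hS.pi.nil.C_le_of fun B => le_PuigL_of_abel)).trans (a1.trans (PuigL_le_Puig T)))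
    (inf_le_right.trans (centS a2))
  have nY : H ≤ N[Y] := normZPuig (O_norm _ _)
  have YS : Y ≤ S := (inf_le_left.trans a2).trans (Puig_le S)
  set D := OM {p} (H ⊓ C[Y]) H
  have nC : H ≤ N[H ⊓ C[Y]] := normI (normG H) (normC nY)
  have DH : D ≤ H := OM_le inf_le_left nC
  have nD : H ≤ N[D] := normOM nC (normG H)
  have a4 : Y ≤ PuigL S := le_PuigL_of_abel YS (hS.le.trans nY) (abel_Z _)
  have a5 : Puig S ≤ S ⊓ D := le_inf (Puig_le S) ((LStep_PuigL S).ge.trans (LStep_le_iff.2 fun A b c d =>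
    odd_abel_gen_stable hp ho (hS.pi.of_le YS) (YS.trans hS.le) nY (hS.pi.of_le b) (b.trans hS.le) c (a4.trans d)))
  have a6 : Syl p (S ⊓ D) D := hS.inf_norm' DH nD
  have a7 : N[S ⊓ D] ≤ N[Z[Puig S]] := by
    rw [← Puig_eq_of_le a5 inf_le_left]; exact normZPuig le_rfl
  have a8 : IsProd (S ⊓ D) (H ⊓ C[Y]) D := a6.prod_idx (le_OM_self _ _ _) (OM_idx _ _ _)
  exact (Syl.frattini a6 hp DH nD).sup.ge.trans (sup_le (a8.sup.ge.trans
    (sup_le ((normG _).trans a7) (inf_le_right.trans (cents_norm (centS a3))))) (inf_le_right.trans a7))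
/-- BG 6.2 -/
theorem ZPuig_p'core_normal (hp : p.Prime) (ho : Odd #H) (hs : Sol H) (hS : Syl p S H) :
    H ≤ N[O[{p}ᶜ](H) ⊔ Z[Puig S]] := by
  set K := O[{p}ᶜ](H)
  have nK : H ≤ N[K] := O_norm _ _
  have nS : S ≤ N[K] := hS.le.trans nK
  have e : S ⊓ (quo K).ker = ⊥ := by rw [quo_ker]; exact hS.pi.inf_bot (O_pig _ _)
  have a := ZPuig_normal hp (ho.of_dvd_nat (card_im_dvd _)) (hs.im _) (hS.im (φ := quo K) nK) (O_quo_O _ _)
  have nL : Puig S ≤ N[K] := (Puig_le S).trans nS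
  have b : Z[Puig S] ÷ K = Z[Puig S ÷ K] := im_IC nL nL
    (by rw [eq_bot_iff.2 (e ▸ inf_le_inf_right _ (Puig_le S) : Puig S ⊓ (quo K).ker ≤ ⊥)]; exact norm_bot _)
    (by rw [eq_bot_iff.2 (e ▸ inf_le_inf_right _ (Puig_le S) : Puig S ⊓ (quo K).ker ≤ ⊥)]; simp)
    (Or.inl (hS.pi.of_le (Puig_le S)).sol) (normG _)
  rw [← (im_Puig nS e).1, ← b] at a
  have c := norm_sup_ker nK (inf_le_left.trans nL) a
  rwa [quo_ker, sup_comm] at c
/-- BG B.4(a) -/
theorem Puig_factor (hp : p.Prime) (ho : Odd #H) (hs : Sol H) (hS : Syl p S H) :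
    IsProd O[{p}ᶜ](H) (H ⊓ N[Z[Puig S]]) H := by
  have a := ZPuig_p'core_normal hp ho hs hS
  have ZS : Z[Puig S] ≤ S := inf_le_left.trans (Puig_le S)
  have nK : Z[Puig S] ≤ N[O[{p}ᶜ](H)] := (ZS.trans hS.le).trans (O_norm _ _)
  have b : Syl p Z[Puig S] (O[{p}ᶜ](H) ⊔ Z[Puig S]) := (isProd_l nK).hall_r (O_pig _ _) (hS.pi.of_le ZS)
  have c := Syl.frattini b hp (sup_le (O_le _ _) (ZS.trans hS.le)) a
  refine isProd_of_l (inf_le_left.trans (O_norm _ _)) ?_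
  exact le_antisymm (sup_le (O_le _ _) inf_le_left) (c.sup.ge.trans (sup_le (sup_le le_sup_left
    ((le_inf (ZS.trans hS.le) (normG _)).trans le_sup_right)) le_sup_right))

end Cfsg.Agent.BG
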