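import Mathlib

/-! BG Appendix C, field part: Lemmas C.1 and C.2. -/

set_option autoImplicit false

namespace Cfsg.Agent.AppC

open Polynomial Finset

/-- Lemma C.1. -/
theorem le_of_inv {F : Type*} [Field F] (p q : ℕ) [hp : Fact p.Prime] [CharP F p] (hq : q ≠ 0)
    (hinv : ∀ a : F, a ^ (∑ i ∈ range q, p ^ i) = 1 → (2 - a) ^ (∑ i ∈ range q, p ^ i) = 1 →
      (2 - a⁻¹) ^ (∑ i ∈ range q, p ^ i) = 1)
    (a : F) (ha1 : a ≠ 1) (ha : a ^ (∑ i ∈ range q, p ^ i) = 1)
    (hb : (2 - a) ^ (∑ i ∈ range q, p ^ i) = 1) : p ≤ q := by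
  classical
  set n := ∑ i ∈ range q, p ^ i with hn
  have hn0 : n ≠ 0 := by
    obtain ⟨q', rfl⟩ := Nat.exists_eq_succ_of_ne_zero hq
    rw [hn, sum_range_succ']; simp
  have key : ∀ k : ℕ, (1 + (k : F) * (1 - a)) ^ n = 1 ∧
      ((1 + ((k : F) - 1) * (1 - a)) / (1 + (k : F) * (1 - a))) ^ n = 1 ∧
      (2 - (1 + ((k : F) - 1) * (1 - a)) / (1 + (k : F) * (1 - a))) ^ n = 1 := by
    intro k
    induction k with
    | zero => simp [ha, hb]
    | succ k ih =>
      obtain ⟨h1, h2, h3⟩ := ih
      have h0 : (1 + (k : F) * (1 - a)) ≠ 0 := by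
        intro h; rw [h, zero_pow hn0] at h1; exact zero_ne_one h1
      have e : 2 - (1 + ((k : F) - 1) * (1 - a)) / (1 + (k : F) * (1 - a)) =
          (1 + ((k + 1 : ℕ) : F) * (1 - a)) / (1 + (k : F) * (1 - a)) := by
        field_simp; push_cast; ring
      have h4 : (1 + ((k + 1 : ℕ) : F) * (1 - a)) ^ n = 1 := by
        rw [e, div_pow, h1, div_one] at h3; exact h3
      have e2 : (1 + (((k + 1 : ℕ) : F) - 1) * (1 - a)) / (1 + ((k + 1 : ℕ) : F) * (1 - a)) =
          (2 - (1 + ((k : F) - 1) * (1 - a)) / (1 + (k : F) * (1 - a)))⁻¹ := by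
        rw [e, inv_div]; push_cast; ring
      refine ⟨h4, ?_, ?_⟩
      · rw [e2, inv_pow, h3, inv_one]
      · rw [e2]; exact hinv _ h3 (by rw [sub_sub_cancel]; exact h2)
  have hc : (1 - a) ≠ 0 := sub_ne_zero.2 ha1.symm
  set R : F[X] := ∏ i ∈ range q, (C ((1 - a) ^ p ^ i) * X + C 1) with hR
  have hdeg : R.natDegree = q := by
    rw [hR, natDegree_prod]
    · rw [sum_congr rfl (fun i _ => natDegree_linear (pow_ne_zero _ hc))]; simp
    · intro i _ h
      have := natDegree_linear (b := (1 : F)) (pow_ne_zero (p ^ i) hc)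
      rw [h] at this; simp at this
  by_contra hlt
  have hz : R - C 1 = 0 := by
    apply eq_zero_of_natDegree_lt_card_of_eval_eq_zero' _ ((range p).image (Nat.cast : ℕ → F))
    · intro x hx
      obtain ⟨k, -, rfl⟩ := mem_image.1 hx
      rw [eval_sub, eval_C, hR, eval_prod, sub_eq_zero]
      refine Eq.trans ?_ (key k).1
      rw [hn, ← prod_pow_eq_pow_sum]
      refine prod_congr rfl fun i _ => ?_
      rw [add_pow_char_pow, one_pow, mul_pow]
      have : (k : F) ^ p ^ i = k := by
        have := map_natCast (iterateFrobenius F p i) k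
        rwa [iterateFrobenius_def] at this
      rw [this]; simp; ring
    · rw [natDegree_sub_C, hdeg, card_image_of_injOn, card_range]
      · omega
      · intro x hx y hy hxy
        exact CharP.natCast_injOn_Iio F p (by simpa using hx) (by simpa using hy) hxy
  have := congrArg natDegree hz
  rw [natDegree_sub_C, hdeg] at this
  exact hq (by simpa using this)

/-- the character sum estimate behind Lemma C.2 -/
theorem sq_le_of_unique {F : Type*} [Field F] [Fintype F] [DecidableEq F] (U : Finset F) (h2 : (2 : F) ≠ 0)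
    (hU0 : (0 : F) ∉ U) (hU1 : (1 : F) ∈ U) (hmul : ∀ u ∈ U, ∀ v ∈ U, u * v ∈ U)
    (huniq : ∀ a ∈ U, ∀ b ∈ U, a + b = 2 → a = 1) :
    ((U.card : ℝ)) ^ 2 ≤ Fintype.card F * (1 + √(Fintype.card F)) := by
  set ψ := AddChar.FiniteField.primitiveChar_to_Complex F
  have hψ : ψ.IsPrimitive := AddChar.FiniteField.primitiveChar_to_Complex_isPrimitive F
  set η : F → ℂ := fun c => ∑ u ∈ U, ψ (c * u) with hη
  have hperm : ∀ u ∈ U, ∀ g : F → ℂ, ∑ v ∈ U, g (u * v) = ∑ v ∈ U, g v := by
    intro u hu g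
    have hu0 : u ≠ 0 := fun h => hU0 (h ▸ hu)
    have himg : U.image (fun v => u * v) = U := by
      apply eq_of_subset_of_card_le
      · intro x hx
        obtain ⟨v, hv, rfl⟩ := mem_image.1 hx
        exact hmul u hu v hv
      · rw [card_image_of_injective _ (mul_right_injective₀ hu0)]
    conv_rhs => rw [← himg]
    rw [sum_image (fun x _ y _ h => mul_left_cancel₀ hu0 h)]
  have hηu : ∀ u ∈ U, ∀ c, η (c * u) = η c := by
    intro u hu c
    simp only [hη]
    rw [← hperm u hu (fun v => ψ (c * v))]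
    exact sum_congr rfl fun v _ => by rw [mul_assoc]
  have hallu : ∀ u ∈ U, ∀ g : F → ℂ, ∑ c, g (c * u) = ∑ c, g c := by
    intro u hu g
    have hu0 : u ≠ 0 := fun h => hU0 (h ▸ hu)
    exact Equiv.sum_comp (Equiv.mulRight₀ u hu0) g
  -- Parseval
  have hpars : ∑ c, ‖η c‖ ^ 2 = Fintype.card F * U.card := by
    have : ∑ c, η c * (starRingEnd ℂ) (η c) = Fintype.card F * U.card := by
      simp only [hη, map_sum, sum_mul_sum, ← AddChar.map_neg_eq_conj, ← AddChar.map_add_eq_mul]
      rw [sum_comm]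
      have : ∀ u ∈ U, ∑ c, ∑ v ∈ U, ψ (c * u + -(c * v)) = Fintype.card F := by
        intro u hu
        rw [sum_comm]
        have : ∀ v ∈ U, ∑ c, ψ (c * u + -(c * v)) = if u = v then (Fintype.card F : ℂ) else 0 := by
          intro v _
          have := AddChar.sum_mulShift (u - v) hψ
          simp only [sub_eq_zero] at this
          rw [← show ∑ c, ψ (c * (u - v)) = ∑ c, ψ (c * u + -(c * v)) from
            sum_congr rfl fun c _ => by ring_nf, this]
          split_ifs <;> simp
        rw [sum_congr rfl this]; simp [hu]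
      rw [sum_congr rfl this]; simp [mul_comm]
    simp only [Complex.mul_conj, Complex.normSq_eq_norm_sq] at this
    exact_mod_cast this
  have hUpos : (0 : ℝ) < U.card := by exact_mod_cast card_pos.2 ⟨1, hU1⟩
  have hbd : ∀ c ≠ 0, ‖η c‖ ≤ √(Fintype.card F) := by
    intro c hc
    apply Real.le_sqrt_of_sq_le
    have h1 : ∑ x ∈ U.image (fun u => c * u), ‖η x‖ ^ 2 ≤ ∑ x, ‖η x‖ ^ 2 :=
      sum_le_sum_of_subset_of_nonneg (subset_univ _) fun _ _ _ => by positivity
    rw [sum_image (fun x _ y _ h => mul_left_cancel₀ hc h), hpars,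
      sum_congr rfl (fun u hu => by rw [hηu u hu c]), sum_const, nsmul_eq_mul, mul_comm] at h1
    exact le_of_mul_le_mul_right h1 hUpos
  -- the count
  have hcount : ∑ c, η c ^ 2 * ψ (c * (-2)) = Fintype.card F := by
    have : ∀ c, η c ^ 2 * ψ (c * (-2)) = ∑ a ∈ U, ∑ b ∈ U, ψ (c * (a + b - 2)) := by
      intro c
      simp only [hη, sq]
      rw [sum_mul_sum]
      simp only [sum_mul, ← AddChar.map_add_eq_mul]
      exact sum_congr rfl fun a _ => sum_congr rfl fun b _ => by ring_nf
    rw [sum_congr rfl fun c _ => this c, sum_comm]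
    have : ∀ a ∈ U, ∑ c, ∑ b ∈ U, ψ (c * (a + b - 2)) = if a = 1 then (Fintype.card F : ℂ) else 0 := by
      intro a ha
      rw [sum_comm]
      have : ∀ b ∈ U, ∑ c, ψ (c * (a + b - 2)) = if b = 2 - a then (Fintype.card F : ℂ) else 0 := by
        intro b _
        rw [AddChar.sum_mulShift _ hψ]
        have : a + b - 2 = 0 ↔ b = 2 - a := by
          constructor <;> intro h <;> linear_combination h
        simp only [this]
        split_ifs <;> simp
      rw [sum_congr rfl this, sum_ite_eq']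
      by_cases h : a = 1
      · subst h; norm_num [hU1]
      · rw [if_neg h, if_neg]
        intro h'
        exact h (huniq a ha _ h' (by ring))
    rw [sum_congr rfl this]; simp [hU1]
  have hcount2 : ∑ c, η c ^ 2 * η (c * (-2)) = U.card * Fintype.card F := by
    have : ∀ u ∈ U, ∑ c, η c ^ 2 * ψ (c * (-2) * u) = Fintype.card F := by
      intro u hu
      rw [← hcount, ← hallu u hu (fun c => η c ^ 2 * ψ (c * (-2)))]
      exact sum_congr rfl fun c _ => by rw [hηu u hu]; ring_nf
    have h3 : ∀ c, η c ^ 2 * η (c * (-2)) = ∑ u ∈ U, η c ^ 2 * ψ (c * (-2) * u) := by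
      intro c; rw [← mul_sum]
    rw [sum_congr rfl fun c _ => h3 c, sum_comm, sum_congr rfl this]; simp
  have hη0 : η 0 = U.card := by simp [hη]
  rw [← add_sum_erase _ _ (mem_univ 0), zero_mul, hη0] at hcount2
  have h4 : ‖∑ c ∈ univ.erase 0, η c ^ 2 * η (c * (-2))‖ ≤ √(Fintype.card F) * (Fintype.card F * U.card) := by
    refine (norm_sum_le _ _).trans ?_
    rw [← hpars, mul_sum]
    refine (sum_le_sum (g := fun c => √(Fintype.card F) * ‖η c‖ ^ 2) fun c hc => ?_).trans
      (sum_le_sum_of_subset_of_nonneg (subset_univ _) fun _ _ _ => by positivity)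
    rw [norm_mul, norm_pow, mul_comm]
    exact mul_le_mul_of_nonneg_right
      (hbd _ (mul_ne_zero (ne_of_mem_erase hc) (neg_ne_zero.2 h2))) (by positivity)
  have h5 : ((U.card : ℂ)) ^ 2 * U.card =
      U.card * Fintype.card F - ∑ c ∈ univ.erase 0, η c ^ 2 * η (c * (-2)) := by
    rw [← hcount2]; ring
  have h6 : ((U.card : ℝ)) ^ 2 * U.card ≤ U.card * Fintype.card F +
      √(Fintype.card F) * (Fintype.card F * U.card) := by
    have := congrArg norm h5
    rw [norm_mul, norm_pow, Complex.norm_natCast] at this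
    rw [this]
    refine (norm_sub_le _ _).trans (add_le_add ?_ h4)
    rw [norm_mul, Complex.norm_natCast, Complex.norm_natCast]
  apply le_of_mul_le_mul_right _ hUpos
  linarith

theorem geom_mul (p q : ℕ) (hp : 1 ≤ p) : (∑ i ∈ range q, p ^ i) * (p - 1) + 1 = p ^ q := by
  obtain ⟨r, rfl⟩ := Nat.exists_eq_add_of_le' hp
  simpa using geom_sum_mul_add r q

theorem geom_eq (p q : ℕ) (hp : 2 ≤ p) : (p ^ q - 1) / (p - 1) = ∑ i ∈ range q, p ^ i :=
  (Nat.geomSum_eq hp q).symm

/-- number of `n`-th roots of unity in a field with `n * m + 1` elements -/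
theorem card_roots_eq {F : Type*} [Field F] [Fintype F] [DecidableEq F] (n m : ℕ)
    (h : Fintype.card F = n * m + 1) : (univ.filter fun x : F => x ^ n = 1).card = n := by
  have h1 : 1 < Fintype.card F := Fintype.one_lt_card
  have hn : n ≠ 0 := by rintro rfl; simp at h; omega
  have hc : Fintype.card Fˣ = n * m := by rw [Fintype.card_units, h]; simp
  have h2 := IsCyclic.card_powMonoidHom_ker Fˣ n
  rw [Nat.card_eq_fintype_card (α := Fˣ), hc, Nat.gcd_eq_right (Dvd.intro _ rfl)] at h2
  refine Eq.trans ?_ h2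
  rw [← Fintype.card_coe, ← Nat.card_eq_fintype_card]
  symm
  refine Nat.card_congr (Equiv.ofBijective (fun x => ⟨((x.1 : Fˣ) : F), ?_⟩) ⟨?_, ?_⟩)
  · have := x.2
    simp only [MonoidHom.mem_ker, powMonoidHom_apply] at this
    simp only [mem_filter, mem_univ, true_and]
    rw [← Units.val_pow_eq_pow_val, this, Units.val_one]
  · intro x y hxy
    exact Subtype.ext (Units.ext (congrArg Subtype.val hxy))
  · rintro ⟨x, hx⟩
    simp only [mem_filter, mem_univ, true_and] at hx
    have hx0 : x ≠ 0 := by rintro rfl; rw [zero_pow hn] at hx; exact zero_ne_one hx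
    refine ⟨⟨Units.mk0 x hx0, ?_⟩, rfl⟩
    simp only [MonoidHom.mem_ker, powMonoidHom_apply]
    exact Units.ext (by simpa using hx)

theorem exists_big {F : Type*} [Field F] [Fintype F] (p q : ℕ) [hp : Fact p.Prime] (hp2 : p ≠ 2)
    (hq : 5 ≤ q) (hF : Fintype.card F = p ^ q) :
    ∃ a : F, a ≠ 1 ∧ a ^ (∑ i ∈ range q, p ^ i) = 1 ∧ (2 - a) ^ (∑ i ∈ range q, p ^ i) = 1 := by
  classical
  haveI : CharP F p := charP_of_card_eq_prime_pow hF
  set n := ∑ i ∈ range q, p ^ i with hn
  have hp3 : 3 ≤ p := by have := hp.out.two_le; omega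
  have hcard : Fintype.card F = n * (p - 1) + 1 := by rw [hF, hn, geom_mul p q (by omega)]
  have hn0 : n ≠ 0 := by
    intro h; rw [h] at hcard; have : 1 < Fintype.card F := Fintype.one_lt_card; omega
  by_contra hne
  push Not at hne
  have h2 : (2 : F) ≠ 0 := by
    intro h
    have := (CharP.cast_eq_zero_iff F p 2).1 (by exact_mod_cast h)
    exact hp2 ((Nat.prime_dvd_prime_iff_eq hp.out Nat.prime_two).1 this)
  have := sq_le_of_unique (univ.filter fun x : F => x ^ n = 1) h2 (by simp [hn0]) (by simp)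
    (by intro u hu v hv; simp only [mem_filter, mem_univ, true_and] at *; rw [mul_pow, hu, hv, one_mul])
    (by
      intro a ha b hb hab
      simp only [mem_filter, mem_univ, true_and] at ha hb
      by_contra h
      exact hne a h ha (by rw [← hab]; simpa using hb))
  rw [card_roots_eq n (p - 1) hcard, hF] at this
  obtain ⟨r, rfl⟩ := Nat.exists_eq_add_of_le' hq
  have hge : p ^ (r + 4) ≤ n := by
    rw [hn, sum_range_succ]; exact Nat.le_add_left _ _
  have hge' : (p : ℝ) ^ (r + 4) ≤ n := by exact_mod_cast hge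
  have hp3' : (3 : ℝ) ≤ p := by exact_mod_cast hp3
  push_cast at this
  set x : ℝ := (p : ℝ) ^ r with hx
  have hx1 : 1 ≤ x := one_le_pow₀ (by linarith)
  have hs : √((p : ℝ) ^ (r + 5)) < x * p ^ 3 - 1 := by
    apply Real.sqrt_lt' (by nlinarith [pow_le_pow_left₀ (by norm_num : (0:ℝ) ≤ 3) hp3' 3]) |>.2
    rw [pow_add, ← hx]
    have h3 : (p : ℝ) ^ 2 + 2 < x * p ^ 3 := by
      have : (p : ℝ) ^ 3 ≤ x * p ^ 3 := le_mul_of_one_le_left (by positivity) hx1
      nlinarith
    have h4 : 0 < x * p ^ 3 := by positivity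
    nlinarith
  have h7 : ((p : ℝ) ^ (r + 4)) ^ 2 ≤ (n : ℝ) ^ 2 := pow_le_pow_left₀ (by positivity) hge' 2
  have h8 : (p : ℝ) ^ (r + 5) * (1 + √((p : ℝ) ^ (r + 5))) < (p : ℝ) ^ (r + 5) * (x * p ^ 3) :=
    mul_lt_mul_of_pos_left (by linarith) (by positivity)
  have h9 : (p : ℝ) ^ (r + 5) * (x * p ^ 3) = ((p : ℝ) ^ (r + 4)) ^ 2 := by rw [hx]; ring
  linarith

theorem exists_three {F : Type*} [Field F] [Fintype F] (p : ℕ) [hp : Fact p.Prime]
    (hF : Fintype.card F = p ^ 3) :
    ∃ a : F, a ≠ 1 ∧ a ^ (∑ i ∈ range 3, p ^ i) = 1 ∧ (2 - a) ^ (∑ i ∈ range 3, p ^ i) = 1 := by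
  classical
  haveI : CharP F p := charP_of_card_eq_prime_pow hF
  -- a parameter without root
  obtain ⟨c, hc⟩ : ∃ c : ZMod p, ∀ x : ZMod p, x * (x - 2) * (x - c) + (x - 1) ≠ 0 := by
    obtain ⟨c, -, hc⟩ := exists_mem_notMem_of_card_lt_card
      (s := (univ.erase (0 : ZMod p)).image (fun x => x + (x - 1) / (x * (x - 2)))) (t := univ)
      (lt_of_le_of_lt card_image_le (card_erase_lt_of_mem (mem_univ _)))
    refine ⟨c, fun x hx => ?_⟩
    by_cases h0 : x = 0
    · subst h0; simp at hx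
    by_cases h2 : x - 2 = 0
    · rw [h2] at hx
      have : (1 : ZMod p) = 0 := by linear_combination hx - h2
      exact one_ne_zero this
    apply hc
    refine mem_image.2 ⟨x, by simp [h0], ?_⟩
    field_simp
    linear_combination hx
  set f : (ZMod p)[X] := X * (X - C 2) * (X - C c) + (X - C 1) with hf
  have hdeg : f.natDegree = 3 := by rw [hf]; compute_degree!
  have hirr : Irreducible f := by
    apply irreducible_of_degree_le_three_of_not_isRoot (by simp [hdeg])
    intro x hx
    apply hc x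
    simpa [hf] using hx
  haveI := Fact.mk hirr
  have hf0 : f ≠ 0 := hirr.ne_zero
  haveI : Module.Finite (ZMod p) (AdjoinRoot f) := (AdjoinRoot.powerBasis hf0).finite
  haveI : Finite (AdjoinRoot f) := Module.finite_of_finite (ZMod p)
  letI : Fintype (AdjoinRoot f) := Fintype.ofFinite _
  have hK : Fintype.card (AdjoinRoot f) = Fintype.card F := by
    rw [Module.card_eq_pow_finrank (K := ZMod p), (AdjoinRoot.powerBasis hf0).finrank,
      AdjoinRoot.powerBasis_dim, hdeg, ZMod.card, hF]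
  let e := FiniteField.ringEquivOfCardEq hK
  let ι : ZMod p →+* F := ZMod.castHom (dvd_refl p) F
  have hι : ∀ x, e (AdjoinRoot.of f x) = ι x := fun x =>
    congrFun (congrArg DFunLike.coe (RingHom.ext_zmod (e.toRingHom.comp (AdjoinRoot.of f)) ι)) x
  set d := e (AdjoinRoot.root f) with hd
  set γ := ι c with hγ
  have hroot : d * (d - 2) * (d - γ) + (d - 1) = 0 := by
    have h := congrArg e (AdjoinRoot.eval₂_root f)
    simp only [hf, eval₂_add, eval₂_mul, eval₂_sub, eval₂_X, eval₂_C, map_add, map_mul, map_sub,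
      map_zero] at h
    rw [hι, hι, hι, map_ofNat, map_one] at h
    exact h
  have hγp : γ ^ p = γ := by rw [hγ, ← map_pow, ZMod.pow_card]
  have h2p : (2 : F) ^ p = 2 := by
    have := map_ofNat (frobenius F p) 2
    rwa [frobenius_def] at this
  have hfr : ∀ x : F, x * (x - 2) * (x - γ) + (x - 1) = 0 →
      x ^ p * (x ^ p - 2) * (x ^ p - γ) + (x ^ p - 1) = 0 := by
    intro x hx
    have := congrArg (frobenius F p) hx
    simp only [map_add, map_mul, map_sub, map_zero, map_one, frobenius_def, h2p, hγp] at this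
    exact this
  have hnot : d ^ p ≠ d := by
    intro h
    have hb := (Subfield.mem_bot_iff_pow_eq_self F p).2 h
    have : (⊥ : Subfield F) ≤ ι.fieldRange := bot_le
    obtain ⟨x, hx⟩ := this hb
    apply hc x
    apply ι.injective
    simp only [map_add, map_mul, map_sub, map_zero, map_one, map_ofNat]
    rw [hx]; exact hroot
  have hd3 : ((d ^ p) ^ p) ^ p = d := by
    have := FiniteField.pow_card d
    rw [hF] at this
    rw [← pow_mul, ← pow_mul]; convert this using 2; ring
  have hinj : ∀ x y : F, x ^ p = y ^ p → x = y := fun x y h =>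
    frobenius_inj F p (by simpa [frobenius_def] using h)
  set d1 := d ^ p with hd1
  set d2 := d1 ^ p with hd2
  have r1 := hfr d hroot
  have r2 := hfr d1 r1
  rw [← hd2] at r2
  have n01 : d1 - d ≠ 0 := sub_ne_zero.2 hnot
  have n12 : d2 - d1 ≠ 0 := sub_ne_zero.2 fun h => hnot (hinj _ _ h)
  have n02 : d2 - d ≠ 0 := sub_ne_zero.2 fun h => hnot (by rw [hd1, ← h, hd3]; exact h.symm)
  -- Vieta
  have q01 : d ^ 2 + d * d1 + d1 ^ 2 - (2 + γ) * (d + d1) + (2 * γ + 1) = 0 := by
    apply mul_left_cancel₀ n01; linear_combination r1 - hroot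
  have q12 : d2 ^ 2 + d2 * d1 + d1 ^ 2 - (2 + γ) * (d2 + d1) + (2 * γ + 1) = 0 := by
    apply mul_left_cancel₀ n12; linear_combination r2 - r1
  have e1 : d + d1 + d2 = 2 + γ := by
    apply mul_left_cancel₀ n02; linear_combination q12 - q01
  have e2 : d * d1 + d * d2 + d1 * d2 = 2 * γ + 1 := by
    linear_combination (d + d1) * e1 - q01
  have e3 : d * d1 * d2 = 1 := by
    linear_combination hroot + d * e2 - d ^ 2 * e1
  have hsum : ∀ x : F, x ^ (∑ i ∈ range 3, p ^ i) = x * x ^ p * (x ^ p) ^ p := by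
    intro x
    simp only [sum_range_succ, range_zero, sum_empty, pow_add, ← pow_mul]
    simp [sq]
  refine ⟨d, fun h => hnot (by rw [hd1, h, one_pow]), ?_, ?_⟩
  · rw [hsum]; exact e3
  · rw [hsum, sub_pow_char, h2p, sub_pow_char, h2p, ← hd1, ← hd2]
    linear_combination 2 * e2 - 4 * e1 - e3

/-- Lemma C.2. -/
theorem exists_ne_one {F : Type*} [Field F] [Fintype F] (p q : ℕ) [hp : Fact p.Prime] (hq : q.Prime)
    (hp2 : p ≠ 2) (hq2 : q ≠ 2) (hF : Fintype.card F = p ^ q) :
    ∃ a : F, a ≠ 1 ∧ a ^ (∑ i ∈ range q, p ^ i) = 1 ∧ (2 - a) ^ (∑ i ∈ range q, p ^ i) = 1 := by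
  by_cases h3 : q = 3
  · subst h3; exact exists_three p hF
  · refine exists_big p q hp2 ?_ hF
    have := hq.two_le
    have h4 : q ≠ 4 := by rintro rfl; norm_num at hq
    omega

theorem norm_eq_one_iff (p q : ℕ) [hp : Fact p.Prime] (hq : q ≠ 0) (a : GaloisField p q) :
    Algebra.norm (ZMod p) a = 1 ↔ a ^ (∑ i ∈ range q, p ^ i) = 1 := by
  have := FiniteField.algebraMap_norm_eq_pow (K := ZMod p) (x := a)
  rw [GaloisField.card p q hq, Nat.card_zmod, geom_eq p q hp.out.two_le] at this
  rw [← this]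
  constructor
  · intro h; rw [h, map_one]
  · intro h; exact (algebraMap (ZMod p) (GaloisField p q)).injective (by rw [h, map_one])

end Cfsg.Agent.AppC
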