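import Cfsg.Agent.BG.AppC1
import Cfsg.Agent.Core.CoprimeAb

/-! BG Appendix C, group part: Lemma C.3 and the final inequality. -/

set_option autoImplicit false

namespace Cfsg.Agent.AppC

open Subgroup
open scoped commutatorElement

structure Cfg {G : Type*} [Group G] {F : Type*} [Field F] (p : ℕ) (P U Q : Subgroup G)
    (f ψ : G → F) (y : G) : Prop where
  odd : p ≠ 2
  inj : ∀ x ∈ P, ∀ z ∈ P, f x = f z → x = z
  surj : ∀ c, ∃ x ∈ P, f x = c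
  add : ∀ x ∈ P, ∀ z ∈ P, f (x * z) = f x + f z
  norm : ∀ u ∈ U, ∀ x ∈ P, u * x * u⁻¹ ∈ P
  act : ∀ u ∈ U, ∀ x ∈ P, f (u * x * u⁻¹) = ψ u * f x
  ne0 : ∀ u ∈ U, ψ u ≠ 0
  mul : ∀ u ∈ U, ∀ v ∈ U, ψ (u * v) = ψ u * ψ v
  ψinj : ∀ u ∈ U, ∀ v ∈ U, ψ u = ψ v → u = v
  decomp : ∀ c : F, c ≠ 0 → ∃ k : F, k ^ p = k ∧ ∃ u ∈ U, c = ψ u * k
  cop : ∀ u ∈ U, u ^ (p - 1) = 1 → u = 1
  Une : ∃ u ∈ U, u ≠ 1
  Qc : IsMulCommutative Q
  Qp : (Nat.card Q).Coprime p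
  nQ : ∀ x ∈ P, f x ^ p = f x → x ∈ normalizer (Q : Set G)
  yQ : y ∈ Q
  nU : ∀ x ∈ P, f x ^ p = f x → y * x * y⁻¹ ∈ normalizer (U : Set G)

theorem comm_aux {G : Type*} [Group G] {Q : Subgroup G} (hQ : IsMulCommutative Q)
    {c1 c2 c3 c4 c5 c6 c7 : G} (h1 : c1 ∈ Q) (h2 : c2 ∈ Q) (h3 : c3 ∈ Q) (h4 : c4 ∈ Q) (h5 : c5 ∈ Q)
    (h6 : c6 ∈ Q) (h7 : c7 ∈ Q) (h : c1 * c2⁻¹ * c3 * c4⁻¹ * c5 * c6⁻¹ = 1) :
    c2 * c7⁻¹ * (c4 * c5⁻¹) = c1 * c6⁻¹ * (c3 * c7⁻¹) := by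
  lift c1 to Q using h1; lift c2 to Q using h2; lift c3 to Q using h3; lift c4 to Q using h4
  lift c5 to Q using h5; lift c6 to Q using h6; lift c7 to Q using h7
  letI : CommGroup Q := { (inferInstance : Group Q) with mul_comm := hQ.is_comm.comm }
  have h' : c1 * c2⁻¹ * c3 * c4⁻¹ * c5 * c6⁻¹ = 1 := by exact_mod_cast h
  have : c2 * c7⁻¹ * (c4 * c5⁻¹) = c1 * c6⁻¹ * (c3 * c7⁻¹) := by
    rw [← mul_one (c2 * c7⁻¹ * (c4 * c5⁻¹)), ← h']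
    apply Additive.ofMul.injective
    simp only [ofMul_mul, ofMul_inv]
    abel
  exact_mod_cast this

theorem comm_of_mem {G : Type*} [Group G] {Q : Subgroup G} (hQ : IsMulCommutative Q) {a b : G}
    (ha : a ∈ Q) (hb : b ∈ Q) : a * b = b * a :=
  congrArg Subtype.val (hQ.is_comm.comm (⟨a, ha⟩ : Q) ⟨b, hb⟩)

namespace Cfg

variable {G : Type*} [Group G] {F : Type*} [Field F] {p : ℕ} {P U Q : Subgroup G}
  {f ψ : G → F} {y : G} (h : Cfg p P U Q f ψ y)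
include h

theorem f_one : f 1 = 0 := by
  have := h.add 1 P.one_mem 1 P.one_mem
  rw [one_mul] at this
  linear_combination -this

theorem f_inv {x : G} (hx : x ∈ P) : f x⁻¹ = -f x := by
  have := h.add x hx x⁻¹ (P.inv_mem hx)
  rw [mul_inv_cancel, h.f_one] at this
  linear_combination -this

theorem f_pow {x : G} (hx : x ∈ P) (k : ℕ) : f (x ^ k) = k * f x := by
  induction k with
  | zero => simp [h.f_one]
  | succ k ih => rw [pow_succ, h.add _ (P.pow_mem hx k) _ hx, ih]; push_cast; ring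

theorem f_eq_zero {x : G} (hx : x ∈ P) (h0 : f x = 0) : x = 1 :=
  h.inj x hx 1 P.one_mem (by rw [h0, h.f_one])

theorem P_comm {x z : G} (hx : x ∈ P) (hz : z ∈ P) : x * z = z * x :=
  h.inj _ (P.mul_mem hx hz) _ (P.mul_mem hz hx) (by rw [h.add x hx z hz, h.add z hz x hx, add_comm])

theorem ψ_one : ψ 1 = 1 := by
  have := h.mul 1 U.one_mem 1 U.one_mem
  rw [one_mul] at this
  exact (mul_eq_left₀ (h.ne0 1 U.one_mem)).1 this.symm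

theorem ψ_inv {u : G} (hu : u ∈ U) : ψ u⁻¹ = (ψ u)⁻¹ := by
  have := h.mul u hu u⁻¹ (U.inv_mem hu)
  rw [mul_inv_cancel, h.ψ_one] at this
  exact (eq_inv_of_mul_eq_one_right this.symm)

theorem ψ_pow {u : G} (hu : u ∈ U) (k : ℕ) : ψ (u ^ k) = ψ u ^ k := by
  induction k with
  | zero => simp [h.ψ_one]
  | succ k ih => rw [pow_succ, h.mul _ (U.pow_mem hu k) _ hu, ih, pow_succ]

theorem ψ_eq_one {u : G} (hu : u ∈ U) (h1 : ψ u = 1) : u = 1 :=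
  h.ψinj u hu 1 U.one_mem (by rw [h1, h.ψ_one])

theorem U_comm {u v : G} (hu : u ∈ U) (hv : v ∈ U) : u * v = v * u :=
  h.ψinj _ (U.mul_mem hu hv) _ (U.mul_mem hv hu) (by rw [h.mul u hu v hv, h.mul v hv u hu, mul_comm])

theorem PU_one {u : G} (hu : u ∈ U) (hP : u ∈ P) : u = 1 := by
  obtain ⟨s, hs, hs1⟩ := h.surj 1
  have := h.act u hu s hs
  rw [h.P_comm hP hs, mul_inv_cancel_right, hs1, mul_one] at this
  exact h.ψ_eq_one hu this.symm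

theorem uniq {x x' u u' : G} (hx : x ∈ P) (hx' : x' ∈ P) (hu : u ∈ U) (hu' : u' ∈ U)
    (e : x * u = x' * u') : x = x' ∧ u = u' := by
  have h1 : u' * u⁻¹ = x'⁻¹ * x := by
    rw [eq_inv_mul_iff_mul_eq, ← mul_assoc, ← e, mul_inv_cancel_right]
  have h2 : u' * u⁻¹ = 1 :=
    h.PU_one (U.mul_mem hu' (U.inv_mem hu)) (h1 ▸ P.mul_mem (P.inv_mem hx') hx)
  rw [h2] at h1
  exact ⟨(inv_mul_eq_one.1 h1.symm).symm, (mul_inv_eq_one.1 h2).symm⟩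

theorem split_iff {s1 s2 s3 A u v : G} (h1 : s1 ∈ P) (h2 : s2 ∈ P) (h3 : s3 ∈ P) (hA : A ∈ U)
    (hu : u ∈ U) (hv : v ∈ U) :
    s1 * A * s2 = u * s3 * v ↔ A = u * v ∧ f s1 + ψ A * f s2 = ψ u * f s3 := by
  have e1 : s1 * A * s2 = (s1 * (A * s2 * A⁻¹)) * A := by group
  have e2 : u * s3 * v = (u * s3 * u⁻¹) * (u * v) := by group
  have m1 := P.mul_mem h1 (h.norm A hA s2 h2)
  have m2 := h.norm u hu s3 h3
  rw [e1, e2, ← h.act A hA s2 h2, ← h.add _ h1 _ (h.norm A hA s2 h2), ← h.act u hu s3 h3]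
  constructor
  · intro e
    obtain ⟨a, b⟩ := h.uniq m1 m2 hA (U.mul_mem hu hv) e
    exact ⟨b, by rw [a]⟩
  · rintro ⟨a, b⟩
    rw [h.inj _ m1 _ m2 b, ← a]

theorem step1 [hp : Fact p.Prime] {s1 s2 A : G} (h1 : s1 ∈ P) (h2 : s2 ∈ P) (hA : A ∈ U) :
    ∃ u ∈ U, ∃ v ∈ U, ∃ s3 ∈ P, f s3 ^ p = f s3 ∧ s1 * A * s2 = u * s3 * v := by
  by_cases h0 : f s1 + ψ A * f s2 = 0
  · refine ⟨1, U.one_mem, A, hA, 1, P.one_mem, by rw [h.f_one, zero_pow hp.out.ne_zero], ?_⟩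
    rw [h.split_iff h1 h2 P.one_mem hA U.one_mem hA, h0, h.f_one]
    simp
  · obtain ⟨k, hk, u, hu, e⟩ := h.decomp _ h0
    obtain ⟨s3, h3, rfl⟩ := h.surj k
    have hv := U.mul_mem (U.inv_mem hu) hA
    refine ⟨u, hu, u⁻¹ * A, hv, s3, h3, hk, ?_⟩
    rw [h.split_iff h1 h2 h3 hA hu hv]
    exact ⟨by group, e⟩

theorem fixed [hp : Fact p.Prime] {u : G} (hu : u ∈ U) (e : ψ u ^ p = ψ u) : u = 1 := by
  apply h.cop u hu
  apply h.ψ_eq_one (U.pow_mem hu _)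
  rw [h.ψ_pow hu]
  apply mul_right_cancel₀ (h.ne0 u hu)
  rw [← pow_succ, Nat.sub_add_cancel hp.out.one_le, e, one_mul]

variable [hp : Fact p.Prime] [CharP F p]

theorem P_pow {x : G} (hx : x ∈ P) : x ^ p = 1 :=
  h.f_eq_zero (P.pow_mem hx _) (by rw [h.f_pow hx, CharP.cast_eq_zero, zero_mul])

theorem PQ_one {x : G} (hx : x ∈ P) (hQ : x ∈ Q) : x = 1 :=
  Core.eq_one_of_pow_eq_one_of_coprime h.Qp hQ (h.P_pow hx)

theorem step2 {s1 s2 u : G} (h1 : s1 ∈ P) (h1' : f s1 ^ p = f s1) (h2 : s2 ∈ P)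
    (h2' : f s2 ^ p = f s2) (hu : u ∈ U) (hm : s1 * u * s2 ∈ U) :
    f s2 = 0 ∨ (u = 1 ∧ f s1 + f s2 = 0) := by
  have := (h.split_iff h1 h2 P.one_mem hu hm U.one_mem).1 (by group)
  rw [h.f_one, mul_zero] at this
  obtain ⟨-, e⟩ := this
  by_cases h0 : f s2 = 0
  · exact Or.inl h0
  · right
    have e2 := congrArg (frobenius F p) e
    simp only [map_add, map_mul, map_zero, frobenius_def, h1', h2'] at e2
    have : ψ u ^ p = ψ u := by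
      apply mul_right_cancel₀ h0; linear_combination e2 - e
    have hu1 := h.fixed hu this
    rw [hu1, h.ψ_one, one_mul] at e
    exact ⟨hu1, e⟩

theorem frob {s1 s2 s3 A u v : G} (h1 : s1 ∈ P) (h1' : f s1 ^ p = f s1) (h2 : s2 ∈ P)
    (h2' : f s2 ^ p = f s2) (h3 : s3 ∈ P) (h3' : f s3 ^ p = f s3) (hA : A ∈ U)
    (hu : u ∈ U) (hv : v ∈ U) (e : s1 * A * s2 = u * s3 * v) :
    s1 * A ^ p * s2 = u ^ p * s3 * v ^ p := by
  rw [h.split_iff h1 h2 h3 hA hu hv] at e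
  rw [h.split_iff h1 h2 h3 (U.pow_mem hA _) (U.pow_mem hu _) (U.pow_mem hv _)]
  refine ⟨by rw [e.1, Commute.mul_pow (h.U_comm hu hv)], ?_⟩
  have e2 := congrArg (frobenius F p) e.2
  simp only [map_add, map_mul, frobenius_def, h1', h2', h3'] at e2
  rw [h.ψ_pow hA, h.ψ_pow hu, e2]

omit h in
theorem exists_nat {k : F} (hk : k ^ p = k) : ∃ m : ℕ, k = m := by
  have hb := (Subfield.mem_bot_iff_pow_eq_self F p).2 hk
  have : (⊥ : Subfield F) ≤ (ZMod.castHom (dvd_refl p) F).fieldRange := bot_le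
  obtain ⟨x, hx⟩ := this hb
  refine ⟨x.val, ?_⟩
  rw [← hx]; simp

omit hp [CharP F p] in
/-- the group `PU` -/
def H : Subgroup G where
  carrier := {g | ∃ x ∈ P, ∃ u ∈ U, g = x * u}
  one_mem' := ⟨1, P.one_mem, 1, U.one_mem, by simp⟩
  mul_mem' := by
    rintro _ _ ⟨x, hx, u, hu, rfl⟩ ⟨x', hx', u', hu', rfl⟩
    exact ⟨x * (u * x' * u⁻¹), P.mul_mem hx (h.norm u hu x' hx'), u * u', U.mul_mem hu hu', by group⟩
  inv_mem' := by
    rintro _ ⟨x, hx, u, hu, rfl⟩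
    exact ⟨u⁻¹ * x⁻¹ * u⁻¹⁻¹, h.norm _ (U.inv_mem hu) _ (P.inv_mem hx), u⁻¹, U.inv_mem hu, by group⟩

omit hp [CharP F p] in
theorem P_H {x : G} (hx : x ∈ P) : x ∈ h.H := ⟨x, hx, 1, U.one_mem, by simp⟩

omit hp [CharP F p] in
theorem U_H {x : G} (hx : x ∈ U) : x ∈ h.H := ⟨1, P.one_mem, x, hx, by simp⟩

theorem mem_P_of_pow {g : G} (hg : g ∈ h.H) (e : g ^ p = 1) : g ∈ P := by
  obtain ⟨x, hx, u, hu, rfl⟩ := hg
  have : ∀ k : ℕ, ∃ x' ∈ P, (x * u) ^ k = x' * u ^ k := by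
    intro k
    induction k with
    | zero => exact ⟨1, P.one_mem, by simp⟩
    | succ k ih =>
      obtain ⟨x', hx', e⟩ := ih
      refine ⟨x * (u * x' * u⁻¹), P.mul_mem hx (h.norm u hu x' hx'), ?_⟩
      rw [pow_succ', e, pow_succ']; group
  obtain ⟨x', hx', e'⟩ := this p
  have h1 := (h.uniq hx' P.one_mem (U.pow_mem hu p) U.one_mem (by rw [← e', e, mul_one])).2
  have h2 : ψ u = 1 := by
    apply frobenius_inj F p
    rw [frobenius_def, ← h.ψ_pow hu, h1, h.ψ_one, map_one]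
  rw [h.ψ_eq_one hu h2, mul_one]; exact hx

theorem not_norm {s : G} (hs : s ∈ P) (hs' : f s ^ p = f s) (hn : s ∈ normalizer (U : Set G)) :
    s = 1 := by
  obtain ⟨u, hu, hu1⟩ := h.Une
  have hs2 : f s⁻¹ ^ p = f s⁻¹ := by rw [h.f_inv hs, neg_pow, hs', neg_one_pow_char F p]; ring
  rcases h.step2 hs hs' (P.inv_mem hs) hs2 hu ((mem_normalizer_iff.1 hn u).1 hu) with e | e
  · exact inv_eq_one.1 (h.f_eq_zero (P.inv_mem hs) e)
  · exact absurd e.1 hu1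

theorem step3 {s g : G} (hs : s ∈ P) (hs' : f s ^ p = f s) (hs1 : s ≠ 1) (hg : g ∈ h.H)
    (hg' : (y * s * y⁻¹) * g * (y * s * y⁻¹)⁻¹ ∈ h.H) : g ∈ U := by
  set t := y * s * y⁻¹ with ht
  have htU : ∀ u ∈ U, t * u * t⁻¹ ∈ U := fun u hu => (mem_normalizer_iff.1 (h.nU s hs hs') u).1 hu
  obtain ⟨x, hx, u, hu, rfl⟩ := hg
  by_cases hx1 : x = 1
  · rw [hx1, one_mul]; exact hu
  exfalso
  have hxH : t * x * t⁻¹ ∈ h.H := by
    have := h.H.mul_mem hg' (h.H.inv_mem (h.U_H (htU u hu)))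
    convert this using 1; group
  have hfx : f x ≠ 0 := fun e => hx1 (h.f_eq_zero hx e)
  have hfs : f s ≠ 0 := fun e => hs1 (h.f_eq_zero hs e)
  obtain ⟨k, hk, v, hv, e⟩ := h.decomp (f s / f x) (div_ne_zero hfs hfx)
  obtain ⟨m, rfl⟩ := exists_nat hk
  have es : s = v * x ^ m * v⁻¹ := by
    apply h.inj _ hs _ (h.norm v hv _ (P.pow_mem hx m))
    rw [h.act v hv _ (P.pow_mem hx m), h.f_pow hx, ← mul_assoc, ← e, div_mul_cancel₀ _ hfx]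
  have hsH : t * s * t⁻¹ ∈ h.H := by
    have := h.H.mul_mem (h.H.mul_mem (h.U_H (htU v hv)) (h.H.pow_mem hxH m))
      (h.H.inv_mem (h.U_H (htU v hv)))
    convert this using 1
    rw [conj_pow]; nth_rewrite 1 [es]; group
  have hsP : t * s * t⁻¹ ∈ P := h.mem_P_of_pow hsH (by rw [conj_pow, h.P_pow hs]; group)
  have hsQ := h.nQ s hs hs'
  have hz : s⁻¹ * t ∈ Q := by
    have := Q.mul_mem ((mem_normalizer_iff''.1 hsQ y).1 h.yQ) (Q.inv_mem h.yQ)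
    convert this using 1; rw [ht]; group
  set z := s⁻¹ * t with hzd
  have hc : z * s * z⁻¹ * s⁻¹ = 1 := by
    apply h.PQ_one
    · have := P.mul_mem (P.mul_mem (P.mul_mem (P.inv_mem hs) hsP) hs) (P.inv_mem hs)
      convert this using 1; rw [hzd]; group
    · have := Q.mul_mem hz ((mem_normalizer_iff.1 hsQ z⁻¹).1 (Q.inv_mem hz))
      convert this using 1; group
  have hcomm : Commute s z := by
    rw [mul_inv_eq_one, mul_inv_eq_iff_eq_mul] at hc; exact hc.symm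
  have htp : t ^ p = 1 := by rw [ht, conj_pow, h.P_pow hs]; group
  have : t = s * z := by rw [hzd]; group
  rw [this, hcomm.mul_pow, h.P_pow hs, one_mul] at htp
  have hz1 := Core.eq_one_of_pow_eq_one_of_coprime h.Qp hz htp
  rw [hz1, mul_one] at this
  exact hs1 (h.not_norm hs hs' (this ▸ h.nU s hs hs'))

omit h hp [CharP F p] in
theorem c4_aux {s t a b : G} (e : a * s * a⁻¹ * (b * s * b⁻¹) = s ^ 2)
    (c1 : t⁻¹ ^ 3 * s ^ 3 * (t⁻¹ ^ 2 * s ^ 2)⁻¹ = (t⁻¹ ^ 2 * s ^ 2)⁻¹ * (t⁻¹ ^ 3 * s ^ 3))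
    (c2 : t⁻¹ ^ 2 * s ^ 2 * (t⁻¹ * s)⁻¹ = (t⁻¹ * s)⁻¹ * (t⁻¹ ^ 2 * s ^ 2))
    (c3 : t⁻¹ * s * (t⁻¹ ^ 3 * s ^ 3)⁻¹ = (t⁻¹ ^ 3 * s ^ 3)⁻¹ * (t⁻¹ * s)) :
    (s * (t⁻¹ ^ 3 * a * (t⁻¹ ^ 3)⁻¹) * (s ^ 2)⁻¹) * t⁻¹ *
      (s ^ 3 * (t⁻¹ ^ 2 * (a⁻¹ * b) * (t⁻¹ ^ 2)⁻¹) * s⁻¹) * t⁻¹ *
      (s ^ 2 * (t⁻¹ * b⁻¹ * t⁻¹⁻¹) * (s ^ 3)⁻¹) * t ^ 2 = 1 := by
  calc _ = s * (t⁻¹ ^ 3 * a * (t⁻¹ ^ 3)⁻¹) * ((t⁻¹ ^ 2 * s ^ 2)⁻¹ * (t⁻¹ ^ 3 * s ^ 3)) *
        (t⁻¹ ^ 2 * (a⁻¹ * b) * (t⁻¹ ^ 2)⁻¹) * ((t⁻¹ * s)⁻¹ * (t⁻¹ ^ 2 * s ^ 2)) *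
        (t⁻¹ * b⁻¹ * t⁻¹⁻¹) * ((t⁻¹ ^ 3 * s ^ 3)⁻¹ * (t⁻¹ * s)) * s⁻¹ := by group
    _ = s * t⁻¹ ^ 3 * (a * s * a⁻¹ * (b * s * b⁻¹)) * (s ^ 2)⁻¹ * t ^ 3 * s⁻¹ := by
        rw [← c1, ← c2, ← c3]; group
    _ = 1 := by rw [e]; group

omit h hp [CharP F p] in
theorem c7_aux {t u1 s1 v1 u2 s2 v2 u3 s3 v3 : G}
    (e : (u1 * s1 * v1) * t⁻¹ * (u2 * s2 * v2) * t⁻¹ * (u3 * s3 * v3) * t ^ 2 = 1) :
    (t * v2 * t⁻¹ * u3) * s3 * (v3 * (t ^ 2 * u1 * (t ^ 2)⁻¹)) * t ^ 2 * s1 * (v1 * (t⁻¹ * u2 * t⁻¹⁻¹)) =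
      (t⁻¹ * s2 * t⁻¹)⁻¹ := by
  calc _ = (t⁻¹ * s2 * t⁻¹)⁻¹ * (t⁻¹ * u2⁻¹ * t * v1⁻¹ * s1⁻¹ * u1⁻¹) *
      ((u1 * s1 * v1) * t⁻¹ * (u2 * s2 * v2) * t⁻¹ * (u3 * s3 * v3) * t ^ 2) *
      (t⁻¹ * u2⁻¹ * t * v1⁻¹ * s1⁻¹ * u1⁻¹)⁻¹ := by group
    _ = _ := by rw [e]; group

omit [CharP F p] in
theorem pow_pred {w : G} (hw : w ∈ U) (e : w⁻¹ * w ^ p = 1) : w = 1 := by
  apply h.cop w hw
  rw [← e, eq_inv_mul_iff_mul_eq, ← pow_succ', Nat.sub_add_cancel hp.out.one_le]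

theorem step4 [Finite G] {s a b : G} (hs : s ∈ P) (hs1 : f s = 1) (ha : a ∈ U) (hb : b ∈ U)
    (hab : ψ a + ψ b = 2) :
    ∃ b' ∈ U, ψ ((y * s * y⁻¹)⁻¹ ^ 3 * a⁻¹ * ((y * s * y⁻¹)⁻¹ ^ 3)⁻¹) + ψ b' = 2 := by
  set t := y * s * y⁻¹ with ht
  have h2 : (2 : F) ≠ 0 := by
    intro e
    have := (CharP.cast_eq_zero_iff F p 2).1 (by exact_mod_cast e)
    exact h.odd ((Nat.prime_dvd_prime_iff_eq hp.out Nat.prime_two).1 this)
  have h2p : (2 : F) ^ p = 2 := by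
    have := map_ofNat (frobenius F p) 2
    rwa [frobenius_def] at this
  have fz : ∀ k : ℤ, f (s ^ k) = k := by
    intro k
    obtain ⟨n, rfl | rfl⟩ := k.eq_nat_or_neg
    · rw [zpow_natCast, h.f_pow hs, hs1]; simp
    · rw [zpow_neg, zpow_natCast, h.f_inv (P.pow_mem hs n), h.f_pow hs, hs1]; simp
  have fz0 : ∀ k : ℤ, f (s ^ k) ^ p = f (s ^ k) := by
    intro k
    rw [fz]
    have := map_intCast (frobenius F p) k
    rwa [frobenius_def] at this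
  have hs0 : f s ^ p = f s := by rw [hs1, one_pow]
  have htN : t ∈ normalizer (U : Set G) := h.nU s hs hs0
  have cU : ∀ g ∈ normalizer (U : Set G), ∀ u ∈ U, g * u * g⁻¹ ∈ U :=
    fun g hg u hu => (mem_normalizer_iff.1 hg u).1 hu
  have hsQ : s ∈ normalizer (Q : Set G) := h.nQ s hs hs0
  have cQ : ∀ k : ℤ, s ^ k * y * (s ^ k)⁻¹ ∈ Q := fun k =>
    (mem_normalizer_iff.1 (zpow_mem hsQ k) y).1 h.yQ
  have qk : ∀ k : ℕ, t⁻¹ ^ k * s ^ k ∈ Q := by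
    intro k
    have := Q.mul_mem h.yQ (Q.inv_mem (cQ (-k)))
    convert this using 1
    rw [inv_pow, ht, conj_pow]; group
  have q1 : t⁻¹ * s ∈ Q := by simpa using qk 1
  have c4 : ∀ a ∈ U, ∀ b ∈ U, ψ a + ψ b = 2 → _ := fun a ha b hb hab =>
    c4_aux (s := s) (t := t) (a := a) (b := b)
      (h.inj _ (P.mul_mem (h.norm a ha s hs) (h.norm b hb s hs)) _ (P.pow_mem hs 2) (by
        rw [h.add _ (h.norm a ha s hs) _ (h.norm b hb s hs), h.act a ha s hs, h.act b hb s hs,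
          h.f_pow hs, hs1]; simpa using hab))
      (comm_of_mem h.Qc (qk 3) (Q.inv_mem (qk 2))) (comm_of_mem h.Qc (qk 2) (Q.inv_mem q1))
      (comm_of_mem h.Qc q1 (Q.inv_mem (qk 3)))
  have hA : t⁻¹ ^ 3 * a * (t⁻¹ ^ 3)⁻¹ ∈ U := cU _ (pow_mem (inv_mem htN) 3) _ ha
  have hB : t⁻¹ ^ 2 * (a⁻¹ * b) * (t⁻¹ ^ 2)⁻¹ ∈ U :=
    cU _ (pow_mem (inv_mem htN) 2) _ (U.mul_mem (U.inv_mem ha) hb)
  have hC : t⁻¹ * b⁻¹ * t⁻¹⁻¹ ∈ U := cU _ (inv_mem htN) _ (U.inv_mem hb)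
  have f2 : f (s ^ 2) = 2 := by rw [h.f_pow hs, hs1]; simp
  have f3 : f (s ^ 3) = 3 := by rw [h.f_pow hs, hs1]; simp
  have f2' : f (s ^ 2)⁻¹ = -2 := by rw [h.f_inv (P.pow_mem hs 2), f2]
  have f3' : f (s ^ 3)⁻¹ = -3 := by rw [h.f_inv (P.pow_mem hs 3), f3]
  have f1' : f s⁻¹ = -1 := by rw [h.f_inv hs, hs1]
  have z2 : f (s ^ 2) ^ p = f (s ^ 2) := by simpa using fz0 2
  have z3 : f (s ^ 3) ^ p = f (s ^ 3) := by simpa using fz0 3
  have z2' : f (s ^ 2)⁻¹ ^ p = f (s ^ 2)⁻¹ := by simpa using fz0 (-2)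
  have z3' : f (s ^ 3)⁻¹ ^ p = f (s ^ 3)⁻¹ := by simpa using fz0 (-3)
  have z1' : f s⁻¹ ^ p = f s⁻¹ := by simpa using fz0 (-1)
  have m2 := P.pow_mem hs 2
  have m3 := P.pow_mem hs 3
  obtain ⟨u1, hu1, v1, hv1, s1, hs1P, hs10, e1⟩ := h.step1 hs (P.inv_mem m2) hA
  obtain ⟨u2, hu2, v2, hv2, s2, hs2P, hs20, e2⟩ := h.step1 m3 (P.inv_mem hs) hB
  obtain ⟨u3, hu3, v3, hv3, s3, hs3P, hs30, e3⟩ := h.step1 m2 (P.inv_mem m3) hC
  have n1 : f s1 ≠ 0 := by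
    intro e
    rw [h.f_eq_zero hs1P e, mul_one] at e1
    rcases h.step2 hs hs0 (P.inv_mem m2) z2' hA (e1 ▸ U.mul_mem hu1 hv1) with e | ⟨-, e⟩
    · rw [f2'] at e; exact h2 (neg_eq_zero.1 e)
    · rw [f2', hs1] at e; exact one_ne_zero (α := F) (by linear_combination -e)
  have n3 : f s3 ≠ 0 := by
    intro e
    rw [h.f_eq_zero hs3P e, mul_one] at e3
    rcases h.step2 (P.inv_mem (P.inv_mem m3)) (by rw [inv_inv]; exact z3) (P.inv_mem m2) z2'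
      (U.inv_mem hC) (by
        have := U.inv_mem (e3 ▸ U.mul_mem hu3 hv3)
        convert this using 1; group) with e | ⟨-, e⟩
    · rw [f2'] at e; exact h2 (neg_eq_zero.1 e)
    · rw [f2', inv_inv, f3] at e; exact one_ne_zero (α := F) (by linear_combination e)
  have E1 := c4 a ha b hb hab
  rw [e1, e2, e3] at E1
  have E2 := c4 (a ^ p) (U.pow_mem ha p) (b ^ p) (U.pow_mem hb p) (by
    rw [h.ψ_pow ha, h.ψ_pow hb, ← add_pow_char, hab, h2p])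
  rw [← inv_pow a, ← inv_pow b, ← Commute.mul_pow (h.U_comm (U.inv_mem ha) hb), ← conj_pow,
    ← conj_pow (i := p), ← conj_pow (i := p),
    h.frob hs hs0 (P.inv_mem m2) z2' hs1P hs10 hA hu1 hv1 e1,
    h.frob m3 z3 (P.inv_mem hs) z1' hs2P hs20 hB hu2 hv2 e2,
    h.frob m2 z2 (P.inv_mem m3) z3' hs3P hs30 hC hu3 hv3 e3] at E2
  have F1 := c7_aux E1
  have F2 := c7_aux E2
  have k1 := cU _ htN _ hv2
  have k2 := cU _ (pow_mem htN 2) _ hu1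
  have k3 := cU _ (inv_mem htN) _ hu2
  rw [← conj_pow, ← conj_pow (i := p), ← conj_pow (i := p), ← Commute.mul_pow (h.U_comm k1 hu3),
    ← Commute.mul_pow (h.U_comm hv3 k2), ← Commute.mul_pow (h.U_comm hv1 k3)] at F2
  have hw1 := U.mul_mem k1 hu3
  have hw2 := U.mul_mem hv3 k2
  have hw3 := U.mul_mem hv1 k3
  generalize t * v2 * t⁻¹ * u3 = w1 at F1 F2 hw1
  generalize v3 * (t ^ 2 * u1 * (t ^ 2)⁻¹) = w2 at F1 F2 hw2
  generalize v1 * (t⁻¹ * u2 * t⁻¹⁻¹) = w3 at F1 F2 hw3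
  have F3 : w1 ^ p * s3 * w2 ^ p * t ^ 2 * s1 * w3 ^ p = w1 * s3 * w2 * t ^ 2 * s1 * w3 :=
    F2.trans F1.symm
  have i1 : f s1⁻¹ ^ p = f s1⁻¹ := by rw [h.f_inv hs1P, neg_pow, hs10, neg_one_pow_char F p]; ring
  have i3 : f s3⁻¹ ^ p = f s3⁻¹ := by rw [h.f_inv hs3P, neg_pow, hs30, neg_one_pow_char F p]; ring
  have hw3' : w3 ^ p * w3⁻¹ ∈ U := U.mul_mem (U.pow_mem hw3 p) (U.inv_mem hw3)
  have g3 : s1 * (w3 ^ p * w3⁻¹) * s1⁻¹ ∈ U := by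
    apply h.step3 m2 z2 (fun e => by rw [e, h.f_one] at f2; exact h2 f2.symm)
    · exact h.H.mul_mem (h.H.mul_mem (h.P_H hs1P) (h.U_H hw3')) (h.P_H (P.inv_mem hs1P))
    · have := h.H.mul_mem (h.H.mul_mem (h.H.mul_mem (h.H.mul_mem (h.H.mul_mem
        (h.U_H (U.inv_mem (U.pow_mem hw2 p))) (h.P_H (P.inv_mem hs3P)))
        (h.U_H (U.inv_mem (U.pow_mem hw1 p)))) (h.U_H hw1)) (h.P_H hs3P)) (h.U_H hw2)
      convert this using 1
      rw [← conj_pow, ← ht]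
      calc _ = (w2 ^ p)⁻¹ * s3⁻¹ * (w1 ^ p)⁻¹ * (w1 ^ p * s3 * w2 ^ p * t ^ 2 * s1 * w3 ^ p) *
          w3⁻¹ * s1⁻¹ * (t ^ 2)⁻¹ := by group
        _ = _ := by rw [F3]; group
  have w3e : w3 = 1 := by
    rcases h.step2 hs1P hs10 (P.inv_mem hs1P) i1 hw3' g3 with e | ⟨e, -⟩
    · rw [h.f_inv hs1P] at e; exact absurd (neg_eq_zero.1 e) n1
    · apply h.pow_pred hw3; rw [← h.U_comm (U.pow_mem hw3 p) (U.inv_mem hw3), e]
  rw [w3e, one_pow, mul_one, mul_one, mul_left_inj, mul_left_inj] at F3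
  have hw1' : w1⁻¹ * w1 ^ p ∈ U := U.mul_mem (U.inv_mem hw1) (U.pow_mem hw1 p)
  have g1 : s3⁻¹ * (w1⁻¹ * w1 ^ p) * s3 = w2 * (w2 ^ p)⁻¹ := by
    calc _ = s3⁻¹ * w1⁻¹ * (w1 ^ p * s3 * w2 ^ p) * (w2 ^ p)⁻¹ := by group
      _ = _ := by rw [F3]; group
  have w1e : w1 = 1 := by
    rcases h.step2 (P.inv_mem hs3P) i3 hs3P hs30 hw1'
      (g1 ▸ U.mul_mem hw2 (U.inv_mem (U.pow_mem hw2 p))) with e | ⟨e, -⟩
    · exact absurd e n3
    · exact h.pow_pred hw1 e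
  have w2e : w2 = 1 := by
    rw [w1e, one_pow, mul_right_inj] at F3
    apply h.pow_pred hw2; rw [F3, inv_mul_cancel]
  rw [w1e, w2e, w3e] at F1
  simp only [one_mul, mul_one] at F1
  clear F2 F3 E1 E2 g1 g3 hw1 hw2 hw3 hw1' hw3' w1e w2e w3e k1 k2 k3 c4
  -- everything is a power of `s`
  have pw : ∀ x ∈ P, f x ^ p = f x → ∃ m : ℤ, x = s ^ m := by
    intro x hx hx0
    obtain ⟨m, hm⟩ := exists_nat hx0
    exact ⟨m, h.inj _ hx _ (P.zpow_mem hs m) (by rw [fz, hm]; simp)⟩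
  obtain ⟨i, rfl⟩ := pw s1 hs1P hs10
  obtain ⟨j, rfl⟩ := pw s2 hs2P hs20
  obtain ⟨l, rfl⟩ := pw s3 hs3P hs30
  set c : ℤ → G := fun k => s ^ k * y * (s ^ k)⁻¹ with hc
  have R : c i * (c (i - 1))⁻¹ * c (i - 1 + j) * (c (i - 2 + j))⁻¹ * c (i - 2 + j + l) *
      (c (i + j + l))⁻¹ * s ^ (i + j + l) = 1 := by
    calc _ = s ^ i * (t⁻¹ * s ^ j * t⁻¹) * (s ^ l * t ^ 2 * s ^ i) * (s ^ i)⁻¹ := by
          simp only [hc]; rw [ht, conj_pow]; group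
      _ = 1 := by rw [F1]; group
  have g6 : s ^ (i + j + l) = 1 := by
    apply h.PQ_one (P.zpow_mem hs _)
    rw [eq_inv_of_mul_eq_one_right R]
    exact Q.inv_mem (Q.mul_mem (Q.mul_mem (Q.mul_mem (Q.mul_mem (Q.mul_mem (cQ _) (Q.inv_mem (cQ _)))
      (cQ _)) (Q.inv_mem (cQ _))) (cQ _)) (Q.inv_mem (cQ _)))
  have cper : ∀ k k' : ℤ, k = k' + (i + j + l) → c k = c k' := by
    intro k k' e
    simp only [hc]; rw [e, zpow_add, g6, mul_one]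
  rw [g6, mul_one, cper (i - 1 + j) (-l - 1) (by ring), cper (i - 2 + j) (-l - 2) (by ring),
    cper (i - 2 + j + l) (-2) (by ring), cper (i + j + l) 0 (by ring)] at R
  have R2 := comm_aux h.Qc (cQ _) (cQ _) (cQ _) (cQ _) (cQ _) (cQ _) (cQ (-1)) R
  change c (i - 1) * (c (-1))⁻¹ * (c (-l - 2) * (c (-2))⁻¹) =
    c i * (c 0)⁻¹ * (c (-l - 1) * (c (-1))⁻¹) at R2
  have hz : c i * (c 0)⁻¹ * (c (-l - 1) * (c (-1))⁻¹) = 1 := by
    have key := Core.centralizer_inf_commutator_eq_bot (A := zpowers s) h.Qc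
      (zpowers_le.2 hsQ) (by
        rw [Nat.card_zpowers]; exact Core.coprime_orderOf_of_pow_prime (h.P_pow hs) h.Qp)
    rw [← mem_bot, ← key]
    refine ⟨⟨Q.mul_mem (Q.mul_mem (cQ _) (Q.inv_mem (cQ _))) (Q.mul_mem (cQ _) (Q.inv_mem (cQ _))), ?_⟩, ?_⟩
    · change _ ∈ centralizer _
      rw [Core.centralizer_zpowers, mem_centralizer_singleton_iff]
      calc _ = s * (s⁻¹ * (c i * (c 0)⁻¹ * (c (-l - 1) * (c (-1))⁻¹)) * s) := by
            rw [mul_assoc s⁻¹, mul_inv_cancel_left]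
        _ = s * (c (i - 1) * (c (-1))⁻¹ * (c (-l - 2) * (c (-2))⁻¹)) := by
            simp only [hc]; group; simp [mul_assoc, sq, zpow_ofNat]
        _ = _ := by rw [R2]
    · change _ ∈ ⁅Q, zpowers s⁆
      rw [commutator_comm]
      refine mul_mem ?_ ?_
      · have := commutator_mem_commutator (zpow_mem (mem_zpowers s) i) (cQ 0)
        convert this using 1; simp only [hc, commutatorElement_def]; group
      · have := commutator_mem_commutator (zpow_mem (mem_zpowers s) (-l)) (cQ (-1))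
        convert this using 1; simp only [hc, commutatorElement_def]; group
  have hz2 : c (-l - 1) * (c 0)⁻¹ = c (-1) * (c i)⁻¹ := by
    have a1 := comm_of_mem h.Qc (Q.inv_mem (cQ 0)) (cQ (-l - 1))
    have a2 := comm_of_mem h.Qc (Q.inv_mem (cQ i)) (cQ (-1))
    change (c 0)⁻¹ * c (-l - 1) = c (-l - 1) * (c 0)⁻¹ at a1
    change (c i)⁻¹ * c (-1) = c (-1) * (c i)⁻¹ at a2
    rw [← a1, ← a2]
    calc _ = (c i)⁻¹ * (c i * (c 0)⁻¹ * (c (-l - 1) * (c (-1))⁻¹)) * c (-1) := by group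
      _ = _ := by rw [hz]; group
  have C11 : (y * s ^ (l + 1) * y⁻¹) * s ^ i = s ^ l * (y * s ^ (i + 1) * y⁻¹) := by
    calc _ = s ^ (l + 1) * (c (-l - 1) * (c 0)⁻¹) * s ^ i := by simp only [hc]; group
      _ = _ := by rw [hz2]; simp only [hc]; group
  have t3 : s ^ (l + 1) = 1 := by
    by_contra hne
    obtain ⟨u, hu, hune⟩ := h.Une
    have hsi := P.zpow_mem hs i
    have : s ^ i * u * (s ^ i)⁻¹ ∈ U := by
      apply h.step3 (P.zpow_mem hs _) (fz0 _) hne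
      · exact h.H.mul_mem (h.H.mul_mem (h.P_H hsi) (h.U_H hu)) (h.P_H (P.inv_mem hsi))
      · have := h.H.mul_mem (h.H.mul_mem (h.P_H hs3P)
          (h.U_H (cU _ (h.nU _ (P.zpow_mem hs (i + 1)) (fz0 _)) u hu))) (h.P_H (P.inv_mem hs3P))
        convert this using 1
        calc _ = ((y * s ^ (l + 1) * y⁻¹) * s ^ i) * u * ((y * s ^ (l + 1) * y⁻¹) * s ^ i)⁻¹ := by group
          _ = _ := by rw [C11]; group
    rcases h.step2 hsi hs10 (P.inv_mem hsi) i1 hu this with e | ⟨e, -⟩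
    · rw [h.f_inv hsi] at e; exact n1 (neg_eq_zero.1 e)
    · exact hune e
  have t1 : y * s ^ (i + 1) * y⁻¹ = s ^ (i - l) := by
    rw [t3] at C11
    calc _ = (s ^ l)⁻¹ * (s ^ l * (y * s ^ (i + 1) * y⁻¹)) := by group
      _ = _ := by rw [← C11]; group
  have t1' : s ^ (i - l) = 1 :=
    h.not_norm (P.zpow_mem hs _) (fz0 _) (t1 ▸ h.nU _ (P.zpow_mem hs (i + 1)) (fz0 _))
  have si : f (s ^ i) = -1 := by
    rw [t1', mul_inv_eq_one, mul_eq_left] at t1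
    have : s ^ i = s⁻¹ := by rw [eq_inv_iff_mul_eq_one, ← t1]; group
    rw [this, f1']
  obtain ⟨eA, eψ⟩ := (h.split_iff hs (P.inv_mem m2) hs1P hA hu1 hv1).1 e1
  rw [si, f2', hs1] at eψ
  have eA' : t⁻¹ ^ 3 * a⁻¹ * (t⁻¹ ^ 3)⁻¹ = (t⁻¹ ^ 3 * a * (t⁻¹ ^ 3)⁻¹)⁻¹ := by group
  refine ⟨u1 * (t⁻¹ ^ 3 * a * (t⁻¹ ^ 3)⁻¹)⁻¹, U.mul_mem hu1 (U.inv_mem hA), ?_⟩
  rw [eA', h.mul _ hu1 _ (U.inv_mem hA), h.ψ_inv hA]
  have := h.ne0 _ hA
  field_simp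
  linear_combination eψ

/-- Lemma C.3 -/
theorem inv_closed [Finite G] {a b : G} (ha : a ∈ U) (hb : b ∈ U) (hab : ψ a + ψ b = 2) :
    ∃ b' ∈ U, ψ a⁻¹ + ψ b' = 2 := by
  obtain ⟨s, hs, hs1⟩ := h.surj 1
  set g := (y * s * y⁻¹)⁻¹ ^ 3 with hg
  have hgN : g ∈ normalizer (U : Set G) :=
    pow_mem (inv_mem (h.nU s hs (by rw [hs1, one_pow]))) 3
  have key : ∀ k : ℕ, ∃ b' ∈ U, ψ (g ^ k * a ^ ((-1 : ℤ) ^ k) * (g ^ k)⁻¹) + ψ b' = 2 := by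
    intro k
    induction k with
    | zero => exact ⟨b, hb, by simpa using hab⟩
    | succ k ih =>
      obtain ⟨b', hb', e⟩ := ih
      obtain ⟨b'', hb'', e'⟩ := h.step4 hs hs1
        ((mem_normalizer_iff.1 (pow_mem hgN k) _).1 (U.zpow_mem ha _)) hb' e
      refine ⟨b'', hb'', ?_⟩
      rw [← e', ← hg]
      congr 2
      rw [pow_succ' g, pow_succ (-1 : ℤ), mul_neg_one, zpow_neg]; group
  obtain ⟨b', hb', e⟩ := key p
  have hgp : g ^ p = 1 := by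
    rw [hg, ← pow_mul, mul_comm, pow_mul, inv_pow, conj_pow, h.P_pow hs]; group
  rw [hgp, (hp.out.odd_of_ne_two h.odd).neg_one_pow] at e
  exact ⟨b', hb', by simpa using e⟩

end Cfg

open Finset in
/-- BG Appendix C, Theorem C. -/
theorem final_le {G : Type*} [Group G] [Finite G] (p q : ℕ) [hp : Fact p.Prime] [hq : Fact q.Prime]
    (hA : Nat.Coprime ((p ^ q - 1) / (p - 1)) (p - 1))
    (F : Type*) [Field F] [Fintype F] (hF : Fintype.card F = p ^ q) (P U Q : Subgroup G) (f ψ : G → F)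
    (hf : Set.BijOn f (P : Set G) Set.univ) (hfadd : ∀ x ∈ P, ∀ z ∈ P, f (x * z) = f x + f z)
    (hUP : U ≤ Subgroup.normalizer (P : Set G))
    (hψ : ∀ u ∈ U, ψ u ≠ 0 ∧ ∀ x ∈ P, f (u * x * u⁻¹) = ψ u * f x)
    (hψmul : ∀ u ∈ U, ∀ v ∈ U, ψ (u * v) = ψ u * ψ v) (hψinj : Set.InjOn ψ (U : Set G))
    (hUcard : Nat.card U * (p - 1) = p ^ q - 1)
    (hQ : IsMulCommutative Q) (hQp : (Nat.card Q).Coprime p)
    (hP0Q : ∀ x ∈ P, f x ^ p = f x → x ∈ Subgroup.normalizer (Q : Set G))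
    (y : G) (hy : y ∈ Q)
    (hP0U : ∀ x ∈ P, f x ^ p = f x → y * x * y⁻¹ ∈ Subgroup.normalizer (U : Set G)) :
    p ≤ q := by
  classical
  by_cases hp2 : p = 2
  · rw [hp2]; exact hq.out.two_le
  haveI : CharP F p := charP_of_card_eq_prime_pow hF
  have hp3 : 3 ≤ p := by have := hp.out.two_le; omega
  rw [geom_eq p q hp.out.two_le] at hA
  have hq2 : q ≠ 2 := by
    rintro rfl
    obtain ⟨k, hk⟩ := hp.out.odd_of_ne_two hp2
    have : 2 ∣ Nat.gcd (∑ i ∈ range 2, p ^ i) (p - 1) :=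
      Nat.dvd_gcd (by simp [sum_range_succ]; omega) (by omega)
    rw [hA] at this; omega
  set n := ∑ i ∈ range q, p ^ i with hn
  have hg : n * (p - 1) + 1 = p ^ q := geom_mul p q (by omega)
  have hU : Nat.card U = n := by
    apply Nat.eq_of_mul_eq_mul_right (show 0 < p - 1 by omega); omega
  have ψ1 : ψ 1 = 1 := by
    have := hψmul 1 U.one_mem 1 U.one_mem
    rw [one_mul] at this
    exact (mul_eq_left₀ (hψ 1 U.one_mem).1).1 this.symm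
  have ψp : ∀ u ∈ U, ∀ k : ℕ, ψ (u ^ k) = ψ u ^ k := by
    intro u hu k
    induction k with
    | zero => simp [ψ1]
    | succ k ih => rw [pow_succ, hψmul _ (U.pow_mem hu k) _ hu, ih, pow_succ]
  have upow : ∀ u ∈ U, u ^ n = 1 := fun u hu => by
    rw [← hU]; exact congrArg Subtype.val (pow_card_eq_one' (x := (⟨u, hu⟩ : U)))
  have ψn : ∀ u ∈ U, ψ u ^ n = 1 := fun u hu => by rw [← ψp u hu, upow u hu, ψ1]
  have ψsurj : ∀ c : F, c ^ n = 1 → ∃ u ∈ U, ψ u = c := by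
    intro c hc
    letI : Fintype U := Fintype.ofFinite _
    have : (univ.image fun u : U => ψ u) = univ.filter fun x : F => x ^ n = 1 := by
      apply eq_of_subset_of_card_le
      · intro x hx
        obtain ⟨u, -, rfl⟩ := mem_image.1 hx
        simpa using ψn u u.2
      · rw [card_roots_eq (F := F) n (p - 1) (by rw [hF, hg]), card_image_of_injective _
          (fun (u v : U) e => Subtype.ext (hψinj u.2 v.2 e)), card_univ, ← Nat.card_eq_fintype_card, hU]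
    have h2 : c ∈ univ.image fun u : U => ψ u := by rw [this]; simpa using hc
    obtain ⟨u, -, e⟩ := mem_image.1 h2
    exact ⟨u, u.2, e⟩
  obtain ⟨a, ha1, ha, hb⟩ := exists_ne_one p q hq.out hp2 hq2 hF
  have h : Cfg p P U Q f ψ y :=
    { odd := hp2
      inj := fun x hx z hz e => hf.injOn hx hz e
      surj := fun c => by
        obtain ⟨x, hx, e⟩ := hf.surjOn (Set.mem_univ c)
        exact ⟨x, hx, e⟩
      add := hfadd
      norm := fun u hu x hx => (mem_normalizer_iff.1 (hUP hu) x).1 hx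
      act := fun u hu => (hψ u hu).2
      ne0 := fun u hu => (hψ u hu).1
      mul := hψmul
      ψinj := fun u hu v hv e => hψinj hu hv e
      decomp := fun c hc => by
        have hc1 : c ^ (n * (p - 1)) = 1 := by
          have := FiniteField.pow_card_sub_one_eq_one c hc
          rwa [hF, ← hg, Nat.add_sub_cancel] at this
        obtain ⟨i, j, hij⟩ := Nat.isCoprime_iff_coprime.2 hA
        obtain ⟨u, hu, e⟩ := ψsurj ((c ^ (p - 1)) ^ j) (by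
          rw [← zpow_natCast, ← zpow_mul, mul_comm, zpow_mul, zpow_natCast, ← pow_mul, mul_comm, hc1,
            one_zpow])
        refine ⟨(c ^ n) ^ i, ?_, u, hu, ?_⟩
        · have : ((c ^ n) ^ i) ^ (p - 1) = 1 := by
            rw [← zpow_natCast, ← zpow_mul, mul_comm, zpow_mul, zpow_natCast, ← pow_mul, hc1, one_zpow]
          conv_lhs => rw [show p = p - 1 + 1 by omega, pow_succ, this, one_mul]
        · rw [e, ← zpow_natCast, ← zpow_natCast, ← zpow_mul, ← zpow_mul, ← zpow_add₀ hc,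
            show ((p - 1 : ℕ) : ℤ) * j + n * i = 1 by linear_combination hij, zpow_one]
      cop := fun u hu e => by
        rw [← orderOf_eq_one_iff]
        exact Nat.eq_one_of_dvd_coprimes hA (orderOf_dvd_of_pow_eq_one (upow u hu))
          (orderOf_dvd_of_pow_eq_one e)
      Une := by
        obtain ⟨u, hu, e⟩ := ψsurj a ha
        exact ⟨u, hu, fun h1 => ha1 (by rw [← e, h1, ψ1])⟩
      Qc := hQ
      Qp := hQp
      nQ := hP0Q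
      yQ := hy
      nU := hP0U }
  refine le_of_inv p q hq.out.ne_zero (fun c h1 h2 => ?_) a ha1 ha hb
  obtain ⟨u, hu, rfl⟩ := ψsurj c h1
  obtain ⟨v, hv, e⟩ := ψsurj _ h2
  obtain ⟨b', hb', e'⟩ := h.inv_closed hu hv (by rw [e]; ring)
  rw [← h.ψ_inv hu, ← e', add_sub_cancel_left]
  exact ψn b' hb'

end Cfsg.Agent.AppC
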