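import Mathlib
import Cfsg.Prelude.Def_OddOrderLocal
import Cfsg.Prelude.Def_Local
import Cfsg.Prelude.Def_PLocal
/-!
Ambient-subgroup toolkit, part 1: notation, normalizers, centralizers, commutators, products,
conjugation.
-/
set_option autoImplicit false

namespace Cfsg.Agent.BG
open Subgroup

scoped notation:max "N[" H "]" => Subgroup.normalizer (@SetLike.coe (Subgroup _) _ _ H)
scoped notation:max "C[" H "]" => Subgroup.centralizer (@SetLike.coe (Subgroup _) _ _ H)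
scoped notation:max "C1[" x "]" => Subgroup.centralizer ({x} : Set _)
scoped notation:max "Z[" H "]" => (H : Subgroup _) ⊓ Subgroup.centralizer (@SetLike.coe (Subgroup _) _ _ H)
set_option quotPrecheck false in
scoped notation:arg "#" H:arg => Nat.card ↥(H : Subgroup _)
scoped notation:max "O[" π "](" H ")" => Cfsg.piCoreOf π H
scoped notation:max "F[" H "]" => Cfsg.fittingOf H
scoped notation:max "Ω[" p "](" H ")" => Cfsg.omegaOne p H

variable {G : Type*} [Group G] {G' : Type*} [Group G']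

/-- abelian subgroup -/
abbrev Abel (A : Subgroup G) : Prop := A ≤ C[A]
abbrev Sol (A : Subgroup G) : Prop := Group.IsSolvable A
abbrev Nil (A : Subgroup G) : Prop := Group.IsNilpotent A
abbrev Cyc (A : Subgroup G) : Prop := IsCyclic A

variable {A B D H K L M X Y : Subgroup G} {x y g : G}

/-! ### centralizers -/
theorem mem_C : x ∈ C[A] ↔ ∀ a ∈ A, a * x = x * a := mem_centralizer_iff
theorem mem_C1 : x ∈ C1[y] ↔ x * y = y * x := mem_centralizer_singleton_iff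
theorem mem_C1' : x ∈ C1[y] ↔ y * x = x * y := by rw [mem_C1, eq_comm]
theorem C1_symm (h : x ∈ C1[y]) : y ∈ C1[x] := mem_C1.2 (mem_C1.1 h).symm
theorem mem_C1_self (x : G) : x ∈ C1[x] := mem_C1.2 rfl
theorem centS (h : A ≤ B) : C[B] ≤ C[A] := centralizer_le h
theorem centC : A ≤ C[B] ↔ B ≤ C[A] := le_centralizer_iff
theorem cent_symm (h : A ≤ C[B]) : B ≤ C[A] := centC.1 h
theorem centSS (h : A ≤ C[B]) (h1 : X ≤ A) (h2 : Y ≤ B) : X ≤ C[Y] := h1.trans (h.trans (centS h2))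
theorem C_le_C1 (h : x ∈ A) : C[A] ≤ C1[x] := centralizer_le (by simpa using h)
theorem le_C1_iff : A ≤ C1[x] ↔ x ∈ C[A] := by
  rw [mem_C]; exact ⟨fun h a ha => mem_C1.1 (h ha), fun h a ha => mem_C1.2 (h a ha)⟩
theorem C_zpowers (x : G) : C[zpowers x] = C1[x] := by
  rw [zpowers_eq_closure, centralizer_closure]
theorem C_sup (A B : Subgroup G) : C[A ⊔ B] = C[A] ⊓ C[B] := by
  apply le_antisymm (le_inf (centS le_sup_left) (centS le_sup_right))
  exact cent_symm (sup_le (cent_symm inf_le_left) (cent_symm inf_le_right))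
theorem centY (h1 : X ≤ C[A]) (h2 : X ≤ C[B]) : X ≤ C[A ⊔ B] := by rw [C_sup]; exact le_inf h1 h2
theorem C_bot : C[(⊥ : Subgroup G)] = ⊤ := by
  rw [eq_top_iff]; exact cent_symm bot_le
theorem C_le_N (A : Subgroup G) : C[A] ≤ N[A] := centralizer_le_normalizer _
theorem cents_norm (h : X ≤ C[A]) : X ≤ N[A] := h.trans (C_le_N A)
theorem le_CC (A : Subgroup G) : A ≤ C[C[A]] := cent_symm le_rfl
theorem mem_C_comm (h : A ≤ C[B]) (hx : x ∈ A) (hy : y ∈ B) : x * y = y * x :=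
  (mem_C.1 (h hx) y hy).symm
theorem le_C_iff : A ≤ C[B] ↔ ∀ a ∈ A, ∀ b ∈ B, a * b = b * a :=
  ⟨fun h _ ha _ hb => mem_C_comm h ha hb, fun h a ha => mem_C.2 fun b hb => (h a ha b hb).symm⟩
theorem C1_one : C1[(1 : G)] = ⊤ := by ext; simp [mem_C1]
theorem C1_pow (x : G) (n : ℕ) : C1[x] ≤ C1[x ^ n] := fun y hy =>
  mem_C1.2 (Commute.pow_right (mem_C1.1 hy) n)
theorem C1_le_of_mem_zpowers (h : y ∈ zpowers x) : C1[x] ≤ C1[y] := by
  rw [← C_zpowers]; exact C_le_C1 h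
theorem C1_inv (x : G) : C1[x⁻¹] = C1[x] := by
  rw [← C_zpowers, ← C_zpowers, zpowers_inv]

theorem abel_iff : Abel A ↔ IsMulCommutative A := le_centralizer_iff_isMulCommutative
theorem Abel.comm (h : Abel A) : IsMulCommutative A := abel_iff.1 h
theorem abel_of (h : IsMulCommutative A) : Abel A := abel_iff.2 h
theorem Abel.of_le (h : Abel A) (hB : B ≤ A) : Abel B := centSS h hB hB
theorem abel_bot : Abel (⊥ : Subgroup G) := bot_le
theorem abel_Z (A : Subgroup G) : Abel Z[A] := centSS (A := C[A]) le_rfl inf_le_right inf_le_left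
theorem abel_zpowers (x : G) : Abel (zpowers x) := abel_of inferInstance
theorem Cyc.abel (h : Cyc A) : Abel A := abel_of (by
  letI := h.commGroup; infer_instance)
theorem Abel.sup (hA : Abel A) (hB : Abel B) (h : A ≤ C[B]) : Abel (A ⊔ B) :=
  sup_le (centY hA h) (centY (cent_symm h) hB)

/-! ### normalizers -/
theorem mem_N : g ∈ N[A] ↔ ∀ h, h ∈ A ↔ g * h * g⁻¹ ∈ A := mem_normalizer_iff
theorem normG (A : Subgroup G) : A ≤ N[A] := le_normalizer
theorem conj_mem (hg : g ∈ N[A]) (hx : x ∈ A) : g * x * g⁻¹ ∈ A := (mem_N.1 hg x).1 hx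
theorem conj_mem' (hg : g ∈ N[A]) (hx : x ∈ A) : g⁻¹ * x * g ∈ A := by
  simpa using conj_mem (inv_mem hg) hx
theorem le_N_iff : X ≤ N[A] ↔ ∀ g ∈ X, ∀ a ∈ A, g * a * g⁻¹ ∈ A := le_normalizer_iff
theorem mem_N_of [Finite G] (h : ∀ a ∈ A, g * a * g⁻¹ ∈ A) : g ∈ N[A] :=
  mem_normalizer_fintype h
theorem normI (h1 : X ≤ N[A]) (h2 : X ≤ N[B]) : X ≤ N[A ⊓ B] :=
  (le_inf h1 h2).trans inf_normalizer_le_normalizer_inf
theorem normY (h1 : X ≤ N[A]) (h2 : X ≤ N[B]) : X ≤ N[A ⊔ B] :=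
  (le_inf h1 h2).trans (normalizer_inf_normalizer_le_normalizer_sup A B)
theorem N_bot : N[(⊥ : Subgroup G)] = ⊤ := normalizer_eq_top _
theorem N_top : N[(⊤ : Subgroup G)] = ⊤ := normalizer_eq_top _
theorem norm_bot (X : Subgroup G) : X ≤ N[(⊥ : Subgroup G)] := by rw [N_bot]; exact le_top
theorem norm_top (X : Subgroup G) : X ≤ N[(⊤ : Subgroup G)] := by rw [N_top]; exact le_top
theorem normal_iff : A.Normal ↔ ⊤ ≤ N[A] := by rw [top_le_iff, normalizer_eq_top_iff]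
theorem norm_of_normal [A.Normal] (X : Subgroup G) : X ≤ N[A] := le_normalizer_of_normal
theorem norm_sSup {S : Set (Subgroup G)} (h : ∀ A ∈ S, X ≤ N[A]) : X ≤ N[sSup S] := by
  rw [sSup_eq_iSup']
  refine le_trans ?_ (iInf_normalizer_le_normalizer_iSup _)
  exact le_iInf fun A => h A A.2
theorem norm_iSup {ι : Sort*} {S : ι → Subgroup G} (h : ∀ i, X ≤ N[S i]) : X ≤ N[iSup S] :=
  le_trans (le_iInf h) (iInf_normalizer_le_normalizer_iSup _)
theorem norm_iInf {ι : Sort*} {S : ι → Subgroup G} (h : ∀ i, X ≤ N[S i]) : X ≤ N[iInf S] :=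
  le_trans (le_iInf h) (iInf_normalizer_le_normalizer_iInf _)
theorem abel_norm (h : Abel A) (hB : B ≤ A) : A ≤ N[B] := cents_norm (h.trans (centS hB))

/-! ### conjugation -/
/-- `g H g⁻¹` -/
def cj (g : G) (H : Subgroup G) : Subgroup G := H.map (MulAut.conj g).toMonoidHom

theorem cj_def (g : G) (H : Subgroup G) : cj g H = H.map (MulAut.conj g).toMonoidHom := rfl
theorem cj_eq_smul (g : G) (H : Subgroup G) : cj g H = (open Pointwise in MulAut.conj g • H) := rfl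
theorem cj_inj (g : G) : Function.Injective (MulAut.conj g).toMonoidHom := (MulAut.conj g).injective
theorem cj_surj (g : G) : Function.Surjective (MulAut.conj g).toMonoidHom := (MulAut.conj g).surjective
theorem mem_cj : x ∈ cj g H ↔ g⁻¹ * x * g ∈ H := by
  constructor
  · rintro ⟨y, hy, rfl⟩; simpa [mul_assoc] using hy
  · intro h; exact ⟨_, h, by simp [mul_assoc]⟩
theorem mem_cj_conj : g * x * g⁻¹ ∈ cj g H ↔ x ∈ H := by simp [mem_cj, mul_assoc]
theorem mem_cj_inv : x ∈ cj g⁻¹ H ↔ g * x * g⁻¹ ∈ H := by simp [mem_cj]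
theorem exists_of_mem_cj (h : x ∈ cj g H) : ∃ y ∈ H, x = g * y * g⁻¹ :=
  ⟨_, mem_cj.1 h, by simp [mul_assoc]⟩
@[simp] theorem cj_one (H : Subgroup G) : cj 1 H = H := by ext; simp [mem_cj]
theorem cj_mul (g h : G) (H : Subgroup G) : cj (g * h) H = cj g (cj h H) := by
  ext; simp [mem_cj, mul_assoc]
@[simp] theorem cj_inv_cj (g : G) (H : Subgroup G) : cj g⁻¹ (cj g H) = H := by
  rw [← cj_mul]; simp
@[simp] theorem cj_cj_inv (g : G) (H : Subgroup G) : cj g (cj g⁻¹ H) = H := by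
  rw [← cj_mul]; simp
@[simp] theorem cj_le_cj : cj g A ≤ cj g B ↔ A ≤ B := map_le_map_iff_of_injective (cj_inj g)
@[gcongr] theorem cj_mono (g : G) (h : A ≤ B) : cj g A ≤ cj g B := map_mono h
theorem cj_injective (g : G) : Function.Injective (cj g : Subgroup G → Subgroup G) :=
  map_injective (cj_inj g)
@[simp] theorem cj_eq_cj : cj g A = cj g B ↔ A = B := (cj_injective g).eq_iff
@[simp] theorem cj_lt_cj : cj g A < cj g B ↔ A < B := by simp [lt_iff_le_not_ge]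
theorem cj_le_iff : cj g A ≤ B ↔ A ≤ cj g⁻¹ B := by rw [← cj_le_cj (g := g⁻¹), cj_inv_cj]
theorem le_cj_iff : A ≤ cj g B ↔ cj g⁻¹ A ≤ B := by rw [cj_le_iff, inv_inv]
theorem cj_eq_iff : cj g A = B ↔ A = cj g⁻¹ B := by rw [← cj_eq_cj (g := g⁻¹), cj_inv_cj]
theorem cj_inf (g : G) (A B : Subgroup G) : cj g (A ⊓ B) = cj g A ⊓ cj g B := map_inf _ _ _ (cj_inj g)
theorem cj_sup (g : G) (A B : Subgroup G) : cj g (A ⊔ B) = cj g A ⊔ cj g B := map_sup _ _ _
theorem cj_comm (g : G) (A B : Subgroup G) : cj g ⁅A, B⁆ = ⁅cj g A, cj g B⁆ := map_commutator _ _ _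
@[simp] theorem cj_bot (g : G) : cj g (⊥ : Subgroup G) = ⊥ := map_bot _
@[simp] theorem cj_top (g : G) : cj g (⊤ : Subgroup G) = ⊤ := by ext; simp [mem_cj]
@[simp] theorem cj_eq_bot : cj g A = ⊥ ↔ A = ⊥ := by rw [← cj_eq_cj (g := g) (A := A), cj_bot]
@[simp] theorem cj_eq_top : cj g A = ⊤ ↔ A = ⊤ := by rw [← cj_eq_cj (g := g) (A := A), cj_top]
theorem cj_zpowers (g x : G) : cj g (zpowers x) = zpowers (g * x * g⁻¹) := by
  rw [cj_def, MonoidHom.map_zpowers]; rfl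
theorem mem_N_iff_cj : g ∈ N[A] ↔ cj g A = A := mem_normalizer_iff_map_conj_eq
theorem cj_of_mem_N (h : g ∈ N[A]) : cj g A = A := mem_N_iff_cj.1 h
theorem cj_of_mem (h : g ∈ A) : cj g A = A := cj_of_mem_N (normG A h)
theorem cj_of_mem_C (h : g ∈ C[A]) : cj g A = A := cj_of_mem_N (C_le_N A h)
theorem cj_le_of_mem (hA : A ≤ B) (h : g ∈ N[B]) : cj g A ≤ B := by
  rw [← cj_of_mem_N h]; exact cj_mono g hA
theorem cj_N (g : G) (A : Subgroup G) : cj g N[A] = N[cj g A] :=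
  map_equiv_normalizer_eq A (MulAut.conj g)
theorem cj_C (g : G) (A : Subgroup G) : cj g C[A] = C[cj g A] := by
  ext x; rw [mem_cj, mem_C, mem_C]
  constructor
  · intro h a ha
    have := h _ (mem_cj.1 ha)
    calc a * x = g * (g⁻¹ * a * g * (g⁻¹ * x * g)) * g⁻¹ := by group
      _ = x * a := by rw [this]; group
  · intro h a ha
    have := h _ (mem_cj_conj.2 ha)
    calc a * (g⁻¹ * x * g) = g⁻¹ * (g * a * g⁻¹ * x) * g := by group
      _ = _ := by rw [this]; group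
theorem cj_C1 (g x : G) : cj g C1[x] = C1[g * x * g⁻¹] := by
  rw [← C_zpowers, cj_C, cj_zpowers, C_zpowers]
/-- the isomorphism between a subgroup and its conjugate -/
noncomputable def cjEquiv (g : G) (A : Subgroup G) : A ≃* cj g A := A.equivMapOfInjective _ (cj_inj g)
@[simp] theorem card_cj (g : G) (A : Subgroup G) : #(cj g A) = #A :=
  (Nat.card_congr (cjEquiv g A).toEquiv).symm
@[simp] theorem relIndex_cj (g : G) (A B : Subgroup G) : (cj g A).relIndex (cj g B) = A.relIndex B :=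
  relIndex_map_map_of_injective _ _ (cj_inj g)
@[simp] theorem index_cj (g : G) (A : Subgroup G) : (cj g A).index = A.index := by
  rw [← relIndex_top_right, ← relIndex_top_right, ← relIndex_cj g A, cj_top]
theorem norm_cj : cj g X ≤ N[cj g A] ↔ X ≤ N[A] := by rw [← cj_N, cj_le_cj]
theorem cent_cj : cj g X ≤ C[cj g A] ↔ X ≤ C[A] := by rw [← cj_C, cj_le_cj]
theorem mem_N_of_cj_le [Finite G] (h : cj g A ≤ A) : g ∈ N[A] :=
  mem_N_of fun _ ha => h (mem_cj_conj.2 ha)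

/-- normalizers pass to conjugation-equivariant constructions -/
theorem norm_fun (F : Subgroup G → Subgroup G) (hF : ∀ g A, cj g (F A) = F (cj g A)) (h : X ≤ N[A]) :
    X ≤ N[F A] := fun g hg => by rw [mem_N_iff_cj, hF, cj_of_mem_N (h hg)]
theorem normR (h1 : X ≤ N[A]) (h2 : X ≤ N[B]) : X ≤ N[⁅A, B⁆] := fun g hg => by
  rw [mem_N_iff_cj, cj_comm, cj_of_mem_N (h1 hg), cj_of_mem_N (h2 hg)]
theorem normC (h : X ≤ N[A]) : X ≤ N[C[A]] := norm_fun (fun A => C[A]) cj_C h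
theorem normN (h : X ≤ N[A]) : X ≤ N[N[A]] := norm_fun (fun A => N[A]) cj_N h
theorem normZ (h : X ≤ N[A]) : X ≤ N[Z[A]] := normI h (normC h)
theorem normD (h : X ≤ N[A]) : X ≤ N[⁅A, A⁆] := normR h h
theorem normC1 (h : X ≤ C1[x]) : X ≤ N[C1[x]] := h.trans (normG _)
theorem norm_zpowers (h : X ≤ C1[x]) : X ≤ N[zpowers x] := cents_norm (by rwa [C_zpowers])
theorem normsG (h : X ≤ A) : X ≤ N[A] := h.trans (normG A)

/-! ### commutators -/
theorem commS (h1 : A ≤ X) (h2 : B ≤ Y) : ⁅A, B⁆ ≤ ⁅X, Y⁆ := commutator_mono h1 h2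
theorem commC (A B : Subgroup G) : ⁅A, B⁆ = ⁅B, A⁆ := commutator_comm A B
theorem comm_eq_bot : ⁅A, B⁆ = ⊥ ↔ A ≤ C[B] := commutator_eq_bot_iff_le_centralizer
theorem comm_eq_bot' : ⁅A, B⁆ = ⊥ ↔ B ≤ C[A] := by rw [comm_eq_bot, centC]
theorem comm_le_l : ⁅A, B⁆ ≤ A ↔ B ≤ N[A] := le_normalizer_iff_commutator_le_left.symm
theorem comm_le_r : ⁅A, B⁆ ≤ B ↔ A ≤ N[B] := le_normalizer_iff_commutator_le_right.symm
theorem commL (h : B ≤ N[A]) : ⁅A, B⁆ ≤ A := comm_le_l.2 h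
theorem commR (h : A ≤ N[B]) : ⁅A, B⁆ ≤ B := comm_le_r.2 h
theorem comm_le (hA : A ≤ X) (hB : B ≤ X) : ⁅A, B⁆ ≤ X :=
  (commutator_le_sup A B).trans (sup_le hA hB)
theorem der_le (A : Subgroup G) : ⁅A, A⁆ ≤ A := comm_le le_rfl le_rfl
theorem derS (h : A ≤ B) : ⁅A, A⁆ ≤ ⁅B, B⁆ := commS h h
theorem comm_norml (A B : Subgroup G) : A ≤ N[⁅A, B⁆] := normalizer_commutator_ge_left A B
theorem comm_normr (A B : Subgroup G) : B ≤ N[⁅A, B⁆] := normalizer_commutator_ge_right A B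
theorem der_norm (A : Subgroup G) : A ≤ N[⁅A, A⁆] := comm_norml A A
theorem abel_iff_der : Abel A ↔ ⁅A, A⁆ = ⊥ := comm_eq_bot.symm
theorem norm_of_comm_le (h : ⁅A, X⁆ ≤ B) (hB : B ≤ A) : X ≤ N[B] :=
  comm_le_l.1 ((commS hB le_rfl).trans h)
theorem norm_of_der_le (h : ⁅A, A⁆ ≤ B) (hB : B ≤ A) : A ≤ N[B] := norm_of_comm_le h hB
theorem cent_of_norm_inf (h1 : A ≤ N[B]) (h2 : B ≤ N[A]) (h : A ⊓ B = ⊥) : A ≤ C[B] :=
  comm_eq_bot.1 (le_bot_iff.1 (h ▸ le_inf (commL h2) (commR h1)))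
theorem three_subgroup (h1 : ⁅⁅A, B⁆, X⁆ = ⊥) (h2 : ⁅⁅B, X⁆, A⁆ = ⊥) : ⁅⁅X, A⁆, B⁆ = ⊥ :=
  commutator_commutator_eq_bot_of_rotate h1 h2
theorem comm_mem (hx : x ∈ A) (hy : y ∈ B) : x * y * x⁻¹ * y⁻¹ ∈ ⁅A, B⁆ :=
  commutator_mem_commutator hx hy
theorem comm_le_iff : ⁅A, B⁆ ≤ X ↔ ∀ a ∈ A, ∀ b ∈ B, a * b * a⁻¹ * b⁻¹ ∈ X := commutator_le

/-! ### products -/
theorem mem_sup_l (h : B ≤ N[A]) : x ∈ A ⊔ B ↔ ∃ a ∈ A, ∃ b ∈ B, x = a * b := by
  rw [← SetLike.mem_coe, coe_mul_of_right_le_normalizer_left A B h, Set.mem_mul]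
  simp [eq_comm]
theorem mem_sup_r (h : A ≤ N[B]) : x ∈ A ⊔ B ↔ ∃ a ∈ A, ∃ b ∈ B, x = a * b := by
  rw [← SetLike.mem_coe, coe_mul_of_left_le_normalizer_right A B h, Set.mem_mul]
  simp [eq_comm]
theorem mul_mem_sup' (hx : x ∈ A) (hy : y ∈ B) : x * y ∈ A ⊔ B := mul_mem_sup hx hy

/-- `M = A B` as sets -/
structure IsProd (A B M : Subgroup G) : Prop where
  left : A ≤ M
  right : B ≤ M
  ex : ∀ m ∈ M, ∃ a ∈ A, ∃ b ∈ B, m = a * b

theorem IsProd.sup (h : IsProd A B M) : A ⊔ B = M :=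
  le_antisymm (sup_le h.left h.right) fun m hm => by
    obtain ⟨a, ha, b, hb, rfl⟩ := h.ex m hm; exact mul_mem_sup ha hb
theorem IsProd.symm (h : IsProd A B M) : IsProd B A M :=
  ⟨h.right, h.left, fun m hm => by
    obtain ⟨a, ha, b, hb, e⟩ := h.ex m⁻¹ (inv_mem hm)
    exact ⟨b⁻¹, inv_mem hb, a⁻¹, inv_mem ha, by rw [← mul_inv_rev, ← e, inv_inv]⟩⟩
theorem isProd_l (h : B ≤ N[A]) : IsProd A B (A ⊔ B) :=
  ⟨le_sup_left, le_sup_right, fun _ hm => (mem_sup_l h).1 hm⟩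
theorem isProd_r (h : A ≤ N[B]) : IsProd A B (A ⊔ B) :=
  ⟨le_sup_left, le_sup_right, fun _ hm => (mem_sup_r h).1 hm⟩
theorem isProd_of_l (h : B ≤ N[A]) (e : A ⊔ B = M) : IsProd A B M := e ▸ isProd_l h
theorem isProd_of_r (h : A ≤ N[B]) (e : A ⊔ B = M) : IsProd A B M := e ▸ isProd_r h
/-- Dedekind's modular law -/
theorem IsProd.modl (h : IsProd A B M) (hA : A ≤ X) : IsProd A (B ⊓ X) (M ⊓ X) :=
  ⟨le_inf h.left hA, inf_le_inf_right _ h.right, fun m hm => by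
    obtain ⟨a, ha, b, hb, e⟩ := h.ex m hm.1
    refine ⟨a, ha, b, ⟨hb, ?_⟩, e⟩
    have := mul_mem (inv_mem (hA ha)) hm.2
    rwa [e, inv_mul_cancel_left] at this⟩
theorem IsProd.modr (h : IsProd A B M) (hB : B ≤ X) : IsProd (A ⊓ X) B (M ⊓ X) :=
  (h.symm.modl hB).symm
theorem IsProd.modl' (h : IsProd A B M) (hA : A ≤ X) (hX : X ≤ M) : IsProd A (B ⊓ X) X := by
  simpa [inf_eq_right.2 hX] using h.modl hA
theorem IsProd.modr' (h : IsProd A B M) (hB : B ≤ X) (hX : X ≤ M) : IsProd (A ⊓ X) B X := by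
  simpa [inf_eq_right.2 hX] using h.modr hB
theorem IsProd.mono (h : IsProd A B M) (hA : A ≤ X) (hB : B ≤ Y) (hX : X ≤ M) (hY : Y ≤ M) :
    IsProd X Y M := ⟨hX, hY, fun m hm => by
  obtain ⟨a, ha, b, hb, e⟩ := h.ex m hm; exact ⟨a, hA ha, b, hB hb, e⟩⟩
theorem IsProd.cj (h : IsProd A B M) (g : G) : IsProd (cj g A) (cj g B) (cj g M) :=
  ⟨cj_mono g h.left, cj_mono g h.right, fun m hm => by
    obtain ⟨a, ha, b, hb, e⟩ := h.ex _ (mem_cj.1 hm)
    refine ⟨_, mem_cj_conj.2 ha, _, mem_cj_conj.2 hb, ?_⟩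
    calc m = g * (g⁻¹ * m * g) * g⁻¹ := by group
      _ = _ := by rw [e]; group⟩
theorem modl_l (h : B ≤ N[A]) (hA : A ≤ X) : (A ⊔ B) ⊓ X = A ⊔ (B ⊓ X) :=
  ((isProd_l h).modl hA).sup.symm
theorem modl_r (h : A ≤ N[B]) (hA : A ≤ X) : (A ⊔ B) ⊓ X = A ⊔ (B ⊓ X) :=
  ((isProd_r h).modl hA).sup.symm
theorem modr_l (h : B ≤ N[A]) (hB : B ≤ X) : (A ⊔ B) ⊓ X = (A ⊓ X) ⊔ B :=
  ((isProd_l h).modr hB).sup.symm
theorem modr_r (h : A ≤ N[B]) (hB : B ≤ X) : (A ⊔ B) ⊓ X = (A ⊓ X) ⊔ B :=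
  ((isProd_r h).modr hB).sup.symm

/-- `[A B, X] = [A, X] [B, X]` when `A` normalizes `[B, X]`; we only need an inclusion -/
theorem comm_sup_le (hA : ⁅A, X⁆ ≤ Y) (hB : ⁅B, X⁆ ≤ Y) (nA : A ≤ N[Y]) (nB : B ≤ N[Y]) :
    ⁅A ⊔ B, X⁆ ≤ Y := by
  rw [comm_le_iff]
  intro a ha b hb
  have key : A ⊔ B ≤ N[Y] ⊓
      { carrier := {a | a ∈ N[Y] ∧ ∀ b ∈ X, a * b * a⁻¹ * b⁻¹ ∈ Y}
        one_mem' := ⟨one_mem _, by simp⟩
        mul_mem' := fun {u v} hu hv => ⟨mul_mem hu.1 hv.1, fun b hb => by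
          have := mul_mem (conj_mem hu.1 (hv.2 b hb)) (hu.2 b hb)
          convert this using 1; group⟩
        inv_mem' := fun {u} hu => ⟨inv_mem hu.1, fun b hb => by
          have := conj_mem' hu.1 (inv_mem (hu.2 b hb))
          convert this using 1; group⟩ } :=
    sup_le (fun a ha => ⟨nA ha, nA ha, fun b hb => hA (comm_mem ha hb)⟩)
      (fun a ha => ⟨nB ha, nB ha, fun b hb => hB (comm_mem ha hb)⟩)
  exact (key ha).2.2 b hb
theorem comm_sup_le' (hA : ⁅X, A⁆ ≤ Y) (hB : ⁅X, B⁆ ≤ Y) (nA : A ≤ N[Y]) (nB : B ≤ N[Y]) :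
    ⁅X, A ⊔ B⁆ ≤ Y := by
  rw [commC] at *; exact comm_sup_le hA hB nA nB
theorem comm_sup_cent (h : B ≤ C[X]) (hB : B ≤ N[A]) : ⁅A ⊔ B, X⁆ = ⁅A, X⁆ :=
  le_antisymm (comm_sup_le le_rfl (by rw [comm_eq_bot.2 h]; exact bot_le) (comm_norml _ _)
    (normR hB (cents_norm h))) (commS le_sup_left le_rfl)
/-- three subgroup lemma modulo a normal subgroup is in `Base3`; here the derived group of a product -/
theorem der_sup_le (hA : ⁅A, A⁆ ≤ Y) (hB : ⁅B, B⁆ ≤ Y) (hAB : ⁅A, B⁆ ≤ Y) (nA : A ≤ N[Y])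
    (nB : B ≤ N[Y]) : ⁅A ⊔ B, A ⊔ B⁆ ≤ Y :=
  comm_sup_le (comm_sup_le' hA hAB nA nB) (comm_sup_le' (commC A B ▸ hAB) hB nA nB) nA nB
theorem der_sup (h : B ≤ N[A]) : ⁅A ⊔ B, A ⊔ B⁆ = ⁅A, A⁆ ⊔ ⁅A, B⁆ ⊔ ⁅B, B⁆ := by
  apply le_antisymm
  · have n1 : A ⊔ B ≤ N[⁅A, A⁆ ⊔ ⁅A, B⁆] :=
      normY (normD (sup_le (normG A) h)) (sup_le (comm_norml _ _) (comm_normr _ _))
    have nB : B ≤ N[⁅A, A⁆ ⊔ ⁅A, B⁆ ⊔ ⁅B, B⁆] := normY (le_sup_right.trans n1) (der_norm B)
    refine der_sup_le (by order) (by order) (by order) ?_ nB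
    rw [← comm_le_l]
    refine comm_sup_le ((commL (le_sup_left.trans n1)).trans le_sup_left) ?_ ?_ ?_
    · rw [commC]; exact (commS le_rfl (der_le B)).trans (by order)
    · exact normsG le_sup_left
    · exact normsG le_sup_right
  · exact sup_le (sup_le (derS le_sup_left) (commS le_sup_left le_sup_right)) (derS le_sup_right)

/-- semidirect product `K ⋊ H = M` -/
structure Sdprod (K H M : Subgroup G) : Prop where
  sup : K ⊔ H = M
  inf : K ⊓ H = ⊥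
  norm : H ≤ N[K]
/-- direct product -/
structure Dprod (K H M : Subgroup G) : Prop where
  sup : K ⊔ H = M
  inf : K ⊓ H = ⊥
  cent : H ≤ C[K]

theorem Sdprod.left (h : Sdprod K H M) : K ≤ M := h.sup ▸ le_sup_left
theorem Sdprod.right (h : Sdprod K H M) : H ≤ M := h.sup ▸ le_sup_right
theorem Sdprod.nl (h : Sdprod K H M) : M ≤ N[K] := h.sup ▸ sup_le (normG K) h.norm
theorem Sdprod.prod (h : Sdprod K H M) : IsProd K H M := isProd_of_l h.norm h.sup
theorem Sdprod.compl (h : Sdprod K H M) : IsComplIn K H M := ⟨h.left, h.right, h.inf, h.prod.ex⟩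
theorem compl_prod (h : IsComplIn K H M) : IsProd K H M := ⟨h.1, h.2.1, h.2.2.2⟩
theorem compl_symm (h : IsComplIn K H M) : IsComplIn H K M :=
  ⟨h.2.1, h.1, inf_comm K H ▸ h.2.2.1, (compl_prod h).symm.ex⟩
theorem compl_of (h : IsProd K H M) (h2 : K ⊓ H = ⊥) : IsComplIn K H M := ⟨h.1, h.2, h2, h.3⟩
theorem sdprod_of_compl (h : IsComplIn K H M) (hn : H ≤ N[K]) : Sdprod K H M :=
  ⟨(compl_prod h).sup, h.2.2.1, hn⟩
theorem sdprod_sup (h1 : K ⊓ H = ⊥) (h2 : H ≤ N[K]) : Sdprod K H (K ⊔ H) := ⟨rfl, h1, h2⟩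
theorem Sdprod.modl (h : Sdprod K H M) (hK : K ≤ X) : Sdprod K (H ⊓ X) (M ⊓ X) :=
  ⟨(h.prod.modl hK).sup, by rw [← inf_assoc, h.inf, bot_inf_eq], inf_le_left.trans h.norm⟩
theorem Sdprod.modr (h : Sdprod K H M) (hH : H ≤ X) : Sdprod (K ⊓ X) H (M ⊓ X) :=
  ⟨(h.prod.modr hH).sup, by rw [inf_right_comm, h.inf, bot_inf_eq], normI h.norm (normsG hH)⟩
theorem Sdprod.modl' (h : Sdprod K H M) (hK : K ≤ X) (hX : X ≤ M) : Sdprod K (H ⊓ X) X := by
  simpa [inf_eq_right.2 hX] using h.modl hK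
theorem Sdprod.modr' (h : Sdprod K H M) (hH : H ≤ X) (hX : X ≤ M) : Sdprod (K ⊓ X) H X := by
  simpa [inf_eq_right.2 hX] using h.modr hH
theorem Sdprod.cj (h : Sdprod K H M) (g : G) : Sdprod (cj g K) (cj g H) (cj g M) :=
  ⟨by rw [← cj_sup, h.sup], by rw [← cj_inf, h.inf, cj_bot], norm_cj.2 h.norm⟩
theorem Dprod.sd (h : Dprod K H M) : Sdprod K H M := ⟨h.sup, h.inf, cents_norm h.cent⟩
theorem Dprod.symm (h : Dprod K H M) : Dprod H K M :=
  ⟨sup_comm K H ▸ h.sup, inf_comm K H ▸ h.inf, cent_symm h.cent⟩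
theorem Dprod.left (h : Dprod K H M) : K ≤ M := h.sd.left
theorem Dprod.right (h : Dprod K H M) : H ≤ M := h.sd.right
theorem Dprod.nl (h : Dprod K H M) : M ≤ N[K] := h.sd.nl
theorem Dprod.nr (h : Dprod K H M) : M ≤ N[H] := h.symm.sd.nl
theorem Dprod.prod (h : Dprod K H M) : IsProd K H M := h.sd.prod
theorem Dprod.modl (h : Dprod K H M) (hK : K ≤ X) : Dprod K (H ⊓ X) (M ⊓ X) :=
  ⟨(h.sd.modl hK).sup, (h.sd.modl hK).inf, inf_le_left.trans h.cent⟩
theorem Dprod.modr (h : Dprod K H M) (hH : H ≤ X) : Dprod (K ⊓ X) H (M ⊓ X) :=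
  (h.symm.modl hH).symm
theorem Dprod.cj (h : Dprod K H M) (g : G) : Dprod (cj g K) (cj g H) (cj g M) :=
  ⟨by rw [← cj_sup, h.sup], by rw [← cj_inf, h.inf, cj_bot], cent_cj.2 h.cent⟩
theorem Sdprod.dprod (h : Sdprod K H M) (hn : K ≤ N[H]) : Dprod K H M :=
  ⟨h.sup, h.inf, cent_of_norm_inf h.norm hn (inf_comm K H ▸ h.inf)⟩

/-! ### cardinalities -/
section card
variable [Finite G]
theorem card_pos (A : Subgroup G) : 0 < #A := Nat.card_pos
theorem card_ne (A : Subgroup G) : #A ≠ 0 := (card_pos A).ne'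
theorem cardS (h : A ≤ B) : #A ∣ #B := card_dvd_of_le h
theorem card_le (h : A ≤ B) : #A ≤ #B := card_le_of_le h
theorem eq_of_card_le (h : A ≤ B) (h2 : #B ≤ #A) : A = B := eq_of_le_of_card_ge h h2
theorem card_lt (h : A < B) : #A < #B :=
  lt_of_le_of_ne (card_le h.le) fun e => h.ne (eq_of_card_le h.le e.ge)
theorem card_mul_relIndex (h : A ≤ B) : #A * A.relIndex B = #B := by
  rw [← relIndex_bot_left, ← relIndex_bot_left, relIndex_mul_relIndex _ _ _ bot_le h]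
theorem card_inf_mul_relIndex (A B : Subgroup G) : #(A ⊓ B) * A.relIndex B = #B := by
  rw [← inf_relIndex_right, card_mul_relIndex inf_le_right]
theorem relIndex_pos (A B : Subgroup G) : 0 < A.relIndex B :=
  Nat.pos_of_ne_zero fun h => card_ne B (by rw [← card_inf_mul_relIndex A B, h, mul_zero])
theorem relIndex_dvd (A B : Subgroup G) : A.relIndex B ∣ #B := relIndex_dvd_card A B
theorem one_lt_card (h : A ≠ ⊥) : 1 < #A := (one_lt_card_iff_ne_bot A).2 h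
theorem card_bot' : #(⊥ : Subgroup G) = 1 := card_bot
theorem IsProd.relIndex (h : IsProd A B M) : A.relIndex M = A.relIndex B := by
  have hAM := h.left
  apply le_antisymm ?_ (relIndex_le_of_le_right h.right (relIndex_pos _ _).ne')
  unfold Subgroup.relIndex Subgroup.index
  refine Nat.card_le_card_of_surjective
    (Quotient.map' (fun b => ⟨b.1, h.right b.2⟩) ?_ : B ⧸ A.subgroupOf B → M ⧸ A.subgroupOf M) ?_
  · intro a b hab
    rw [QuotientGroup.leftRel_apply] at hab ⊢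
    simpa [mem_subgroupOf] using hab
  · intro q
    obtain ⟨⟨m, hm⟩, rfl⟩ := QuotientGroup.mk_surjective q
    obtain ⟨b, hb, a, ha, rfl⟩ := h.symm.ex m hm
    refine ⟨QuotientGroup.mk ⟨b, hb⟩, ?_⟩
    apply Quotient.sound'
    rw [QuotientGroup.leftRel_apply]
    simpa [mem_subgroupOf] using ha
theorem IsProd.card (h : IsProd A B M) : #M * #(A ⊓ B) = #A * #B := by
  rw [← card_mul_relIndex h.left, h.relIndex, ← card_inf_mul_relIndex A B]; ring
theorem IsProd.card_dvd (h : IsProd A B M) : #M ∣ #A * #B := ⟨_, h.card.symm⟩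
theorem isProd_of_card (hA : A ≤ M) (hB : B ≤ M) (h : #M * #(A ⊓ B) ≤ #A * #B) : IsProd A B M := by
  refine IsProd.symm ⟨hB, hA, ?_⟩
  have h1 : A.relIndex M ≤ A.relIndex B := by
    rw [← card_mul_relIndex hA, ← card_inf_mul_relIndex A B] at h
    have := mul_pos (card_pos A) (card_pos (A ⊓ B))
    nlinarith
  let f : B ⧸ A.subgroupOf B → M ⧸ A.subgroupOf M := Quotient.map' (fun b => ⟨b.1, hB b.2⟩) (by
    intro a b hab
    rw [QuotientGroup.leftRel_apply] at hab ⊢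
    simpa [mem_subgroupOf] using hab)
  have hf : Function.Injective f := by
    intro a b hab
    obtain ⟨a, rfl⟩ := QuotientGroup.mk_surjective a
    obtain ⟨b, rfl⟩ := QuotientGroup.mk_surjective b
    have := Quotient.exact' hab
    apply Quotient.sound'
    rw [QuotientGroup.leftRel_apply] at this ⊢
    simpa [mem_subgroupOf] using this
  have hb := hf.bijective_of_nat_card_le h1
  intro m hm
  obtain ⟨q, hq⟩ := hb.2 (QuotientGroup.mk ⟨m, hm⟩)
  obtain ⟨b, rfl⟩ := QuotientGroup.mk_surjective q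
  have := Quotient.exact' hq
  rw [QuotientGroup.leftRel_apply] at this
  exact ⟨b, b.2, (b : G)⁻¹ * m, by simpa [mem_subgroupOf] using this, by group⟩
theorem Sdprod.card (h : Sdprod K H M) : #K * #H = #M := by
  rw [← h.prod.card, h.inf, card_bot, mul_one]
theorem Sdprod.relIndex_l (h : Sdprod K H M) : K.relIndex M = #H :=
  Nat.eq_of_mul_eq_mul_left (card_pos K) (by rw [card_mul_relIndex h.left, h.card])
theorem Sdprod.relIndex_r (h : Sdprod K H M) : H.relIndex M = #K :=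
  Nat.eq_of_mul_eq_mul_left (card_pos H) (by rw [card_mul_relIndex h.right, ← h.card, mul_comm])
theorem compl_card (h : IsComplIn K H M) : #K * #H = #M := by
  rw [← (compl_prod h).card, h.2.2.1, card_bot, mul_one]
theorem compl_relIndex_l (h : IsComplIn K H M) : K.relIndex M = #H :=
  Nat.eq_of_mul_eq_mul_left (card_pos K) (by rw [card_mul_relIndex h.1, compl_card h])
theorem Dprod.card (h : Dprod K H M) : #K * #H = #M := h.sd.card
theorem relIndex_sup_l (h : B ≤ N[A]) : A.relIndex (A ⊔ B) = A.relIndex B := (isProd_l h).relIndex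
theorem card_sup_dvd_l (h : B ≤ N[A]) : #(A ⊔ B) ∣ #A * #B := (isProd_l h).card_dvd
theorem card_sup_dvd_r (h : A ≤ N[B]) : #(A ⊔ B) ∣ #A * #B := (isProd_r h).card_dvd
theorem inf_bot_of_coprime (h : (#A).Coprime #B) : A ⊓ B = ⊥ := inf_eq_bot_of_coprime h
theorem coprimeS (h : (#A).Coprime #B) (h1 : X ≤ A) (h2 : Y ≤ B) : (#X).Coprime #Y :=
  (h.coprime_dvd_left (cardS h1)).coprime_dvd_right (cardS h2)
/-- the index of `A ∩ B` in `B` divides the index of `A` in `M` when `A` is normalized by `B` -/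
theorem relIndex_dvd_of_norm (hA : A ≤ M) (hB : B ≤ M) (h : B ≤ N[A]) : A.relIndex B ∣ A.relIndex M := by
  rw [← relIndex_sup_l h, ← relIndex_mul_relIndex A (A ⊔ B) M le_sup_left (sup_le hA hB)]
  exact Dvd.intro _ rfl
theorem relIndex_dvd_right (h : A ≤ B) (h2 : B ≤ M) : A.relIndex B ∣ A.relIndex M :=
  Dvd.intro _ (relIndex_mul_relIndex A B M h h2)
theorem relIndex_dvd_left (h : A ≤ B) (M : Subgroup G) : B.relIndex M ∣ A.relIndex M :=
  relIndex_dvd_of_le_left M h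
theorem orderOf_dvd (h : x ∈ A) : orderOf x ∣ #A := Subgroup.orderOf_dvd_natCard A h
theorem card_zpowers' (x : G) : #(zpowers x) = orderOf x := Nat.card_zpowers x
theorem exists_mem_ne_one (h : A ≠ ⊥) : ∃ x ∈ A, x ≠ 1 := by
  by_contra hc; push Not at hc; exact h ((eq_bot_iff_forall A).2 hc)
theorem ne_bot_of_mem (hx : x ∈ A) (h1 : x ≠ 1) : A ≠ ⊥ := fun h => h1 (by simpa [h] using hx)
theorem cauchy {p : ℕ} (hp : p.Prime) (h : p ∣ #A) : ∃ x ∈ A, orderOf x = p := by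
  haveI := Fact.mk hp
  obtain ⟨x, hx⟩ := exists_prime_orderOf_dvd_card' p h
  exact ⟨x, x.2, by simpa using hx⟩
theorem exists_prime_dvd (h : A ≠ ⊥) : ∃ p, p.Prime ∧ p ∣ #A :=
  Nat.exists_prime_and_dvd (one_lt_card h).ne'
theorem exists_prime_sub {p : ℕ} (hp : p.Prime) (h : p ∣ #A) : ∃ X ≤ A, #X = p := by
  obtain ⟨x, hx, e⟩ := cauchy hp h
  exact ⟨zpowers x, by simpa using hx, by rw [card_zpowers', e]⟩
theorem eq_bot_or_eq_of_prime (hp : (#A).Prime) (h : B ≤ A) : B = ⊥ ∨ B = A := by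
  rcases (Nat.dvd_prime hp).1 (cardS h) with e | e
  · left; exact card_eq_one.1 e
  · right; exact eq_of_card_le h e.ge
theorem inf_eq_bot_or_le_of_prime (hp : (#A).Prime) (B : Subgroup G) : A ⊓ B = ⊥ ∨ A ≤ B := by
  rcases eq_bot_or_eq_of_prime hp (inf_le_left (b := B)) with e | e
  · left; exact e
  · right; exact inf_eq_left.1 e
theorem le_of_prime (hp : (#A).Prime) (h : A ⊓ B ≠ ⊥) : A ≤ B :=
  (inf_eq_bot_or_le_of_prime hp B).resolve_left h
theorem inf_bot_of_prime (hp : (#A).Prime) (h : ¬ A ≤ B) : A ⊓ B = ⊥ :=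
  (inf_eq_bot_or_le_of_prime hp B).resolve_right h
theorem ne_bot_of_prime (hp : (#A).Prime) : A ≠ ⊥ := fun h => by
  rw [h, card_bot] at hp; exact Nat.not_prime_one hp
theorem eq_zpowers_of_prime (hp : (#A).Prime) (hx : x ∈ A) (h1 : x ≠ 1) : zpowers x = A :=
  (eq_bot_or_eq_of_prime hp (by simpa using hx)).resolve_left (by simpa using h1)
theorem cyc_of_prime (hp : (#A).Prime) : Cyc A :=
  haveI := Fact.mk hp; isCyclic_of_prime_card rfl
theorem C1_eq_of_prime (hp : (#A).Prime) (hx : x ∈ A) (h1 : x ≠ 1) : C1[x] = C[A] := by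
  rw [← C_zpowers, eq_zpowers_of_prime hp hx h1]
theorem pow_relIndex_mem (h : M ≤ N[A]) (hx : x ∈ M) : x ^ A.relIndex M ∈ A := by
  haveI := normal_subgroupOf_of_le_normalizer h
  exact (A.subgroupOf M).pow_index_mem ⟨x, hx⟩
theorem lt_wf_ind {P : Subgroup G → Prop} (h : ∀ A, (∀ B < A, P B) → P A) (A : Subgroup G) : P A :=
  WellFoundedLT.induction A h
theorem gt_wf_ind {P : Subgroup G → Prop} (h : ∀ A, (∀ B, A < B → P B) → P A) (A : Subgroup G) : P A :=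
  WellFoundedGT.induction A h
theorem exists_maximal {P : Subgroup G → Prop} (h : P A) : ∃ B, A ≤ B ∧ P B ∧ ∀ D, P D → B ≤ D → D = B := by
  obtain ⟨B, h1, h2⟩ := Finite.exists_le_maximal h
  exact ⟨B, h1, h2.1, fun D hD hBD => le_antisymm (h2.2 hD hBD) hBD⟩
theorem exists_minimal {P : Subgroup G → Prop} (h : P A) : ∃ B, B ≤ A ∧ P B ∧ ∀ D, P D → D ≤ B → D = B := by
  obtain ⟨B, h1, h2⟩ := Finite.exists_le_minimal h
  exact ⟨B, h1, h2.1, fun D hD hBD => le_antisymm hBD (h2.2 hD hBD)⟩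
end card

/-! ### isomorphism-invariant properties -/
theorem Sol.of_le (h : Sol A) (hB : B ≤ A) : Sol B :=
  Group.isSolvable_of_isSolvable_injective (inclusion_injective hB)
theorem Nil.of_le (h : Nil A) (hB : B ≤ A) : Nil B :=
  Group.nilpotent_of_mulEquiv (subgroupOfEquivOfLe hB)
theorem Cyc.of_le (h : Cyc A) (hB : B ≤ A) : Cyc B := isCyclic_of_le hB
theorem Nil.sol (h : Nil A) : Sol A := inferInstance
theorem Abel.nil (h : Abel A) : Nil A := by
  haveI := h.comm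
  letI : CommGroup A := { mul_comm := fun a b => mul_comm' a b }
  infer_instance
theorem Abel.sol (h : Abel A) : Sol A := h.nil.sol
theorem Cyc.nil (h : Cyc A) : Nil A := h.abel.nil
theorem Cyc.sol (h : Cyc A) : Sol A := h.nil.sol
theorem cyc_bot : Cyc (⊥ : Subgroup G) := inferInstance
theorem cyc_zpowers (x : G) : Cyc (zpowers x) := inferInstance
theorem cyc_iff : Cyc A ↔ ∃ x, zpowers x = A := Subgroup.isCyclic_iff_exists_zpowers_eq_top A
theorem nil_bot : Nil (⊥ : Subgroup G) := inferInstance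
theorem sol_bot : Sol (⊥ : Subgroup G) := inferInstance
theorem Sol.equiv {A' : Subgroup G'} (h : Sol A) (e : A ≃* A') : Sol A' :=
  Group.isSolvable_of_surjective (f := e.toMonoidHom) e.surjective
theorem Nil.equiv {A' : Subgroup G'} (h : Nil A) (e : A ≃* A') : Nil A' :=
  Group.nilpotent_of_mulEquiv e
theorem Cyc.equiv {A' : Subgroup G'} (h : Cyc A) (e : A ≃* A') : Cyc A' :=
  isCyclic_of_surjective e e.surjective
theorem Abel.equiv {A' : Subgroup G'} (h : Abel A) (e : A ≃* A') : Abel A' := by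
  refine le_C_iff.2 ?_
  intro a ha b hb
  have := mem_C_comm h (e.symm ⟨a, ha⟩).2 (e.symm ⟨b, hb⟩).2
  have h2 : e.symm ⟨a, ha⟩ * e.symm ⟨b, hb⟩ = e.symm ⟨b, hb⟩ * e.symm ⟨a, ha⟩ := Subtype.ext this
  rw [← map_mul, ← map_mul] at h2
  exact congrArg Subtype.val (e.symm.injective h2)
theorem Sol.map (h : Sol A) (f : G →* G') : Sol (A.map f) :=
  Group.isSolvable_of_surjective (f.subgroupMap_surjective A)
theorem Nil.map (h : Nil A) (f : G →* G') : Nil (A.map f) :=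
  Group.nilpotent_of_surjective _ (f.subgroupMap_surjective A)
theorem Cyc.map (h : Cyc A) (f : G →* G') : Cyc (A.map f) :=
  isCyclic_of_surjective _ (f.subgroupMap_surjective A)
theorem Abel.map (h : Abel A) (f : G →* G') : Abel (A.map f) := by
  rw [abel_iff_der, ← map_commutator, abel_iff_der.1 h, Subgroup.map_bot]
theorem sol_cj : Sol (cj g A) ↔ Sol A := ⟨fun h => h.equiv (cjEquiv g A).symm, fun h => h.map _⟩
theorem nil_cj : Nil (cj g A) ↔ Nil A := ⟨fun h => h.equiv (cjEquiv g A).symm, fun h => h.map _⟩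
theorem cyc_cj : Cyc (cj g A) ↔ Cyc A := ⟨fun h => h.equiv (cjEquiv g A).symm, fun h => h.map _⟩
theorem abel_cj : Abel (cj g A) ↔ Abel A := cent_cj
theorem sol_top : Sol (⊤ : Subgroup G) ↔ Group.IsSolvable G :=
  ⟨fun h => Group.isSolvable_of_surjective (f := (topEquiv (G := G)).toMonoidHom) (topEquiv (G := G)).surjective,
    fun _ => inferInstance⟩
theorem nil_top : Nil (⊤ : Subgroup G) ↔ Group.IsNilpotent G := Group.isNilpotent_top
theorem cyc_top : Cyc (⊤ : Subgroup G) ↔ IsCyclic G := topEquiv.isCyclic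
theorem Sol.der_lt (h : Sol A) (h1 : A ≠ ⊥) : ⁅A, A⁆ < A := by
  haveI : Nontrivial A := (nontrivial_iff_ne_bot A).2 h1
  have := Group.IsSolvable.commutator_lt_top_of_nontrivial A
  refine lt_of_le_of_ne (der_le A) fun e => this.ne ?_
  apply map_injective A.subtype_injective
  rw [map_subtype_commutator, e, ← MonoidHom.range_eq_map, range_subtype]

end Cfsg.Agent.BG
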