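import Cfsg.Agent.BG.Base1
import Cfsg.Agent.Core.Frattini
import Cfsg.Agent.PLoc.Transfer2
/-!
Ambient-subgroup toolkit, part 2: `π`-numbers, `π`-groups, Hall and Sylow subgroups.
-/
set_option autoImplicit false

namespace Cfsg.Agent.BG
open Subgroup

variable {G : Type*} [Group G] {G' : Type*} [Group G']
variable {A B D H K L M P Q U X Y : Subgroup G} {x y g : G} {π ρ : Set ℕ} {p q m n : ℕ}

abbrev PiN (π : Set ℕ) (n : ℕ) : Prop := Core.IsPiNum π n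
abbrev PiG (π : Set ℕ) (H : Subgroup G) : Prop := PiN π #H
abbrev PiE (π : Set ℕ) (x : G) : Prop := PiN π (orderOf x)

theorem pin_one (π : Set ℕ) : PiN π 1 := Core.isPiNum_one π
theorem pin_mul : PiN π (m * n) ↔ PiN π m ∧ PiN π n :=
  ⟨fun h => ⟨h.of_dvd (Dvd.intro _ rfl), h.of_dvd (Dvd.intro_left _ rfl)⟩, fun h => h.1.mul h.2⟩
theorem pin_prime (hp : p.Prime) : PiN π p ↔ p ∈ π :=
  ⟨fun h => h p hp dvd_rfl, Core.isPiNum_prime hp⟩
theorem PiN.mono' (h : PiN π n) (h2 : ∀ p, p.Prime → p ∣ n → p ∈ π → p ∈ ρ) : PiN ρ n :=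
  fun p hp hd => h2 p hp hd (h p hp hd)
theorem PiN.inter (h : PiN π n) (h2 : PiN ρ n) : PiN (π ∩ ρ) n :=
  fun p hp hd => ⟨h p hp hd, h2 p hp hd⟩
theorem PiN.cop (hm : PiN π m) (hn : PiN ρ n) (h : ∀ p, p.Prime → p ∈ π → p ∈ ρ → False) :
    m.Coprime n :=
  Nat.coprime_of_dvd fun k hk h1 h2 => h k hk (hm k hk h1) (hn k hk h2)
theorem PiN.coprime' (hm : PiN πᶜ m) (hn : PiN π n) : m.Coprime n := (hn.coprime hm).symm
theorem PiN.not_dvd (h : PiN πᶜ n) (hp : p.Prime) (hπ : p ∈ π) : ¬ p ∣ n := fun hd => h p hp hd hπ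
theorem pin_compl (hp : p.Prime) : PiN {p}ᶜ n ↔ ¬ p ∣ n :=
  ⟨fun h => h.not_dvd hp rfl, fun h q hq hd e => h (by rw [← show q = p from e]; exact hd)⟩
theorem pin_compl_cop (hp : p.Prime) : PiN {p}ᶜ n ↔ n.Coprime p := Core.isPiNum_compl_singleton_iff hp
theorem pin_single (hp : p.Prime) (hn : n ≠ 0) : PiN {p} n ↔ ∃ k, n = p ^ k :=
  Core.isPiNum_singleton_iff hp hn
theorem pin_single_self (hp : p.Prime) : PiN {p} p := (pin_prime hp).2 rfl
theorem pin_pow_self (hp : p.Prime) (k : ℕ) : PiN {p} (p ^ k) := (pin_single_self hp).pow k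
theorem PiN.dvd_of_dvd_mul {a b c : ℕ} (ha : PiN π a) (hc : PiN πᶜ c) (h : a ∣ b * c) : a ∣ b :=
  (ha.coprime hc).dvd_of_dvd_mul_right h
theorem PiN.single_mono (h : PiN {p} n) (hp : p ∈ π) : PiN π n :=
  h.mono (Set.singleton_subset_iff.2 hp)
theorem PiN.compl_single (h : PiN πᶜ n) (hp : p ∈ π) : PiN {p}ᶜ n :=
  h.mono (Set.compl_subset_compl.2 (Set.singleton_subset_iff.2 hp))
theorem PiN.compl_single' (h : PiN π n) (hp : p ∉ π) : PiN {p}ᶜ n :=
  fun q hq hd e => hp (by rw [← show q = p from e]; exact h q hq hd)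
theorem PiN.ne_compl (h : PiN {q} n) (hp : q ≠ p) : PiN {p}ᶜ n := h.single_mono hp
theorem PiN.compl_compl (h : PiN π n) : PiN πᶜᶜ n := by rwa [_root_.compl_compl]
theorem pin_of_cop (h : m.Coprime n) : PiN {p | p ∣ n}ᶜ m := Core.isPiNum_compl_primes_dvd_iff.2 h
theorem pin_self (n : ℕ) : PiN {p | p ∣ n} n := Core.isPiNum_primes_dvd n
theorem pin_univ (n : ℕ) : PiN Set.univ n := fun _ _ _ => trivial
theorem PiN.eq_prime (h : PiN {p} n) (hq : q.Prime) (hd : q ∣ n) : q = p := h q hq hd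
theorem exists_pi_split (π : Set ℕ) (hn : n ≠ 0) : ∃ a b, n = a * b ∧ PiN π a ∧ PiN πᶜ b := by
  induction n using Nat.recOnMul with
  | zero => exact absurd rfl hn
  | one => exact ⟨1, 1, rfl, pin_one _, pin_one _⟩
  | prime p hp =>
    by_cases h : p ∈ π
    · exact ⟨p, 1, by simp, (pin_prime hp).2 h, pin_one _⟩
    · exact ⟨1, p, by simp, pin_one _, (pin_prime hp).2 h⟩
  | mul a b ha hb =>
    obtain ⟨a1, a2, rfl, h1, h2⟩ := ha (left_ne_zero_of_mul hn)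
    obtain ⟨b1, b2, rfl, h3, h4⟩ := hb (right_ne_zero_of_mul hn)
    exact ⟨a1 * b1, a2 * b2, by ring, h1.mul h3, h2.mul h4⟩

/-! ### `π`-groups -/
theorem PiG.of_le (h : PiG π A) (hB : B ≤ A) : PiG π B := Core.isPiNum_card_of_le h hB
theorem pig_bot (π : Set ℕ) : PiG π (⊥ : Subgroup G) := by rw [PiG, card_bot]; exact pin_one π
theorem PiG.map (h : PiG π A) (f : G →* G') : PiG π (A.map f) := Core.isPiNum_card_map h f
theorem PiG.sup_l (hA : PiG π A) (hB : PiG π B) (h : B ≤ N[A]) : PiG π (A ⊔ B) := by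
  rw [sup_comm]; exact Core.isPiNum_card_sup h hB hA
theorem PiG.sup_r (hA : PiG π A) (hB : PiG π B) (h : A ≤ N[B]) : PiG π (A ⊔ B) :=
  Core.isPiNum_card_sup h hA hB
theorem pig_cj : PiG π (cj g A) ↔ PiG π A := by rw [PiG, card_cj]
theorem PiG.cj (h : PiG π A) (g : G) : PiG π (cj g A) := pig_cj.2 h
theorem PiG.eq_bot (h : PiG π A) (h2 : PiG πᶜ A) : A = ⊥ := Core.eq_bot_of_isPiNum h h2
theorem PiG.inf_bot (h : PiG π A) (h2 : PiG πᶜ B) : A ⊓ B = ⊥ :=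
  (h.of_le inf_le_left).eq_bot (h2.of_le inf_le_right)
theorem PiG.inf_bot' (h : PiG πᶜ A) (h2 : PiG π B) : A ⊓ B = ⊥ := by
  rw [inf_comm]; exact h2.inf_bot h
theorem PiG.elt (h : PiG π A) (hx : x ∈ A) : PiE π x := h.of_dvd (Subgroup.orderOf_dvd_natCard A hx)
theorem pig_zpowers : PiG π (zpowers x) ↔ PiE π x := by rw [PiG, Nat.card_zpowers]
theorem pig_of_card (hp : p.Prime) (h : #A = p) (hπ : p ∈ π) : PiG π A := by
  rw [PiG, h]; exact (pin_prime hp).2 hπ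
theorem pig_of_card' (hp : p.Prime) (h : #A = p) : PiG {p} A := pig_of_card hp h rfl
theorem pig_of_card_pow (hp : p.Prime) (h : #A = p ^ n) : PiG {p} A := by
  rw [PiG, h]; exact pin_pow_self hp n
theorem PiG.mem_of_card (h : PiG π A) (hp : p.Prime) (hX : X ≤ A) (e : #X = p) : p ∈ π :=
  h p hp (e ▸ card_dvd_of_le hX)
theorem PiG.relIndex (h : PiG π B) (A : Subgroup G) : PiN π (A.relIndex B) :=
  h.of_dvd (relIndex_dvd_card A B)
theorem PiE.pow (h : PiE π x) (n : ℕ) : PiE π (x ^ n) := h.of_dvd (orderOf_pow_dvd n)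
theorem PiE.of_mem_zpowers (h : PiE π x) (hy : y ∈ zpowers x) : PiE π y :=
  h.of_dvd (orderOf_dvd_of_mem_zpowers hy)
theorem PiE.inv (h : PiE π x) : PiE π x⁻¹ := by rwa [PiE, orderOf_inv]
theorem pie_conj : PiE π (g * x * g⁻¹) ↔ PiE π x := by rw [PiE, PLoc.orderOf_conj']
theorem PiE.mul (hx : PiE π x) (hy : PiE π y) (h : x * y = y * x) : PiE π (x * y) :=
  (Core.IsPiNum.mul hx hy).of_dvd (Commute.orderOf_mul_dvd_mul_orderOf h)
theorem PiE.eq_one (h : PiE π x) (h2 : PiE πᶜ x) : x = 1 := orderOf_eq_one_iff.1 (Core.IsPiNum.eq_one h h2)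
theorem pie_one (π : Set ℕ) : PiE π (1 : G) := by rw [PiE, orderOf_one]; exact pin_one π
theorem PiE.map (h : PiE π x) (f : G →* G') : PiE π (f x) := h.of_dvd (orderOf_map_dvd f x)
theorem pie_of_pow (hp : p.Prime) (h : x ^ p = 1) : PiE {p} x :=
  (pin_single_self hp).of_dvd (orderOf_dvd_of_pow_eq_one h)

section fin
variable [Finite G]
theorem PiG.ext (h : PiG π A) (h2 : PiN π (A.relIndex B)) : PiG π B := by
  rw [PiG, ← card_inf_mul_relIndex A B]; exact (h.of_le inf_le_left).mul h2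
theorem IsProd.pig (h : IsProd A B M) (hA : PiG π A) (hB : PiG π B) : PiG π M :=
  (Core.IsPiNum.mul hA hB).of_dvd h.card_dvd
theorem pig_of_elts (h : ∀ x ∈ A, PiE π x) : PiG π A := fun p hp hd => by
  obtain ⟨x, hx, e⟩ := cauchy hp hd
  exact h x hx p hp (e ▸ dvd_rfl)
theorem pig_of_prime_elts (h : ∀ x ∈ A, (orderOf x).Prime → orderOf x ∈ π) : PiG π A := fun p hp hd => by
  obtain ⟨x, hx, e⟩ := cauchy hp hd
  exact e ▸ h x hx (e ▸ hp)
theorem pig_iff (hp : p.Prime) : PiG {p} A ↔ IsPGroup p A :=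
  haveI := Fact.mk hp; Core.isPiNum_singleton_card_iff
theorem PiG.pg (h : PiG {p} A) (hp : p.Prime) : IsPGroup p A := (pig_iff hp).1 h
theorem pig_of_pg (hp : p.Prime) (h : IsPGroup p A) : PiG {p} A := (pig_iff hp).2 h
theorem PiG.prime (h : PiG {p} A) (h1 : A ≠ ⊥) : p.Prime := by
  obtain ⟨q, hq, hd⟩ := exists_prime_dvd h1
  exact (show q = p from h q hq hd) ▸ hq
theorem PiG.dvd (h : PiG {p} A) (h1 : A ≠ ⊥) : p ∣ #A := by
  obtain ⟨q, hq, hd⟩ := exists_prime_dvd h1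
  exact (show q = p from h q hq hd) ▸ hd
theorem PiG.mem_of_ne (h : PiG {p} A) (h1 : A ≠ ⊥) (h2 : PiG π A) : p ∈ π :=
  h2 p (h.prime h1) (h.dvd h1)
theorem PiG.card_pow (h : PiG {p} A) (hp : p.Prime) : ∃ k, #A = p ^ k :=
  (pin_single hp (card_ne A)).1 h
theorem PiG.nil (h : PiG {p} A) : Nil A := by
  by_cases h1 : A = ⊥
  · rw [h1]; exact nil_bot
  · haveI := Fact.mk (h.prime h1); exact (h.pg (h.prime h1)).isNilpotent
theorem PiG.sol (h : PiG {p} A) : Sol A := h.nil.sol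
theorem PiG.exists_prime_sub (h : PiG {p} A) (h1 : A ≠ ⊥) : ∃ X ≤ A, #X = p :=
  BG.exists_prime_sub (h.prime h1) (h.dvd h1)
theorem exists_prime_sub' (h : A ≠ ⊥) : ∃ X ≤ A, (#X).Prime := by
  obtain ⟨p, hp, hd⟩ := exists_prime_dvd h
  obtain ⟨X, h1, h2⟩ := exists_prime_sub hp hd
  exact ⟨X, h1, h2 ▸ hp⟩
theorem PiE.prime (h : PiE {p} x) (h1 : x ≠ 1) : p.Prime :=
  (pig_zpowers.2 h).prime (by simpa using h1)
theorem PiE.dvd (h : PiE {p} x) (h1 : x ≠ 1) : p ∣ orderOf x := by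
  have := (pig_zpowers.2 h).dvd (by simpa using h1); rwa [Nat.card_zpowers] at this
theorem PiE.pow_eq_one (h : PiE {p} x) (hp : p.Prime) : ∃ k, x ^ p ^ k = 1 := by
  obtain ⟨k, hk⟩ := (pin_single hp (orderOf_pos x).ne').1 h
  exact ⟨k, by rw [← hk, pow_orderOf_eq_one]⟩
theorem exists_prime_pow_mem (h : x ≠ 1) : ∃ y ∈ zpowers x, (orderOf y).Prime := by
  obtain ⟨p, hp, hd⟩ := exists_prime_dvd (A := zpowers x) (by simpa using h)
  obtain ⟨y, h1, h2⟩ := cauchy hp hd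
  exact ⟨y, h1, h2 ▸ hp⟩
/-- an element lies in a subgroup normalized by ... when its order is coprime to the index -/
theorem mem_of_cop_relIndex (h : M ≤ N[A]) (hx : x ∈ M) (hc : (orderOf x).Coprime (A.relIndex M)) :
    x ∈ A := PLoc.mem_of_pow_mem_of_coprime (pow_relIndex_mem h hx) hc
theorem le_of_cop_relIndex (h : M ≤ N[A]) (hB : B ≤ M) (hc : (#B).Coprime (A.relIndex M)) : B ≤ A :=
  fun _ hx => mem_of_cop_relIndex h (hB hx) (hc.coprime_dvd_left (orderOf_dvd hx))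
theorem PiG.le_of_idx (hB : PiG π B) (h : M ≤ N[A]) (hBM : B ≤ M) (hc : PiN πᶜ (A.relIndex M)) : B ≤ A :=
  le_of_cop_relIndex h hBM (hB.coprime hc)
theorem isProd_of_cop (hA : A ≤ M) (hB : B ≤ M) (h : (A.relIndex M).Coprime (B.relIndex M)) :
    IsProd A B M := by
  apply isProd_of_card hA hB
  have h1 : A.relIndex M * B.relIndex M ∣ (A ⊓ B).relIndex M :=
    h.mul_dvd_of_dvd_of_dvd (relIndex_dvd_left inf_le_left M) (relIndex_dvd_left inf_le_right M)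
  have h2 : (A ⊓ B).relIndex M ≤ A.relIndex M * B.relIndex M := relIndex_inf_le
  have h3 := card_mul_relIndex (inf_le_left.trans hA : A ⊓ B ≤ M)
  have h4 := card_mul_relIndex hA
  have h5 := card_mul_relIndex hB
  have h6 := Nat.le_of_dvd (relIndex_pos _ _) h1
  have h7 : (A ⊓ B).relIndex M = A.relIndex M * B.relIndex M := le_antisymm h2 h6
  rw [h7] at h3
  apply Nat.le_of_mul_le_mul_right (c := A.relIndex M * B.relIndex M) _
    (mul_pos (relIndex_pos _ _) (relIndex_pos _ _))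
  apply le_of_eq
  calc #M * #(A ⊓ B) * (A.relIndex M * B.relIndex M) = #M * #M := by rw [mul_assoc, h3]
    _ = (#A * A.relIndex M) * (#B * B.relIndex M) := by rw [h4, h5]
    _ = _ := by ring

/-! ### `π`-parts of elements -/
theorem exists_pi_part (π : Set ℕ) (x : G) :
    ∃ a ∈ zpowers x, ∃ b ∈ zpowers x, x = a * b ∧ PiE π a ∧ PiE πᶜ b := by
  obtain ⟨m, n, e, hm, hn⟩ := exists_pi_split π (orderOf_pos x).ne'
  have hc : IsCoprime (n : ℤ) (m : ℤ) := Nat.isCoprime_iff_coprime.2 (hm.coprime hn).symm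
  obtain ⟨u, v, huv⟩ := hc
  refine ⟨x ^ (u * n), zpow_mem (mem_zpowers x) _, x ^ (v * m), zpow_mem (mem_zpowers x) _, ?_, ?_, ?_⟩
  · rw [← zpow_add, huv, zpow_one]
  · refine hm.of_dvd (orderOf_dvd_of_pow_eq_one ?_)
    rw [← zpow_natCast, ← zpow_mul, mul_assoc, mul_comm, zpow_mul, ← Nat.cast_mul, mul_comm n, ← e]
    simp
  · refine hn.of_dvd (orderOf_dvd_of_pow_eq_one ?_)
    rw [← zpow_natCast, ← zpow_mul, mul_assoc, mul_comm, zpow_mul, ← Nat.cast_mul, ← e]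
    simp
/-- the `π`-part of an element -/
noncomputable def cst (π : Set ℕ) (x : G) : G := (exists_pi_part π x).choose
theorem cst_mem (π : Set ℕ) (x : G) : cst π x ∈ zpowers x := (exists_pi_part π x).choose_spec.1
theorem cst_pie (π : Set ℕ) (x : G) : PiE π (cst π x) :=
  (exists_pi_part π x).choose_spec.2.choose_spec.2.2.1
theorem cst_spec (π : Set ℕ) (x : G) : ∃ b ∈ zpowers x, x = cst π x * b ∧ PiE πᶜ b := by
  obtain ⟨b, h1, h2, -, h3⟩ := (exists_pi_part π x).choose_spec.2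
  exact ⟨b, h1, h2, h3⟩
theorem cst_mem_of (hx : x ∈ A) : cst π x ∈ A := (zpowers_le.2 hx) (cst_mem π x)
theorem zpowers_comm {a b : G} (ha : a ∈ zpowers x) (hb : b ∈ zpowers x) : a * b = b * a :=
  mem_C_comm (abel_zpowers x) ha hb
theorem pi_part_mem {a b : G} (ha : PiE π a) (hb : PiE πᶜ b) (h : a * b = b * a) :
    a ∈ zpowers (a * b) := by
  have h1 : (a * b) ^ orderOf b = a ^ orderOf b := by
    rw [Commute.mul_pow h, pow_orderOf_eq_one, mul_one]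
  apply PLoc.mem_of_pow_mem_of_coprime _ (ha.coprime hb)
  rw [← h1]; exact pow_mem (mem_zpowers _) _
theorem cst_eq {a b : G} (ha : PiE π a) (hb : PiE πᶜ b) (h : a * b = b * a) : cst π (a * b) = a := by
  obtain ⟨c, hc, e, hc'⟩ := cst_spec π (a * b)
  have h1 := pi_part_mem ha hb h
  have h2 : b ∈ zpowers (a * b) := by
    have := mul_mem (inv_mem h1) (mem_zpowers (a * b)); simpa using this
  have h3 := cst_mem π (a * b)
  have h4 : a⁻¹ * cst π (a * b) = b * c⁻¹ := by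
    rw [inv_mul_eq_iff_eq_mul, ← mul_assoc, eq_mul_inv_iff_mul_eq, ← e]
  have h5 : PiE π (a⁻¹ * cst π (a * b)) := ha.inv.mul (cst_pie _ _) (zpowers_comm (inv_mem h1) h3)
  have h6 : PiE πᶜ (b * c⁻¹) := hb.mul hc'.inv (zpowers_comm h2 (inv_mem hc))
  rw [← h4] at h6
  exact (inv_mul_eq_one.1 (h5.eq_one h6)).symm
theorem cst_eq' {a b : G} (ha : PiE π a) (hb : PiE πᶜ b) (h : a * b = b * a) : cst πᶜ (a * b) = b := by
  rw [h]; exact cst_eq hb ha.compl_compl h.symm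
theorem cst_mul_cst (π : Set ℕ) (x : G) : cst π x * cst πᶜ x = x := by
  obtain ⟨b, hb, e, hb'⟩ := cst_spec π x
  have := cst_eq' (cst_pie π x) hb' (zpowers_comm (cst_mem π x) hb)
  rw [← e] at this; rw [this, ← e]
theorem cst_comm (π ρ : Set ℕ) (x : G) : cst π x * cst ρ x = cst ρ x * cst π x :=
  zpowers_comm (cst_mem _ _) (cst_mem _ _)
theorem cst_self (h : PiE π x) : cst π x = x := by
  simpa using cst_eq h (pie_one πᶜ) (by simp)
theorem cst_eq_one_iff : cst π x = 1 ↔ PiE πᶜ x := by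
  constructor
  · intro h; have := cst_mul_cst π x; rw [h, one_mul] at this; exact this ▸ cst_pie πᶜ x
  · intro h; simpa using cst_eq (pie_one π) h (by simp)
theorem cst_conj (π : Set ℕ) (g x : G) : cst π (g * x * g⁻¹) = g * cst π x * g⁻¹ := by
  have := cst_eq (pie_conj (g := g).2 (cst_pie π x)) (pie_conj (g := g).2 (cst_pie πᶜ x))
    (by simp only [mul_assoc, inv_mul_cancel_left]; rw [← mul_assoc (cst π x), cst_comm, mul_assoc])
  simp only [mul_assoc, inv_mul_cancel_left] at this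
  rw [← mul_assoc (cst π x), cst_mul_cst] at this
  simpa only [mul_assoc] using this
theorem cst_mul (h : x * y = y * x) : cst π (x * y) = cst π x * cst π y := by
  have hc : ∀ {a b : G}, a ∈ zpowers x → b ∈ zpowers y → a * b = b * a := fun ha hb =>
    mem_C_comm (A := zpowers x) (B := zpowers y)
      (by rw [zpowers_le, C_zpowers]; exact mem_C1.2 h) ha hb
  have e : x * y = (cst π x * cst π y) * (cst πᶜ x * cst πᶜ y) := by
    calc x * y = (cst π x * cst πᶜ x) * (cst π y * cst πᶜ y) := by rw [cst_mul_cst, cst_mul_cst]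
      _ = cst π x * (cst πᶜ x * cst π y) * cst πᶜ y := by simp only [mul_assoc]
      _ = _ := by rw [hc (cst_mem _ _) (cst_mem _ _)]; simp only [mul_assoc]
  rw [e]
  refine cst_eq ((cst_pie _ _).mul (cst_pie _ _) (hc (cst_mem _ _) (cst_mem _ _)))
    ((cst_pie _ _).mul (cst_pie _ _) (hc (cst_mem _ _) (cst_mem _ _))) ?_
  rw [← e]
  calc x * y = (cst πᶜ x * cst π x) * (cst πᶜ y * cst π y) := by
        rw [cst_comm, cst_mul_cst, cst_comm, cst_mul_cst]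
    _ = cst πᶜ x * (cst π x * cst πᶜ y) * cst π y := by simp only [mul_assoc]
    _ = _ := by rw [hc (cst_mem _ _) (cst_mem _ _)]; simp only [mul_assoc]
theorem C1_le_cst (π : Set ℕ) (x : G) : C1[x] ≤ C1[cst π x] := C1_le_of_mem_zpowers (cst_mem π x)
theorem cst_cst_of_subset (h : π ⊆ ρ) (x : G) : cst π (cst ρ x) = cst π x := by
  conv_rhs => rw [← cst_mul_cst ρ x, cst_mul (cst_comm _ _ _)]
  rw [cst_eq_one_iff.2 ((cst_pie ρᶜ x).mono (Set.compl_subset_compl.2 h)), mul_one]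
theorem cst_ne_one (hp : p.Prime) (hd : p ∣ orderOf x) (hπ : p ∈ π) : cst π x ≠ 1 :=
  fun h => cst_eq_one_iff.1 h p hp hd hπ
end fin

/-! ### Hall subgroups -/
/-- `H` is a Hall `π`-subgroup of `M` -/
structure Hall (π : Set ℕ) (H M : Subgroup G) : Prop where
  le : H ≤ M
  pi : PiG π H
  idx : PiN πᶜ (H.relIndex M)
/-- `P` is a Sylow `p`-subgroup of `M` -/
abbrev Syl (p : ℕ) (P M : Subgroup G) : Prop := Hall {p} P M

theorem hall_iff : Hall π H M ↔ IsPiHallOf π H M := by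
  rw [Core.isPiHallOf_iff]; exact ⟨fun h => ⟨h.1, h.2, h.3⟩, fun h => ⟨h.1, h.2.1, h.2.2⟩⟩
theorem hall_top_iff : Hall π H ⊤ ↔ IsPiHall π H := by rw [hall_iff, Core.isPiHallOf_top]
theorem Hall.of (h : Hall π H M) : IsPiHallOf π H M := hall_iff.1 h
theorem Hall.cj (h : Hall π H M) (g : G) : Hall π (cj g H) (cj g M) :=
  ⟨cj_mono g h.le, h.pi.cj g, by rw [relIndex_cj]; exact h.idx⟩
theorem Hall.cj_norm (h : Hall π H M) (hg : g ∈ N[M]) : Hall π (BG.cj g H) M := by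
  have := h.cj g; rwa [cj_of_mem_N hg] at this
theorem Hall.cj_mem (h : Hall π H M) (hg : g ∈ M) : Hall π (BG.cj g H) M := h.cj_norm (normG M hg)
theorem Hall.cj_top (h : Hall π H ⊤) (g : G) : Hall π (BG.cj g H) ⊤ := h.cj_mem (mem_top g)
theorem hall_cj : Hall π (cj g H) (cj g M) ↔ Hall π H M :=
  ⟨fun h => by simpa using h.cj g⁻¹, fun h => h.cj g⟩
theorem Hall.map (h : Hall π H M) (f : G →* G') : Hall π (H.map f) (M.map f) :=
  hall_iff.2 (Core.isPiHallOf_map h.of f)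
theorem Hall.sub (h : Hall π H M) (h1 : H ≤ L) (h2 : L ≤ M) : Hall π H L :=
  hall_iff.2 (Core.isPiHallOf_of_le h.of h1 h2)
theorem Hall.trans' (h : Hall π H L) (h2 : L ≤ M) (h3 : PiN πᶜ (L.relIndex M)) : Hall π H M :=
  ⟨h.le.trans h2, h.pi, by rw [← relIndex_mul_relIndex H L M h.le h2]; exact h.idx.mul h3⟩
theorem Hall.trans (h : Hall π H L) (h2 : Hall ρ L M) (h3 : π ⊆ ρ) : Hall π H M :=
  h.trans' h2.le (h2.idx.mono (Set.compl_subset_compl.2 h3))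
theorem Hall.syl (h2 : Hall π L M) (hp : p ∈ π) (h : Syl p P L) : Syl p P M :=
  h.trans h2 (Set.singleton_subset_iff.2 hp)
theorem Hall.coprime (h : Hall π H M) : (#H).Coprime (H.relIndex M) := h.pi.coprime h.idx
theorem hall_of_coprime (h : H ≤ M) (hc : (#H).Coprime (H.relIndex M)) : Hall {p | p ∣ #H} H M :=
  ⟨h, pin_self _, pin_of_cop hc.symm⟩
theorem hall_self (h : PiG π M) : Hall π M M := ⟨le_rfl, h, by rw [relIndex_self]; exact pin_one _⟩
theorem hall_bot (h : PiG πᶜ M) : Hall π ⊥ M := ⟨bot_le, pig_bot π, by rwa [relIndex_bot_left]⟩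

section fin
variable [Finite G]
theorem Hall.congr (h : Hall π H M) (e : ∀ p, p.Prime → p ∣ #M → (p ∈ π ↔ p ∈ ρ)) : Hall ρ H M :=
  ⟨h.le, h.pi.mono' fun p hp hd => (e p hp (hd.trans (cardS h.le))).1,
    h.idx.mono' fun p hp hd h1 h2 => h1 ((e p hp (hd.trans (relIndex_dvd _ _))).2 h2)⟩
theorem Hall.max (h : Hall π H M) (hK : PiG π K) (h1 : K ≤ M) (h2 : H ≤ K) : K = H :=
  Core.eq_of_isPiHallOf_of_le h.of hK h1 h2
theorem Hall.card_eq (h : Hall π H M) (h2 : Hall π K M) : #H = #K := Core.isPiHallOf_card_eq h.of h2.of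
theorem Hall.card_dvd (h : Hall π H M) (hK : PiG π K) (h1 : K ≤ M) : #K ∣ #H :=
  PiN.dvd_of_dvd_mul hK h.idx (by rw [card_mul_relIndex h.le]; exact cardS h1)
theorem Hall.dvd_of_pin (h : Hall π H M) (hn : PiN π n) (h1 : n ∣ #M) : n ∣ #H :=
  PiN.dvd_of_dvd_mul hn h.idx (by rwa [card_mul_relIndex h.le])
theorem Hall.of_card (h : Hall π H M) (hK : K ≤ M) (e : #K = #H) : Hall π K M :=
  ⟨hK, by rw [PiG, e]; exact h.pi, by
    have : K.relIndex M = H.relIndex M := Nat.eq_of_mul_eq_mul_left (card_pos H) (by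
      rw [card_mul_relIndex h.le, ← e, card_mul_relIndex hK])
    rw [this]; exact h.idx⟩
theorem Hall.of_card_le (h : Hall π H M) (hK : K ≤ M) (h2 : PiG π K) (e : #H ≤ #K) : Hall π K M :=
  h.of_card hK (le_antisymm (Nat.le_of_dvd (card_pos H) (h.card_dvd h2 hK)) e)
theorem Hall.eq_of_le (h : Hall π H M) (h2 : Hall π K M) (h3 : H ≤ K) : H = K :=
  (h.max h2.pi h2.le h3).symm
theorem Hall.dvd (h : Hall π H M) (hp : p.Prime) (hπ : p ∈ π) (hd : p ∣ #M) : p ∣ #H :=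
  h.dvd_of_pin ((pin_prime hp).2 hπ) hd
theorem Hall.ne_bot (h : Hall π H M) (hp : p.Prime) (hπ : p ∈ π) (hd : p ∣ #M) : H ≠ ⊥ := fun e => by
  have := h.dvd hp hπ hd
  rw [e, card_bot, Nat.dvd_one] at this; exact hp.one_lt.ne' this
theorem Hall.eq_bot_iff (h : Hall π H M) : H = ⊥ ↔ PiG πᶜ M :=
  ⟨fun e => by have := h.idx; rwa [e, relIndex_bot_left] at this, fun e => h.pi.eq_bot (e.of_le h.le)⟩
theorem Hall.eq_of_pig (h : Hall π H M) (h2 : PiG π M) : H = M := (h.max h2 le_rfl h.le).symm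
/-- intersection with a subgroup normalized by the Hall subgroup -/
theorem Hall.inf_norm (h : Hall π H M) (h1 : K ≤ M) (h2 : H ≤ N[K]) : Hall π (H ⊓ K) K :=
  ⟨inf_le_right, h.pi.of_le inf_le_left, by
    rw [inf_relIndex_right, ← (isProd_r h2).relIndex]
    exact h.idx.of_dvd (relIndex_dvd_right le_sup_left (sup_le h.le h1))⟩
theorem Hall.inf_norm' (h : Hall π H M) (h1 : K ≤ M) (h2 : M ≤ N[K]) : Hall π (H ⊓ K) K :=
  h.inf_norm h1 (h.le.trans h2)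
/-- intersection of a normal Hall subgroup with any subgroup -/
theorem Hall.norm_inf (h : Hall π H M) (h1 : K ≤ M) (h2 : K ≤ N[H]) : Hall π (H ⊓ K) K :=
  ⟨inf_le_right, h.pi.of_le inf_le_left, by
    rw [inf_relIndex_right]; exact h.idx.of_dvd (relIndex_dvd_of_norm h.le h1 h2)⟩
theorem Hall.le_of_norm (h : Hall π H M) (hK : PiG π K) (h1 : K ≤ M) (h2 : K ≤ N[H]) : K ≤ H :=
  le_sup_right.trans (h.max (h.pi.sup_l hK h2) (sup_le h.le h1) le_sup_left).le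
theorem Hall.le_of_norm' (h : Hall π H M) (hK : PiG π K) (h1 : K ≤ M) (h2 : H ≤ N[K]) : K ≤ H :=
  le_sup_right.trans (h.max (h.pi.sup_r hK h2) (sup_le h.le h1) le_sup_left).le
theorem Hall.le_of_normal (h : Hall π H M) (hn : M ≤ N[H]) (hK : PiG π K) (h1 : K ≤ M) : K ≤ H :=
  h.le_of_norm hK h1 (h1.trans hn)
theorem Hall.mem_of_normal (h : Hall π H M) (hn : M ≤ N[H]) (hx : PiE π x) (h1 : x ∈ M) : x ∈ H :=
  zpowers_le.1 (h.le_of_normal hn (pig_zpowers.2 hx) (zpowers_le.2 h1))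
theorem Hall.prod_idx (h : Hall π H M) (hK : K ≤ M) (h2 : PiN π (K.relIndex M)) : IsProd H K M :=
  isProd_of_cop h.le hK (h.idx.coprime' h2)
theorem Hall.prod (h : Hall π H M) (h2 : Hall πᶜ K M) : IsProd H K M :=
  h.prod_idx h2.le (by simpa using h2.idx)
theorem Hall.compl (h : Hall π H M) (h2 : Hall πᶜ K M) : IsComplIn H K M :=
  compl_of (h.prod h2) (h.pi.inf_bot h2.pi)
theorem Hall.sdprod (h : Hall π H M) (hn : M ≤ N[H]) (h2 : Hall πᶜ K M) : Sdprod H K M :=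
  sdprod_of_compl (h.compl h2) (h2.le.trans hn)
theorem IsProd.hall (h : IsProd H K M) (h1 : PiG π H) (h2 : PiG πᶜ K) : Hall π H M :=
  ⟨h.left, h1, by rw [h.relIndex]; exact h2.relIndex H⟩
theorem IsProd.hall_r (h : IsProd H K M) (h1 : PiG πᶜ H) (h2 : PiG π K) : Hall π K M :=
  h.symm.hall h2 h1
theorem Sdprod.hall_l (h : Sdprod H K M) (h1 : PiG π H) (h2 : PiG πᶜ K) : Hall π H M := h.prod.hall h1 h2
theorem Sdprod.hall_r (h : Sdprod H K M) (h1 : PiG πᶜ H) (h2 : PiG π K) : Hall π K M :=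
  h.prod.hall_r h1 h2
theorem Hall.compl_hall (h : Hall π H M) (h2 : IsComplIn H K M) : Hall πᶜ K M :=
  (compl_prod h2).hall_r h.pi.compl_compl (by rw [PiG, ← compl_relIndex_l h2]; exact h.idx)
theorem Sdprod.hall_compl (h2 : Sdprod H K M) (h : Hall π H M) : Hall πᶜ K M := h.compl_hall h2.compl
theorem Sdprod.hall_compl' (h2 : Sdprod H K M) (h : Hall π K M) : Hall πᶜ H M :=
  h.compl_hall (compl_symm h2.compl)
/-- product of Hall subgroups of the factors -/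
theorem Hall.sup_of_prod (hM : IsProd A B M) (h1 : Hall π H A) (h2 : Hall π K B) (h3 : IsProd H K L) :
    Hall π L M := by
  have hL : L ≤ M := h3.sup ▸ sup_le (h1.le.trans hM.left) (h2.le.trans hM.right)
  refine ⟨hL, h3.pig h1.pi h2.pi, ?_⟩
  have e1 := hM.card; have e2 := h3.card
  rw [← card_mul_relIndex h1.le, ← card_mul_relIndex h2.le, ← card_mul_relIndex hL,
    ← card_mul_relIndex (inf_le_inf h1.le h2.le)] at e1
  refine (h1.idx.mul h2.idx).of_dvd ⟨(H ⊓ K).relIndex (A ⊓ B), ?_⟩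
  apply Nat.eq_of_mul_eq_mul_left (mul_pos (card_pos H) (card_pos K))
  calc _ = #H * H.relIndex A * (#K * K.relIndex B) := by ring
    _ = _ := by rw [← e1, ← e2]; ring

theorem hall_superset (hs : Sol M) (h1 : U ≤ M) (h2 : PiG π U) : ∃ H, Hall π H M ∧ U ≤ H := by
  obtain ⟨H, h, h'⟩ := Core.exists_isPiHallOf_ge hs h1 h2; exact ⟨H, hall_iff.2 h, h'⟩
theorem hall_exists (π : Set ℕ) (hs : Sol M) : ∃ H, Hall π H M := by
  obtain ⟨H, h, -⟩ := hall_superset hs bot_le (pig_bot π); exact ⟨H, h⟩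
theorem Hall.conj (h : Hall π H M) (hs : Sol M) (h2 : Hall π K M) : ∃ g ∈ M, BG.cj g H = K :=
  Core.exists_conj_eq_of_isPiHallOf hs h.of h2.of
theorem Hall.sub_cj (h : Hall π H M) (hs : Sol M) (h1 : U ≤ M) (h2 : PiG π U) : ∃ g ∈ M, U ≤ BG.cj g H :=
  Core.exists_le_conj_of_isPiHallOf hs h.of h1 h2
theorem Hall.cj_sub (h : Hall π H M) (hs : Sol M) (h1 : U ≤ M) (h2 : PiG π U) : ∃ g ∈ M, BG.cj g U ≤ H := by
  obtain ⟨g, hg, h3⟩ := h.sub_cj hs h1 h2
  exact ⟨g⁻¹, inv_mem hg, le_cj_iff.1 h3⟩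
theorem Hall.frattini (h : Hall π H L) (hs : Sol L) (h1 : L ≤ M) (h2 : M ≤ N[L]) : IsProd L (M ⊓ N[H]) M :=
  ⟨h1, inf_le_left, fun m hm => by
    obtain ⟨l, hl, n, hn, e⟩ := Core.hall_frattini hs h2 h.of m hm
    exact ⟨l, hl, n, ⟨by simpa [e] using mul_mem (inv_mem (h1 hl)) hm, hn⟩, e⟩⟩

/-! ### Sylow subgroups -/
theorem syl_iff (hp : p.Prime) : Syl p P M ↔ Core.IsSylowIn p P M :=
  haveI := Fact.mk hp; by rw [Core.isSylowIn_iff_isPiHallOf, Syl, hall_iff]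
theorem syl_iff' (hp : p.Prime) : Syl p P M ↔ PLoc.IsSylowOf p P M := by
  rw [syl_iff hp]; exact ⟨fun h => ⟨h.1, h.2.1, h.2.2⟩, fun h => ⟨h.1, h.2, h.3⟩⟩
theorem syl_mk (hp : p.Prime) (h1 : P ≤ M) (h2 : PiG {p} P) (h3 : ¬ p ∣ P.relIndex M) : Syl p P M :=
  ⟨h1, h2, (pin_compl hp).2 h3⟩
theorem Syl.not_dvd (h : Syl p P M) (hp : p.Prime) : ¬ p ∣ P.relIndex M := (pin_compl hp).1 h.idx
theorem syl_map (hp : p.Prime) (S : Sylow p M) : Syl p ((S : Subgroup M).map M.subtype) M :=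
  haveI := Fact.mk hp; (syl_iff hp).2 (Core.isSylowIn_map_subtype S)
theorem syl_top (hp : p.Prime) (S : Sylow p G) : Syl p (S : Subgroup G) ⊤ :=
  haveI := Fact.mk hp; (syl_iff hp).2 (Core.isSylowIn_top S)
theorem Syl.exists_sylow (h : Syl p P M) (hp : p.Prime) :
    ∃ S : Sylow p M, (S : Subgroup M).map M.subtype = P :=
  haveI := Fact.mk hp; ((syl_iff hp).1 h).exists_sylow
theorem Syl.exists_sylow_top (h : Syl p P ⊤) (hp : p.Prime) : ∃ S : Sylow p G, (S : Subgroup G) = P :=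
  haveI := Fact.mk hp; ((syl_iff hp).1 h).exists_sylow_top
theorem syl_superset (hp : p.Prime) (h1 : U ≤ M) (h2 : PiG {p} U) : ∃ P, Syl p P M ∧ U ≤ P := by
  haveI := Fact.mk hp
  obtain ⟨H, h, h'⟩ := Core.exists_isSylowIn_ge h1 (h2.pg hp); exact ⟨H, (syl_iff hp).2 h, h'⟩
theorem syl_exists (hp : p.Prime) (M : Subgroup G) : ∃ P, Syl p P M := by
  obtain ⟨H, h, -⟩ := syl_superset hp (bot_le (a := M)) (pig_bot _); exact ⟨H, h⟩
theorem Syl.conj (h : Syl p P M) (hp : p.Prime) (h2 : Syl p Q M) : ∃ g ∈ M, BG.cj g P = Q :=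
  haveI := Fact.mk hp; ((syl_iff hp).1 h).exists_conj ((syl_iff hp).1 h2)
theorem Syl.sub_cj (h : Syl p P M) (hp : p.Prime) (h1 : U ≤ M) (h2 : PiG {p} U) :
    ∃ g ∈ M, U ≤ BG.cj g P :=
  haveI := Fact.mk hp; ((syl_iff hp).1 h).exists_le_conj h1 (h2.pg hp)
theorem Syl.cj_sub (h : Syl p P M) (hp : p.Prime) (h1 : U ≤ M) (h2 : PiG {p} U) :
    ∃ g ∈ M, BG.cj g U ≤ P := by
  obtain ⟨g, hg, h3⟩ := h.sub_cj hp h1 h2
  exact ⟨g⁻¹, inv_mem hg, le_cj_iff.1 h3⟩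
theorem Syl.frattini (h : Syl p P L) (hp : p.Prime) (h1 : L ≤ M) (h2 : M ≤ N[L]) :
    IsProd L (M ⊓ N[P]) M :=
  haveI := Fact.mk hp
  ⟨h1, inf_le_left, fun m hm => by
    obtain ⟨l, hl, n, hn, e⟩ := ((syl_iff hp).1 h).frattini h2 m hm
    exact ⟨l, hl, n, ⟨by simpa [e] using mul_mem (inv_mem (h1 hl)) hm, hn⟩, e⟩⟩
theorem syl_of_max (hp : p.Prime) (h1 : P ≤ M) (h2 : PiG {p} P)
    (h : ∀ Q, PiG {p} Q → Q ≤ M → P ≤ Q → Q = P) : Syl p P M := by
  obtain ⟨Q, h3, h4⟩ := syl_superset hp h1 h2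
  exact h Q h3.pi h3.le h4 ▸ h3
theorem Syl.of_norm (h : Syl p P (M ⊓ N[P])) (hp : p.Prime) : Syl p P M :=
  haveI := Fact.mk hp; (syl_iff hp).2 (Core.isSylowIn_of_isSylowIn_normalizer ((syl_iff hp).1 h))
theorem Syl.ne_bot' (h : Syl p P M) (hp : p.Prime) (hd : p ∣ #M) : P ≠ ⊥ := h.ne_bot hp rfl hd
theorem Syl.card_le (h : Syl p P M) (hQ : PiG {p} Q) (h1 : Q ≤ M) : #Q ≤ #P :=
  Nat.le_of_dvd (card_pos P) (h.card_dvd hQ h1)
theorem le_of_syl (h : ∀ p, p.Prime → p ∣ #K → ∃ P, Syl p P K ∧ P ≤ H) : K ≤ H := by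
  refine Core.le_of_forall_isSylowIn_le fun p hp => ?_
  by_cases hd : p ∣ #K
  · obtain ⟨P, h1, h2⟩ := h p hp.out hd; exact ⟨P, (syl_iff hp.out).1 h1, h2⟩
  · exact ⟨⊥, (syl_iff hp.out).1 (hall_bot ((pin_compl hp.out).2 hd)), bot_le⟩
theorem le_of_pig (h : ∀ p, p.Prime → ∀ P ≤ K, PiG {p} P → P ≤ H) : K ≤ H :=
  le_of_syl fun p hp _ => by
    obtain ⟨P, hP⟩ := syl_exists hp K; exact ⟨P, hP, h p hp P hP.le hP.pi⟩
theorem le_of_pie (h : ∀ p, p.Prime → ∀ x ∈ K, PiE {p} x → x ∈ H) : K ≤ H :=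
  le_of_pig fun p hp _ h1 h2 x hx => h p hp x (h1 hx) (h2.elt hx)
theorem exists_sub_pow (hp : p.Prime) (h : p ^ n ∣ #A) : ∃ X ≤ A, #X = p ^ n := by
  haveI := Fact.mk hp
  obtain ⟨X, hX⟩ := Sylow.exists_subgroup_card_pow_prime p h
  exact ⟨X.map A.subtype, map_subtype_le _, by rw [card_map_of_injective A.subtype_injective, hX]⟩

/-! ### Schur–Zassenhaus -/
theorem exists_sdprod (h1 : K ≤ M) (h2 : M ≤ N[K]) (h3 : (#K).Coprime (K.relIndex M)) :
    ∃ H, Sdprod K H M := by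
  obtain ⟨H, a, b, c, -⟩ := Core.exists_complement_in h1 h2 h3
  exact ⟨H, sup_comm H K ▸ b, inf_comm H K ▸ c, a.trans h2⟩
theorem Hall.exists_sdprod (h : Hall π K M) (h2 : M ≤ N[K]) : ∃ H, Sdprod K H M :=
  BG.exists_sdprod h.le h2 h.coprime
theorem sz_sub (hA : A ≤ N[K]) (hB : B ≤ K ⊔ A) (cA : (#A).Coprime #K) (cB : (#B).Coprime #K)
    (hs : Sol A ∨ Sol K ∨ Sol B) : ∃ k ∈ K, B ≤ cj k A :=
  Core.exists_le_conj_of_le_sup hA (sup_comm K A ▸ hB) cA cB hs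
theorem sz_conj (h1 : Sdprod K A M) (h2 : Sdprod K B M) (c : (#A).Coprime #K) (hs : Sol A ∨ Sol K) :
    ∃ k ∈ K, cj k A = B :=
  Core.exists_conj_eq_of_sup_eq h1.norm (by rw [sup_comm, h1.sup, sup_comm, h2.sup]) c
    (by rwa [← h2.relIndex_l, h1.relIndex_l]) (by tauto)
end fin

end Cfsg.Agent.BG
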