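import Cfsg.Agent.BG.Base2
/-!
Ambient-subgroup toolkit, part 3: cores, Fitting subgroup, nilpotent groups, coprime action.
-/
set_option autoImplicit false

namespace Cfsg.Agent.BG
open Subgroup

variable {G : Type*} [Group G] {G' : Type*} [Group G']
variable {A B D H K L M P Q U V X Y : Subgroup G} {x y g : G} {π ρ : Set ℕ} {p q m n : ℕ}

theorem normal_subgroupOf (h : M ≤ N[A]) : (A.subgroupOf M).Normal := normal_subgroupOf_of_le_normalizer h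
theorem norm_map (h : X ≤ N[A]) (f : G →* G') : X.map f ≤ N[A.map f] := Core.map_le_normalizer_map h f
theorem norm_comap {X A : Subgroup G'} (h : X ≤ N[A]) (f : G →* G') : X.comap f ≤ N[A.comap f] :=
  Core.comap_le_normalizer_comap h f
theorem cent_map (h : X ≤ C[A]) (f : G →* G') : X.map f ≤ C[A.map f] := by
  rw [← comm_eq_bot, ← map_commutator, comm_eq_bot.2 h, Subgroup.map_bot]
theorem card_map_inj {f : G →* G'} (hf : Function.Injective f) (A : Subgroup G) : #(A.map f) = #A :=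
  card_map_of_injective hf
theorem norm_map_inj {f : G →* G'} (hf : Function.Injective f) : X.map f ≤ N[A.map f] ↔ X ≤ N[A] :=
  ⟨fun h => by
    have := norm_comap h f
    rwa [comap_map_eq_self_of_injective hf, comap_map_eq_self_of_injective hf] at this,
   fun h => norm_map h f⟩
theorem cent_map_inj {f : G →* G'} (hf : Function.Injective f) : X.map f ≤ C[A.map f] ↔ X ≤ C[A] := by
  rw [← comm_eq_bot, ← comm_eq_bot, ← map_commutator, map_eq_bot_iff_of_injective _ hf]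
theorem exists_map_eq_of_le {f : G →* G'} {B : Subgroup G'} (h : B ≤ A.map f) :
    ∃ B' ≤ A, B'.map f = B :=
  ⟨B.comap f ⊓ A, inf_le_right, by
    apply le_antisymm ((map_mono inf_le_left).trans (map_comap_le f B))
    intro b hb
    obtain ⟨a, ha, rfl⟩ := h hb
    exact ⟨a, ⟨hb, ha⟩, rfl⟩⟩
theorem map_subtype_top (H : Subgroup G) : (⊤ : Subgroup H).map H.subtype = H := by
  rw [← MonoidHom.range_eq_map, range_subtype]
theorem exists_lift (h : A ≤ H) : ∃ A' : Subgroup H, A'.map H.subtype = A :=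
  ⟨A.subgroupOf H, map_subgroupOf_eq_of_le h⟩

/-! ### `π`-cores -/
theorem O_le (π : Set ℕ) (H : Subgroup G) : O[π](H) ≤ H := map_subtype_le _
theorem O_norm (π : Set ℕ) (H : Subgroup G) : H ≤ N[O[π](H)] := Core.le_normalizer_map_subtype_of_normal _
theorem le_O (h1 : A ≤ H) (h2 : H ≤ N[A]) (h3 : PiG π A) : A ≤ O[π](H) := Core.le_map_piCore h1 h2 h3
theorem normO (π : Set ℕ) (h : X ≤ N[H]) : X ≤ N[O[π](H)] :=
  h.trans (Core.normalizer_le_normalizer_map_characteristic H _)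
theorem O_mono (h : π ⊆ ρ) (H : Subgroup G) : O[π](H) ≤ O[ρ](H) := map_mono (Core.piCore_mono h)
theorem O_bot (π : Set ℕ) : O[π]((⊥ : Subgroup G)) = ⊥ := le_bot_iff.1 (O_le _ _)
theorem O_eq_self (h : PiG π H) : O[π](H) = H := le_antisymm (O_le _ _) (le_O le_rfl (normG H) h)
theorem pCore_map (hp : p.Prime) [Finite G] (H : Subgroup G) : (pCore p H).map H.subtype = O[{p}](H) := by
  haveI := Fact.mk hp; rw [Core.pCore_eq_piCore]; rfl
theorem pPrimeCore_map (hp : p.Prime) (H : Subgroup G) : (pPrimeCore p H).map H.subtype = O[{p}ᶜ](H) := by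
  haveI := Fact.mk hp; rw [Core.pPrimeCore_eq_piCore]; rfl

section fin
variable [Finite G]
theorem O_pig (π : Set ℕ) (H : Subgroup G) : PiG π O[π](H) := by
  rw [PiG, piCoreOf, card_map_inj H.subtype_injective]; exact Core.piCore_isPiNum π
theorem O_top (π : Set ℕ) : O[π]((⊤ : Subgroup G)) = piCore π G :=
  le_antisymm (Core.le_piCore (normal_iff.2 (O_norm _ _)) (O_pig _ _))
    (le_O le_top (norm_of_normal _) (Core.piCore_isPiNum π))
theorem pCore_eq (hp : p.Prime) : pCore p G = O[{p}]((⊤ : Subgroup G)) := by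
  haveI := Fact.mk hp; rw [Core.pCore_eq_piCore, O_top]
theorem pPrimeCore_eq (hp : p.Prime) : pPrimeCore p G = O[{p}ᶜ]((⊤ : Subgroup G)) := by
  haveI := Fact.mk hp; rw [Core.pPrimeCore_eq_piCore, O_top]
theorem O_eq_bot (h : PiG πᶜ H) : O[π](H) = ⊥ := (O_pig π H).eq_bot (h.of_le (O_le _ _))
theorem map_O_le (π : Set ℕ) (H : Subgroup G) (f : G →* G') : O[π](H).map f ≤ O[π](H.map f) :=
  le_O (map_mono (O_le _ _)) (norm_map (O_norm _ _) f) ((O_pig _ _).map f)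
theorem map_O_inj [Finite G'] {f : G →* G'} (hf : Function.Injective f) (π : Set ℕ) (H : Subgroup G) :
    O[π](H).map f = O[π](H.map f) := by
  apply le_antisymm (map_O_le _ _ _)
  obtain ⟨B, h1, h2⟩ := exists_map_eq_of_le (O_le π (H.map f))
  rw [← h2]
  refine map_mono (le_O h1 ((norm_map_inj hf).1 (h2 ▸ O_norm _ _)) ?_)
  rw [PiG, ← card_map_inj hf, h2]; exact O_pig _ _
theorem cj_O (g : G) (π : Set ℕ) (H : Subgroup G) : cj g O[π](H) = O[π](cj g H) := map_O_inj (cj_inj g) _ _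
theorem O_inf_le (π : Set ℕ) (h : K ≤ H) : O[π](H) ⊓ K ≤ O[π](K) :=
  le_O inf_le_right (normI (h.trans (O_norm _ _)) (normG K)) ((O_pig _ _).of_le inf_le_left)
theorem O_le_O (π : Set ℕ) (h : K ≤ H) (h2 : O[π](H) ≤ K) : O[π](H) ≤ O[π](K) :=
  (le_inf le_rfl h2).trans (O_inf_le π h)
theorem O_le_of_normal (π : Set ℕ) (h : K ≤ H) (h2 : H ≤ N[K]) : O[π](K) ≤ O[π](H) :=
  le_O ((O_le _ _).trans h) (normO π h2) (O_pig _ _)
theorem O_of_normal (π : Set ℕ) (h : K ≤ H) (h2 : H ≤ N[K]) : O[π](K) = O[π](H) ⊓ K :=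
  le_antisymm (le_inf (O_le_of_normal π h h2) (O_le _ _)) (O_inf_le π h)
theorem O_eq_of_normal (π : Set ℕ) (h : K ≤ H) (h2 : H ≤ N[K]) (h3 : O[π](H) ≤ K) : O[π](K) = O[π](H) := by
  rw [O_of_normal π h h2, inf_eq_left.2 h3]
theorem O_O (π ρ : Set ℕ) (H : Subgroup G) : O[π](O[ρ](H)) = O[π ∩ ρ](H) := by
  apply le_antisymm
  · exact le_O ((O_le _ _).trans (O_le _ _)) (normO _ (O_norm _ _))
      (PiN.inter (O_pig _ _) ((O_pig _ _).of_le (O_le _ _)))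
  · exact le_O (O_mono Set.inter_subset_right _) ((O_le _ _).trans (O_norm _ _))
      ((O_pig _ _).mono Set.inter_subset_left)
theorem O_O_of_subset (h : π ⊆ ρ) (H : Subgroup G) : O[π](O[ρ](H)) = O[π](H) := by
  rw [O_O, Set.inter_eq_left.2 h]
theorem O_mono' (h : ∀ p, p.Prime → p ∣ #H → p ∈ π → p ∈ ρ) : O[π](H) ≤ O[ρ](H) :=
  le_O (O_le _ _) (O_norm _ _) ((O_pig _ _).mono' fun p hp hd => h p hp (hd.trans (cardS (O_le _ _))))
theorem O_congr (h : ∀ p, p.Prime → p ∣ #H → (p ∈ π ↔ p ∈ ρ)) : O[π](H) = O[ρ](H) :=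
  le_antisymm (O_mono' fun p hp hd => (h p hp hd).1) (O_mono' fun p hp hd => (h p hp hd).2)
theorem O_inf_O (π : Set ℕ) (H K : Subgroup G) : O[π](H) ⊓ O[πᶜ](K) = ⊥ := (O_pig _ _).inf_bot (O_pig _ _)
theorem cent_of_cop (h1 : A ≤ N[B]) (h2 : B ≤ N[A]) (h : (#A).Coprime #B) : A ≤ C[B] :=
  cent_of_norm_inf h1 h2 (inf_bot_of_coprime h)
theorem PiG.cent (hA : PiG π A) (hB : PiG πᶜ B) (h1 : A ≤ N[B]) (h2 : B ≤ N[A]) : A ≤ C[B] :=
  cent_of_cop h1 h2 (hA.coprime hB)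
theorem O_cent_O (π : Set ℕ) (H : Subgroup G) : O[π](H) ≤ C[O[πᶜ](H)] :=
  (O_pig _ _).cent (O_pig _ _) ((O_le _ _).trans (O_norm _ _)) ((O_le _ _).trans (O_norm _ _))
theorem O_cent_O' (π : Set ℕ) (H : Subgroup G) : O[πᶜ](H) ≤ C[O[π](H)] := cent_symm (O_cent_O π H)
theorem Hall.O_le (h : Hall π H M) : O[π](M) ≤ H :=
  h.le_of_norm' (O_pig _ _) (BG.O_le _ _) (h.le.trans (O_norm _ _))
theorem Hall.eq_O (h : Hall π H M) (hn : M ≤ N[H]) : H = O[π](M) := le_antisymm (le_O h.le hn h.pi) h.O_le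
theorem Hall.norm_char (h : Hall π H M) (hn : M ≤ N[H]) (hX : X ≤ N[M]) : X ≤ N[H] := by
  rw [h.eq_O hn]; exact normO π hX
theorem Hall.hall_O (h : Hall π H M) (hn : M ≤ N[H]) : Hall π O[π](M) M := h.eq_O hn ▸ h
theorem Hall.eq_O' (h : Hall π O[π](M) M) (h2 : Hall π H M) : H = O[π](M) := (h.eq_of_le h2 h2.O_le).symm
theorem Hall.le_O (h : Hall π O[π](M) M) (h1 : K ≤ M) (h2 : PiG π K) : K ≤ O[π](M) :=
  h.le_of_normal (O_norm _ _) h2 h1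
theorem Hall.O_sub (h : Hall π O[π](M) M) (h1 : K ≤ M) : Hall π O[π](K) K :=
  (h.norm_inf h1 (h1.trans (O_norm _ _))).hall_O (normI (h1.trans (O_norm _ _)) (normG K))
theorem Hall.O_eq_inf (h : Hall π O[π](M) M) (h1 : K ≤ M) : O[π](K) = O[π](M) ⊓ K :=
  ((h.norm_inf h1 (h1.trans (O_norm _ _))).eq_O (normI (h1.trans (O_norm _ _)) (normG K))).symm

/-! ### Fitting subgroup -/
omit [Finite G] in
theorem F_le (H : Subgroup G) : F[H] ≤ H := map_subtype_le _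
omit [Finite G] in
theorem F_norm (H : Subgroup G) : H ≤ N[F[H]] := Core.le_normalizer_map_subtype_of_normal _
omit [Finite G] in
theorem le_F (h1 : A ≤ H) (h2 : H ≤ N[A]) (h3 : Nil A) : A ≤ F[H] := Core.le_map_fitting h1 h2 h3
omit [Finite G] in
theorem normF (h : X ≤ N[H]) : X ≤ N[F[H]] :=
  h.trans (Core.normalizer_le_normalizer_map_characteristic H _)
theorem F_nil (H : Subgroup G) : Nil F[H] := Nil.map (A := fittingSubgroup H) Core.fitting_isNilpotent _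
theorem F_top : F[(⊤ : Subgroup G)] = fittingSubgroup G :=
  le_antisymm (Core.le_fitting (normal_iff.2 (F_norm _)) (F_nil _))
    (le_F le_top (norm_of_normal _) Core.fitting_isNilpotent)
omit [Finite G] in
theorem F_eq_self (h : Nil H) : F[H] = H := le_antisymm (F_le _) (le_F le_rfl (normG H) h)
theorem map_F_le (H : Subgroup G) (f : G →* G') : F[H].map f ≤ F[H.map f] :=
  le_F (map_mono (F_le _)) (norm_map (F_norm _) f) ((F_nil _).map f)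
omit [Finite G] in
theorem nil_map_inj {f : G →* G'} (hf : Function.Injective f) : Nil (A.map f) ↔ Nil A :=
  ⟨fun h => h.equiv (A.equivMapOfInjective f hf).symm, fun h => h.map f⟩
omit [Finite G] in
theorem sol_map_inj {f : G →* G'} (hf : Function.Injective f) : Sol (A.map f) ↔ Sol A :=
  ⟨fun h => h.equiv (A.equivMapOfInjective f hf).symm, fun h => h.map f⟩
omit [Finite G] in
theorem cyc_map_inj {f : G →* G'} (hf : Function.Injective f) : Cyc (A.map f) ↔ Cyc A :=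
  ⟨fun h => h.equiv (A.equivMapOfInjective f hf).symm, fun h => h.map f⟩
theorem map_F_inj [Finite G'] {f : G →* G'} (hf : Function.Injective f) (H : Subgroup G) :
    F[H].map f = F[H.map f] := by
  apply le_antisymm (map_F_le _ _)
  obtain ⟨B, h1, h2⟩ := exists_map_eq_of_le (F_le (H.map f))
  rw [← h2]
  exact map_mono (le_F h1 ((norm_map_inj hf).1 (h2 ▸ F_norm _)) ((nil_map_inj hf).1 (h2 ▸ F_nil _)))
theorem cj_F (g : G) (H : Subgroup G) : cj g F[H] = F[cj g H] := map_F_inj (cj_inj g) _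
theorem F_inf_le (h : K ≤ H) : F[H] ⊓ K ≤ F[K] :=
  le_F inf_le_right (normI (h.trans (F_norm _)) (normG K)) ((F_nil _).of_le inf_le_left)
theorem F_le_F (h : K ≤ H) (h2 : F[H] ≤ K) : F[H] ≤ F[K] := (le_inf le_rfl h2).trans (F_inf_le h)
theorem F_le_of_normal (h : K ≤ H) (h2 : H ≤ N[K]) : F[K] ≤ F[H] :=
  le_F ((F_le _).trans h) (normF h2) (F_nil _)
theorem F_of_normal (h : K ≤ H) (h2 : H ≤ N[K]) : F[K] = F[H] ⊓ K :=
  le_antisymm (le_inf (F_le_of_normal h h2) (F_le _)) (F_inf_le h)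
theorem O_le_F (p : ℕ) (H : Subgroup G) : O[{p}](H) ≤ F[H] := le_F (O_le _ _) (O_norm _ _) (O_pig _ _).nil
theorem O_F (p : ℕ) (H : Subgroup G) : O[{p}](F[H]) = O[{p}](H) :=
  O_eq_of_normal _ (F_le H) (F_norm H) (O_le_F p H)
theorem O_F_le (π : Set ℕ) (H : Subgroup G) : O[π](F[H]) ≤ O[π](H) := O_le_of_normal π (F_le H) (F_norm H)
theorem F_O (π : Set ℕ) (H : Subgroup G) : F[O[π](H)] = O[π](F[H]) := by
  rw [F_of_normal (O_le _ _) (O_norm _ _), O_of_normal π (F_le _) (F_norm _), inf_comm]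
theorem Z_le_F (H : Subgroup G) : Z[H] ≤ F[H] := le_F inf_le_left (normZ (normG H)) (abel_Z H).nil
theorem C_F_le (h : Sol H) : H ⊓ C[F[H]] ≤ F[H] := by
  rintro x ⟨h1, h2⟩
  exact ⟨⟨x, h1⟩, Core.centralizer_fitting_le (Core.mem_centralizer_map_subtype_iff.1 h2), rfl⟩
theorem F_ne_bot (h : Sol H) (h1 : H ≠ ⊥) : F[H] ≠ ⊥ := fun e => by
  have := C_F_le h
  rw [e, C_bot, inf_top_eq, le_bot_iff] at this; exact h1 this

/-! ### nilpotent groups -/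
theorem Nil.syl_norm (h : Nil H) (hp : p.Prime) (hP : Syl p P H) : H ≤ N[P] :=
  haveI := Fact.mk hp; ((syl_iff hp).1 hP).le_normalizer_of_isNilpotent h
theorem Nil.le_O (h : Nil H) (h1 : K ≤ H) (h2 : PiG π K) : K ≤ O[π](H) :=
  le_of_syl fun p hp hd => by
    obtain ⟨P, hP⟩ := syl_exists hp K
    obtain ⟨Q, hQ, h3⟩ := syl_superset hp (hP.le.trans h1) hP.pi
    exact ⟨P, hP, h3.trans (BG.le_O hQ.le (h.syl_norm hp hQ) (hQ.pi.single_mono (h2 p hp hd)))⟩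
theorem Nil.hall_O (h : Nil H) (π : Set ℕ) : Hall π O[π](H) H := by
  obtain ⟨K, hK⟩ := hall_exists π h.sol
  exact (le_antisymm (h.le_O hK.le hK.pi) hK.O_le) ▸ hK
theorem Nil.hall_eq (h : Nil H) (hK : Hall π K H) : K = O[π](H) := (h.hall_O π).eq_O' hK
theorem Nil.hall_norm (h : Nil H) (hK : Hall π K H) : H ≤ N[K] := h.hall_eq hK ▸ O_norm _ _
theorem Nil.dprod_O (h : Nil H) (π : Set ℕ) : Dprod O[π](H) O[πᶜ](H) H :=
  ⟨((h.hall_O π).prod (h.hall_O πᶜ)).sup, O_inf_O _ _ _, O_cent_O' _ _⟩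
theorem Nil.O_eq_inf (h : Nil H) (π : Set ℕ) (h1 : K ≤ H) : O[π](K) = O[π](H) ⊓ K := (h.hall_O π).O_eq_inf h1
theorem Nil.O_mono (h : Nil H) (π : Set ℕ) (h1 : K ≤ H) : O[π](K) ≤ O[π](H) :=
  h.le_O ((O_le _ _).trans h1) (O_pig _ _)
theorem Nil.cent (h : Nil H) (hA : A ≤ H) (hB : B ≤ H) (h1 : PiG π A) (h2 : PiG πᶜ B) : A ≤ C[B] :=
  centSS (O_cent_O π H) (h.le_O hA h1) (h.le_O hB h2)
theorem Nil.cent_cop (h : Nil H) (hA : A ≤ H) (hB : B ≤ H) (hc : (#A).Coprime #B) : A ≤ C[B] :=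
  cent_symm (h.cent hB hA (pin_self _) (pin_of_cop hc))
theorem Nil.mem_O (h : Nil H) (h1 : x ∈ H) (h2 : PiE π x) : x ∈ O[π](H) :=
  zpowers_le.1 (h.le_O (zpowers_le.2 h1) (pig_zpowers.2 h2))
theorem Nil.le_of_O (h : Nil K) (h2 : ∀ p, p.Prime → p ∣ #K → O[{p}](K) ≤ H) : K ≤ H :=
  le_of_syl fun p hp hd => ⟨_, h.hall_O {p}, h2 p hp hd⟩
theorem Nil.O_ne_bot (h : Nil K) (hp : p.Prime) (hd : p ∣ #K) (hπ : p ∈ π) : O[π](K) ≠ ⊥ :=
  (h.hall_O π).ne_bot hp hπ hd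
theorem F_le_of_O (h : ∀ p, p.Prime → O[{p}](H) ≤ K) : F[H] ≤ K :=
  (F_nil H).le_of_O fun p hp _ => by rw [O_F]; exact h p hp
omit [Finite G] in
theorem Nil.lt_norm (h : Nil H) (h1 : K < H) : K < H ⊓ N[K] := Core.lt_inf_normalizer_of_isNilpotent h h1
omit [Finite G] in
theorem Nil.eq_of_norm (h : Nil H) (h1 : K ≤ H) (h2 : H ⊓ N[K] ≤ K) : K = H := by
  by_contra e; exact (h.lt_norm (lt_of_le_of_ne h1 e)).not_ge h2
omit [Finite G] in
theorem Nil.meet_C (h : Nil H) (h1 : K ≤ H) (h2 : H ≤ N[K]) (h3 : K ≠ ⊥) : K ⊓ C[H] ≠ ⊥ :=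
  Core.inf_centralizer_ne_bot h h1 h2 h3
omit [Finite G] in
theorem Nil.Z_ne_bot (h : Nil H) (h3 : H ≠ ⊥) : Z[H] ≠ ⊥ := h.meet_C le_rfl (normG H) h3
omit [Finite G] in
theorem Nil.comm_lt (h : Nil H) (h1 : K ≤ H) (h2 : A ≤ H) (h3 : A ≤ N[K]) (h4 : K ≠ ⊥) : ⁅K, A⁆ < K :=
  Core.commutator_lt_of_isNilpotent h h1 h2 h3 h4
omit [Finite G] in
theorem Nil.not_le_comm (h : Nil H) (h1 : K ≤ H) (h2 : A ≤ H) (h4 : K ≠ ⊥) : ¬ K ≤ ⁅K, A⁆ :=
  Core.not_le_commutator_of_isNilpotent h h1 h2 h4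
theorem Nil.eq_of_sup_der (h : Nil K) (h1 : H ≤ K) (h2 : K ≤ H ⊔ ⁅K, K⁆) : H = K :=
  Core.eq_of_sup_commutator_eq h h1 h2
theorem nil_of_syl (h : ∀ p, p.Prime → p ∣ #K → ∃ P, Syl p P K ∧ K ≤ N[P]) : Nil K := by
  refine Core.isNilpotent_of_forall_isSylowIn fun p hp => ?_
  by_cases hd : p ∣ #K
  · obtain ⟨P, h1, h2⟩ := h p hp.out hd; exact ⟨P, (syl_iff hp.out).1 h1, h2⟩
  · exact ⟨⊥, (syl_iff hp.out).1 (hall_bot ((pin_compl hp.out).2 hd)), norm_bot _⟩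
theorem Nil.sup (hA : Nil A) (hB : Nil B) (h1 : A ≤ N[B]) (h2 : B ≤ N[A]) : Nil (A ⊔ B) :=
  (F_nil (A ⊔ B)).of_le (sup_le (le_F le_sup_left (sup_le (normG A) h2) hA)
    (le_F le_sup_right (sup_le h1 (normG B)) hB))
theorem Nil.sup_cent (hA : Nil A) (hB : Nil B) (h : A ≤ C[B]) : Nil (A ⊔ B) :=
  hA.sup hB (cents_norm h) (cents_norm (cent_symm h))
theorem Dprod.nil (h : Dprod A B M) (hA : Nil A) (hB : Nil B) : Nil M := h.sup ▸ hA.sup_cent hB (cent_symm h.cent)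
omit [Finite G] in
theorem Dprod.abel (h : Dprod A B M) (hA : Abel A) (hB : Abel B) : Abel M := h.sup ▸ hA.sup hB (cent_symm h.cent)
omit [Finite G] in
theorem Sol.sup_l (hA : Sol A) (hB : Sol B) (h : B ≤ N[A]) : Sol (A ⊔ B) := by
  rw [sup_comm]; exact Core.isSolvable_sup h hB hA
omit [Finite G] in
theorem Sol.sup_r (hA : Sol A) (hB : Sol B) (h : A ≤ N[B]) : Sol (A ⊔ B) := Core.isSolvable_sup h hA hB
theorem PiG.meet_C (hV : PiG {p} V) (hA : PiG {p} A) (h : A ≤ N[V]) (h1 : V ≠ ⊥) : V ⊓ C[A] ≠ ⊥ :=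
  haveI := Fact.mk (hV.prime h1)
  Core.inf_centralizer_ne_bot_of_isPGroup (hV.pg (hV.prime h1)) (hA.pg (hV.prime h1)) h h1
theorem PiG.comm_lt (hV : PiG {p} V) (hA : PiG {p} A) (h : A ≤ N[V]) (h1 : V ≠ ⊥) : ⁅V, A⁆ < V :=
  (hV.sup_l hA h).nil.comm_lt le_sup_left le_sup_right h h1
/-- a `p`-group normalizing a subgroup of order `p` centralizes it -/
theorem PiG.cent_of_prime (hA : PiG {p} A) (hp : p.Prime) (hX : #X = p) (h : A ≤ N[X]) : A ≤ C[X] :=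
  cent_symm (le_of_prime (hX ▸ hp) ((pig_of_card' hp hX).meet_C hA h (ne_bot_of_prime (hX ▸ hp))))
theorem F_eq_O (h : O[{p}ᶜ](H) = ⊥) : F[H] = O[{p}](H) := by
  apply le_antisymm _ (O_le_F p H)
  rw [← ((F_nil H).dprod_O {p}).sup, O_F]
  exact sup_le le_rfl ((O_F_le _ _).trans (h.le.trans bot_le))
theorem F_le_O (h : O[πᶜ](H) = ⊥) : F[H] ≤ O[π](H) := by
  rw [← ((F_nil H).dprod_O π).sup]
  exact sup_le (O_F_le _ _) ((O_F_le _ _).trans (h.le.trans bot_le))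
theorem C_O_le (hs : Sol H) (h : O[πᶜ](H) = ⊥) : H ⊓ C[O[π](H)] ≤ O[π](H) :=
  (inf_le_inf_left _ (centS (F_le_O h))).trans ((C_F_le hs).trans (F_le_O h))
theorem cyc_sup_cop (hA : Cyc A) (hB : Cyc B) (h : A ≤ C[B]) (hc : (#A).Coprime #B) : Cyc (A ⊔ B) := by
  obtain ⟨a, rfl⟩ := cyc_iff.1 hA
  obtain ⟨b, rfl⟩ := cyc_iff.1 hB
  have hab := mem_C_comm h (mem_zpowers a) (mem_zpowers b)
  rw [card_zpowers', card_zpowers'] at hc
  refine cyc_iff.2 ⟨a * b, le_antisymm (zpowers_le.2 (mul_mem_sup (mem_zpowers a) (mem_zpowers b))) ?_⟩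
  have h1 := pi_part_mem (pin_of_cop hc) (pin_self _).compl_compl hab
  refine sup_le (zpowers_le.2 h1) (zpowers_le.2 ?_)
  simpa using mul_mem (inv_mem h1) (mem_zpowers (a * b))
theorem Dprod.cyc (h : Dprod A B M) (hA : Cyc A) (hB : Cyc B) (hc : (#A).Coprime #B) : Cyc M :=
  h.sup ▸ cyc_sup_cop hA hB (cent_symm h.cent) hc
theorem Nil.cyc_of_O (h : Nil H) (h2 : ∀ p, p.Prime → p ∣ #H → Cyc O[{p}](H)) : Cyc H := by
  induction H using lt_wf_ind with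
  | h H ih =>
    by_cases h1 : H = ⊥
    · rw [h1]; exact cyc_bot
    obtain ⟨p, hp, hd⟩ := exists_prime_dvd h1
    refine (h.dprod_O {p}).cyc (h2 p hp hd) (ih _ (lt_of_le_of_ne (O_le _ _) fun e => ?_)
      (h.of_le (O_le _ _)) fun q hq hqd => ?_) ((O_pig _ _).coprime (O_pig _ _))
    · exact (pin_compl hp).1 (O_pig {p}ᶜ H) (by rwa [e])
    · exact (h2 q hq (hqd.trans (cardS (O_le _ _)))).of_le (h.O_mono _ (O_le _ _))
theorem Nil.cyc_of_syl (h : Nil H) (h2 : ∀ p, p.Prime → ∀ P, Syl p P H → Cyc P) : Cyc H :=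
  h.cyc_of_O fun p hp _ => h2 p hp _ (h.hall_O _)
theorem Nil.abel_of_O (h : Nil H) (h2 : ∀ p, p.Prime → p ∣ #H → Abel O[{p}](H)) : Abel H :=
  h.le_of_O fun p hp hd => by
    conv_rhs => rw [← (h.dprod_O {p}).sup]
    exact centY (h2 p hp hd) (O_cent_O _ _)

/-! ### coprime action -/
theorem cop_cent_prod (hA : A ≤ N[K]) (hc : (#A).Coprime #K) (hs : Sol A ∨ Sol K) :
    IsProd ⁅K, A⁆ (K ⊓ C[A]) K :=
  isProd_of_l (inf_le_left.trans (comm_norml _ _)) (Core.commutator_sup_centralizer hA hc hs)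
theorem cop_comm_comm (hA : A ≤ N[K]) (hc : (#A).Coprime #K) (hs : Sol A ∨ Sol K) : ⁅⁅K, A⁆, A⁆ = ⁅K, A⁆ :=
  Core.commutator_commutator_eq hA hc hs
theorem cop_cent_of_comm_cent (hA : A ≤ N[K]) (hc : (#A).Coprime #K) (hs : Sol A ∨ Sol K)
    (h : ⁅K, A⁆ ≤ C[A]) : K ≤ C[A] := Core.le_centralizer_of_commutator_le_centralizer hA hc hs h
theorem cop_prod_of_comm_le (hA : A ≤ N[L]) (hc : (#A).Coprime #L) (hs : Sol A ∨ Sol L) (hL : L ≤ K)
    (h : ⁅K, A⁆ ≤ L) : IsProd (K ⊓ C[A]) L K :=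
  ⟨inf_le_left, hL, Core.exists_mul_of_commutator_le hA hc hs hL h⟩
omit [Finite G] in
theorem inf_N_eq_inf_C (hA : A ≤ N[K]) (h : A ⊓ K = ⊥) : K ⊓ N[A] = K ⊓ C[A] :=
  Core.inf_normalizer_eq_inf_centralizer hA h
theorem cop_inf_N (hA : A ≤ N[K]) (hc : (#A).Coprime #K) : K ⊓ N[A] = K ⊓ C[A] :=
  inf_N_eq_inf_C hA (inf_bot_of_coprime hc)
theorem cop_abel_dprod (hV : Abel V) (hA : A ≤ N[V]) (hc : (#A).Coprime #V) : Dprod (V ⊓ C[A]) ⁅V, A⁆ V :=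
  ⟨(PLoc.fitting_decomp' hV.comm hA hc).2, (PLoc.fitting_decomp' hV.comm hA hc).1,
    centSS hV (commL hA) inf_le_left⟩
theorem cop_abel_C_comm (hV : Abel V) (hA : A ≤ N[V]) (hc : (#A).Coprime #V) : ⁅V, A⁆ ⊓ C[A] = ⊥ := by
  rw [eq_bot_iff, ← (cop_abel_dprod hV hA hc).inf]
  exact le_inf (le_inf (inf_le_left.trans (commL hA)) inf_le_right) inf_le_left
theorem cop_stable (hc : (#A).Coprime #L) (h : ⁅K, A⁆ ≤ L) (hL : L ≤ C[A]) : K ≤ C[A] :=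
  Core.le_centralizer_of_commutator_le_of_le_centralizer hc h hL
theorem cop_mul_cent (hX : A ≤ N[X]) (hY : A ≤ N[Y]) (hM : IsProd X Y M) (hc : (#A).Coprime #(X ⊓ Y))
    (hs : Sol A ∨ Sol (X ⊓ Y)) : IsProd (X ⊓ C[A]) (Y ⊓ C[A]) (M ⊓ C[A]) :=
  ⟨inf_le_inf_right _ hM.left, inf_le_inf_right _ hM.right, fun m hm => by
    obtain ⟨a, ha, b, hb, rfl⟩ := hM.ex m hm.1
    exact Core.exists_centralizer_mul_centralizer hX hY hc hs ha hb hm.2⟩
theorem cop_syl_superset (hA : A ≤ N[K]) (hc : (#A).Coprime #K) (hs : Sol A ∨ Sol K) (hp : p.Prime)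
    (h1 : U ≤ K) (h2 : PiG {p} U) (h3 : A ≤ N[U]) : ∃ P, Syl p P K ∧ A ≤ N[P] ∧ U ≤ P := by
  haveI := Fact.mk hp
  obtain ⟨P, a, b⟩ := Core.exists_invariant_isSylowIn_ge hA hc hs h1 (h2.pg hp) h3
  exact ⟨P, (syl_iff hp).2 a, b⟩
theorem cop_syl_exists (hA : A ≤ N[K]) (hc : (#A).Coprime #K) (hs : Sol A ∨ Sol K) (hp : p.Prime) :
    ∃ P, Syl p P K ∧ A ≤ N[P] := by
  obtain ⟨P, a, b, -⟩ := cop_syl_superset hA hc hs hp bot_le (pig_bot _) (norm_bot _); exact ⟨P, a, b⟩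
theorem cop_syl_conj (hA : A ≤ N[K]) (hc : (#A).Coprime #K) (hs : Sol A ∨ Sol K) (hp : p.Prime)
    (hP : Syl p P K) (hQ : Syl p Q K) (h1 : A ≤ N[P]) (h2 : A ≤ N[Q]) : ∃ c ∈ K ⊓ C[A], cj c P = Q :=
  haveI := Fact.mk hp
  Core.exists_centralizer_conj_of_isSylowIn hA hc hs ((syl_iff hp).1 hP) ((syl_iff hp).1 hQ) h1 h2
theorem cop_syl_cent (hA : A ≤ N[K]) (hc : (#A).Coprime #K) (hs : Sol A ∨ Sol K) (hp : p.Prime)
    (hP : Syl p P K) (h1 : A ≤ N[P]) : Syl p (P ⊓ C[A]) (K ⊓ C[A]) :=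
  haveI := Fact.mk hp
  (syl_iff hp).2 (((syl_iff hp).1 hP).inf_centralizer hA hc hs h1)
theorem cop_hall_superset (hA : A ≤ N[K]) (hc : (#A).Coprime #K) (hs : Sol K)
    (h1 : U ≤ K) (h2 : PiG π U) (h3 : A ≤ N[U]) : ∃ H, Hall π H K ∧ A ≤ N[H] ∧ U ≤ H := by
  obtain ⟨P, a, b⟩ := Core.exists_invariant_isPiHallOf_ge hA hc hs h1 h2 h3
  exact ⟨P, hall_iff.2 a, b⟩
theorem cop_hall_exists (π : Set ℕ) (hA : A ≤ N[K]) (hc : (#A).Coprime #K) (hs : Sol K) :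
    ∃ H, Hall π H K ∧ A ≤ N[H] := by
  obtain ⟨P, a, b, -⟩ := cop_hall_superset hA hc hs bot_le (pig_bot π) (norm_bot _); exact ⟨P, a, b⟩
theorem cop_hall_conj (hA : A ≤ N[K]) (hc : (#A).Coprime #K) (hs : Sol K)
    (hP : Hall π P K) (hQ : Hall π Q K) (h1 : A ≤ N[P]) (h2 : A ≤ N[Q]) : ∃ c ∈ K ⊓ C[A], cj c P = Q :=
  Core.exists_centralizer_conj_of_isPiHallOf hA hc hs hP.of hQ.of h1 h2
theorem cop_hall_cent (hA : A ≤ N[K]) (hc : (#A).Coprime #K) (hs : Sol K)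
    (hP : Hall π P K) (h1 : A ≤ N[P]) : Hall π (P ⊓ C[A]) (K ⊓ C[A]) := by
  obtain ⟨H, hH⟩ := hall_exists π (hs.of_le (inf_le_left : K ⊓ C[A] ≤ K))
  obtain ⟨Q, a, b, c⟩ := cop_hall_superset hA hc hs (hH.le.trans inf_le_left) hH.pi
    (cents_norm (cent_symm (hH.le.trans inf_le_right)))
  obtain ⟨z, hz, rfl⟩ := cop_hall_conj hA hc hs a hP b h1
  have h2 := hH.cj_mem hz
  have : cj z H ≤ cj z Q ⊓ C[A] := le_inf (cj_mono z c) (h2.le.trans inf_le_right)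
  exact (h2.max (hP.pi.of_le inf_le_left) (inf_le_inf_right _ hP.le) this).symm ▸ h2
theorem cop_conj_cent (hA : A ≤ N[K]) (hc : (#A).Coprime #K) (hs : Sol A ∨ Sol K)
    (h1 : A ≤ N[P]) (h2 : A ≤ N[cj g P]) (hg : g ∈ K) : ∃ c ∈ K ⊓ C[A], cj c P = cj g P :=
  Core.exists_centralizer_conj_eq hA hc hs h1 h2 ⟨g, hg, rfl⟩
theorem cop_conj_elt (hA : A ≤ N[K]) (hc : (#A).Coprime #K) (hs : Sol A ∨ Sol K) (hg : g ∈ K)
    (h1 : x ∈ C[A]) (h2 : g * x * g⁻¹ ∈ C[A]) : ∃ c ∈ K ⊓ C[A], c * x * c⁻¹ = g * x * g⁻¹ :=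
  Core.exists_centralizer_conj_elem_eq hA hc hs hg h1 h2
/-- BG 1.10 -/
theorem cop_nil_faithful (hK : Nil K) (hA : A ≤ N[K]) (hc : (#A).Coprime #K)
    (h : K ⊓ C[K ⊓ C[A]] ≤ C[A]) : A ≤ C[K] :=
  Core.le_centralizer_of_self_centralizing hK hA hc inf_le_left inf_le_right (le_inf inf_le_left h)
theorem cop_self_cent (hK : Nil K) (hA : A ≤ N[K]) (hc : (#A).Coprime #K) (h1 : D ≤ K) (h2 : D ≤ C[A])
    (h : K ⊓ C[D] ≤ D) : A ≤ C[K] := Core.le_centralizer_of_self_centralizing hK hA hc h1 h2 h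
/-- Thompson's `P × Q` lemma -/
theorem pq_lemma (hL : Nil L) (hP : P ≤ L) (hU : U ≤ L) (hPQ : P ≤ C[Q]) (hc : (#Q).Coprime #U)
    (h1 : P ≤ N[U]) (h2 : Q ≤ N[U]) (h : U ⊓ C[P] ≤ C[Q]) : Q ≤ C[U] :=
  Core.pq_lemma_of_isNilpotent hL hP hPQ U hU hc h1 h2 h
/-- invariant complement to an invariant normal Hall subgroup -/
theorem cop_sdprod (hA : A ≤ N[M]) (hc : (#A).Coprime #M) (hs : Sol M) (hK : Hall π K M) (hn : M ≤ N[K]) :
    ∃ H, Sdprod K H M ∧ A ≤ N[H] := by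
  obtain ⟨H, a, b⟩ := cop_hall_exists πᶜ hA hc hs
  exact ⟨H, hK.sdprod hn a, b⟩
end fin

end Cfsg.Agent.BG
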