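import Cfsg.Agent.BG.Base3
/-!
Ambient-subgroup toolkit, part 4: partially defined homomorphisms and quotients `A ÷ N`.
-/
set_option autoImplicit false

namespace Cfsg.Agent.BG
open Subgroup

universe u
variable {G : Type*} [Group G] {G' : Type*} [Group G'] {G'' : Type*} [Group G'']

/-- a homomorphism defined on a subgroup -/
structure PHom (G : Type*) (G' : Type*) [Group G] [Group G'] where
  dom : Subgroup G
  hom : dom →* G'

namespace PHom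
variable (φ : PHom G G') {A B D H K L M P Q U V X Y : Subgroup G} {x y g : G} {π ρ : Set ℕ} {p n : ℕ}
  {A' B' H' M' X' : Subgroup G'}

def im (A : Subgroup G) : Subgroup G' := (A.subgroupOf φ.dom).map φ.hom
def pre (B : Subgroup G') : Subgroup G := (B.comap φ.hom).map φ.dom.subtype
def ker : Subgroup G := φ.pre ⊥
open Classical in
noncomputable def app (x : G) : G' := if h : x ∈ φ.dom then φ.hom ⟨x, h⟩ else 1

variable {φ}
theorem app_eq (h : x ∈ φ.dom) : φ.app x = φ.hom ⟨x, h⟩ := dif_pos h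
theorem app_coe (x : φ.dom) : φ.app x = φ.hom x := app_eq x.2
theorem app_mul (hx : x ∈ φ.dom) (hy : y ∈ φ.dom) : φ.app (x * y) = φ.app x * φ.app y := by
  rw [app_eq hx, app_eq hy, app_eq (mul_mem hx hy), ← map_mul]; rfl
theorem app_one : φ.app 1 = 1 := by rw [app_eq (one_mem _)]; exact map_one φ.hom
theorem app_inv (hx : x ∈ φ.dom) : φ.app x⁻¹ = (φ.app x)⁻¹ := by
  rw [app_eq hx, app_eq (inv_mem hx), ← map_inv]; rfl
theorem app_pow (hx : x ∈ φ.dom) (n : ℕ) : φ.app (x ^ n) = φ.app x ^ n := by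
  rw [app_eq hx, app_eq (pow_mem hx n), ← map_pow]; rfl
theorem app_conj (hg : g ∈ φ.dom) (hx : x ∈ φ.dom) :
    φ.app (g * x * g⁻¹) = φ.app g * φ.app x * (φ.app g)⁻¹ := by
  rw [app_mul (mul_mem hg hx) (inv_mem hg), app_mul hg hx, app_inv hg]
theorem mem_im {y : G'} : y ∈ φ.im A ↔ ∃ x ∈ A, x ∈ φ.dom ∧ φ.app x = y :=
  ⟨fun ⟨x, hx, e⟩ => ⟨x, hx, x.2, (app_coe x).trans e⟩, fun ⟨x, hx, h, e⟩ => ⟨⟨x, h⟩, hx, (app_eq h).symm.trans e⟩⟩
theorem mem_im' (hA : A ≤ φ.dom) {y : G'} : y ∈ φ.im A ↔ ∃ x ∈ A, φ.app x = y := by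
  rw [mem_im]; exact ⟨fun ⟨x, a, _, c⟩ => ⟨x, a, c⟩, fun ⟨x, a, c⟩ => ⟨x, a, hA a, c⟩⟩
theorem app_mem_im (hx : x ∈ A) (h : x ∈ φ.dom) : φ.app x ∈ φ.im A := mem_im.2 ⟨x, hx, h, rfl⟩
theorem mem_pre : x ∈ φ.pre B' ↔ x ∈ φ.dom ∧ φ.app x ∈ B' :=
  ⟨by rintro ⟨x, hx, rfl⟩; exact ⟨x.2, (app_coe x).symm ▸ hx⟩,
    fun ⟨h, e⟩ => ⟨⟨x, h⟩, by rw [app_eq h] at e; exact e, rfl⟩⟩
theorem mem_ker : x ∈ φ.ker ↔ x ∈ φ.dom ∧ φ.app x = 1 := by rw [ker, mem_pre, mem_bot]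
theorem im_map (A : Subgroup φ.dom) : φ.im (A.map φ.dom.subtype) = A.map φ.hom := by
  rw [im, Core.map_subtype_subgroupOf]
theorem ker_eq : φ.ker = φ.hom.ker.map φ.dom.subtype := rfl
theorem pre_le_dom (B : Subgroup G') : φ.pre B ≤ φ.dom := map_subtype_le _
theorem ker_le_dom : φ.ker ≤ φ.dom := pre_le_dom _
@[gcongr] theorem im_mono (h : A ≤ B) : φ.im A ≤ φ.im B := map_mono (comap_mono h)
@[gcongr] theorem pre_mono (h : A' ≤ B') : φ.pre A' ≤ φ.pre B' := map_mono (comap_mono h)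
theorem ker_le_pre (B : Subgroup G') : φ.ker ≤ φ.pre B := pre_mono bot_le
theorem im_inf_dom (A : Subgroup G) : φ.im (A ⊓ φ.dom) = φ.im A := by
  rw [im, im, inf_subgroupOf_right]
theorem im_bot : φ.im ⊥ = ⊥ := by rw [im, bot_subgroupOf, Subgroup.map_bot]
theorem app_mem_iff (hx : x ∈ φ.dom) (hA : A ≤ φ.dom) (hK : φ.ker ≤ A) : φ.app x ∈ φ.im A ↔ x ∈ A := by
  refine ⟨fun h => ?_, fun h => app_mem_im h hx⟩
  obtain ⟨a, ha, e⟩ := (mem_im' hA).1 h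
  have : a⁻¹ * x ∈ φ.ker := mem_ker.2 ⟨mul_mem (inv_mem (hA ha)) hx, by
    rw [app_mul (inv_mem (hA ha)) hx, app_inv (hA ha), e, inv_mul_cancel]⟩
  simpa using mul_mem ha (hK this)
theorem app_eq_iff (hx : x ∈ φ.dom) (hy : y ∈ φ.dom) : φ.app x = φ.app y ↔ x⁻¹ * y ∈ φ.ker := by
  rw [mem_ker, app_mul (inv_mem hx) hy, app_inv hx, inv_mul_eq_one]
  simp [mul_mem (inv_mem hx) hy]
theorem le_pre_iff (hA : A ≤ φ.dom) : A ≤ φ.pre B' ↔ φ.im A ≤ B' :=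
  ⟨fun h y hy => by obtain ⟨x, hx, rfl⟩ := (mem_im' hA).1 hy; exact (mem_pre.1 (h hx)).2,
    fun h x hx => mem_pre.2 ⟨hA hx, h (app_mem_im hx (hA hx))⟩⟩
theorem im_pre_le (B : Subgroup G') : φ.im (φ.pre B) ≤ B := (le_pre_iff (pre_le_dom _)).1 le_rfl
theorem im_pre (h : B' ≤ φ.im A) : φ.im (φ.pre B') = B' :=
  le_antisymm (im_pre_le _) fun y hy => by
    obtain ⟨x, -, hx, rfl⟩ := mem_im.1 (h hy); exact app_mem_im (mem_pre.2 ⟨hx, hy⟩) hx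
theorem im_pre_inf (h : B' ≤ φ.im A) : φ.im (φ.pre B' ⊓ A) = B' :=
  le_antisymm ((im_mono inf_le_left).trans (im_pre_le _)) fun y hy => by
    obtain ⟨x, hxA, hx, rfl⟩ := mem_im.1 (h hy); exact app_mem_im ⟨mem_pre.2 ⟨hx, hy⟩, hxA⟩ hx
theorem le_pre_im (hA : A ≤ φ.dom) : A ≤ φ.pre (φ.im A) := (le_pre_iff hA).2 le_rfl
theorem dom_norm_ker : φ.dom ≤ N[φ.ker] := Core.le_normalizer_map_subtype_of_normal _
theorem pre_im (hA : A ≤ φ.dom) : φ.pre (φ.im A) = A ⊔ φ.ker := by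
  apply le_antisymm _ (sup_le (le_pre_im hA) (ker_le_pre _))
  intro x hx
  rw [← app_mem_iff (mem_pre.1 hx).1 (sup_le hA ker_le_dom) le_sup_right]
  exact im_mono le_sup_left (mem_pre.1 hx).2
theorem pre_im_of_le (hA : A ≤ φ.dom) (hK : φ.ker ≤ A) : φ.pre (φ.im A) = A := by
  rw [pre_im hA, sup_eq_left.2 hK]
theorem pre_le_of_le_im (hA : A ≤ φ.dom) (hK : φ.ker ≤ A) (h : B' ≤ φ.im A) : φ.pre B' ≤ A :=
  pre_im_of_le hA hK ▸ pre_mono h
theorem im_le_im_iff (hA : A ≤ φ.dom) (hB : B ≤ φ.dom) : φ.im A ≤ φ.im B ↔ A ≤ B ⊔ φ.ker := by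
  rw [← le_pre_iff hA, pre_im hB]
theorem le_of_im_le (hA : A ≤ φ.dom) (hB : B ≤ φ.dom) (hK : φ.ker ≤ B) (h : φ.im A ≤ φ.im B) : A ≤ B := by
  rwa [im_le_im_iff hA hB, sup_eq_left.2 hK] at h
theorem im_inj (hA : A ≤ φ.dom) (hB : B ≤ φ.dom) (hKA : φ.ker ≤ A) (hK : φ.ker ≤ B) (h : φ.im A = φ.im B) :
    A = B := le_antisymm (le_of_im_le hA hB hK h.le) (le_of_im_le hB hA hKA h.ge)
theorem im_lt (hB : B ≤ φ.dom) (hKA : φ.ker ≤ A) (h : A < B) : φ.im A < φ.im B :=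
  lt_of_le_of_ne (im_mono h.le) fun e => h.ne (im_inj (h.le.trans hB) hB hKA (hKA.trans h.le) e)
theorem im_eq_bot_iff (hA : A ≤ φ.dom) : φ.im A = ⊥ ↔ A ≤ φ.ker := by rw [ker, le_pre_iff hA, le_bot_iff]
theorem im_ker : φ.im φ.ker = ⊥ := (im_eq_bot_iff ker_le_dom).2 le_rfl
theorem exists_im_eq (hA : A ≤ φ.dom) (hK : φ.ker ≤ A) (h : B' ≤ φ.im A) :
    ∃ B, φ.ker ≤ B ∧ B ≤ A ∧ φ.im B = B' := ⟨φ.pre B', ker_le_pre _, pre_le_of_le_im hA hK h, im_pre h⟩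
theorem exists_im_eq' (h : B' ≤ φ.im A) : ∃ B, B ≤ A ∧ B ≤ φ.dom ∧ φ.im B = B' :=
  ⟨φ.pre B' ⊓ A, inf_le_right, inf_le_left.trans (pre_le_dom _), im_pre_inf h⟩
theorem im_sup (hA : A ≤ φ.dom) (hB : B ≤ φ.dom) : φ.im (A ⊔ B) = φ.im A ⊔ φ.im B := by
  obtain ⟨A, rfl⟩ := exists_lift hA; obtain ⟨B, rfl⟩ := exists_lift hB
  rw [← Subgroup.map_sup, im_map, im_map, im_map, Subgroup.map_sup]
theorem im_sup_ker (hA : A ≤ φ.dom) : φ.im (A ⊔ φ.ker) = φ.im A := by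
  rw [im_sup hA ker_le_dom, im_ker, sup_bot_eq]
theorem im_comm (hA : A ≤ φ.dom) (hB : B ≤ φ.dom) : φ.im ⁅A, B⁆ = ⁅φ.im A, φ.im B⁆ := by
  obtain ⟨A, rfl⟩ := exists_lift hA; obtain ⟨B, rfl⟩ := exists_lift hB
  rw [← map_commutator, im_map, im_map, im_map, map_commutator]
theorem im_der (hA : A ≤ φ.dom) : φ.im ⁅A, A⁆ = ⁅φ.im A, φ.im A⁆ := im_comm hA hA
theorem im_inf_le (A B : Subgroup G) : φ.im (A ⊓ B) ≤ φ.im A ⊓ φ.im B :=
  le_inf (im_mono inf_le_left) (im_mono inf_le_right)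
theorem im_inf (hB : B ≤ φ.dom) (hK : φ.ker ≤ B) : φ.im (A ⊓ B) = φ.im A ⊓ φ.im B :=
  le_antisymm (im_inf_le _ _) fun y hy => by
    obtain ⟨x, hx, hx', rfl⟩ := mem_im.1 hy.1
    exact app_mem_im ⟨hx, (app_mem_iff hx' hB hK).1 hy.2⟩ hx'
theorem im_inf' (hA : A ≤ φ.dom) (hK : φ.ker ≤ A) : φ.im (A ⊓ B) = φ.im A ⊓ φ.im B := by
  rw [inf_comm, im_inf hA hK, inf_comm]
theorem im_inf_pre (A : Subgroup G) (B : Subgroup G') : φ.im (A ⊓ φ.pre B) = φ.im A ⊓ B :=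
  le_antisymm ((im_inf_le _ _).trans (inf_le_inf_left _ (im_pre_le _))) fun y hy => by
    obtain ⟨x, hx, hx', rfl⟩ := mem_im.1 hy.1
    exact app_mem_im ⟨hx, mem_pre.2 ⟨hx', hy.2⟩⟩ hx'
theorem pre_inf (A B : Subgroup G') : φ.pre (A ⊓ B) = φ.pre A ⊓ φ.pre B := by
  ext x; simp only [mem_pre, mem_inf]; tauto
theorem pre_sup (hA : A' ≤ φ.im φ.dom) (hB : B' ≤ φ.im φ.dom) : φ.pre (A' ⊔ B') = φ.pre A' ⊔ φ.pre B' :=
  im_inj (pre_le_dom _) (sup_le (pre_le_dom _) (pre_le_dom _)) (ker_le_pre _)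
    ((ker_le_pre _).trans le_sup_left) (by
      rw [im_sup (pre_le_dom _) (pre_le_dom _), im_pre hA, im_pre hB, im_pre (sup_le hA hB)])
theorem im_le_dom (A : Subgroup G) : φ.im A ≤ φ.im φ.dom := by rw [← im_inf_dom]; exact im_mono inf_le_right
theorem im_cj (hg : g ∈ φ.dom) (A : Subgroup G) : φ.im (cj g A) = cj (φ.app g) (φ.im A) := by
  ext y
  rw [mem_cj, mem_im, mem_im]
  constructor
  · rintro ⟨x, h1, h2, rfl⟩
    refine ⟨_, mem_cj.1 h1, mul_mem (mul_mem (inv_mem hg) h2) hg, ?_⟩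
    rw [app_mul (mul_mem (inv_mem hg) h2) hg, app_mul (inv_mem hg) h2, app_inv hg]
  · rintro ⟨x, h1, h2, e⟩
    refine ⟨_, mem_cj_conj.2 h1, mul_mem (mul_mem hg h2) (inv_mem hg), ?_⟩
    rw [app_conj hg h2, e]; group
theorem im_zpowers (hx : x ∈ φ.dom) : φ.im (zpowers x) = zpowers (φ.app x) := by
  have : zpowers x = (zpowers (⟨x, hx⟩ : φ.dom)).map φ.dom.subtype := by rw [MonoidHom.map_zpowers]; rfl
  rw [this, im_map, MonoidHom.map_zpowers, app_eq hx]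
theorem im_norm (h : X ≤ N[A]) : φ.im X ≤ N[φ.im A] := norm_map (norm_comap h _) _
theorem app_mem_N (h : x ∈ N[A]) (hx : x ∈ φ.dom) : φ.app x ∈ N[φ.im A] :=
  im_norm le_rfl (app_mem_im h hx)
theorem im_cent (h : X ≤ C[A]) : φ.im X ≤ C[φ.im A] := by
  rw [← im_inf_dom X, ← im_inf_dom A, ← comm_eq_bot, ← im_comm inf_le_right inf_le_right,
    comm_eq_bot.2 (centSS h inf_le_left inf_le_left), im_bot]
theorem im_C1 (hx : x ∈ φ.dom) (h : X ≤ C1[x]) : φ.im X ≤ C1[φ.app x] := by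
  rw [← C_zpowers, ← im_zpowers hx]; exact im_cent (by rwa [C_zpowers])
theorem pre_norm (h : X' ≤ N[A']) : φ.pre X' ≤ N[φ.pre A'] := norm_map (norm_comap h _) _
theorem norm_pre (hX : X ≤ φ.dom) (h : φ.im X ≤ N[A']) : X ≤ N[φ.pre A'] := (le_pre_im hX).trans (pre_norm h)
theorem norm_of_im (hX : X ≤ φ.dom) (hA : A ≤ φ.dom) (hK : φ.ker ≤ A) (h : φ.im X ≤ N[φ.im A]) : X ≤ N[A] :=
  pre_im_of_le hA hK ▸ norm_pre hX h
theorem norm_sup_ker (hX : X ≤ φ.dom) (hA : A ≤ φ.dom) (h : φ.im X ≤ N[φ.im A]) : X ≤ N[A ⊔ φ.ker] :=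
  pre_im hA ▸ norm_pre hX h
theorem cent_im_iff (hX : X ≤ φ.dom) (hA : A ≤ φ.dom) : φ.im X ≤ C[φ.im A] ↔ ⁅X, A⁆ ≤ φ.ker := by
  rw [← comm_eq_bot, ← im_comm hX hA, im_eq_bot_iff (comm_le hX hA)]
theorem abel_im_iff (hA : A ≤ φ.dom) : Abel (φ.im A) ↔ ⁅A, A⁆ ≤ φ.ker := cent_im_iff hA hA
theorem im_Z_le (A : Subgroup G) : φ.im Z[A] ≤ Z[φ.im A] := le_inf (im_mono inf_le_left) (im_cent inf_le_right)
theorem im_IC_le (A B : Subgroup G) : φ.im (A ⊓ C[B]) ≤ φ.im A ⊓ C[φ.im B] :=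
  le_inf (im_mono inf_le_left) (im_cent inf_le_right)
theorem im_IN_le (A B : Subgroup G) : φ.im (A ⊓ N[B]) ≤ φ.im A ⊓ N[φ.im B] :=
  le_inf (im_mono inf_le_left) (im_norm inf_le_right)
theorem im_IN (hA : A ≤ φ.dom) (hB : B ≤ φ.dom) (hK : φ.ker ≤ B) : φ.im (A ⊓ N[B]) = φ.im A ⊓ N[φ.im B] :=
  le_antisymm (im_IN_le _ _) fun y hy => by
    obtain ⟨x, hx, rfl⟩ := (mem_im' hA).1 hy.1
    refine app_mem_im ⟨hx, zpowers_le.1 (norm_of_im (zpowers_le.2 (hA hx)) hB hK ?_)⟩ (hA hx)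
    rw [im_zpowers (hA hx)]; exact zpowers_le.2 hy.2

/-- the restriction to a subgroup of the domain -/
def res (hA : A ≤ φ.dom) : A →* φ.im A :=
  (φ.hom.subgroupMap (A.subgroupOf φ.dom)).comp (subgroupOfEquivOfLe hA).symm.toMonoidHom
theorem res_coe (hA : A ≤ φ.dom) (x : A) : (res hA x : G') = φ.app x := (app_eq (hA x.2)).symm
theorem res_surj (hA : A ≤ φ.dom) : Function.Surjective (res hA) :=
  (φ.hom.subgroupMap_surjective _).comp (subgroupOfEquivOfLe hA).symm.surjective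
theorem res_ker (hA : A ≤ φ.dom) : (res hA).ker = φ.ker.subgroupOf A := by
  ext x; rw [MonoidHom.mem_ker, Subtype.ext_iff, res_coe, mem_subgroupOf, mem_ker]; simp [hA x.2]
theorem res_inj (hA : A ≤ φ.dom) (h : A ⊓ φ.ker = ⊥) : Function.Injective (res hA) := by
  rw [← MonoidHom.ker_eq_bot_iff, res_ker, subgroupOf_eq_bot, disjoint_iff, inf_comm, h]
noncomputable def equiv (hA : A ≤ φ.dom) (h : A ⊓ φ.ker = ⊥) : A ≃* φ.im A :=
  MulEquiv.ofBijective (res hA) ⟨res_inj hA h, res_surj hA⟩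
/-- images under two maps with the same kernel are isomorphic -/
theorem exists_equiv_im {ψ : PHom G G''} (hA : A ≤ φ.dom) (hA' : A ≤ ψ.dom) (h : A ⊓ φ.ker = A ⊓ ψ.ker) :
    Nonempty (φ.im A ≃* ψ.im A) := by
  have e : (res hA).ker = (res hA').ker := by
    rw [res_ker, res_ker, ← inf_subgroupOf_left, h, inf_subgroupOf_left]
  exact ⟨(QuotientGroup.quotientKerEquivOfSurjective _ (res_surj hA)).symm.trans
    ((QuotientGroup.quotientMulEquivOfEq e).trans (QuotientGroup.quotientKerEquivOfSurjective _ (res_surj hA')))⟩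
theorem card_im (hA : A ≤ φ.dom) : #(φ.im A) = φ.ker.relIndex A := by
  rw [Subgroup.relIndex, ← res_ker hA, index_ker, MonoidHom.range_eq_top.2 (res_surj hA), card_top]
theorem card_im_dvd (A : Subgroup G) : #(φ.im A) ∣ #A :=
  (card_map_dvd _ _).trans (Core.card_subgroupOf_dvd _ _)
theorem card_im_inj (hA : A ≤ φ.dom) (h : A ⊓ φ.ker = ⊥) : #(φ.im A) = #A :=
  (Nat.card_congr (equiv hA h).toEquiv).symm
theorem relIndex_im (hA : A ≤ φ.dom) (hB : B ≤ φ.dom) (hK : φ.ker ≤ A) :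
    (φ.im A).relIndex (φ.im B) = A.relIndex B := by
  obtain ⟨A, rfl⟩ := exists_lift hA; obtain ⟨B, rfl⟩ := exists_lift hB
  rw [im_map, im_map, relIndex_map_map_of_injective _ _ φ.dom.subtype_injective, ← relIndex_comap,
    comap_map_eq_self ((map_le_map_iff_of_injective φ.dom.subtype_injective).1 hK)]
theorem relIndex_pre (B : Subgroup G') (hA : A ≤ φ.dom) : (φ.pre B).relIndex A = B.relIndex (φ.im A) := by
  obtain ⟨A, rfl⟩ := exists_lift hA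
  rw [im_map, pre, relIndex_map_map_of_injective _ _ φ.dom.subtype_injective, relIndex_comap]
theorem relIndex_im_dvd (hAB : A ≤ B) (hB : B ≤ φ.dom) : (φ.im A).relIndex (φ.im B) ∣ A.relIndex B := by
  rw [← relIndex_pre _ hB]; exact relIndex_dvd_of_le_left _ (le_pre_im (hAB.trans hB))
theorem orderOf_app_dvd (hx : x ∈ φ.dom) : orderOf (φ.app x) ∣ orderOf x :=
  orderOf_dvd_of_pow_eq_one (by rw [← app_pow hx, pow_orderOf_eq_one, app_one])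
theorem card_pre [Finite G] (h : B' ≤ φ.im φ.dom) : #(φ.pre B') = #φ.ker * #B' := by
  rw [← card_mul_relIndex (ker_le_pre B'), ← card_im (pre_le_dom _), im_pre h]
theorem card_im_lt [Finite G] (hA : A ≤ φ.dom) (h : A ⊓ φ.ker ≠ ⊥) : #(φ.im A) < #A := by
  rw [card_im hA, ← card_inf_mul_relIndex φ.ker A, inf_comm]
  have := one_lt_card h; have := relIndex_pos φ.ker A; nlinarith
theorem card_im_mul [Finite G] (hA : A ≤ φ.dom) : #(A ⊓ φ.ker) * #(φ.im A) = #A := by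
  rw [card_im hA, inf_comm, card_inf_mul_relIndex]
end PHom

open PHom
section
variable {φ : PHom G G'} {A B D H K L M P Q U V X Y : Subgroup G} {x y g : G} {π ρ : Set ℕ} {p n : ℕ}
  {A' B' H' M' X' : Subgroup G'}
theorem Sol.im (h : Sol A) (φ : PHom G G') : Sol (φ.im A) := Sol.map (Core.isSolvable_subgroupOf h _) _
theorem Nil.im (h : Nil A) (φ : PHom G G') : Nil (φ.im A) := Nil.map (Core.isNilpotent_subgroupOf h _) _
theorem Abel.im (h : Abel A) (φ : PHom G G') : Abel (φ.im A) := im_cent h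
theorem Cyc.im (h : Cyc A) (φ : PHom G G') : Cyc (φ.im A) := by
  rw [← im_inf_dom]
  haveI : IsCyclic ↥(A ⊓ φ.dom) := h.of_le inf_le_left
  exact isCyclic_of_surjective _ (res_surj inf_le_right)
theorem PiG.im (h : PiG π A) (φ : PHom G G') : PiG π (φ.im A) := h.of_dvd (card_im_dvd A)
theorem PiE.app (h : PiE π x) (hx : x ∈ φ.dom) : PiE π (φ.app x) := h.of_dvd (orderOf_app_dvd hx)
theorem Hall.im (h : Hall π H M) (hM : M ≤ φ.dom) : Hall π (φ.im H) (φ.im M) :=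
  ⟨im_mono h.le, h.pi.im φ, h.idx.of_dvd (relIndex_im_dvd h.le hM)⟩
theorem IsProd.im (h : IsProd A B M) (hM : M ≤ φ.dom) : IsProd (φ.im A) (φ.im B) (φ.im M) :=
  ⟨im_mono h.left, im_mono h.right, fun y hy => by
    obtain ⟨m, hm, rfl⟩ := (mem_im' hM).1 hy
    obtain ⟨a, ha, b, hb, rfl⟩ := h.ex m hm
    exact ⟨_, app_mem_im ha (hM (h.left ha)), _, app_mem_im hb (hM (h.right hb)),
      app_mul (hM (h.left ha)) (hM (h.right hb))⟩⟩
theorem Sdprod.im (h : Sdprod K H M) (hM : M ≤ φ.dom) (hK : φ.ker ≤ K) :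
    Sdprod (φ.im K) (φ.im H) (φ.im M) :=
  ⟨(h.prod.im hM).sup, by rw [← im_inf' (h.left.trans hM) hK, h.inf, im_bot], im_norm h.norm⟩
theorem Sdprod.im_r (h : Sdprod K H M) (hM : M ≤ φ.dom) (hK : φ.ker ≤ H) :
    Sdprod (φ.im K) (φ.im H) (φ.im M) :=
  ⟨(h.prod.im hM).sup, by rw [← im_inf (h.right.trans hM) hK, h.inf, im_bot], im_norm h.norm⟩
theorem sol_of_im (hA : A ≤ φ.dom) (h1 : Sol (A ⊓ φ.ker)) (h2 : Sol (φ.im A)) : Sol A := by
  haveI : Group.IsSolvable (res hA).ker := by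
    rw [res_ker, ← inf_subgroupOf_left]; exact Core.isSolvable_subgroupOf h1 _
  exact Group.isSolvable_of_ker_le_range (res hA).ker.subtype (res hA) (by simp)
theorem sol_pre (h1 : Sol φ.ker) (h2 : Sol A') : Sol (φ.pre A') :=
  sol_of_im (pre_le_dom _) (h1.of_le inf_le_right) (h2.of_le (im_pre_le _))
theorem nil_of_im_inj (hA : A ≤ φ.dom) (h1 : A ⊓ φ.ker = ⊥) (h2 : Nil (φ.im A)) : Nil A :=
  h2.equiv (equiv hA h1).symm
theorem cyc_of_im_inj (hA : A ≤ φ.dom) (h1 : A ⊓ φ.ker = ⊥) (h2 : Cyc (φ.im A)) : Cyc A :=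
  h2.equiv (equiv hA h1).symm
theorem abel_of_im_inj (hA : A ≤ φ.dom) (h1 : A ⊓ φ.ker = ⊥) (h2 : Abel (φ.im A)) : Abel A :=
  h2.equiv (equiv hA h1).symm
theorem nil_of_im_cent (hA : A ≤ φ.dom) (h1 : A ⊓ φ.ker ≤ C[A]) (h2 : Nil (φ.im A)) : Nil A := by
  refine Subgroup.isNilpotent_of_ker_le_center (res hA) ?_
  rw [res_ker]; intro x hx
  rw [mem_center_iff]; intro y
  exact Subtype.ext (mem_C.1 (h1 ⟨x.2, hx⟩) y y.2)
theorem abel_of_cyc_im (hA : A ≤ φ.dom) (h1 : A ⊓ φ.ker ≤ C[A]) (h2 : Cyc (φ.im A)) : Abel A := by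
  refine abel_of ⟨⟨commutative_of_cyclic_center_quotient (res hA) ?_⟩⟩
  rw [res_ker]; intro x hx
  rw [mem_center_iff]; intro y
  exact Subtype.ext (mem_C.1 (h1 ⟨x.2, hx⟩) y y.2)

variable [Finite G]
theorem pig_im_iff (hA : A ≤ φ.dom) : PiG π (φ.im A) ↔ PiN π (φ.ker.relIndex A) := by rw [PiG, card_im hA]
theorem pig_of_im (hA : A ≤ φ.dom) (h1 : PiG π (A ⊓ φ.ker)) (h2 : PiG π (φ.im A)) : PiG π A := by
  rw [PiG, ← card_im_mul hA]; exact h1.mul h2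
theorem pig_pre (h1 : PiG π φ.ker) (h2 : PiG π A') : PiG π (φ.pre A') :=
  pig_of_im (pre_le_dom _) (h1.of_le inf_le_right) (h2.of_le (im_pre_le _))
theorem Hall.pre (h : Hall π H' (φ.im M)) (hM : M ≤ φ.dom) (hK : φ.ker ≤ M) (h1 : PiG π φ.ker) :
    Hall π (φ.pre H') M :=
  ⟨pre_le_of_le_im hM hK h.le, pig_pre h1 h.pi, by rw [relIndex_pre _ hM]; exact h.idx⟩
theorem hall_of_im (hM : M ≤ φ.dom) (hH : H ≤ M) (hK : φ.ker ≤ H) (h1 : PiG π φ.ker)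
    (h : Hall π (φ.im H) (φ.im M)) : Hall π H M :=
  pre_im_of_le (hH.trans hM) hK ▸ h.pre hM (hK.trans hH) h1
/-- a Hall subgroup of the preimage maps onto a `π`-group -/
theorem Hall.im_eq [Finite G'] (h : Hall π H M) (hM : M ≤ φ.dom) (h2 : PiG π (φ.im M)) : φ.im H = φ.im M :=
  (h.im hM).eq_of_pig h2
theorem Sdprod.im_cop (h : Sdprod K H M) (hM : M ≤ φ.dom) (hc : (#K).Coprime #H) :
    Sdprod (φ.im K) (φ.im H) (φ.im M) :=
  ⟨(h.prod.im hM).sup, inf_eq_bot_of_coprime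
    ((hc.coprime_dvd_left (card_im_dvd _)).coprime_dvd_right (card_im_dvd _)), im_norm h.norm⟩
omit [Finite G] in
theorem cop_im (hc : (#K).Coprime #H) (φ : PHom G G') : (#(φ.im K)).Coprime #(φ.im H) :=
  (hc.coprime_dvd_left (card_im_dvd _)).coprime_dvd_right (card_im_dvd _)
theorem im_O_le (π : Set ℕ) (A : Subgroup G) : φ.im O[π](A) ≤ O[π](φ.im A) :=
  le_O (im_mono (O_le _ _)) (im_norm (O_norm _ _)) ((O_pig _ _).im φ)
theorem im_F_le (A : Subgroup G) : φ.im F[A] ≤ F[φ.im A] :=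
  le_F (im_mono (F_le _)) (im_norm (F_norm _)) ((F_nil _).im φ)
theorem im_O [Finite G'] (hA : A ≤ φ.dom) (h : PiG π (A ⊓ φ.ker)) : φ.im O[π](A) = O[π](φ.im A) := by
  apply le_antisymm (im_O_le _ _)
  rw [← im_pre_inf (O_le π (φ.im A))]
  refine im_mono (le_O inf_le_right (normI (norm_pre hA (O_norm _ _)) (normG A)) ?_)
  exact pig_of_im (inf_le_right.trans hA) (h.of_le (inf_le_inf_right _ inf_le_right))
    (by rw [im_pre_inf (O_le π (φ.im A))]; exact O_pig _ _)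
theorem pre_O [Finite G'] (hA : A ≤ φ.dom) (hK : φ.ker ≤ A) (h : PiG π φ.ker) :
    φ.pre O[π](φ.im A) = O[π](A) := by
  rw [← im_O hA (h.of_le inf_le_right),
    pre_im_of_le ((O_le _ _).trans hA) (le_O hK (hA.trans dom_norm_ker) h)]
theorem im_F_inj [Finite G'] (hA : A ≤ φ.dom) (h : A ⊓ φ.ker = ⊥) : φ.im F[A] = F[φ.im A] := by
  apply le_antisymm (im_F_le _)
  rw [← im_pre_inf (F_le (φ.im A))]
  refine im_mono (le_F inf_le_right (normI (norm_pre hA (F_norm _)) (normG A)) ?_)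
  exact nil_of_im_inj (inf_le_right.trans hA) (by rw [inf_assoc, h, inf_bot_eq])
    (by rw [im_pre_inf (F_le (φ.im A))]; exact F_nil _)
/-- coprime centralizers in images -/
theorem im_IC (hA : A ≤ φ.dom) (hH : H ≤ φ.dom) (hAH : A ≤ N[H ⊓ φ.ker]) (hc : (#A).Coprime #(H ⊓ φ.ker))
    (hs : Sol A ∨ Sol (H ⊓ φ.ker)) (hn : A ≤ N[H]) : φ.im (H ⊓ C[A]) = φ.im H ⊓ C[φ.im A] := by
  apply le_antisymm (im_IC_le _ _)
  have h1 : ⁅H ⊓ φ.pre C[φ.im A], A⁆ ≤ H ⊓ φ.ker :=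
    le_inf ((commS inf_le_left le_rfl).trans (commL hn))
      ((cent_im_iff (inf_le_left.trans hH) hA).1 ((im_mono inf_le_right).trans (im_pre_le _)))
  have h2 := cop_prod_of_comm_le hAH hc hs (inf_le_inf_left H (ker_le_pre _)) h1
  rw [← im_inf_pre, ← h2.sup, im_sup (inf_le_left.trans (inf_le_left.trans hH)) (inf_le_left.trans hH),
    (im_eq_bot_iff (inf_le_left.trans hH)).2 inf_le_right, sup_bot_eq]
  exact im_mono (inf_le_inf_right _ inf_le_left)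
theorem im_IC' (hA : A ≤ φ.dom) (hH : H ≤ φ.dom) (hK : φ.ker ≤ H) (hc : (#A).Coprime #φ.ker)
    (hs : Sol A ∨ Sol φ.ker) : φ.im (H ⊓ C[A]) = φ.im H ⊓ C[φ.im A] := by
  apply le_antisymm (im_IC_le _ _)
  have h1 : ⁅H ⊓ φ.pre C[φ.im A], A⁆ ≤ φ.ker :=
      ((cent_im_iff (inf_le_left.trans hH) hA).1 ((im_mono inf_le_right).trans (im_pre_le _)))
  have h2 := cop_prod_of_comm_le (hA.trans dom_norm_ker) hc hs (le_inf hK (ker_le_pre _)) h1
  rw [← im_inf_pre, ← h2.sup, im_sup (inf_le_left.trans (inf_le_left.trans hH)) ker_le_dom, im_ker, sup_bot_eq]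
  exact im_mono (inf_le_inf_right _ inf_le_left)
/-- coprime normalizers in images -/
theorem im_IN_cop (hA : A ≤ φ.dom) (hH : H ≤ φ.dom) (hK : φ.ker ≤ H) (hc : (#A).Coprime #φ.ker)
    (hs : Sol A ∨ Sol φ.ker) : φ.im (H ⊓ N[A]) = φ.im H ⊓ N[φ.im A] := by
  apply le_antisymm (im_IN_le _ _)
  intro y hy
  obtain ⟨x, hx, rfl⟩ := (mem_im' hH).1 hy.1
  have h1 : x ∈ N[A ⊔ φ.ker] := zpowers_le.1 (norm_sup_ker (zpowers_le.2 (hH hx)) hA (by
    rw [im_zpowers (hH hx)]; exact zpowers_le.2 hy.2))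
  obtain ⟨k, hk, h2⟩ := sz_sub (B := cj x A) (hA.trans dom_norm_ker)
    (by rw [sup_comm]; exact cj_le_of_mem le_sup_left h1) hc (by rwa [card_cj]) (by tauto)
  have h3 : k⁻¹ * x ∈ N[A] := mem_N_of_cj_le (by rw [cj_mul]; exact le_cj_iff.1 h2)
  refine mem_im.2 ⟨k⁻¹ * x, ⟨H.mul_mem (H.inv_mem (hK hk)) hx, h3⟩, hH (H.mul_mem (H.inv_mem (hK hk)) hx), ?_⟩
  rw [app_mul (inv_mem (ker_le_dom hk)) (hH hx), app_inv (ker_le_dom hk), (mem_ker.1 hk).2]; simp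
end

/-! ### quotients -/
/-- the quotient `N_G(K) / K` -/
def Quo {G : Type u} [Group G] (K : Subgroup G) : Type u := N[K] ⧸ K.subgroupOf N[K]
instance instGroupQuo (K : Subgroup G) : Group (Quo K) :=
  inferInstanceAs (Group (N[K] ⧸ K.subgroupOf N[K]))
instance instFiniteQuo [Finite G] (K : Subgroup G) : Finite (Quo K) :=
  inferInstanceAs (Finite (N[K] ⧸ K.subgroupOf N[K]))
def quo (K : Subgroup G) : PHom G (Quo K) := ⟨N[K], QuotientGroup.mk' (K.subgroupOf N[K])⟩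
scoped notation:70 A:70 " ÷ " K:71 => PHom.im (quo K) A
@[simp] theorem quo_dom (K : Subgroup G) : (quo K).dom = N[K] := rfl
@[simp] theorem quo_ker (K : Subgroup G) : (quo K).ker = K := by
  rw [ker_eq]
  exact (congrArg _ (QuotientGroup.ker_mk' (K.subgroupOf N[K]))).trans (map_subgroupOf_eq_of_le (normG K))
theorem quo_top (K : Subgroup G) : N[K] ÷ K = ⊤ := by
  rw [eq_top_iff]; intro y _
  obtain ⟨x, rfl⟩ := QuotientGroup.mk'_surjective (K.subgroupOf N[K]) y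
  exact ⟨x, x.2, rfl⟩
/-- the restriction to a subgroup, as a partial map onto the subgroup seen as a type -/
def rst (H : Subgroup G) : PHom G H := ⟨H, MonoidHom.id H⟩
@[simp] theorem rst_dom (H : Subgroup G) : (rst H).dom = H := rfl
@[simp] theorem rst_ker (H : Subgroup G) : (rst H).ker = ⊥ := by
  rw [ker_eq]; exact (congrArg _ (MonoidHom.ker_id)).trans (Subgroup.map_bot _)
theorem rst_im (H A : Subgroup G) : (rst H).im A = A.subgroupOf H := Subgroup.map_id _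
theorem rst_pre (H : Subgroup G) (A : Subgroup H) : (rst H).pre A = A.map H.subtype :=
  congrArg _ (Subgroup.comap_id _)
theorem rst_im_self (H : Subgroup G) : (rst H).im H = ⊤ := by rw [rst_im, subgroupOf_self]
/-- a quotient of a subgroup seen as a type -/
def mquo (H : Subgroup G) (K : Subgroup H) [K.Normal] : PHom G (H ⧸ K) := ⟨H, QuotientGroup.mk' K⟩
@[simp] theorem mquo_dom (H : Subgroup G) (K : Subgroup H) [K.Normal] : (mquo H K).dom = H := rfl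
theorem mquo_ker (H : Subgroup G) (K : Subgroup H) [K.Normal] : (mquo H K).ker = K.map H.subtype := by
  rw [ker_eq]; exact congrArg _ (QuotientGroup.ker_mk' K)
theorem mquo_top (H : Subgroup G) (K : Subgroup H) [K.Normal] : (mquo H K).im H = ⊤ := by
  rw [eq_top_iff]; intro y _
  obtain ⟨x, rfl⟩ := QuotientGroup.mk'_surjective K y
  exact ⟨x, x.2, rfl⟩
/-- a total homomorphism -/
def tot (f : G →* G') : PHom G G' := ⟨⊤, f.comp (⊤ : Subgroup G).subtype⟩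
@[simp] theorem tot_dom (f : G →* G') : (tot f).dom = ⊤ := rfl
theorem tot_app (f : G →* G') (x : G) : (tot f).app x = f x := app_eq (mem_top x)
theorem tot_im (f : G →* G') (A : Subgroup G) : (tot f).im A = A.map f := by
  ext y; rw [mem_im' le_top]; simp [tot_app]
theorem tot_pre (f : G →* G') (A : Subgroup G') : (tot f).pre A = A.comap f := by
  ext y; rw [mem_pre]; simp [tot_app]
theorem tot_ker (f : G →* G') : (tot f).ker = f.ker := tot_pre f ⊥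
/-- composition -/
def PHom.comp (ψ : PHom G' G'') (φ : PHom G G') : PHom G G'' :=
  ⟨φ.pre ψ.dom, ψ.hom.comp ((inclusion (im_pre_le ψ.dom)).comp (res (pre_le_dom _)))⟩
theorem PHom.comp_dom (ψ : PHom G' G'') (φ : PHom G G') : (ψ.comp φ).dom = φ.pre ψ.dom := rfl
theorem PHom.comp_app (ψ : PHom G' G'') (φ : PHom G G') {x : G} (hx : x ∈ φ.pre ψ.dom) :
    (ψ.comp φ).app x = ψ.app (φ.app x) := by
  rw [app_eq (φ := ψ.comp φ) hx, app_eq (mem_pre.1 hx).2]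
  exact congrArg ψ.hom (Subtype.ext (res_coe (pre_le_dom _) ⟨x, hx⟩))
theorem PHom.comp_im (ψ : PHom G' G'') (φ : PHom G G') (A : Subgroup G) :
    (ψ.comp φ).im A = ψ.im (φ.im A) := by
  ext z; simp only [mem_im, comp_dom]
  constructor
  · rintro ⟨x, h1, h2, rfl⟩
    exact ⟨_, ⟨x, h1, (mem_pre.1 h2).1, rfl⟩, (mem_pre.1 h2).2, (comp_app ψ φ h2).symm⟩
  · rintro ⟨_, ⟨x, h1, h2, rfl⟩, h3, rfl⟩
    exact ⟨x, h1, mem_pre.2 ⟨h2, h3⟩, comp_app ψ φ (mem_pre.2 ⟨h2, h3⟩)⟩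
theorem PHom.comp_ker (ψ : PHom G' G'') (φ : PHom G G') : (ψ.comp φ).ker = φ.pre ψ.ker := by
  ext x; simp only [mem_ker, mem_pre (B' := ψ.ker), comp_dom]
  constructor
  · rintro ⟨h1, h2⟩; exact ⟨(mem_pre.1 h1).1, (mem_pre.1 h1).2, comp_app ψ φ h1 ▸ h2⟩
  · rintro ⟨h1, h2, h3⟩; exact ⟨mem_pre.2 ⟨h1, h2⟩, (comp_app ψ φ (mem_pre.2 ⟨h1, h2⟩)).trans h3⟩

section
variable {φ : PHom G G'} {ψ : PHom G G''} {A B D H K L M P Q U V X Y : Subgroup G} {x y g : G} {π ρ : Set ℕ} {p n : ℕ}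
/-- if `ψ` kills more of `A` than `φ`, then `ψ A` is a homomorphic image of `φ A` -/
theorem exists_surj_im (hA : A ≤ φ.dom) (hA' : A ≤ ψ.dom) (h : A ⊓ φ.ker ≤ ψ.ker) :
    ∃ f : φ.im A →* ψ.im A, Function.Surjective f := by
  have e : (res hA).ker ≤ (res hA').ker := by
    rw [res_ker, res_ker, ← inf_subgroupOf_left]; exact comap_mono h
  refine ⟨(res hA).liftOfSurjective (res_surj hA) ⟨res hA', e⟩, fun y => ?_⟩
  obtain ⟨x, rfl⟩ := res_surj hA' y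
  exact ⟨res hA x, by simp⟩
theorem nil_im_of_ker_le (hA : A ≤ φ.dom) (hA' : A ≤ ψ.dom) (h : A ⊓ φ.ker ≤ ψ.ker) (h2 : Nil (φ.im A)) :
    Nil (ψ.im A) := by
  obtain ⟨f, hf⟩ := exists_surj_im hA hA' h; exact Group.nilpotent_of_surjective f hf
theorem cyc_im_of_ker_le (hA : A ≤ φ.dom) (hA' : A ≤ ψ.dom) (h : A ⊓ φ.ker ≤ ψ.ker) (h2 : Cyc (φ.im A)) :
    Cyc (ψ.im A) := by
  obtain ⟨f, hf⟩ := exists_surj_im hA hA' h; exact isCyclic_of_surjective f hf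
theorem quo_bot_iff (h : A ≤ N[K]) : A ÷ K = ⊥ ↔ A ≤ K := by rw [im_eq_bot_iff h, quo_ker]
theorem quo_self (K : Subgroup G) : K ÷ K = ⊥ := (quo_bot_iff (normG K)).2 le_rfl
theorem card_quo (h : A ≤ N[K]) : #(A ÷ K) = K.relIndex A := by rw [card_im h, quo_ker]
theorem quo_le_iff (hA : A ≤ N[K]) (hB : B ≤ N[K]) : A ÷ K ≤ B ÷ K ↔ A ≤ B ⊔ K := by
  rw [im_le_im_iff hA hB, quo_ker]
theorem quo_cent_iff (hA : A ≤ N[K]) (hB : B ≤ N[K]) : A ÷ K ≤ C[B ÷ K] ↔ ⁅A, B⁆ ≤ K := by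
  rw [cent_im_iff hA hB, quo_ker]
theorem quo_abel_iff (hA : A ≤ N[K]) : Abel (A ÷ K) ↔ ⁅A, A⁆ ≤ K := quo_cent_iff hA hA
theorem quo_sup_l (hA : A ≤ N[K]) : (K ⊔ A) ÷ K = A ÷ K := by
  rw [im_sup (normG K) hA, quo_self, bot_sup_eq]
theorem quo_sup_r (hA : A ≤ N[K]) : (A ⊔ K) ÷ K = A ÷ K := by rw [sup_comm, quo_sup_l hA]
theorem le_pre_quo (K : Subgroup G) (B : Subgroup (Quo K)) : K ≤ (quo K).pre B :=
  (quo_ker K).ge.trans (ker_le_pre B)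
theorem pre_quo (hA : A ≤ N[K]) : (quo K).pre (A ÷ K) = A ⊔ K := by rw [pre_im hA, quo_ker]
theorem quo_pre (B : Subgroup (Quo K)) : (quo K).pre B ÷ K = B := im_pre (A := N[K]) (quo_top K ▸ le_top)
theorem exists_quo_eq (hA : A ≤ N[K]) (hK : K ≤ A) {B' : Subgroup (Quo K)} (h : B' ≤ A ÷ K) :
    ∃ B, K ≤ B ∧ B ≤ A ∧ B ÷ K = B' := by
  simpa using exists_im_eq (φ := quo K) hA (by simpa) h
theorem Sdprod.quo_equiv (h : Sdprod K H M) : Nonempty (H ≃* M ÷ K) :=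
  ⟨(equiv (φ := quo K) h.norm (by rw [quo_ker, inf_comm, h.inf])).trans
    (MulEquiv.subgroupCongr (by rw [← h.sup, quo_sup_l h.norm]))⟩
theorem card_quo_lt [Finite G] (hA : A ≤ N[K]) (h : K ≤ A) (h1 : K ≠ ⊥) : #(A ÷ K) < #A :=
  card_im_lt hA (by rwa [quo_ker, inf_eq_right.2 h])
theorem three_subgroup_mod (hA : A ≤ N[K]) (hB : B ≤ N[K]) (hX : X ≤ N[K]) (h1 : ⁅⁅A, B⁆, X⁆ ≤ K)
    (h2 : ⁅⁅B, X⁆, A⁆ ≤ K) : ⁅⁅X, A⁆, B⁆ ≤ K := by
  rw [← quo_cent_iff (comm_le hA hB) hX, im_comm hA hB, ← comm_eq_bot] at h1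
  rw [← quo_cent_iff (comm_le hB hX) hA, im_comm hB hX, ← comm_eq_bot] at h2
  rw [← quo_cent_iff (comm_le hX hA) hB, im_comm hX hA, ← comm_eq_bot]
  exact three_subgroup h1 h2
theorem O_quo_O [Finite G] (π : Set ℕ) (H : Subgroup G) : O[π](H ÷ O[π](H)) = ⊥ := by
  rw [← im_O (O_norm π H) ((O_pig π H).of_le (by simp)), quo_self]
end

end Cfsg.Agent.BG
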