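import Cfsg.Agent.BG.Base4
import Cfsg.Agent.Core.Frobenius
/-!
Ambient-subgroup toolkit, part 5: elementary abelian subgroups, `Ω₁`, Frattini subgroup, ranks.
-/
set_option autoImplicit false

namespace Cfsg.Agent.BG
open Subgroup PHom

variable {G : Type*} [Group G] {G' : Type*} [Group G']
variable {A B D E H K L M P Q R U V X Y : Subgroup G} {x y g : G} {π ρ : Set ℕ} {p q m n : ℕ} {φ : PHom G G'}

/-! ### elementary abelian groups -/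
structure Abelem (p : ℕ) (E : Subgroup G) : Prop where
  abel : Abel E
  pow : ∀ x ∈ E, x ^ p = 1
theorem abelem_iff : Abelem p E ↔ IsElementaryAbelian p E :=
  ⟨fun h => ⟨h.1.comm, h.2⟩, fun h => ⟨abel_of h.1, h.2⟩⟩
theorem Abelem.of_le (h : Abelem p E) (hA : A ≤ E) : Abelem p A := ⟨h.1.of_le hA, fun x hx => h.2 x (hA hx)⟩
theorem abelem_bot (p : ℕ) : Abelem p (⊥ : Subgroup G) := ⟨abel_bot, by simp⟩
theorem Abelem.map (h : Abelem p E) (f : G →* G') : Abelem p (E.map f) :=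
  ⟨h.1.map f, by rintro _ ⟨x, hx, rfl⟩; rw [← map_pow, h.2 x hx, map_one]⟩
theorem Abelem.cj (h : Abelem p E) (g : G) : Abelem p (cj g E) := h.map _
theorem abelem_cj : Abelem p (cj g E) ↔ Abelem p E := ⟨fun h => by simpa using h.cj g⁻¹, fun h => h.cj g⟩
theorem Abelem.im (h : Abelem p E) (φ : PHom G G') : Abelem p (φ.im E) :=
  ⟨h.1.im φ, fun y hy => by
    obtain ⟨x, hx, h2, rfl⟩ := mem_im.1 hy; rw [← app_pow h2, h.2 x hx, app_one]⟩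
theorem Abelem.sup (hA : Abelem p A) (hB : Abelem p B) (h : A ≤ C[B]) : Abelem p (A ⊔ B) :=
  ⟨hA.1.sup hB.1 h, fun x hx => by
    obtain ⟨a, ha, b, hb, rfl⟩ := (mem_sup_r (cents_norm h)).1 hx
    rw [Commute.mul_pow (mem_C_comm h ha hb), hA.2 a ha, hB.2 b hb, one_mul]⟩
theorem abelem_zpowers (h : x ^ p = 1) : Abelem p (zpowers x) :=
  ⟨abel_zpowers x, by rintro _ ⟨k, rfl⟩; rw [← zpow_natCast, ← zpow_mul, mul_comm, zpow_mul, zpow_natCast, h, one_zpow]⟩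
theorem Abelem.equiv {E' : Subgroup G'} (h : Abelem p E) (e : E ≃* E') : Abelem p E' :=
  ⟨h.1.equiv e, fun y hy => by
    have : (e.symm ⟨y, hy⟩) ^ p = 1 := Subtype.ext (h.2 _ (e.symm ⟨y, hy⟩).2)
    rw [← map_pow, EmbeddingLike.map_eq_one_iff] at this
    exact congrArg Subtype.val this⟩
theorem abelem_map_inj {f : G →* G'} (hf : Function.Injective f) : Abelem p (E.map f) ↔ Abelem p E :=
  ⟨fun h => h.equiv (E.equivMapOfInjective f hf).symm, fun h => h.map f⟩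
theorem abelem_im_iff (hE : E ≤ φ.dom) : Abelem p (φ.im E) ↔ ⁅E, E⁆ ≤ φ.ker ∧ ∀ x ∈ E, x ^ p ∈ φ.ker := by
  rw [← abel_im_iff hE]
  refine ⟨fun h => ⟨h.1, fun x hx => mem_ker.2 ⟨pow_mem (hE hx) _, ?_⟩⟩, fun h => ⟨h.1, fun y hy => ?_⟩⟩
  · rw [app_pow (hE hx), h.2 _ (app_mem_im hx (hE hx))]
  · obtain ⟨x, hx, rfl⟩ := (mem_im' hE).1 hy; rw [← app_pow (hE hx), (mem_ker.1 (h.2 x hx)).2]
theorem pow_eq_one_of_card (h : #X = p) (hx : x ∈ X) : x ^ p = 1 :=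
  orderOf_dvd_iff_pow_eq_one.1 (h ▸ Subgroup.orderOf_dvd_natCard X hx)
theorem orderOf_of_pow (hp : p.Prime) (h : x ^ p = 1) (h1 : x ≠ 1) : orderOf x = p :=
  Core.orderOf_eq_prime_of_pow_eq_one hp h h1
theorem card_zpowers_of_pow (hp : p.Prime) (h : x ^ p = 1) (h1 : x ≠ 1) : #(zpowers x) = p := by
  rw [Nat.card_zpowers, orderOf_of_pow hp h h1]

/-- `E` is an elementary abelian subgroup of order `p ^ n` of `H` -/
structure PnElem (p n : ℕ) (E H : Subgroup G) : Prop where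
  le : E ≤ H
  ab : Abelem p E
  card : #E = p ^ n
/-- `E` is a maximal elementary abelian `p`-subgroup of `H` -/
structure PMax (p : ℕ) (E H : Subgroup G) : Prop where
  le : E ≤ H
  ab : Abelem p E
  max : ∀ B, B ≤ H → Abelem p B → E ≤ B → B = E
theorem PnElem.mono (h : PnElem p n E H) (h2 : H ≤ K) : PnElem p n E K := ⟨h.1.trans h2, h.2, h.3⟩
theorem PnElem.sub (h : PnElem p n E H) (h2 : E ≤ K) : PnElem p n E K := ⟨h2, h.2, h.3⟩
theorem PnElem.self (h : PnElem p n E H) : PnElem p n E E := h.sub le_rfl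
theorem PnElem.top (h : PnElem p n E H) : PnElem p n E ⊤ := h.sub le_top
theorem PnElem.abel (h : PnElem p n E H) : Abel E := h.ab.abel
theorem PnElem.cj (h : PnElem p n E H) (g : G) : PnElem p n (cj g E) (cj g H) :=
  ⟨cj_mono g h.1, h.2.cj g, by rw [card_cj, h.3]⟩
theorem PnElem.pig (h : PnElem p n E H) (hp : p.Prime) : PiG {p} E := pig_of_card_pow hp h.3
theorem PMax.sub (h : PMax p E H) (h1 : E ≤ K) (h2 : K ≤ H) : PMax p E K :=
  ⟨h1, h.2, fun B hB => h.3 B (hB.trans h2)⟩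
theorem PMax.cj (h : PMax p E H) (g : G) : PMax p (cj g E) (cj g H) :=
  ⟨cj_mono g h.1, h.2.cj g, fun B h1 h2 h3 => by
    have := h.3 (BG.cj g⁻¹ B) (le_cj_iff.1 h1) (h2.cj _) (cj_le_iff.1 h3)
    rw [← this, cj_cj_inv]⟩
theorem PMax.mem (h : PMax p E H) (hx : x ∈ H) (hc : x ∈ C[E]) (hp : x ^ p = 1) : x ∈ E :=
  h.max _ (sup_le h.le (zpowers_le.2 hx)) (h.ab.sup (abelem_zpowers hp) (cent_symm (zpowers_le.2 hc)))
    le_sup_left ▸ mem_sup_right (mem_zpowers x)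
theorem PMax.le_of (h : PMax p E H) (h1 : B ≤ H) (h2 : B ≤ C[E]) (h3 : Abelem p B) : B ≤ E :=
  fun x hx => h.mem (h1 hx) (h2 hx) (h3.2 x hx)
theorem pmax_of (h1 : E ≤ H) (h2 : Abelem p E) (h : ∀ x ∈ H, x ∈ C[E] → x ^ p = 1 → x ∈ E) : PMax p E H :=
  ⟨h1, h2, fun B a b c => le_antisymm (fun x hx => h x (a hx) (centS c (b.1 hx)) (b.2 x hx)) c⟩

/-! ### `Ω₁` -/
theorem Om_le (p : ℕ) (H : Subgroup G) : Ω[p](H) ≤ H := (closure_le _).2 fun _ h => h.1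
theorem mem_Om (hx : x ∈ H) (h : x ^ p = 1) : x ∈ Ω[p](H) := subset_closure ⟨hx, h⟩
theorem Om_le_iff : Ω[p](H) ≤ K ↔ ∀ x ∈ H, x ^ p = 1 → x ∈ K := by
  rw [omegaOne, closure_le]; exact ⟨fun h x a b => h ⟨a, b⟩, fun h x a => h x a.1 a.2⟩
@[gcongr] theorem Om_mono (h : H ≤ K) : Ω[p](H) ≤ Ω[p](K) := Om_le_iff.2 fun _ a b => mem_Om (h a) b
theorem Abelem.le_Om (h : Abelem p E) (h2 : E ≤ H) : E ≤ Ω[p](H) := fun x hx => mem_Om (h2 hx) (h.2 x hx)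
theorem Abelem.Om_eq (h : Abelem p E) : Ω[p](E) = E := le_antisymm (Om_le _ _) (h.le_Om le_rfl)
theorem le_Om_of_card (h : #X = p) (h2 : X ≤ H) : X ≤ Ω[p](H) :=
  fun _ hx => mem_Om (h2 hx) (pow_eq_one_of_card h hx)
theorem Om_Om (p : ℕ) (H : Subgroup G) : Ω[p](Ω[p](H)) = Ω[p](H) :=
  le_antisymm (Om_le _ _) (Om_le_iff.2 fun _ a b => mem_Om (mem_Om a b) b)
theorem map_Om_le (f : G →* G') : Ω[p](H).map f ≤ Ω[p](H.map f) :=
  map_le_iff_le_comap.2 (Om_le_iff.2 fun x a b => mem_Om ⟨x, a, rfl⟩ (by rw [← map_pow, b, map_one]))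
theorem map_Om_inj {f : G →* G'} (hf : Function.Injective f) : Ω[p](H).map f = Ω[p](H.map f) :=
  le_antisymm (map_Om_le f) (Om_le_iff.2 (by
    rintro _ ⟨x, a, rfl⟩ b
    exact ⟨x, mem_Om a (hf (by rw [map_pow, b, map_one])), rfl⟩))
theorem cj_Om (g : G) (p : ℕ) (H : Subgroup G) : cj g Ω[p](H) = Ω[p](cj g H) := map_Om_inj (cj_inj g)
theorem normOm (p : ℕ) (h : X ≤ N[H]) : X ≤ N[Ω[p](H)] := norm_fun (fun H => Ω[p](H)) (fun g => cj_Om g p) h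
theorem Om_norm (p : ℕ) (H : Subgroup G) : H ≤ N[Ω[p](H)] := normOm p (normG H)
theorem im_Om_le : φ.im Ω[p](H ⊓ φ.dom) ≤ Ω[p](φ.im H) :=
  (le_pre_iff ((Om_le _ _).trans inf_le_right)).1 (Om_le_iff.2 fun x a b =>
    mem_pre.2 ⟨a.2, mem_Om (app_mem_im a.1 a.2) (by rw [← app_pow a.2, b, app_one])⟩)
theorem im_Om_le' (h : H ≤ φ.dom) : φ.im Ω[p](H) ≤ Ω[p](φ.im H) := by
  have := im_Om_le (φ := φ) (p := p) (H := H); rwa [inf_eq_left.2 h] at this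
theorem Abel.Om_abelem (h : Abel A) (p : ℕ) : Abelem p Ω[p](A) :=
  ⟨h.of_le (Om_le _ _), fun x hx =>
    (Core.mem_powKer.1 ((Om_le_iff (K := Core.powKer A h.comm p)).2 (fun _ a b => ⟨a, b⟩) hx)).2⟩
theorem Abel.mem_Om (h : Abel A) : x ∈ Ω[p](A) ↔ x ∈ A ∧ x ^ p = 1 :=
  ⟨fun hx => ⟨Om_le _ _ hx, (h.Om_abelem p).2 x hx⟩, fun h => BG.mem_Om h.1 h.2⟩
theorem Abel.pmax_Om (h : Abel A) (p : ℕ) : PMax p Ω[p](A) A :=
  pmax_of (Om_le _ _) (h.Om_abelem p) fun _ a _ b => BG.mem_Om a b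
theorem OmZ_abelem (p : ℕ) (H : Subgroup G) : Abelem p Ω[p](Z[H]) := (abel_Z H).Om_abelem p
theorem OmZ_le (p : ℕ) (H : Subgroup G) : Ω[p](Z[H]) ≤ H := (Om_le _ _).trans inf_le_left
theorem OmZ_cent (p : ℕ) (H : Subgroup G) : Ω[p](Z[H]) ≤ C[H] := (Om_le _ _).trans inf_le_right
theorem normOmZ (p : ℕ) (h : X ≤ N[H]) : X ≤ N[Ω[p](Z[H])] := normOm p (normZ h)
theorem PMax.OmZ_le (h : PMax p E H) : Ω[p](Z[H]) ≤ E :=
  h.le_of (BG.OmZ_le _ _) ((OmZ_cent _ _).trans (centS h.le)) (OmZ_abelem _ _)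
theorem PMax.Om_eq (h : PMax p E H) : Ω[p](H ⊓ C[E]) = E :=
  le_antisymm (Om_le_iff.2 fun _ a b => h.mem a.1 a.2 b) (h.ab.le_Om (le_inf h.le h.ab.1))
theorem Cyc.norm_sub (h : Cyc H) (h1 : X ≤ H) (h2 : A ≤ N[H]) : A ≤ N[X] :=
  h2.trans (Core.normalizer_le_normalizer_of_isCyclic h h1)

/-- the subgroup generated by the `p`-th powers -/
def Mho (p : ℕ) (H : Subgroup G) : Subgroup G := closure {y | ∃ x ∈ H, x ^ p = y}
theorem Mho_le_iff : Mho p H ≤ K ↔ ∀ x ∈ H, x ^ p ∈ K := by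
  rw [Mho, closure_le]; exact ⟨fun h x a => h ⟨x, a, rfl⟩, by rintro h _ ⟨x, a, rfl⟩; exact h x a⟩
theorem pow_mem_Mho (hx : x ∈ H) : x ^ p ∈ Mho p H := subset_closure ⟨x, hx, rfl⟩
theorem Mho_le (p : ℕ) (H : Subgroup G) : Mho p H ≤ H := Mho_le_iff.2 fun _ h => pow_mem h p
theorem Mho_mono (h : H ≤ K) : Mho p H ≤ Mho p K := Mho_le_iff.2 fun _ a => pow_mem_Mho (h a)
theorem map_Mho (f : G →* G') : (Mho p H).map f = Mho p (H.map f) :=
  le_antisymm (map_le_iff_le_comap.2 (Mho_le_iff.2 fun x a => by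
    rw [mem_comap, map_pow]; exact pow_mem_Mho ⟨x, a, rfl⟩))
    (Mho_le_iff.2 (by rintro _ ⟨x, a, rfl⟩; exact ⟨_, pow_mem_Mho a, map_pow _ _ _⟩))
theorem normMho (p : ℕ) (h : X ≤ N[H]) : X ≤ N[Mho p H] := norm_fun (Mho p) (fun _ _ => map_Mho _) h
theorem Abel.mem_Mho (h : Abel A) : y ∈ Mho p A ↔ ∃ x ∈ A, x ^ p = y := by
  refine ⟨fun hy => ?_, by rintro ⟨x, a, rfl⟩; exact pow_mem_Mho a⟩
  induction hy using closure_induction with
  | mem x hx => exact hx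
  | one => exact ⟨1, one_mem _, one_pow _⟩
  | mul x y _ _ hx hy =>
    obtain ⟨a, ha, rfl⟩ := hx; obtain ⟨b, hb, rfl⟩ := hy
    exact ⟨a * b, mul_mem ha hb, Commute.mul_pow (mem_C_comm h ha hb) p⟩
  | inv x _ hx => obtain ⟨a, ha, rfl⟩ := hx; exact ⟨a⁻¹, inv_mem ha, inv_pow a p⟩

/-! ### Frattini subgroup -/
scoped notation:max "Φ[" H "]" => Cfsg.Agent.PLoc.frattiniOf H
theorem Phi_le (H : Subgroup G) : Φ[H] ≤ H := PLoc.frattiniOf_le H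

section fin
variable [Finite G]
theorem Abelem.pig (h : Abelem p E) (hp : p.Prime) : PiG {p} E := pig_of_elts fun x hx => pie_of_pow hp (h.2 x hx)
theorem abelem_of_card (hp : p.Prime) (h : #X = p) : Abelem p X :=
  ⟨(cyc_of_prime (h ▸ hp)).abel, fun _ hx => pow_eq_one_of_card h hx⟩
theorem pnElem_one (hp : p.Prime) (h : #X = p) (h1 : X ≤ H) : PnElem p 1 X H :=
  ⟨h1, abelem_of_card hp h, by rw [h, pow_one]⟩
theorem Abelem.exists_pnElem (h : Abelem p E) (hp : p.Prime) : ∃ n, PnElem p n E E := by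
  obtain ⟨n, hn⟩ := (h.pig hp).card_pow hp; exact ⟨n, le_rfl, h, hn⟩
theorem PnElem.exists_sub (h : PnElem p n E H) (hp : p.Prime) (hm : m ≤ n) : ∃ F, PnElem p m F E := by
  obtain ⟨X, h1, h2⟩ := exists_sub_pow (A := E) hp (h.3 ▸ pow_dvd_pow p hm)
  exact ⟨X, h1, h.2.of_le h1, h2⟩
theorem PnElem.ne_bot (h : PnElem p (n + 1) E H) (hp : p.Prime) : E ≠ ⊥ := fun e => by
  have := h.3; rw [e, card_bot] at this
  exact (Nat.one_lt_pow n.succ_ne_zero hp.one_lt).ne this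
theorem PnElem.dvd (h : PnElem p (n + 1) E H) : p ∣ #H :=
  (dvd_pow_self p n.succ_ne_zero).trans (h.3 ▸ cardS h.1)
theorem Abelem.cyc_card (h : Abelem p E) (hp : p.Prime) (h2 : Cyc E) : #E ∣ p := by
  obtain ⟨x, rfl⟩ := cyc_iff.1 h2
  rw [card_zpowers']; exact orderOf_dvd_of_pow_eq_one (h.2 x (mem_zpowers x))
theorem PnElem.not_cyc (h : PnElem p (n + 2) E H) (hp : p.Prime) : ¬ Cyc E := fun hc => by
  have := h.2.cyc_card hp hc
  rw [h.3] at this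
  have h2 := Nat.le_of_dvd hp.pos this
  have := Nat.pow_lt_pow_right hp.one_lt (show 1 < n + 2 by omega)
  rw [pow_one] at this; omega
theorem PnElem.not_cyc' (h : PnElem p (n + 2) E H) (hp : p.Prime) : ¬ Cyc H := fun hc => h.not_cyc hp (hc.of_le h.1)
theorem PnElem.eq_of_le (h : PnElem p n E H) (h2 : PnElem p n A K) (h3 : E ≤ A) : E = A :=
  eq_of_card_le h3 (by rw [h.3, h2.3])
theorem Abelem.exists_compl (h : Abelem p E) (hp : p.Prime) (hB : B ≤ E) : ∃ D, Dprod B D E := by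
  obtain ⟨D, a, b, c⟩ := Core.exists_complement_of_isElementaryAbelian hp (abelem_iff.1 h) hB
  exact ⟨D, sup_comm D B ▸ c, inf_comm D B ▸ b, centSS h.1 a hB⟩
theorem exists_pmax (h : E ≤ H) (h2 : Abelem p E) : ∃ A, E ≤ A ∧ PMax p A H := by
  obtain ⟨A, a, b, c⟩ := exists_maximal (P := fun A => A ≤ H ∧ Abelem p A) ⟨h, h2⟩
  exact ⟨A, a, b.1, b.2, fun B x y z => c B ⟨x, y⟩ z⟩
theorem PnElem.sup (h : PnElem p n E H) (hp : p.Prime) (hX : #X = p) (h1 : X ≤ H) (h2 : X ≤ C[E])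
    (h3 : ¬ X ≤ E) : PnElem p (n + 1) (E ⊔ X) H :=
  ⟨sup_le h.1 h1, h.2.sup (abelem_of_card hp hX) (cent_symm h2), by
    rw [← (sdprod_sup (by rw [inf_comm]; exact inf_bot_of_prime (hX ▸ hp) h3) (cents_norm h2)).card, h.3, hX,
      pow_succ]⟩
theorem pnElem_two (hp : p.Prime) (hX : #X = p) (hY : #Y = p) (h2 : Y ≤ C[X]) (h3 : X ≠ Y) :
    PnElem p 2 (X ⊔ Y) (X ⊔ Y) :=
  (pnElem_one hp hX le_sup_left).sup hp hY le_sup_right h2 fun h => h3 (eq_of_card_le h (by rw [hX, hY])).symm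
theorem Abelem.exists_card (h : Abelem p E) (hp : p.Prime) (h1 : ¬ E ≤ A) : ∃ X ≤ E, #X = p ∧ ¬ X ≤ A := by
  obtain ⟨x, h2, h3⟩ := SetLike.not_le_iff_exists.1 h1
  exact ⟨zpowers x, zpowers_le.2 h2, card_zpowers_of_pow hp (h.2 x h2) (by rintro rfl; exact h3 (one_mem _)),
    by rwa [zpowers_le]⟩
theorem Abelem.le_of_card (h : Abelem p E) (hp : p.Prime) (h1 : ∀ X ≤ E, #X = p → X ≤ A) : E ≤ A := by
  by_contra h2; obtain ⟨X, a, b, c⟩ := h.exists_card hp h2; exact c (h1 X a b)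
theorem Om_le_of_card (hp : p.Prime) (h1 : ∀ X ≤ H, #X = p → X ≤ A) : Ω[p](H) ≤ A :=
  Om_le_iff.2 fun x hx h => by
    by_cases e : x = 1
    · rw [e]; exact one_mem _
    · exact zpowers_le.1 (h1 _ (zpowers_le.2 hx) (card_zpowers_of_pow hp h e))
theorem card_sub_of_sq (hp : p.Prime) (h : #E = p ^ 2) (h1 : X < E) (h2 : X ≠ ⊥) : #X = p := by
  obtain ⟨k, hk, e⟩ := (Nat.dvd_prime_pow hp).1 (h ▸ cardS h1.le)
  have a := card_lt h1; have b := one_lt_card h2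
  rw [e] at a b ⊢; rw [h] at a
  interval_cases k <;> simp_all
theorem abel_of_card_sq (hp : p.Prime) (h : #E = p ^ 2) : Abel E :=
  haveI := Fact.mk hp
  le_C_iff.2 fun a ha b hb => congrArg Subtype.val ((IsPGroup.commutative_of_card_eq_prime_sq h) ⟨a, ha⟩ ⟨b, hb⟩)
theorem Om_ne_bot (hp : p.Prime) (h : p ∣ #H) : Ω[p](H) ≠ ⊥ := by
  obtain ⟨X, a, b⟩ := exists_prime_sub hp h
  exact fun e => ne_bot_of_prime (b ▸ hp) (le_bot_iff.1 (e ▸ le_Om_of_card b a))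
theorem PiG.Om_ne_bot (h : PiG {p} H) (h1 : H ≠ ⊥) : Ω[p](H) ≠ ⊥ := BG.Om_ne_bot (h.prime h1) (h.dvd h1)
theorem PiG.OmZ_ne_bot (h : PiG {p} H) (h1 : H ≠ ⊥) : Ω[p](Z[H]) ≠ ⊥ :=
  (h.of_le inf_le_left).Om_ne_bot (h.nil.Z_ne_bot h1)
theorem PiG.inf_Om_ne_bot (h : PiG {p} A) (h1 : A ≠ ⊥) (h2 : A ≤ H) : A ⊓ Ω[p](H) ≠ ⊥ := fun e =>
  h.Om_ne_bot h1 (le_bot_iff.1 (e ▸ le_inf (Om_le _ _) (Om_mono h2)))
theorem PiG.meet_OmZ (h : PiG {p} H) (h1 : A ≤ H) (h2 : H ≤ N[A]) (h3 : A ≠ ⊥) : A ⊓ Ω[p](Z[H]) ≠ ⊥ := fun e =>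
  ((h.of_le h1).of_le inf_le_left).inf_Om_ne_bot (h.nil.meet_C h1 h2 h3) (inf_le_inf_right _ h1)
    (le_bot_iff.1 (e ▸ inf_le_inf_right _ inf_le_left))
theorem Cyc.card_Om (h : Cyc H) (hp : p.Prime) (hd : p ∣ #H) : #Ω[p](H) = p :=
  ((Nat.dvd_prime hp).1 ((h.abel.Om_abelem p).cyc_card hp (h.of_le (Om_le _ _)))).resolve_left
    (one_lt_card (Om_ne_bot hp hd)).ne'
theorem Cyc.eq_Om (h : Cyc H) (hp : p.Prime) (h1 : X ≤ H) (h2 : #X = p) : X = Ω[p](H) :=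
  eq_of_card_le (le_Om_of_card h2 h1) (by rw [h.card_Om hp (h2 ▸ cardS h1), h2])
theorem Cyc.le_of_dvd (h : Cyc H) (h1 : X ≤ H) (h2 : Y ≤ H) (e : #X ∣ #Y) : X ≤ Y := by
  have hX : Abelem (#Y) X := ⟨h.abel.of_le h1, fun x hx => orderOf_dvd_iff_pow_eq_one.1 ((orderOf_dvd hx).trans e)⟩
  have hY : Abelem (#Y) Y := ⟨h.abel.of_le h2, fun x hx => pow_eq_one_of_card rfl hx⟩
  obtain ⟨x, hx⟩ := cyc_iff.1 (h.of_le (sup_le h1 h2))
  have h3 := (hX.sup hY (centSS h.abel h1 h2)).2 x (hx ▸ mem_zpowers x)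
  refine le_sup_left.trans (eq_of_card_le le_sup_right ?_).ge
  rw [← hx, card_zpowers']; exact Nat.le_of_dvd (card_pos Y) (orderOf_dvd_of_pow_eq_one h3)
theorem Cyc.eq_of_card (h : Cyc H) (h1 : X ≤ H) (h2 : Y ≤ H) (e : #X = #Y) : X = Y :=
  le_antisymm (h.le_of_dvd h1 h2 e.dvd) (h.le_of_dvd h2 h1 e.symm.dvd)
theorem Cyc.Om_le (h : Cyc H) (hp : PiG {p} H) (h1 : X ≤ H) (h2 : X ≠ ⊥) : Ω[p](H) ≤ X := by
  obtain ⟨Y, a, b⟩ := (hp.of_le h1).exists_prime_sub h2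
  rw [← h.eq_Om ((hp.of_le h1).prime h2) (a.trans h1) b]; exact a
theorem normPhi (h : X ≤ N[H]) : X ≤ N[Φ[H]] := h.trans (PLoc.normalizer_le_normalizer_frattiniOf H)
theorem Phi_norm (H : Subgroup G) : H ≤ N[Φ[H]] := normPhi (normG H)
theorem Phi_lt (h : H ≠ ⊥) : Φ[H] < H := PLoc.frattiniOf_lt h
theorem eq_of_sup_Phi (h1 : K ≤ H) (h : H ≤ K ⊔ Φ[H]) : K = H :=
  PLoc.eq_of_sup_frattiniOf h1 (le_antisymm (sup_le h1 (Phi_le H)) h)
theorem Nil.der_le_Phi (h : Nil H) : ⁅H, H⁆ ≤ Φ[H] := Core.commutator_le_map_frattini h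
theorem PiG.pow_mem_Phi (h : PiG {p} P) (hp : p.Prime) (hx : x ∈ P) : x ^ p ∈ Φ[P] :=
  haveI := Fact.mk hp; PLoc.pow_mem_frattiniOf (h.pg hp) hx
theorem PiG.Phi_le (h : PiG {p} P) (hp : p.Prime) (h1 : ⁅P, P⁆ ≤ K) (h2 : ∀ x ∈ P, x ^ p ∈ K) : Φ[P] ≤ K :=
  haveI := Fact.mk hp; PLoc.frattiniOf_le_of (h.pg hp) h1 h2
theorem PiG.Phi_mono (h : PiG {p} P) (hp : p.Prime) (h1 : Q ≤ P) : Φ[Q] ≤ Φ[P] :=
  haveI := Fact.mk hp; PLoc.frattiniOf_mono (h.pg hp) h1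
theorem PiG.Phi_eq (h : PiG {p} P) (hp : p.Prime) : Φ[P] = ⁅P, P⁆ ⊔ Mho p P :=
  le_antisymm (h.Phi_le hp le_sup_left fun _ hx => mem_sup_right (pow_mem_Mho hx))
    (sup_le h.nil.der_le_Phi (Mho_le_iff.2 fun _ hx => h.pow_mem_Phi hp hx))
theorem Abelem.Phi_eq_bot (h : Abelem p P) (hp : p.Prime) : Φ[P] = ⊥ :=
  le_bot_iff.1 ((h.pig hp).Phi_le hp (abel_iff_der.1 h.1).le fun x hx => h.2 x hx)
theorem PiG.abelem_of_Phi (h : PiG {p} P) (hp : p.Prime) (h1 : Φ[P] = ⊥) : Abelem p P :=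
  ⟨abel_iff_der.2 (le_bot_iff.1 (h1 ▸ h.nil.der_le_Phi)), fun _ hx => mem_bot.1 (h1 ▸ h.pow_mem_Phi hp hx)⟩
theorem PiG.abelem_quo_Phi (h : PiG {p} P) (hp : p.Prime) : Abelem p (P ÷ Φ[P]) :=
  (abelem_im_iff (Phi_norm P)).2 (by simpa using ⟨h.nil.der_le_Phi, fun _ hx => h.pow_mem_Phi hp hx⟩)
theorem PiG.Phi_le_ker (h : PiG {p} P) (hp : p.Prime) (h1 : P ≤ φ.dom) (h2 : Abelem p (φ.im P)) :
    Φ[P] ≤ φ.ker := h.Phi_le hp ((abelem_im_iff h1).1 h2).1 ((abelem_im_iff h1).1 h2).2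
theorem PiG.im_Phi [Finite G'] (h : PiG {p} P) (hp : p.Prime) (h1 : P ≤ φ.dom) : φ.im Φ[P] = Φ[φ.im P] := by
  obtain ⟨P, rfl⟩ := exists_lift h1
  rw [h.Phi_eq hp, (h.im φ).Phi_eq hp, ← map_commutator, ← map_Mho, ← Subgroup.map_sup, im_map, im_map,
    Subgroup.map_sup, map_commutator, map_Mho]
theorem PiG.cj_Phi (h : PiG {p} P) (hp : p.Prime) (g : G) : BG.cj g Φ[P] = Φ[BG.cj g P] := by
  rw [h.Phi_eq hp, (h.cj g).Phi_eq hp, cj_sup, cj_comm, cj_def g (Mho p P), map_Mho]; rfl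
theorem cop_cent_Phi (hA : A ≤ N[K]) (hc : (#A).Coprime #K) (h : ⁅K, A⁆ ≤ Φ[K]) : A ≤ C[K] :=
  Core.le_centralizer_of_commutator_le_frattini hA (hc.coprime_dvd_right (card_subgroup_dvd_card _)) h
theorem PiG.exists_max (h : PiG {p} P) (hp : p.Prime) (h1 : K < P) :
    ∃ M, K ≤ M ∧ M ≤ P ∧ P ≤ N[M] ∧ M.relIndex P = p :=
  haveI := Fact.mk hp; PLoc.exists_relIndex_prime_ge (h.pg hp) h1
theorem eq_or_eq_of_relIndex_prime (hp : (D.relIndex Y).Prime) (h1 : D ≤ X) (h2 : X ≤ Y) : X = D ∨ X = Y :=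
  Core.eq_or_eq_of_relIndex_prime hp rfl h1 h2
theorem PiG.norm_of_relIndex (h : PiG {p} P) (hp : p.Prime) (h1 : K ≤ P) (h2 : K.relIndex P = p) : P ≤ N[K] := by
  have h3 : K < P := lt_of_le_of_ne h1 fun e => by rw [e, relIndex_self] at h2; exact hp.one_lt.ne h2
  have := h.nil.lt_norm h3
  exact inf_eq_left.1 ((eq_or_eq_of_relIndex_prime (h2 ▸ hp) this.le inf_le_left).resolve_left this.ne')
theorem PiG.Phi_le_of_relIndex (h : PiG {p} P) (hp : p.Prime) (h1 : K ≤ P) (h2 : K.relIndex P = p) :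
    Φ[P] ≤ K := by
  have h3 := h.norm_of_relIndex hp h1 h2
  simpa using h.Phi_le_ker hp (φ := quo K) h3 (abelem_of_card hp (by rw [card_quo h3, h2]))

/-! ### ranks -/
omit [Finite G] in
/-- the `p`-rank of `H` -/
noncomputable def pRank (p : ℕ) (H : Subgroup G) : ℕ := sSup {n | ∃ E, PnElem p n E H}
omit [Finite G] in
/-- the rank of `H` -/
noncomputable def rank (H : Subgroup G) : ℕ := sSup {n | ∃ p, p.Prime ∧ ∃ E, PnElem p n E H}
scoped notation:max "r[" p "](" H ")" => Cfsg.Agent.BG.pRank p H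
scoped notation:max "r(" H ")" => Cfsg.Agent.BG.rank H
theorem PnElem.lt_card (h : PnElem p n E H) (hp : p.Prime) : n < #H :=
  (Nat.lt_pow_self hp.one_lt).trans_le (h.3 ▸ card_le h.1)
omit [Finite G] in
theorem pnElem_zero (p : ℕ) (H : Subgroup G) : PnElem p 0 ⊥ H := ⟨bot_le, abelem_bot p, by simp⟩
theorem PnElem.le_pRank (h : PnElem p n E H) (hp : p.Prime) : n ≤ r[p](H) :=
  le_csSup ⟨#H, fun _ ⟨_, h⟩ => (h.lt_card hp).le⟩ ⟨E, h⟩
theorem PnElem.le_rank (h : PnElem p n E H) (hp : p.Prime) : n ≤ r(H) :=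
  le_csSup ⟨#H, fun _ ⟨_, hp, _, h⟩ => (h.lt_card hp).le⟩ ⟨p, hp, E, h⟩
theorem exists_pnElem_pRank (hp : p.Prime) (H : Subgroup G) : ∃ E, PnElem p r[p](H) E H :=
  Nat.sSup_mem (s := {n | ∃ E, PnElem p n E H}) ⟨0, _, pnElem_zero p H⟩ ⟨#H, fun _ ⟨_, h⟩ => (h.lt_card hp).le⟩
theorem exists_pnElem (hp : p.Prime) (h : n ≤ r[p](H)) : ∃ E, PnElem p n E H := by
  obtain ⟨E, hE⟩ := exists_pnElem_pRank hp H
  obtain ⟨F, hF⟩ := hE.exists_sub hp h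
  exact ⟨F, hF.mono hE.1⟩
theorem pRank_le_of (hp : p.Prime) (h : ∀ E, ¬ PnElem p (n + 1) E H) : r[p](H) ≤ n := by
  by_contra h1; obtain ⟨E, hE⟩ := exists_pnElem hp (not_le.1 h1); exact h E hE
theorem pRank_le_rank (hp : p.Prime) (H : Subgroup G) : r[p](H) ≤ r(H) := by
  obtain ⟨E, hE⟩ := exists_pnElem_pRank hp H; exact hE.le_rank hp
theorem exists_rank (H : Subgroup G) : ∃ p, p.Prime ∧ r[p](H) = r(H) := by
  obtain ⟨p, hp, E, hE⟩ := Nat.sSup_mem (s := {n | ∃ p, p.Prime ∧ ∃ E, PnElem p n E H})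
    ⟨0, 2, Nat.prime_two, _, pnElem_zero 2 H⟩ ⟨#H, fun _ ⟨_, hp, _, h⟩ => (h.lt_card hp).le⟩
  exact ⟨p, hp, le_antisymm (pRank_le_rank hp H) (hE.le_pRank hp)⟩
theorem exists_pnElem_rank (h : n ≤ r(H)) : ∃ p, p.Prime ∧ ∃ E, PnElem p n E H := by
  obtain ⟨p, hp, e⟩ := exists_rank H; exact ⟨p, hp, exists_pnElem hp (e ▸ h)⟩
theorem rank_le_iff : r(H) ≤ n ↔ ∀ p, p.Prime → r[p](H) ≤ n :=
  ⟨fun h p hp => (pRank_le_rank hp H).trans h, fun h => by obtain ⟨p, hp, e⟩ := exists_rank H; exact e ▸ h p hp⟩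
theorem pRank_mono (hp : p.Prime) (h : H ≤ K) : r[p](H) ≤ r[p](K) := by
  obtain ⟨E, hE⟩ := exists_pnElem_pRank hp H; exact (hE.mono h).le_pRank hp
theorem rank_mono (h : H ≤ K) : r(H) ≤ r(K) :=
  rank_le_iff.2 fun _ hp => (pRank_mono hp h).trans (pRank_le_rank hp K)
theorem PnElem.pRank_eq (h : PnElem p n E H) (hp : p.Prime) : r[p](E) = n := by
  apply le_antisymm _ (h.self.le_pRank hp)
  obtain ⟨F, hF⟩ := exists_pnElem_pRank hp E
  exact (Nat.pow_le_pow_iff_right hp.one_lt).1 (hF.3 ▸ h.3 ▸ card_le hF.1)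
theorem Abelem.card_eq (h : Abelem p E) (hp : p.Prime) : #E = p ^ r[p](E) := by
  obtain ⟨n, hn⟩ := h.exists_pnElem hp; rw [hn.pRank_eq hp, hn.3]
theorem Abelem.pnElem (h : Abelem p E) (hp : p.Prime) : PnElem p r[p](E) E E := ⟨le_rfl, h, h.card_eq hp⟩
theorem Abelem.pnElem' (h : Abelem p E) (hp : p.Prime) (h1 : E ≤ H) (h2 : r[p](E) = n) : PnElem p n E H :=
  ⟨h1, h, h2 ▸ h.card_eq hp⟩
theorem Abelem.card_le (h : Abelem p E) (hp : p.Prime) (h1 : E ≤ H) : #E ≤ p ^ r[p](H) := by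
  rw [h.card_eq hp]; exact Nat.pow_le_pow_right hp.pos (pRank_mono hp h1)
theorem pow_pRank_dvd (hp : p.Prime) (H : Subgroup G) : p ^ r[p](H) ∣ #H := by
  obtain ⟨E, hE⟩ := exists_pnElem_pRank hp H; exact hE.3 ▸ cardS hE.1
theorem pRank_le_of_card (hp : p.Prime) (h : #H = p ^ n) : r[p](H) ≤ n :=
  (Nat.pow_dvd_pow_iff_le_right hp.one_lt).1 (h ▸ pow_pRank_dvd hp H)
theorem prankle_iff (hp : p.Prime) : PRankLE p n H ↔ r[p](H) ≤ n := by
  constructor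
  · intro h
    obtain ⟨E, hE⟩ := exists_pnElem_pRank hp H
    obtain ⟨E', rfl⟩ := exists_lift hE.1
    have h1 := (abelem_map_inj H.subtype_injective).1 hE.2
    have := h E' h1.1.comm h1.2
    rw [← card_map_inj H.subtype_injective, hE.3] at this
    exact (Nat.pow_le_pow_iff_right hp.one_lt).1 this
  · intro h A h1 h2
    rw [← card_map_inj H.subtype_injective]
    exact (((Abelem.mk (abel_of h1) h2).map _).card_le hp (map_subtype_le _)).trans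
      (Nat.pow_le_pow_right hp.pos h)
theorem rankle_iff : RankLE n H ↔ r(H) ≤ n := by
  rw [rank_le_iff]; exact forall_congr' fun p => forall_congr' fun hp => prankle_iff hp
theorem prankle_top (hp : p.Prime) : PRankLE p n G ↔ r[p]((⊤ : Subgroup G)) ≤ n := by
  constructor
  · intro h
    obtain ⟨E, hE⟩ := exists_pnElem_pRank hp (⊤ : Subgroup G)
    exact (Nat.pow_le_pow_iff_right hp.one_lt).1 (hE.3 ▸ h E hE.2.1.comm hE.2.2)
  · intro h A h1 h2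
    exact ((Abelem.mk (abel_of h1) h2).card_le hp le_top).trans (Nat.pow_le_pow_right hp.pos h)
theorem rankle_top : RankLE n G ↔ r((⊤ : Subgroup G)) ≤ n := by
  rw [rank_le_iff]; exact forall_congr' fun p => forall_congr' fun hp => prankle_top hp
theorem pRank_pos_iff (hp : p.Prime) : 0 < r[p](H) ↔ p ∣ #H :=
  ⟨fun h => by obtain ⟨E, hE⟩ := exists_pnElem hp h; exact hE.dvd, fun h => by
    obtain ⟨X, a, b⟩ := exists_prime_sub hp h; exact (pnElem_one hp b a).le_pRank hp⟩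
theorem pRank_eq_zero (hp : p.Prime) (h : PiG {p}ᶜ H) : r[p](H) = 0 := by
  by_contra e; exact (pin_compl hp).1 h ((pRank_pos_iff hp).1 (Nat.pos_of_ne_zero e))
theorem dvd_of_pRank (hp : p.Prime) (h : n < r[p](H)) : p ∣ #H := (pRank_pos_iff hp).1 (by omega)
theorem PiG.mem_of_pRank (hH : PiG π H) (hp : p.Prime) (h : n < r[p](H)) : p ∈ π := hH p hp (dvd_of_pRank hp h)
theorem rank_bot : r((⊥ : Subgroup G)) = 0 :=
  Nat.le_zero.1 (rank_le_iff.2 fun _ hp => (pRank_eq_zero hp (pig_bot _)).le)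
theorem ne_bot_of_rank (h : n < r(H)) : H ≠ ⊥ := fun e => by rw [e, rank_bot] at h; omega
theorem ne_bot_of_pRank (hp : p.Prime) (h : n < r[p](H)) : H ≠ ⊥ := ne_bot_of_rank (h.trans_le (pRank_le_rank hp H))
theorem rank_pos (h : H ≠ ⊥) : 0 < r(H) := by
  obtain ⟨p, hp, hd⟩ := exists_prime_dvd h; exact ((pRank_pos_iff hp).2 hd).trans_le (pRank_le_rank hp H)
theorem PiG.rank_eq (h : PiG {p} H) (hp : p.Prime) : r(H) = r[p](H) :=
  le_antisymm (rank_le_iff.2 fun q hq => by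
    by_cases e : p = q
    · rw [e]
    · rw [pRank_eq_zero hq (h.ne_compl e)]; exact Nat.zero_le _) (pRank_le_rank hp H)
theorem PnElem.rank_eq (h : PnElem p n E H) (hp : p.Prime) : r(E) = n := by
  rw [(h.pig hp).rank_eq hp, h.pRank_eq hp]
theorem pRank_le_of_inj [Finite G'] {H' : Subgroup G'} (hp : p.Prime) (f : H →* H') (hf : Function.Injective f) :
    r[p](H) ≤ r[p](H') := by
  obtain ⟨E, hE⟩ := exists_pnElem_pRank hp H
  obtain ⟨E', rfl⟩ := exists_lift hE.1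
  have h1 := (abelem_map_inj H.subtype_injective).1 hE.2
  refine PnElem.le_pRank (E := (E'.map f).map H'.subtype) ⟨map_subtype_le _, (h1.map _).map _, ?_⟩ hp
  rw [card_map_inj H'.subtype_injective, card_map_inj hf, ← hE.3, card_map_inj H.subtype_injective]
theorem pRank_equiv [Finite G'] {H' : Subgroup G'} (hp : p.Prime) (e : H ≃* H') : r[p](H) = r[p](H') :=
  le_antisymm (pRank_le_of_inj hp e.toMonoidHom e.injective) (pRank_le_of_inj hp e.symm.toMonoidHom e.symm.injective)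
theorem rank_equiv [Finite G'] {H' : Subgroup G'} (e : H ≃* H') : r(H) = r(H') :=
  le_antisymm (rank_le_iff.2 fun _ hp => pRank_equiv hp e ▸ pRank_le_rank hp _)
    (rank_le_iff.2 fun _ hp => pRank_equiv hp e ▸ pRank_le_rank hp _)
theorem pRank_cj (hp : p.Prime) (g : G) (H : Subgroup G) : r[p](cj g H) = r[p](H) := (pRank_equiv hp (cjEquiv g H)).symm
theorem rank_cj (g : G) (H : Subgroup G) : r(cj g H) = r(H) := (rank_equiv (cjEquiv g H)).symm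
theorem Syl.pRank (h : Syl p P M) (hp : p.Prime) : r[p](P) = r[p](M) := by
  apply le_antisymm (pRank_mono hp h.le)
  obtain ⟨E, hE⟩ := exists_pnElem_pRank hp M
  obtain ⟨g, -, h2⟩ := h.cj_sub hp hE.1 (hE.pig hp)
  exact ((hE.cj g).sub h2).le_pRank hp
theorem Syl.rank (h : Syl p P M) (hp : p.Prime) : r(P) = r[p](M) := by rw [h.pi.rank_eq hp, h.pRank hp]
theorem pRank_of_idx (hp : p.Prime) (h1 : H ≤ M) (h2 : ¬ p ∣ H.relIndex M) : r[p](H) = r[p](M) := by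
  obtain ⟨P, hP⟩ := syl_exists hp H
  rw [← hP.pRank hp, ← Syl.pRank (hP.trans' h1 ((pin_compl hp).2 h2)) hp]
theorem Hall.pRank (h : Hall π H M) (hp : p.Prime) (hπ : p ∈ π) : r[p](H) = r[p](M) :=
  pRank_of_idx hp h.le (h.idx.not_dvd hp hπ)
theorem Nil.pRank_O (h : Nil H) (hp : p.Prime) (hπ : p ∈ π) : r[p](O[π](H)) = r[p](H) := (h.hall_O π).pRank hp hπ
theorem pRank_Om (hp : p.Prime) (H : Subgroup G) : r[p](Ω[p](H)) = r[p](H) := by
  apply le_antisymm (pRank_mono hp (Om_le _ _))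
  obtain ⟨E, hE⟩ := exists_pnElem_pRank hp H
  exact (hE.sub (hE.2.le_Om hE.1)).le_pRank hp
theorem Abel.card_Om (h : Abel A) (hp : p.Prime) : #Ω[p](A) = p ^ r[p](A) := by
  rw [(h.Om_abelem p).card_eq hp, pRank_Om hp]
theorem Abel.pnElem_Om (h : Abel A) (hp : p.Prime) : PnElem p r[p](A) Ω[p](A) A :=
  ⟨Om_le _ _, h.Om_abelem p, h.card_Om hp⟩
theorem Abel.Om_eq (h : Abel A) (hp : p.Prime) (hE : PnElem p n E A) (h2 : r[p](A) ≤ n) : Ω[p](A) = E :=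
  (eq_of_card_le (hE.2.le_Om hE.1) (by rw [h.card_Om hp, hE.3]; exact Nat.pow_le_pow_right hp.pos h2)).symm
theorem PnElem.pmax (h : PnElem p n E H) (hp : p.Prime) (h2 : r[p](H) ≤ n) : PMax p E H :=
  ⟨h.1, h.2, fun B a b c => (eq_of_card_le c (by
    rw [h.3]; exact (b.card_le hp a).trans (Nat.pow_le_pow_right hp.pos h2))).symm⟩
theorem PMax.pRank_C (h : PMax p E H) (hp : p.Prime) : r[p](H ⊓ C[E]) = r[p](E) := by
  rw [← pRank_Om hp, h.Om_eq]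
theorem pmax_of_pRank_C (h : PnElem p n E H) (hp : p.Prime) (h2 : r[p](H ⊓ C[E]) ≤ n) : PMax p E H :=
  pmax_of h.1 h.2 fun _ a b c => ((h.sub (le_inf h.1 h.2.1)).pmax hp h2).mem ⟨a, b⟩ b c
theorem Cyc.pRank_le (h : Cyc H) (hp : p.Prime) : r[p](H) ≤ 1 :=
  pRank_le_of hp fun _ hE => hE.not_cyc' hp h
theorem Cyc.rank_le (h : Cyc H) : r(H) ≤ 1 := rank_le_iff.2 fun _ hp => h.pRank_le hp
theorem Abel.cyc_of_rank (h : Abel A) (h2 : r(A) ≤ 1) : Cyc A := by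
  by_contra h1
  obtain ⟨p, x, y, hp, hx, hy, a, b, c, d⟩ := Core.exists_pp_of_not_isCyclic h.comm h1
  have := ((pnElem_one hp (card_zpowers_of_pow hp b c) (zpowers_le.2 hy)).sup hp
    (card_zpowers_of_pow hp a (by rintro rfl; exact d (one_mem _))) (zpowers_le.2 hx)
    (centSS h (zpowers_le.2 hx) (zpowers_le.2 hy)) (by rwa [zpowers_le])).le_rank hp
  omega
theorem Abel.cyc_iff (h : Abel A) : Cyc A ↔ r(A) ≤ 1 := ⟨Cyc.rank_le, h.cyc_of_rank⟩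
theorem Abelem.pnElem_two_of (h : Abelem p E) (hp : p.Prime) (h1 : ¬ Cyc E) : 2 ≤ r[p](E) := by
  rw [h.1.cyc_iff, (h.pig hp).rank_eq hp] at h1; omega
theorem pRank_im_inj [Finite G'] (hp : p.Prime) (hA : A ≤ φ.dom) (h : A ⊓ φ.ker = ⊥) : r[p](φ.im A) = r[p](A) :=
  (pRank_equiv hp (equiv hA h)).symm
theorem rank_im_inj [Finite G'] (hA : A ≤ φ.dom) (h : A ⊓ φ.ker = ⊥) : r(φ.im A) = r(A) :=
  (rank_equiv (equiv hA h)).symm
theorem pRank_im_cop [Finite G'] (hp : p.Prime) (hA : A ≤ φ.dom) (h : PiG {p}ᶜ (A ⊓ φ.ker)) :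
    r[p](φ.im A) = r[p](A) := by
  obtain ⟨P, hP⟩ := syl_exists hp A
  rw [← hP.pRank hp, ← Syl.pRank (hP.im hA) hp]
  exact pRank_im_inj hp (hP.le.trans hA)
    ((hP.pi.of_le inf_le_left).eq_bot (h.of_le (inf_le_inf_right _ hP.le)))
theorem pRank_le_add [Finite G'] (hp : p.Prime) (hA : A ≤ φ.dom) :
    r[p](A) ≤ r[p](A ⊓ φ.ker) + r[p](φ.im A) := by
  obtain ⟨E, hE⟩ := exists_pnElem_pRank hp A
  have h1 := card_im_mul (hE.1.trans hA)
  have h2 := (hE.2.of_le (inf_le_left : E ⊓ φ.ker ≤ E)).card_le hp (inf_le_inf_right _ hE.1)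
  have h3 := (hE.2.im φ).card_le hp (im_mono hE.1)
  rw [← Nat.pow_le_pow_iff_right hp.one_lt, pow_add, ← hE.3, ← h1]
  exact Nat.mul_le_mul h2 h3
theorem pRank_le_succ (hp : p.Prime) (h2 : M ≤ N[K]) (h3 : K.relIndex M ∣ p) : r[p](M) ≤ r[p](K) + 1 := by
  refine (pRank_le_add (φ := quo K) hp h2).trans (add_le_add (pRank_mono hp (by simp)) ?_)
  rw [← Nat.pow_dvd_pow_iff_le_right hp.one_lt, pow_one]
  exact (pow_pRank_dvd hp _).trans (card_quo h2 ▸ h3)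
theorem Dprod.pRank (h : Dprod A B M) (hp : p.Prime) : r[p](M) = r[p](A) + r[p](B) := by
  apply le_antisymm
  · refine (pRank_le_add (φ := quo A) hp h.nl).trans (add_le_add (pRank_mono hp (by simp)) ?_)
    obtain ⟨e⟩ := h.sd.quo_equiv; rw [pRank_equiv hp e]
  · obtain ⟨E, hE⟩ := exists_pnElem_pRank hp A
    obtain ⟨F, hF⟩ := exists_pnElem_pRank hp B
    have hc := centSS h.cent hF.1 hE.1
    refine PnElem.le_pRank (E := E ⊔ F) ⟨sup_le (hE.1.trans h.left) (hF.1.trans h.right),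
      hE.2.sup hF.2 (cent_symm hc), ?_⟩ hp
    rw [← (sdprod_sup (le_bot_iff.1 (h.inf ▸ inf_le_inf hE.1 hF.1)) (cents_norm hc)).card, hE.3, hF.3, pow_add]
end fin

end Cfsg.Agent.BG
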