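import Cfsg.Agent.BG.Base5
/-!
Ambient-subgroup toolkit, part 6: relative cores, `p`-length, normal complements, minimal normal subgroups,
regular and prime actions, automorphisms of cyclic groups.
-/
set_option autoImplicit false

namespace Cfsg.Agent.BG
open Subgroup PHom

variable {G : Type*} [Group G] {G' : Type*} [Group G']
variable {A B D E H K L M P Q R S U V W X Y : Subgroup G} {x y g : G} {π ρ : Set ℕ} {p q m n : ℕ} {φ : PHom G G'}

/-! ### the conjugation action -/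
/-- conjugation action of `N(K)` on `K` -/
def aut (K : Subgroup G) : PHom G (MulAut K) := ⟨N[K], K.normalizerMonoidHom⟩
@[simp] theorem aut_dom (K : Subgroup G) : (aut K).dom = N[K] := rfl
@[simp] theorem aut_ker (K : Subgroup G) : (aut K).ker = C[K] := by
  rw [ker_eq]; exact (congrArg _ K.normalizerMonoidHom_ker).trans (map_subgroupOf_eq_of_le (C_le_N K))
theorem aut_app (hg : g ∈ N[K]) (x : K) : ((aut K).app g x : G) = g * x * g⁻¹ := by
  rw [app_eq (φ := aut K) hg]; rfl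
theorem card_aut_im (h : A ≤ N[K]) : #((aut K).im A) = (C[K]).relIndex A := by rw [card_im h, aut_ker]
theorem Cyc.der_cent [Finite G] (h : Cyc K) (hA : A ≤ N[K]) : ⁅A, A⁆ ≤ C[K] := by
  rw [← aut_ker, ← abel_im_iff hA, Abel, le_C_iff]
  intro a _ b _
  obtain ⟨m, hm⟩ := MonoidHom.map_cyclic a.toMonoidHom
  obtain ⟨n, hn⟩ := MonoidHom.map_cyclic b.toMonoidHom
  ext x
  have h1 : ∀ x, a x = x ^ m := hm
  have h2 : ∀ x, b x = x ^ n := hn
  simp only [MulAut.mul_apply, h1, h2, ← zpow_mul, mul_comm]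
theorem Cyc.idx_cent_dvd [Finite G] (h : Cyc K) (hA : A ≤ N[K]) : (C[K]).relIndex A ∣ Nat.totient #K := by
  rw [← card_aut_im hA, ← IsCyclic.card_mulAut]; exact card_subgroup_dvd_card _
theorem idx_cent_prime [Finite G] (hp : p.Prime) (h : #K = p) (hA : A ≤ N[K]) : (C[K]).relIndex A ∣ p - 1 := by
  rw [← Nat.totient_prime hp, ← h]; exact (cyc_of_prime (h ▸ hp)).idx_cent_dvd hA

/-! ### self-centralizing normal subgroups -/
structure SCN (A P : Subgroup G) : Prop where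
  le : A ≤ P
  norm : P ≤ N[A]
  cent : P ⊓ C[A] = A
theorem scn_iff : SCN A P ↔ IsSCN P A := ⟨fun h => ⟨h.1, h.2, h.3⟩, fun h => ⟨h.1, h.2.1, h.2.2⟩⟩
theorem SCN.abel (h : SCN A P) : Abel A := h.cent.ge.trans inf_le_right
theorem SCN.sub (h : SCN A P) (h1 : A ≤ Q) (h2 : Q ≤ P) : SCN A Q :=
  ⟨h1, h2.trans h.norm, le_antisymm ((inf_le_inf_right _ h2).trans h.cent.le) (le_inf h1 h.abel)⟩
theorem SCN.Z_le (h : SCN A P) : Z[P] ≤ A := (inf_le_inf_left _ (centS h.le)).trans h.cent.le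
theorem SCN.cj (h : SCN A P) (g : G) : SCN (cj g A) (cj g P) :=
  ⟨cj_mono g h.le, norm_cj.2 h.norm, by rw [← cj_C, ← cj_inf, h.cent]⟩
theorem Nil.exists_Z_mod [Finite G] (h : Nil P) (h1 : K ≤ P) (hK : P ≤ N[K]) (hL : P ≤ N[L]) (h2 : L ≤ P)
    (h3 : ¬ L ≤ K) : ∃ x ∈ L, x ∉ K ∧ ⁅zpowers x, P⁆ ≤ K := by
  have := (h.im (quo K)).meet_C (im_mono h2) (im_norm hL) (by rwa [Ne, quo_bot_iff (h2.trans hK)])
  obtain ⟨y, ⟨h4, h5⟩, h6⟩ := exists_mem_ne_one this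
  obtain ⟨x, hx, rfl⟩ := (mem_im' (φ := quo K) (h2.trans hK)).1 h4
  refine ⟨x, hx, fun h => h6 (mem_ker.1 ((quo_ker K).ge h)).2, ?_⟩
  rw [← quo_cent_iff (zpowers_le.2 (hK (h2 hx))) hK, im_zpowers (hK (h2 hx))]
  exact zpowers_le.2 h5
theorem Nil.exists_scn [Finite G] (h : Nil P) (h1 : A ≤ P) (h2 : P ≤ N[A]) (h3 : Abel A) :
    ∃ B, A ≤ B ∧ SCN B P := by
  obtain ⟨B, a, ⟨b1, b2, b3⟩, c⟩ := exists_maximal (P := fun B => B ≤ P ∧ P ≤ N[B] ∧ Abel B) ⟨h1, h2, h3⟩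
  refine ⟨B, a, b1, b2, le_antisymm ?_ (le_inf b1 b3)⟩
  by_contra h4
  obtain ⟨x, hx, h5, h6⟩ := h.exists_Z_mod b1 b2 (normI (normG P) (normC b2)) inf_le_left h4
  refine h5 (c (B ⊔ zpowers x) ⟨sup_le b1 (zpowers_le.2 hx.1), ?_,
    b3.sup (abel_zpowers x) (cent_symm (zpowers_le.2 hx.2))⟩ le_sup_left ▸ mem_sup_right (mem_zpowers x))
  exact comm_le_l.1 (comm_sup_le ((commL b2).trans le_sup_left) (h6.trans le_sup_left) (normsG le_sup_left)
    (normsG le_sup_right))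

/-! ### minimal invariant subgroups and chief factors -/
/-- `A` is minimal among the nontrivial subgroups normalized by `H` -/
structure MinN (A H : Subgroup G) : Prop where
  ne : A ≠ ⊥
  norm : H ≤ N[A]
  min : ∀ B, B ≤ A → H ≤ N[B] → B ≠ ⊥ → B = A
/-- `U / V` is a minimal `H`-invariant section -/
structure Chief (V U H : Subgroup G) : Prop where
  lt : V < U
  nV : H ≤ N[V]
  nU : H ≤ N[U]
  nUV : U ≤ N[V]
  max : ∀ B, V ≤ B → B < U → H ≤ N[B] → B = V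
theorem exists_minN [Finite G] (h1 : K ≠ ⊥) (h2 : H ≤ N[K]) : ∃ A ≤ K, MinN A H := by
  obtain ⟨A, a, ⟨b1, b2⟩, c⟩ := exists_minimal (P := fun B => B ≠ ⊥ ∧ H ≤ N[B]) ⟨h1, h2⟩
  exact ⟨A, a, b1, b2, fun B x y z => c B ⟨z, y⟩ x⟩
theorem MinN.eq_bot_or (h : MinN A H) (h1 : B ≤ A) (h2 : H ≤ N[B]) : B = ⊥ ∨ B = A := by
  by_cases e : B = ⊥; exacts [Or.inl e, Or.inr (h.min B h1 h2 e)]
theorem MinN.inf_bot_or (h : MinN A H) (h2 : H ≤ N[B]) : A ⊓ B = ⊥ ∨ A ≤ B :=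
  (h.eq_bot_or inf_le_left (normI h.norm h2)).imp_right inf_eq_left.1
theorem MinN.le_of (h : MinN A H) (h2 : H ≤ N[B]) (h3 : A ⊓ B ≠ ⊥) : A ≤ B := (h.inf_bot_or h2).resolve_left h3
theorem MinN.abelem [Finite G] (h : MinN A H) (hs : Sol A) : ∃ p, p.Prime ∧ Abelem p A := by
  have h1 : Abel A := abel_iff_der.2 ((h.eq_bot_or (der_le A) (normD h.norm)).resolve_right (hs.der_lt h.ne).ne)
  obtain ⟨p, hp, hd⟩ := exists_prime_dvd h.ne
  exact ⟨p, hp, h.min _ (Om_le p A) (normOm p h.norm) (Om_ne_bot hp hd) ▸ h1.Om_abelem p⟩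
theorem MinN.abelem' [Finite G] (h : MinN A H) (hA : PiG {p} A) : Abelem p A := by
  obtain ⟨q, hq, h1⟩ := h.abelem hA.sol
  rwa [← show q = p from (h1.pig hq).mem_of_ne h.ne hA]
theorem MinN.cent_of_nil [Finite G] (h : MinN A H) (hL : Nil L) (h1 : A ≤ L) (h2 : K ≤ L) (h3 : H ≤ N[K])
    (h4 : K ≤ N[A]) : A ≤ C[K] :=
  comm_eq_bot.1 ((h.eq_bot_or (commL h4) (normR h.norm h3)).resolve_right (hL.comm_lt h1 h2 h4 h.ne).ne)
theorem MinN.le_ZF [Finite G] (h : MinN A H) (h1 : A ≤ H) (hs : Sol A) : A ≤ Z[F[H]] := by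
  obtain ⟨p, hp, h2⟩ := h.abelem hs
  have h3 := le_F h1 h.norm h2.1.nil
  exact le_inf h3 (h.cent_of_nil (F_nil H) h3 le_rfl (F_norm H) ((F_le H).trans h.norm))
theorem exists_chief_le [Finite G] (h : V < U) (h1 : H ≤ N[V]) (h2 : H ≤ N[U]) (h3 : U ≤ N[V]) :
    ∃ W ≤ U, Chief V W H := by
  obtain ⟨A, a, ⟨b1, b2⟩, c⟩ := exists_minimal (P := fun B => V < B ∧ H ≤ N[B]) ⟨h, h2⟩
  refine ⟨A, a, b1, h1, b2, a.trans h3, fun B x y z => ?_⟩
  by_contra e; exact y.ne (c B ⟨lt_of_le_of_ne x (Ne.symm e), z⟩ y.le)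
theorem exists_chief_ge [Finite G] (h : V < U) (hU : U ≤ H) (h1 : H ≤ N[V]) (h2 : H ≤ N[U]) :
    ∃ W, V ≤ W ∧ Chief W U H := by
  obtain ⟨A, a, ⟨b1, b2⟩, c⟩ := exists_maximal (P := fun B => B < U ∧ H ≤ N[B]) ⟨h, h1⟩
  exact ⟨A, a, b1, b2, h2, hU.trans b2, fun B x y z => c B ⟨y, z⟩ x⟩
theorem Chief.minN (h : Chief V U H) : MinN (U ÷ V) (H ÷ V) :=
  ⟨by rw [Ne, quo_bot_iff h.nUV]; exact h.lt.not_ge, im_norm h.nU, fun B a b c => by
    obtain ⟨B, h1, h2, rfl⟩ := exists_quo_eq h.nUV h.lt.le a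
    by_contra e
    exact c ((quo_bot_iff (h2.trans h.nUV)).2 (h.max B h1 (lt_of_le_of_ne h2 fun e' => e (e' ▸ rfl))
      (norm_of_im (φ := quo V) h.nV (h2.trans h.nUV) (by simpa) b)).le)⟩
theorem chief_of_minN (h : MinN (U ÷ V) (H ÷ V)) (h1 : V ≤ U) (h2 : H ≤ N[V]) (h3 : U ≤ N[V]) : Chief V U H :=
  ⟨lt_of_le_of_ne h1 fun e => h.ne (e ▸ quo_self V), h2, norm_of_im (φ := quo V) h2 h3 (by simpa) h.norm, h3,
    fun B a b c => by
      by_contra e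
      have := h.min _ (im_mono b.le) (im_norm c) (by
        rw [Ne, quo_bot_iff (b.le.trans h3)]; exact fun h => e (le_antisymm h a))
      exact b.ne (im_inj (φ := quo V) (b.le.trans h3) h3 (by simpa) (by simpa) this)⟩
theorem Chief.abelem [Finite G] (h : Chief V U H) (hs : Sol U) : ∃ p, p.Prime ∧ Abelem p (U ÷ V) :=
  h.minN.abelem (hs.im _)
theorem minN_iff_chief : MinN A H ↔ Chief ⊥ A H :=
  ⟨fun h => ⟨bot_lt_iff_ne_bot.2 h.ne, norm_bot _, h.norm, norm_bot _, fun B _ b c =>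
    (h.eq_bot_or b.le c).resolve_right b.ne⟩, fun h => ⟨h.lt.ne', h.nU, fun B a b c => by
      by_contra e; exact c (h.max B bot_le (lt_of_le_of_ne a e) b)⟩⟩

/-! ### regular and prime actions, Frobenius groups -/
def Semireg (K R : Subgroup G) : Prop := ∀ x ∈ R, x ≠ 1 → K ⊓ C1[x] = ⊥
def Semiprime (K R : Subgroup G) : Prop := ∀ x ∈ R, x ≠ 1 → K ⊓ C1[x] = K ⊓ C[R]
/-- `M` is a Frobenius group with kernel `K` and complement `R` -/
structure Frob (K R M : Subgroup G) : Prop where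
  sd : Sdprod K R M
  ne_l : K ≠ ⊥
  ne_r : R ≠ ⊥
  reg : Semireg K R
theorem Semireg.mono (h : Semireg K R) (h1 : A ≤ K) (h2 : B ≤ R) : Semireg A B := Core.fpf_mono h h2 h1
theorem Semireg.cent (h : Semireg K R) (h1 : X ≤ R) (h2 : X ≠ ⊥) : K ⊓ C[X] = ⊥ :=
  Core.fpf_inf_centralizer_eq_bot (h.mono le_rfl h1) h2
theorem Semireg.symm (h : Semireg K R) : Semireg R K := fun x hx h1 => by
  rw [eq_bot_iff]; intro y hy; by_contra h2
  exact h1 (mem_bot.1 (h y hy.1 h2 ▸ (⟨hx, C1_symm hy.2⟩ : x ∈ K ⊓ C1[y])))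
theorem Semireg.semiprime (h : Semireg K R) : Semiprime K R := fun x hx h1 => by
  rw [h x hx h1, h.cent le_rfl (fun e => h1 (by simpa [e] using hx))]
theorem Semireg.inf_bot (h : Semireg K R) : K ⊓ R = ⊥ := by
  rw [eq_bot_iff]; intro y hy; by_contra h2
  exact h2 (h y hy.2 h2 ▸ (⟨hy.1, mem_C1_self y⟩ : y ∈ K ⊓ C1[y]))
theorem Semireg.cj (h : Semireg K R) (g : G) : Semireg (cj g K) (cj g R) := fun x hx h1 => by
  obtain ⟨y, hy, rfl⟩ := exists_of_mem_cj hx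
  rw [← cj_C1, ← cj_inf, h y hy (by rintro rfl; simp at h1), cj_bot]
theorem semireg_bot_r (K : Subgroup G) : Semireg K ⊥ := fun _ hx h => absurd hx h
theorem semireg_bot_l (R : Subgroup G) : Semireg ⊥ R := fun _ _ _ => bot_inf_eq _
theorem Semiprime.mono_l (h : Semiprime K R) (h1 : A ≤ K) : Semiprime A R := fun x hx h2 => by
  rw [← inf_eq_left.2 h1, inf_assoc, h x hx h2, inf_assoc]
theorem Semiprime.cent (h : Semiprime K R) (h1 : X ≤ R) (h2 : X ≠ ⊥) : K ⊓ C[X] = K ⊓ C[R] := by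
  obtain ⟨x, hx, h3⟩ : ∃ x ∈ X, x ≠ 1 := by
    by_contra hc; push Not at hc; exact h2 ((eq_bot_iff_forall X).2 hc)
  exact le_antisymm (h x (h1 hx) h3 ▸ inf_le_inf_left _ (C_le_C1 hx)) (inf_le_inf_left _ (centS h1))
theorem Semiprime.mono_r (h : Semiprime K R) (h1 : B ≤ R) : Semiprime K B := fun x hx h2 => by
  rw [h x (h1 hx) h2, h.cent h1 (fun e => h2 (by simpa [e] using hx))]
theorem Semiprime.mono (h : Semiprime K R) (h1 : A ≤ K) (h2 : B ≤ R) : Semiprime A B := (h.mono_l h1).mono_r h2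
theorem Semiprime.semireg (h : Semiprime K R) (h1 : K ⊓ C[R] = ⊥) : Semireg K R := fun x hx h2 =>
  (h x hx h2).trans h1
theorem Semiprime.cj (h : Semiprime K R) (g : G) : Semiprime (cj g K) (cj g R) := fun x hx h1 => by
  obtain ⟨y, hy, rfl⟩ := exists_of_mem_cj hx
  rw [← cj_C1, ← cj_inf, h y hy (by rintro rfl; simp at h1), cj_inf, cj_C]
theorem semiprime_bot_r (K : Subgroup G) : Semiprime K ⊥ := fun _ hx h => absurd hx h

section fin
variable [Finite G]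
theorem semireg_of_prime_sub (h : ∀ X ≤ R, (#X).Prime → K ⊓ C[X] = ⊥) : Semireg K R := fun x hx h1 => by
  obtain ⟨y, hy, h2⟩ := exists_prime_pow_mem h1
  rw [eq_bot_iff, ← h (zpowers y) (zpowers_le.2 (zpowers_le.2 hx hy)) (by rwa [card_zpowers']), C_zpowers]
  exact inf_le_inf_left _ (C1_le_of_mem_zpowers hy)
theorem semiprime_of_prime_sub (h : ∀ X ≤ R, (#X).Prime → K ⊓ C[X] ≤ C[R]) : Semiprime K R := fun x hx h1 => by
  obtain ⟨y, hy, h2⟩ := exists_prime_pow_mem h1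
  refine le_antisymm (le_inf inf_le_left ?_) (inf_le_inf_left _ (C_le_C1 hx))
  refine le_trans ?_ (h (zpowers y) (zpowers_le.2 (zpowers_le.2 hx hy)) (by rwa [card_zpowers']))
  rw [C_zpowers]; exact inf_le_inf_left _ (C1_le_of_mem_zpowers hy)
theorem semiprime_of_prime (h : (#R).Prime) (K : Subgroup G) : Semiprime K R := fun x hx h1 => by
  rw [C1_eq_of_prime h hx h1]
theorem semireg_of_prime (h : (#R).Prime) (h1 : K ⊓ C[R] = ⊥) : Semireg K R := (semiprime_of_prime h K).semireg h1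
theorem not_semireg (h : ¬ Semireg K R) : ∃ X ≤ R, (#X).Prime ∧ K ⊓ C[X] ≠ ⊥ := by
  by_contra hc; push Not at hc; exact h (semireg_of_prime_sub hc)
theorem Semireg.coprime (h : Semireg K R) (h1 : R ≤ N[K]) : (#R).Coprime #K := Core.coprime_of_fpf h1 h
theorem Semireg.card_dvd (h : Semireg K R) (h1 : R ≤ N[K]) : #R ∣ #K - 1 := by
  have := Core.card_dvd_of_free_conj R ((K : Set G) \ {1})
    (fun a ha s hs => ⟨conj_mem (h1 ha) hs.1, fun e => hs.2 (by simpa [mul_inv_eq_one] using e)⟩)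
    (fun a ha s hs e => by
      by_contra h2
      exact hs.2 (mem_bot.1 (h a ha h2 ▸ (⟨hs.1, mem_C1'.2 (by rw [← mul_inv_eq_iff_eq_mul, e])⟩ : s ∈ K ⊓ C1[a]))))
  rwa [Set.ncard_diff_singleton_of_mem (by simp)] at this
theorem Semireg.im (h : Semireg K R) (h1 : R ≤ N[K]) (hK : K ≤ φ.dom) (hR : R ≤ φ.dom) :
    Semireg (φ.im K) (φ.im R) := fun y hy h2 => by
  obtain ⟨x, hx, rfl⟩ := (mem_im' hR).1 hy
  have h3 : x ≠ 1 := by rintro rfl; exact h2 app_one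
  have hx' := zpowers_le.2 hx
  rw [← C_zpowers, ← im_zpowers (hR hx), ← im_IC (hx'.trans hR) hK
    (normI (hx'.trans h1) ((hx'.trans hR).trans dom_norm_ker))
    (coprimeS (h.coprime h1) hx' inf_le_left) (Or.inl (cyc_zpowers x).sol) (hx'.trans h1), C_zpowers,
    h x hx h3, im_bot]
theorem Semiprime.im (h : Semiprime K R) (h1 : R ≤ N[K]) (hK : K ≤ φ.dom) (hR : R ≤ φ.dom)
    (hc : (#R).Coprime #K) : Semiprime (φ.im K) (φ.im R) := fun y hy h2 => by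
  obtain ⟨x, hx, rfl⟩ := (mem_im' hR).1 hy
  have h3 : x ≠ 1 := by rintro rfl; exact h2 app_one
  have hx' := zpowers_le.2 hx
  refine le_antisymm ?_ (inf_le_inf_left _ (C_le_C1 hy))
  rw [← C_zpowers, ← im_zpowers (hR hx), ← im_IC (hx'.trans hR) hK
    (normI (hx'.trans h1) ((hx'.trans hR).trans dom_norm_ker))
    (coprimeS hc hx' inf_le_left) (Or.inl (cyc_zpowers x).sol) (hx'.trans h1), C_zpowers,
    h x hx h3]
  exact im_IC_le _ _
theorem Frob.coprime (h : Frob K R M) : (#R).Coprime #K := h.reg.coprime h.sd.norm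
theorem Frob.card_dvd (h : Frob K R M) : #R ∣ #K - 1 := h.reg.card_dvd h.sd.norm
/-- BG 3.3, abelian group form -/
theorem frob_cent_abel (hV : Abel V) (h1 : R ≤ N[K]) (h2 : Semireg K R) (h3 : K ≤ N[V]) (h4 : R ≤ N[V])
    (hc : (#K).Coprime #V) (h5 : V ⊓ C[R] = ⊥) : K ≤ C[V] :=
  Core.le_centralizer_of_frobenius_action hV.comm h1 h2 h3 h4 hc
    (le_bot_iff.1 (h5 ▸ inf_le_inf_right _ (commL h3)))
/-- BG 1.16 -/
theorem cop_gen_cent1 (hA : Abel A) (h1 : ¬ Cyc A) (h2 : A ≤ N[K]) (hc : (#A).Coprime #K)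
    (h : ∀ a ∈ A, a ≠ 1 → K ⊓ C1[a] ≤ H) : K ≤ H := Core.le_of_forall_inf_centralizer_le hA.comm h1 h2 hc h
theorem cop_exists_cent1 (hA : Abel A) (h1 : ¬ Cyc A) (h2 : A ≤ N[K]) (hc : (#A).Coprime #K) (h : K ≠ ⊥) :
    ∃ a ∈ A, a ≠ 1 ∧ K ⊓ C1[a] ≠ ⊥ := Core.exists_inf_centralizer_ne_bot hA.comm h1 h2 hc h
theorem cop_gen_cent_elem (hp : p.Prime) (hA : PnElem p (n + 2) A B) (h2 : A ≤ N[K]) (hc : PiG {p}ᶜ K)
    (h : ∀ X ≤ A, #X = p → K ⊓ C[X] ≤ H) : K ≤ H :=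
  cop_gen_cent1 hA.abel (hA.not_cyc hp) h2 ((hA.pig hp).coprime hc) fun a ha h1 => by
    rw [← C_zpowers]; exact h _ (zpowers_le.2 ha) (card_zpowers_of_pow hp (hA.2.2 a ha) h1)
theorem cop_exists_cent_elem (hp : p.Prime) (hA : PnElem p (n + 2) A B) (h2 : A ≤ N[K]) (hc : PiG {p}ᶜ K)
    (h : K ≠ ⊥) : ∃ X ≤ A, #X = p ∧ K ⊓ C[X] ≠ ⊥ := by
  by_contra hc'; push Not at hc'
  exact h (le_bot_iff.1 (cop_gen_cent_elem hp hA h2 hc fun X a b => (hc' X a b).le))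
theorem cop_abel_faithful_Om (hV : Abel V) (hp : PiG {p} V) (h1 : A ≤ N[V]) (hc : (#A).Coprime #V)
    (h : A ≤ C[Ω[p](V)]) : A ≤ C[V] :=
  Core.le_centralizer_of_prime_order hV.comm h1 hc fun v hv h2 =>
    cent_symm h (mem_Om hv (by rw [← show orderOf v = p from hp.elt hv _ h2 dvd_rfl, pow_orderOf_eq_one]))
theorem PiG.card_modEq (hP : PiG {p} P) (hp : p.Prime) (h : P ≤ N[K]) : #K ≡ #(K ⊓ C[P]) [MOD p] :=
  haveI := Fact.mk hp; Core.card_modEq_card_inf_centralizer (hP.pg hp) h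
theorem Cyc.cop_comm (h : Cyc P) (hP : PiG {p} P) (h1 : A ≤ N[P]) (hc : (#A).Coprime #P) :
    A ≤ C[P] ∨ ⁅P, A⁆ = P := by
  by_cases e : P = ⊥
  · left; rw [e, C_bot]; exact le_top
  haveI := Fact.mk (hP.prime e)
  rw [← comm_eq_bot, commC P]
  exact IsPGroup.commutator_eq_bot_or_commutator_eq_self (hP.pg (hP.prime e)) h1 hc.symm
theorem Cyc.cop_cent (h : Cyc P) (hP : PiG {p} P) (h1 : A ≤ N[P]) (hc : (#A).Coprime #P) (h2 : P ⊓ C[A] ≠ ⊥) :
    A ≤ C[P] := (h.cop_comm hP h1 hc).resolve_right fun e => h2 (e ▸ cop_abel_C_comm h.abel h1 hc)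

/-! ### relative cores -/
omit [Finite G] in
/-- the preimage of `O_π(H / K)` -/
def OM (π : Set ℕ) (K H : Subgroup G) : Subgroup G := (quo K).pre O[π](H ÷ K)
scoped notation:max "O2[" π ", " ρ "](" H ")" => Cfsg.Agent.BG.OM ρ (Cfsg.piCoreOf π H) H
omit [Finite G] in
theorem le_OM_self (π : Set ℕ) (K H : Subgroup G) : K ≤ OM π K H := le_pre_quo _ _
omit [Finite G] in
theorem OM_le (h1 : K ≤ H) (h2 : H ≤ N[K]) : OM π K H ≤ H :=
  pre_le_of_le_im (φ := quo K) h2 (by simpa) (O_le _ _)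
omit [Finite G] in
theorem OM_quo (π : Set ℕ) (K H : Subgroup G) : OM π K H ÷ K = O[π](H ÷ K) := quo_pre _
omit [Finite G] in
theorem normOM (h1 : X ≤ N[K]) (h2 : X ≤ N[H]) : X ≤ N[OM π K H] := norm_pre h1 (normO π (im_norm h2))
theorem OM_idx (π : Set ℕ) (K H : Subgroup G) : PiN π (K.relIndex (OM π K H)) := by
  rw [← card_quo (pre_le_dom _), OM_quo]; exact O_pig _ _
omit [Finite G] in
theorem le_OM (hK : H ≤ N[K]) (h1 : A ≤ H) (h2 : H ≤ N[A ⊔ K]) (h3 : PiN π (K.relIndex A)) : A ≤ OM π K H := by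
  refine (le_pre_iff (φ := quo K) (h1.trans hK)).2 (le_O (im_mono h1) ?_ (by rwa [PiG, card_quo (h1.trans hK)]))
  rw [← quo_sup_r (h1.trans hK)]; exact im_norm h2
omit [Finite G] in
theorem O2_le (π ρ : Set ℕ) (H : Subgroup G) : O2[π, ρ](H) ≤ H := OM_le (O_le _ _) (O_norm _ _)
omit [Finite G] in
theorem O_le_O2 (π ρ : Set ℕ) (H : Subgroup G) : O[π](H) ≤ O2[π, ρ](H) := le_OM_self _ _ _
omit [Finite G] in
theorem normO2 (π ρ : Set ℕ) (h : X ≤ N[H]) : X ≤ N[O2[π, ρ](H)] := normOM (normO π h) h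
omit [Finite G] in
theorem O2_norm (π ρ : Set ℕ) (H : Subgroup G) : H ≤ N[O2[π, ρ](H)] := normO2 π ρ (normG H)
omit [Finite G] in
theorem le_O2 (h1 : A ≤ H) (h2 : H ≤ N[A ⊔ O[π](H)]) (h3 : PiG ρ A) : A ≤ O2[π, ρ](H) :=
  le_OM (O_norm _ _) h1 h2 (h3.relIndex _)
theorem O_le_O2' (π ρ : Set ℕ) (H : Subgroup G) : O[ρ](H) ≤ O2[π, ρ](H) :=
  le_O2 (O_le _ _) (normY (O_norm _ _) (O_norm _ _)) (O_pig _ _)
theorem O2_eq_O (h : O[π](H) = ⊥) : O2[π, ρ](H) = O[ρ](H) :=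
  le_antisymm (le_O (O2_le _ _ _) (O2_norm _ _ _) (by
    have := OM_idx ρ O[π](H) H; rwa [h, relIndex_bot_left, ← h] at this)) (O_le_O2' _ _ _)
theorem Hall.prod_O2 (h : Hall ρ P O2[π, ρ](H)) : IsProd O[π](H) P O2[π, ρ](H) :=
  (h.prod_idx (O_le_O2 _ _ _) (OM_idx _ _ _)).symm
theorem O2_O2 (π ρ : Set ℕ) (H : Subgroup G) : O[π](O2[π, ρ](H)) = O[π](H) :=
  O_eq_of_normal π (O2_le _ _ _) (O2_norm _ _ _) (O_le_O2 _ _ _)
theorem O2_inf_le (π ρ : Set ℕ) (h : K ≤ H) : O2[π, ρ](H) ⊓ K ≤ O2[π, ρ](K) := by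
  refine le_OM (O_norm _ _) inf_le_right (normY (normI (h.trans (O2_norm _ _ _)) (normG K)) (O_norm _ _)) ?_
  refine (OM_idx ρ O[π](H) H).of_dvd ((relIndex_dvd_left (O_inf_le π h) _).trans ?_)
  rw [← inf_relIndex_right, inf_assoc, inf_eq_right.2 (inf_le_right : _ ≤ K), inf_relIndex_right]
  exact relIndex_dvd_of_norm (O_le_O2 _ _ _) inf_le_left (inf_le_right.trans (h.trans (O_norm _ _)))
theorem cj_O2 (g : G) (π ρ : Set ℕ) (H : Subgroup G) : cj g O2[π, ρ](H) = O2[π, ρ](cj g H) := by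
  have key : ∀ (g : G) (H : Subgroup G), cj g O2[π, ρ](H) ≤ O2[π, ρ](cj g H) := fun g H =>
    le_OM (O_norm _ _) (cj_mono g (O2_le _ _ _)) (normY (norm_cj.2 (O2_norm _ _ _)) (O_norm _ _))
      (by rw [← cj_O, relIndex_cj]; exact OM_idx _ _ _)
  refine le_antisymm (key g H) (le_cj_iff.2 ?_)
  simpa using key g⁻¹ (cj g H)
theorem im_O2_le [Finite G'] (π ρ : Set ℕ) (h : H ≤ φ.dom) : φ.im O2[π, ρ](H) ≤ O2[π, ρ](φ.im H) :=
  le_OM (O_norm _ _) (im_mono (O2_le _ _ _)) (normY (im_norm (O2_norm _ _ _)) (O_norm _ _))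
    ((OM_idx ρ O[π](H) H).of_dvd ((relIndex_dvd_left (im_O_le π H) _).trans
      (relIndex_im_dvd (O_le_O2 _ _ _) ((O2_le _ _ _).trans h))))
theorem im_O2 [Finite G'] (h : H ≤ φ.dom) (h1 : PiG π (H ⊓ φ.ker)) : φ.im O2[π, ρ](H) = O2[π, ρ](φ.im H) := by
  apply le_antisymm (im_O2_le _ _ h)
  rw [← im_pre_inf (O2_le π ρ (φ.im H))]
  refine im_mono (le_OM (O_norm _ _) inf_le_right
    (normY (normI (norm_pre h (O2_norm _ _ _)) (normG H)) (O_norm _ _)) ?_)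
  have h2 : O[π](H) = φ.pre O[π](φ.im H) ⊓ H := by
    rw [← im_O h h1, pre_im ((O_le _ _).trans h), modl_r (((O_le _ _).trans h).trans dom_norm_ker) (O_le _ _),
      eq_comm, sup_eq_left]
    exact le_O inf_le_right (normI (h.trans dom_norm_ker) (normG H)) (inf_comm H _ ▸ h1)
  rw [h2, inf_comm _ H, ← inf_relIndex_right, inf_right_comm, inf_eq_right.2 inf_le_right, inf_comm,
    inf_relIndex_right, relIndex_pre _ (inf_le_right.trans h), im_pre_inf (O2_le π ρ (φ.im H))]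
  exact OM_idx _ _ _
theorem O2_quo_O (π ρ : Set ℕ) (H : Subgroup G) : O2[π, ρ](H) ÷ O[π](H) = O[ρ](H ÷ O[π](H)) := OM_quo _ _ _
theorem O2_top (hp : p.Prime) : O2[{p}ᶜ, {p}]((⊤ : Subgroup G)) = pPrimePCore p G := by
  have h := im_O2 (φ := tot (QuotientGroup.mk' (pPrimeCore p G))) (H := ⊤) (π := {p}ᶜ) (ρ := {p}) le_top
    (by rw [tot_ker, QuotientGroup.ker_mk', top_inf_eq, pPrimeCore_eq hp]; exact O_pig _ _)
  rw [tot_im, tot_im, map_top_of_surjective _ (QuotientGroup.mk'_surjective _),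
    O2_eq_O (G := G ⧸ pPrimeCore p G) (by rw [← pPrimeCore_eq hp]; exact PLoc.pPrimeCore_quotient_pPrimeCore),
    ← pCore_eq (G := G ⧸ pPrimeCore p G) hp] at h
  rw [pPrimePCore, ← h, comap_map_eq_self]
  rw [QuotientGroup.ker_mk', pPrimeCore_eq hp]; exact O_le_O2 _ _ _
theorem O2_map (hp : p.Prime) (H : Subgroup G) : (pPrimePCore p H).map H.subtype = O2[{p}ᶜ, {p}](H) := by
  rw [← O2_top hp, ← rst_im_self, ← im_O2 (φ := rst H) (H := H) le_rfl (by simpa using pig_bot _), ← rst_pre,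
    pre_im_of_le (φ := rst H) (O2_le _ _ H) (by simp)]
/-- BG 1.15(a), Hall–Higman -/
theorem C_syl_O2_le (hs : Sol H) (hP : Hall π P O2[πᶜ, π](H)) : H ⊓ C[P] ≤ O2[πᶜ, π](H) := by
  refine (le_pre_iff (φ := quo O[πᶜ](H)) (inf_le_left.trans (O_norm _ _))).2 ?_
  refine (im_IC_le _ _).trans (le_trans (le_of_eq ?_) (C_O_le (hs.im _) (O_quo_O _ _)))
  rw [← O2_quo_O, ← hP.prod_O2.sup, quo_sup_l (hP.le.trans ((O2_le _ _ _).trans (O_norm _ _)))]

/-! ### `p`-length one -/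
omit [Finite G] in
/-- `H` has `p`-length at most one -/
def PL1 (p : ℕ) (H : Subgroup G) : Prop := PiN {p}ᶜ (O2[{p}ᶜ, {p}](H).relIndex H)
theorem pl1_of (h1 : K ≤ L) (h2 : L ≤ H) (h3 : H ≤ N[K]) (h4 : H ≤ N[L]) (h5 : PiG {p}ᶜ K)
    (h6 : PiN {p} (K.relIndex L)) (h7 : PiN {p}ᶜ (L.relIndex H)) : PL1 p H :=
  h7.of_dvd (relIndex_dvd_left (le_OM (O_norm _ _) h2 (normY h4 (O_norm _ _))
    (h6.of_dvd (relIndex_dvd_left (le_O (h1.trans h2) h3 h5) _))) _)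
theorem PL1.of_le (h : PL1 p H) (h1 : K ≤ H) : PL1 p K :=
  h.of_dvd ((relIndex_dvd_left (O2_inf_le _ _ h1) _).trans (by
    rw [inf_relIndex_right]; exact relIndex_dvd_of_norm (O2_le _ _ _) h1 (h1.trans (O2_norm _ _ _))))
theorem PL1.im [Finite G'] (h : PL1 p H) (h1 : H ≤ φ.dom) : PL1 p (φ.im H) :=
  h.of_dvd ((relIndex_dvd_left (im_O2_le _ _ h1) _).trans (relIndex_im_dvd (O2_le _ _ _) h1))
theorem pl1_of_im [Finite G'] (h1 : H ≤ φ.dom) (h2 : PiG {p}ᶜ (H ⊓ φ.ker)) (h : PL1 p (φ.im H)) : PL1 p H := by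
  rw [PL1, ← im_O2 h1 h2, ← relIndex_pre _ h1, pre_im ((O2_le _ _ _).trans h1), ← inf_relIndex_right,
    modl_r (((O2_le _ _ _).trans h1).trans dom_norm_ker) (O2_le _ _ _), sup_eq_left.2] at h
  · exact h
  · exact (le_O inf_le_right (normI (h1.trans dom_norm_ker) (normG H)) (inf_comm H _ ▸ h2)).trans (O_le_O2 _ _ _)
theorem pl1_of_normal (h : PL1 p K) (h1 : K ≤ H) (h2 : H ≤ N[K]) (h3 : PiN {p}ᶜ (K.relIndex H)) : PL1 p H :=
  pl1_of (O_le_O2 {p}ᶜ {p} K) ((O2_le _ _ _).trans h1) (normO _ h2) (normO2 _ _ h2) (O_pig _ _) (OM_idx _ _ _)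
    (by rw [← relIndex_mul_relIndex _ K H (O2_le _ _ _) h1]; exact h.mul h3)
theorem pl1_of_pig' (h : PiG {p}ᶜ H) : PL1 p H := h.relIndex _
theorem pl1_of_syl_norm (hP : Syl p P H) (hK : PiG {p}ᶜ K) (h1 : K ≤ H) (h2 : H ≤ N[K]) (h3 : H ≤ N[K ⊔ P]) :
    PL1 p H :=
  pl1_of le_sup_left (sup_le h1 hP.le) h2 h3 hK (by rw [relIndex_sup_l (hP.le.trans h2)]; exact hP.pi.relIndex _)
    (hP.idx.of_dvd (relIndex_dvd_left le_sup_right _))
theorem pl1_of_normal_syl (hP : Syl p P H) (h3 : H ≤ N[P]) : PL1 p H :=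
  pl1_of_syl_norm hP (pig_bot _) bot_le (norm_bot _) (by rwa [bot_sup_eq])
theorem pl1_of_pig (h : PiG {p} H) : PL1 p H := pl1_of_normal_syl (hall_self h) (normG H)
theorem Nil.pl1 (h : Nil H) : PL1 p H := pl1_of_normal_syl (h.hall_O _) (O_norm _ _)
theorem PL1.syl_le (h : PL1 p H) (hP : PiG {p} P) (h1 : P ≤ H) : P ≤ O2[{p}ᶜ, {p}](H) :=
  hP.le_of_idx (O2_norm _ _ _) h1 h
theorem PL1.O2_eq (h : PL1 p H) (hP : Syl p P H) : O2[{p}ᶜ, {p}](H) = O[{p}ᶜ](H) ⊔ P :=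
  (hP.sub (h.syl_le hP.pi hP.le) (O2_le _ _ _)).prod_O2.sup.symm
theorem PL1.norm_sup (h : PL1 p H) (hP : Syl p P H) : H ≤ N[O[{p}ᶜ](H) ⊔ P] := h.O2_eq hP ▸ O2_norm _ _ _
theorem PL1.hall_O (h : PL1 p H) (h1 : O[{p}ᶜ](H) = ⊥) : Syl p O[{p}](H) H :=
  ⟨O_le _ _, O_pig _ _, by rw [← O2_eq_O h1]; exact h⟩
theorem PL1.syl_quo (h : PL1 p H) : Syl p O[{p}](H ÷ O[{p}ᶜ](H)) (H ÷ O[{p}ᶜ](H)) :=
  (h.im (φ := quo _) (O_norm _ _)).hall_O (O_quo_O _ _)
/-- BG 6.6(a) -/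
theorem PL1.frattini (h : PL1 p H) (hp : p.Prime) (hP : Syl p P H) : IsProd O[{p}ᶜ](H) (H ⊓ N[P]) H := by
  have h1 := Syl.frattini (hP.sub (h.syl_le hP.pi hP.le) (O2_le _ _ _)) hp (O2_le _ _ _) (O2_norm _ _ _)
  refine isProd_of_l (inf_le_left.trans (O_norm _ _)) (le_antisymm (sup_le (O_le _ _) inf_le_left) ?_)
  exact h1.sup.ge.trans (sup_le ((h.O2_eq hP).le.trans (sup_le_sup_left (le_inf hP.le (normG P)) _)) le_sup_right)
theorem pl1_cj : PL1 p (cj g H) ↔ PL1 p H := by rw [PL1, ← cj_O2, relIndex_cj]; rfl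
theorem pl1_top (hp : p.Prime) : PLengthLE p 1 G ↔ PL1 p (⊤ : Subgroup G) := by
  have e1 : (upperPSeries p G 1).1 = pPrimeCore p G := by
    have := Core.comap_pPrimeCore_of_coprime (G := G) p (N := ⊥) (by simp)
    exact this
  have e2 : (upperPSeries p G 2).1 = pPrimePCore p G := by
    have h := im_O2 (φ := tot (QuotientGroup.mk' (upperPSeries p G 1).1)) (H := ⊤) (π := {p}ᶜ) (ρ := {p}) le_top
      (by rw [tot_ker, QuotientGroup.ker_mk', top_inf_eq, e1, pPrimeCore_eq hp]; exact O_pig _ _)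
    have h2 := im_O (φ := tot (QuotientGroup.mk' (upperPSeries p G 1).1)) (A := ⊤) (π := {p}ᶜ) le_top
      (by rw [tot_ker, QuotientGroup.ker_mk', top_inf_eq, e1, pPrimeCore_eq hp]; exact O_pig _ _)
    rw [tot_im, tot_im, map_top_of_surjective _ (QuotientGroup.mk'_surjective _)] at h h2
    rw [O2_eq_O (G := G ⧸ (upperPSeries p G 1).1)
      (by rw [← h2, Subgroup.map_eq_bot_iff, QuotientGroup.ker_mk', e1, pPrimeCore_eq hp]),
      ← pCore_eq (G := G ⧸ (upperPSeries p G 1).1) hp, O2_top hp] at h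
    change (pCore p (G ⧸ (upperPSeries p G 1).1)).comap (QuotientGroup.mk' _) = _
    rw [← h, comap_map_eq_self]
    rw [QuotientGroup.ker_mk', e1, pPrimeCore_eq hp, ← O2_top hp]; exact O_le_O2 _ _ _
  change (pPrimeCore p (G ⧸ (upperPSeries p G 2).1)).comap (QuotientGroup.mk' _) = ⊤ ↔ _
  rw [PL1, O2_top hp, ← e2, relIndex_top_right, ← comap_top (QuotientGroup.mk' (upperPSeries p G 2).1),
    (comap_injective (QuotientGroup.mk'_surjective _)).eq_iff, pPrimeCore_eq hp, index_eq_card, ← card_top]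
  exact ⟨fun h => h ▸ O_pig _ _, O_eq_self⟩
theorem pl1_iff (hp : p.Prime) : PLengthLE p 1 H ↔ PL1 p H := by
  rw [pl1_top hp, ← rst_im_self]
  exact ⟨pl1_of_im le_rfl (by simpa using pig_bot _), fun h => h.im le_rfl⟩

/-! ### normal `p`-complements, transfer -/
omit [Finite G] in
/-- `H` has a normal `p`-complement -/
abbrev PNil (p : ℕ) (H : Subgroup G) : Prop := Hall {p}ᶜ O[{p}ᶜ](H) H
theorem pnil_iff_npc (hp : p.Prime) : PNil p H ↔ PLoc.NPC p H := by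
  haveI := Fact.mk hp
  constructor
  · intro h
    exact PLoc.npc_of_normal (O_norm _ _) ((pin_compl_cop hp).1 h.pi)
      ((pin_single hp (relIndex_pos _ _).ne').1 (by simpa using h.idx))
  · intro h
    refine ⟨O_le _ _, O_pig _ _, ?_⟩
    rw [← pPrimeCore_map hp, PLoc.pPrimeCoreOf_def, ← h.pResOf_eq_pPrimeCoreOf, compl_compl,
      pin_single hp (relIndex_pos _ _).ne']
    exact PLoc.relIndex_pResOf H
theorem pnil_iff (hp : p.Prime) : HasNormalPComplement p H ↔ PNil p H := by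
  haveI := Fact.mk hp; rw [pnil_iff_npc hp, PLoc.hasNPC_iff]
theorem pnil_top (hp : p.Prime) : HasNormalPComplement p G ↔ PNil p (⊤ : Subgroup G) := by
  haveI := Fact.mk hp; rw [pnil_iff_npc hp, PLoc.hasNPC_iff_top]
theorem PNil.of_le (h : PNil p H) (h1 : K ≤ H) : PNil p K := h.O_sub h1
theorem pnil_of (h1 : K ≤ H) (h2 : H ≤ N[K]) (h3 : PiG {p}ᶜ K) (h4 : PiN {p} (K.relIndex H)) : PNil p H :=
  (Hall.mk h1 h3 h4.compl_compl).hall_O h2
theorem PNil.pl1 (h : PNil p H) : PL1 p H :=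
  pl1_of (O_le _ _) le_rfl (O_norm _ _) (normG H) (O_pig _ _) (by simpa using h.idx) (by simpa using pin_one _)
theorem PNil.sdprod (h : PNil p H) (hP : Syl p P H) : Sdprod O[{p}ᶜ](H) P H :=
  Hall.sdprod h (O_norm _ _) (by simpa using hP)
theorem PNil.im [Finite G'] (h : PNil p H) (h1 : H ≤ φ.dom) : PNil p (φ.im H) :=
  (Hall.im h h1).hall_O (im_norm (O_norm _ _))
theorem pnil_of_im [Finite G'] (h1 : H ≤ φ.dom) (h2 : PiG {p}ᶜ (H ⊓ φ.ker)) (h : PNil p (φ.im H)) : PNil p H := by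
  refine ⟨O_le _ _, O_pig _ _, ?_⟩
  have := h.idx
  rw [← im_O h1 h2, ← relIndex_pre _ h1, pre_im ((O_le _ _).trans h1), ← inf_relIndex_right,
    modl_r (((O_le _ _).trans h1).trans dom_norm_ker) (O_le _ _), sup_eq_left.2] at this
  · exact this
  · exact le_O inf_le_right (normI (h1.trans dom_norm_ker) (normG H)) (inf_comm H _ ▸ h2)
/-- Burnside's transfer theorem -/
theorem burnside (hp : p.Prime) (hP : Syl p P H) (h : H ⊓ N[P] ≤ C[P]) : PNil p H :=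
  haveI := Fact.mk hp; (pnil_iff_npc hp).2 (((syl_iff' hp).1 hP).npc_of_burnside h)
theorem PNil.der_inf (h : PNil p H) (hP : Syl p P H) : P ⊓ ⁅H, H⁆ = ⁅P, P⁆ := by
  have h1 := h.sdprod hP
  refine le_antisymm ?_ (le_inf (der_le P) (derS hP.le))
  have h2 : ⁅H, H⁆ ≤ ⁅P, P⁆ ⊔ O[{p}ᶜ](H) := by
    have e : H ÷ O[{p}ᶜ](H) = P ÷ O[{p}ᶜ](H) := (congrArg _ h1.sup.symm).trans (quo_sup_l h1.norm)
    rw [← quo_le_iff ((der_le H).trans h1.nl) ((der_le P).trans h1.norm), im_der h1.nl, im_der h1.norm, e]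
  refine (inf_le_inf_left _ h2).trans ?_
  rw [inf_comm, modl_r ((der_le P).trans h1.norm) (der_le P), h1.inf, sup_bot_eq]
/-- focal subgroup theorem -/
theorem focal_le (hp : p.Prime) (hP : Syl p P H) (h : ∀ x ∈ P, ∀ g ∈ H, g * x * g⁻¹ ∈ P → x⁻¹ * (g * x * g⁻¹) ∈ K) :
    P ⊓ ⁅H, H⁆ ≤ K := by
  haveI := Fact.mk hp
  obtain ⟨S, rfl⟩ := hP.exists_sylow hp
  rw [← map_subtype_commutator, ← map_inf _ _ _ H.subtype_injective, inf_comm,
    commutator_inf_eq_focalSubgroup, map_le_iff_le_comap, focalSubgroup_def, closure_le]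
  rintro _ ⟨h1, x, hx, u, rfl⟩
  have h2 : u * x⁻¹ * u⁻¹ ∈ (S : Subgroup H) := by
    have := mul_mem (inv_mem hx) h1; simpa [commutatorElement_def, mul_assoc] using this
  have := h _ ⟨x⁻¹, inv_mem hx, rfl⟩ u u.2 ⟨_, h2, rfl⟩
  simpa [commutatorElement_def, mul_assoc, mem_subgroupOf] using this
/-- BG 1.19(a) -/
theorem cyc_syl_der (hp : p.Prime) (hP : Syl p P H) (h : Cyc P) : P ⊓ ⁅H, H⁆ = ⊥ ∨ P ≤ ⁅H, H⁆ := by
  by_cases h1 : H ⊓ N[P] ≤ C[P]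
  · left; rw [(burnside hp hP h1).der_inf hP, abel_iff_der.1 h.abel]
  · right
    obtain ⟨K, hK⟩ := (hP.sub (le_inf hP.le (normG P)) inf_le_left).exists_sdprod inf_le_right
    rcases h.cop_comm hP.pi hK.norm ((hK.hall_compl (hP.sub (le_inf hP.le (normG P)) inf_le_left)).pi.coprime' hP.pi)
      with h2 | h2
    · exact absurd (hK.sup ▸ sup_le h.abel h2) h1
    · exact h2.ge.trans (commS hP.le (hK.right.trans inf_le_left))
theorem cyc_syl_der_idx (hp : p.Prime) (hP : Syl p P H) (h : Cyc P) (h2 : p ∣ #⁅H, H⁆) :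
    ¬ p ∣ ⁅H, H⁆.relIndex H := by
  rcases cyc_syl_der hp hP h with h1 | h1
  · exact absurd h1 ((hP.inf_norm' (der_le H) (der_norm H)).ne_bot hp rfl h2)
  · exact fun h3 => Syl.not_dvd hP hp (h3.trans (relIndex_dvd_left h1 _))

/-! ### Z-groups, metacyclic groups, exponent -/
omit [Finite G] in
/-- all Sylow subgroups are cyclic -/
def ZG (H : Subgroup G) : Prop := ∀ p, p.Prime → ∀ P ≤ H, PiG {p} P → Cyc P
theorem zg_iff : IsZGroup H ↔ ZG H := by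
  constructor
  · intro h p hp P h1 h2
    obtain ⟨Q, a, b⟩ := syl_superset hp h1 h2
    obtain ⟨S, rfl⟩ := a.exists_sylow hp
    exact (Cyc.map (h.1 p hp S) _).of_le b
  · intro h
    exact ⟨fun p hp S => (cyc_map_inj H.subtype_injective).1 (h p hp _ (syl_map hp S).le (syl_map hp S).pi)⟩
omit [Finite G] in
theorem ZG.of_le (h : ZG H) (h1 : K ≤ H) : ZG K := fun p hp P a b => h p hp P (a.trans h1) b
omit [Finite G] in
theorem Cyc.zg (h : Cyc H) : ZG H := fun _ _ _ a _ => h.of_le a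
theorem ZG.rank_le (h : ZG H) : r(H) ≤ 1 := rank_le_iff.2 fun p hp =>
  pRank_le_of hp fun _ hE => hE.not_cyc hp (h p hp _ hE.1 (hE.pig hp))
theorem ZG.cyc (h : ZG H) (h2 : Nil H) : Cyc H := h2.cyc_of_syl fun p hp _ hP => h p hp _ hP.le hP.pi
theorem ZG.der_cyc (h : ZG H) : Cyc ⁅H, H⁆ := by
  haveI := zg_iff.2 h
  rw [← map_subtype_commutator]; exact Cyc.map (IsZGroup.isCyclic_commutator H) _
theorem ZG.sol (h : ZG H) : Sol H := haveI := zg_iff.2 h; inferInstance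
theorem ZG.der_hall (h : ZG H) : (#⁅H, H⁆).Coprime (⁅H, H⁆.relIndex H) :=
  Nat.coprime_of_dvd fun p hp hd => by
    obtain ⟨P, hP⟩ := syl_exists hp H
    exact cyc_syl_der_idx hp hP (h p hp P hP.le hP.pi) hd
theorem ZG.im [Finite G'] (h : ZG H) (h1 : H ≤ φ.dom) : ZG (φ.im H) := fun p hp P a b => by
  obtain ⟨Q, hQ⟩ := syl_exists hp H
  obtain ⟨g, -, h2⟩ := Syl.sub_cj (hQ.im h1) hp a b
  exact (cyc_cj.2 ((h p hp Q hQ.le hQ.pi).im φ)).of_le h2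
theorem ZG.cyc_quo_der (h : ZG H) : Cyc (H ÷ ⁅H, H⁆) :=
  (h.im (φ := quo _) (der_norm H)).cyc ((quo_abel_iff (der_norm H)).2 le_rfl).nil
omit [Finite G] in
/-- metacyclic subgroup -/
def Metacyc (R : Subgroup G) : Prop := ∃ K, K ≤ R ∧ R ≤ N[K] ∧ Cyc K ∧ Cyc (R ÷ K)
omit [Finite G] in
theorem exp_dvd_iff : Monoid.exponent H ∣ n ↔ ∀ x ∈ H, x ^ n = 1 := by
  rw [Monoid.exponent_dvd_iff_forall_pow_eq_one]
  exact ⟨fun h x hx => congrArg Subtype.val (h ⟨x, hx⟩), fun h x => Subtype.ext (h x x.2)⟩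
omit [Finite G] in
theorem exp_mono (h : H ≤ K) : Monoid.exponent H ∣ Monoid.exponent K :=
  exp_dvd_iff.2 fun x hx => exp_dvd_iff.1 dvd_rfl x (h hx)
/-- BG 1.22 -/
theorem PiG.exists_normal (hP : PiG {p} P) (hp : p.Prime) (h1 : K ≤ P) (h2 : P ≤ N[K]) (h3 : p ^ n ∣ #K) :
    ∃ L ≤ K, P ≤ N[L] ∧ #L = p ^ n := by
  induction n with
  | zero => exact ⟨⊥, bot_le, norm_bot _, by simp⟩
  | succ n ih =>
    obtain ⟨L, a, b, c⟩ := ih ((pow_dvd_pow p n.le_succ).trans h3)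
    have h4 : K ÷ L ≠ ⊥ := fun e => by
      rw [quo_bot_iff (h1.trans b)] at e
      have := Nat.le_of_dvd (card_pos _) (h3.trans (cardS e))
      rw [c, Nat.pow_le_pow_iff_right hp.one_lt] at this; omega
    obtain ⟨X, x1, x2⟩ := ((hP.im (quo L)).of_le (inf_le_left.trans (im_mono h1))).exists_prime_sub
      ((hP.im (quo L)).nil.meet_C (im_mono h1) (im_norm h2) h4)
    obtain ⟨Y, y1, y2, rfl⟩ := exists_quo_eq (h1.trans b) a (x1.trans inf_le_left)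
    refine ⟨Y, y2, norm_of_im (φ := quo L) b (y2.trans (h1.trans b)) (by simpa)
      (cents_norm (cent_symm (x1.trans inf_le_right))), ?_⟩
    rw [← card_mul_relIndex y1, ← card_quo (y2.trans (h1.trans b)), x2, c, pow_succ]
/-- Maschke's theorem, BG 1.20 -/
theorem maschke (hp : p.Prime) (hV : Abelem p V) (h1 : U ≤ V) (h2 : A ≤ N[V]) (h3 : A ≤ N[U])
    (hc : PiG {p}ᶜ A) : ∃ W, Dprod U W V ∧ A ≤ N[W] := by
  obtain ⟨D, hD⟩ := hV.exists_compl hp h1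
  have hs := sdprod_sup ((hV.pig hp).inf_bot hc) h2
  have nU : V ⊔ A ≤ N[U] := sup_le (abel_norm hV.1 h1) h3
  haveI := normal_subgroupOf nU
  haveI := Core.isMulCommutative_subgroupOf (hV.1.of_le h1).comm (V ⊔ A)
  obtain ⟨T, hT⟩ := Core.gaschuetz_exists (U.subgroupOf (V ⊔ A)) (V.subgroupOf (V ⊔ A))
    (by rw [Core.card_subgroupOf_of_le (h1.trans le_sup_left)]
        exact ((hV.pig hp).of_le h1).coprime (hs.hall_l (hV.pig hp) hc).idx)
    (D.subgroupOf _) (by rw [← rst_im, ← rst_im, ← im_inf' (h1.trans le_sup_left) (by simp), hD.inf, im_bot])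
    (by rw [← rst_im, ← rst_im, ← im_sup (h1.trans le_sup_left) (hD.right.trans le_sup_left), hD.sup, rst_im])
  have h4 : Sdprod U (T.map (V ⊔ A).subtype) (V ⊔ A) :=
    ⟨by rw [← map_subgroupOf_eq_of_le (h1.trans le_sup_left : U ≤ V ⊔ A), ← Subgroup.map_sup, hT.sup_eq_top,
        map_subtype_top],
     by rw [← map_subgroupOf_eq_of_le (h1.trans le_sup_left : U ≤ V ⊔ A), ← map_inf _ _ _ (subtype_injective _),
        disjoint_iff.1 hT.disjoint, Subgroup.map_bot], (map_subtype_le _).trans nU⟩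
  have h5 := h4.modl' h1 le_sup_left
  refine ⟨_, ⟨h5.sup, h5.inf, centSS hV.1 h5.right h1⟩, le_sup_right.trans (h4.sup.ge.trans (sup_le ?_ ?_))⟩
  · exact cents_norm (centSS hV.1 h1 h5.right)
  · exact normI (normG _) (h4.right.trans hs.nl)
end fin

/-! ### trivial intersection sets -/
/-- `A` is a nonempty TI-subset of the whole group with normalizer `L` -/
structure NTI (A : Set G) (L : Subgroup G) : Prop where
  ne : A.Nonempty
  norm : ∀ g ∈ L, ∀ x ∈ A, g * x * g⁻¹ ∈ A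
  ti : ∀ g, ∀ x ∈ A, g * x * g⁻¹ ∈ A → g ∈ L

end Cfsg.Agent.BG
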