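import Cfsg.Agent.BG.S01
import Cfsg.Agent.Core.Quaternion
import Cfsg.Prelude.Def_LieExceptional
/-!
Groups in which the centralizer of every nonidentity element is nilpotent.
-/
set_option autoImplicit false

namespace Cfsg.Agent.CN
open Subgroup Cfsg.Agent.BG Cfsg.Agent.BG.PHom

universe u
variable {G : Type*} [Group G] [Finite G]
variable {A B D E H K L M P Q R S X Y Z : Subgroup G} {x y z g : G} {π : Set ℕ} {p q : ℕ}

omit [Finite G] in
theorem nil_C (h : IsCNGroup G) (hX : X ≠ ⊥) : Nil C[X] := by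
  obtain ⟨x, a, b⟩ := (Subgroup.bot_or_exists_ne_one X).resolve_left hX
  exact Nil.of_le (h x b) (C_le_C1 a)

omit [Finite G] in
theorem exists_Z (hA : Nil A) (h : A ≠ ⊥) : ∃ z ∈ A, z ≠ 1 ∧ A ≤ C1[z] := by
  obtain ⟨z, a, b⟩ := (Subgroup.bot_or_exists_ne_one _).resolve_left (hA.Z_ne_bot h)
  exact ⟨z, a.1, b, le_C1_iff.2 a.2⟩

/-- nilpotent subgroups of coprime orders with commuting nonidentity elements centralize each other -/
theorem key (h : IsCNGroup G) (hA : Nil A) (hB : Nil B) (hc : (#A).Coprime #B) (hx : x ∈ A) (hy : y ∈ B)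
    (x1 : x ≠ 1) (y1 : y ≠ 1) (e : x * y = y * x) : A ≤ C[B] := by
  obtain ⟨z, z1, z2, z3⟩ := exists_Z hA (ne_bot_of_mem hx x1)
  obtain ⟨w, w1, w2, w3⟩ := exists_Z hB (ne_bot_of_mem hy y1)
  have st : ∀ {u : G} {X Y : Subgroup G}, u ≠ 1 → X ≤ A → Y ≤ B → X ≤ C1[u] → Y ≤ C1[u] → X ≤ C[Y] :=
    fun a b c d e => Nil.cent_cop (h _ a) d e (coprimeS hc b c)
  have s1 := st x1 (zpowers_le.2 z1) (zpowers_le.2 hy) (zpowers_le.2 (C1_symm (z3 hx)))
    (zpowers_le.2 (mem_C1'.2 e))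
  rw [C_zpowers] at s1
  have s2 := st y1 (zpowers_le.2 z1) (zpowers_le.2 w1) s1 (zpowers_le.2 (C1_symm (w3 hy)))
  have s3 := st z2 le_rfl (zpowers_le.2 w1) z3 (by rw [← C_zpowers]; exact cent_symm s2)
  rw [C_zpowers] at s3
  exact st w2 le_rfl le_rfl s3 w3

/-- a Sylow subgroup centralizing a nontrivial normal subgroup is normal -/
theorem syl_normal (h : IsCNGroup G) (hp : p.Prime) (hP : Syl p P ⊤) (h1 : ⊤ ≤ N[X]) (h2 : X ≠ ⊥)
    (h3 : P ≤ C[X]) : ⊤ ≤ N[P] :=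
  (hP.sub h3 le_top).norm_char ((nil_C h h2).syl_norm hp (hP.sub h3 le_top)) (normC h1)

theorem mem_C_of_O (hH : Nil H) (h1 : x ∈ O[π](H)) (h2 : x ∈ C[O[π](H)]) : x ∈ C[H] := by
  have := centY (zpowers_le.2 h2) (zpowers_le.2 (O_cent_O π H h1))
  rw [(hH.dprod_O π).sup] at this
  exact this (mem_zpowers x)

theorem exists_Z_pi (hH : Nil H) (h : O[π](H) ≠ ⊥) : ∃ z ∈ H, z ≠ 1 ∧ PiE π z ∧ H ≤ C1[z] := by
  obtain ⟨z, a, b, c⟩ := exists_Z (hH.of_le (O_le π H)) h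
  exact ⟨z, O_le _ _ a, b, (O_pig _ _).elt a, le_C1_iff.2 (mem_C_of_O hH a (le_C1_iff.1 c))⟩

section maxnil
variable (h : IsCNGroup G) (hH : Nil H) (hm : ∀ L : Subgroup G, Nil L → H ≤ L → L = H)
include h hm

omit [Finite G] in
theorem max_C1 (hz : z ≠ 1) (h1 : H ≤ C1[z]) : C1[z] = H := hm _ (h z hz) h1

include hH
theorem max_hall : (#H).Coprime H.index := by
  refine Nat.coprime_of_dvd fun p hp a b => ?_
  obtain ⟨z, z1, z2, z3, z4⟩ := exists_Z_pi hH (hH.O_ne_bot hp a (Set.mem_singleton p))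
  obtain ⟨S, s1, s2⟩ := syl_superset hp (le_top (a := O[{p}](H))) (O_pig _ _)
  obtain ⟨w, w1, w2, w3⟩ := exists_Z s1.pi.nil (s1.ne_bot' hp (a.trans (cardS le_top)))
  have w4 : w ∈ H := max_C1 h hm z2 z4 ▸ C1_symm (w3 (s2 (hH.mem_O z1 z3)))
  have w5 := mem_C_of_O hH (hH.mem_O w4 (s1.pi.elt w1)) (le_C1_iff.1 (s2.trans w3))
  have := max_C1 h hm w2 (le_C1_iff.2 w5) ▸ w3
  exact s1.not_dvd hp (b.trans (by rw [← relIndex_top_right]; exact relIndex_dvd_left this ⊤))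

theorem max_C1_le (h1 : ¬ IsPrimePow #H) (hx : x ∈ H) (x1 : x ≠ 1) : C1[x] ≤ H := by
  obtain ⟨y, y1, hp⟩ := exists_prime_pow_mem x1
  have yH := (zpowers_le.2 hx) y1
  have y0 : y ≠ 1 := fun e => hp.ne_one (by rw [e, orderOf_one])
  refine (C1_le_of_mem_zpowers y1).trans ?_
  obtain ⟨z, z1, z2, z3, z4⟩ := exists_Z_pi hH (hH.O_ne_bot hp (orderOf_dvd yH) (Set.mem_singleton _))
  have ne : O[{orderOf y}ᶜ](H) ≠ ⊥ := fun e => by
    have := (hH.dprod_O {orderOf y}).sup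
    rw [e, sup_bot_eq] at this
    obtain ⟨k, hk⟩ := (this ▸ O_pig {orderOf y} H : PiG _ H).card_pow hp
    refine h1 (hk ▸ hp.isPrimePow.pow fun e => ?_)
    rw [e, pow_zero] at hk
    exact (one_lt_card (ne_bot_of_mem hx x1)).ne' hk
  obtain ⟨w, w1, w2, w3, w4⟩ := exists_Z_pi hH ne
  have n := h y y0
  rw [← (Nil.dprod_O n {orderOf y}).sup]
  refine sup_le ?_ ?_
  · rw [← max_C1 h hm w2 w4, ← C_zpowers w]
    exact Nil.cent n (O_le _ _) (zpowers_le.2 (C1_symm (w4 yH))) (O_pig _ _) (pig_zpowers.2 w3)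
  · rw [← max_C1 h hm z2 z4, ← C_zpowers z]
    exact cent_symm (Nil.cent n (zpowers_le.2 (C1_symm (z4 yH))) (O_le _ _) (pig_zpowers.2 z3) (O_pig _ _))

theorem max_ti (h1 : ¬ IsPrimePow #H) (hg : cj g H ≠ H) : H ⊓ cj g H = ⊥ := by
  by_contra ne
  obtain ⟨x, ⟨a, b⟩, c⟩ := exists_mem_ne_one ne
  have k : ∀ y ∈ cj g H, y ≠ 1 → C1[y] ≤ cj g H := fun y y1 y2 => by
    obtain ⟨u, u1, rfl⟩ := exists_of_mem_cj y1
    rw [← cj_C1, cj_le_cj]
    exact max_C1_le h hH hm h1 u1 (by rintro rfl; simp at y2)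
  obtain ⟨z, z1, z2, z3⟩ := exists_Z hH (ne_bot_of_mem a c)
  exact hg (eq_of_card_le (z3.trans (k z (k x b c (C1_symm (z3 a))) z2)) (card_cj g H).le).symm

theorem max_C1_le' (h1 : ∀ g, cj g H ≠ H → H ⊓ cj g H = ⊥) (hx : x ∈ H) (x1 : x ≠ 1) : C1[x] ≤ H := by
  have n : C1[x] ≤ N[H] := fun c hc => by
    by_contra e
    refine ne_bot_of_mem (A := H ⊓ cj c H) (mem_inf.2 ⟨hx, ?_⟩) x1 (h1 c fun f => e (mem_N_iff_cj.2 f))
    rw [mem_cj, mul_assoc, ← mem_C1.1 hc]; simpa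
  have hall := hall_of_coprime (le_top (a := H)) (by rw [relIndex_top_right]; exact max_hall h hH hm)
  refine le_of_pie fun q hq c hc e => ?_
  by_cases d : q ∣ #H
  · exact (hall.sub (normG H) le_top).mem_of_normal le_rfl (e.single_mono d) (n hc)
  by_cases c1 : c = 1
  · exact c1 ▸ H.one_mem
  obtain ⟨z, z1, z2, z3⟩ := exists_Z hH (ne_bot_of_mem hx x1)
  have := key h hH (cyc_zpowers c).nil (((pin_compl hq).2 d).coprime' (pig_zpowers.2 e)) hx (mem_zpowers c) x1 c1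
    (mem_C1'.1 hc)
  rw [← max_C1 h hm z2 z3]
  exact C1_symm (C_zpowers c ▸ this z1)
end maxnil

/-! ### all elements of prime power order -/
theorem two_primes (hs : Sol (⊤ : Subgroup G)) (h : ∀ g : G, IsPrimePow (orderOf g) ∨ g = 1) :
    (Nat.card G).primeFactors.card ≤ 2 := by
  have nc : ∀ x y : G, x ≠ 1 → y ≠ 1 → (orderOf x).Coprime (orderOf y) → x * y ≠ y * x := fun x y a b c e => by
    have o := Commute.orderOf_mul_eq_mul_orderOf_of_coprime e c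
    have a' : 1 < orderOf x := Nat.one_lt_iff_ne_zero_and_ne_one.2 ⟨(orderOf_pos x).ne', by simpa⟩
    have b' : 1 < orderOf y := Nat.one_lt_iff_ne_zero_and_ne_one.2 ⟨(orderOf_pos y).ne', by simpa⟩
    rcases h (x * y) with f | f
    · rw [o] at f
      rcases (c.isPrimePow_dvd_mul f).1 dvd_rfl with k | k
      · have := Nat.le_of_dvd (by omega) k; nlinarith
      · have := Nat.le_of_dvd (by omega) k; nlinarith
    · rw [f, orderOf_one] at o; nlinarith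
  by_contra ne
  have t : (⊤ : Subgroup G) ≠ ⊥ := fun e => ne (by rw [← card_top, e, card_bot']; simp)
  obtain ⟨N, -, hN⟩ := exists_minN t (normG ⊤)
  obtain ⟨p, hp, ab⟩ := hN.abelem (hs.of_le le_top)
  have : 1 < ((Nat.card G).primeFactors.erase p).card := by
    have := Finset.pred_card_le_card_erase (s := (Nat.card G).primeFactors) (a := p); omega
  obtain ⟨q, hq, r, hr, qr⟩ := Finset.one_lt_card.1 this
  simp only [Finset.mem_erase, Nat.mem_primeFactors] at hq hr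
  obtain ⟨A, hA⟩ := hall_exists {p}ᶜ hs
  have hq' := hA.dvd hq.2.1 hq.1 (by rw [card_top]; exact hq.2.2.1)
  have hr' := hA.dvd hr.2.1 hr.1 (by rw [card_top]; exact hr.2.2.1)
  have reg : Semireg N A := fun a a1 a2 => by
    by_contra e
    obtain ⟨n, ⟨n1, n2⟩, n3⟩ := exists_mem_ne_one e
    exact nc n a n3 a2 (((ab.pig hp).elt n1).coprime (hA.pi.elt a1)) (mem_C1.1 n2)
  have := Core.inf_centralizer_ne_bot_of_fpf (le_top.trans hN.norm) hN.ne reg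
    (hA.ne_bot hq.2.1 hq.1 (by rw [card_top]; exact hq.2.2.1))
  obtain ⟨s, hs', e⟩ := exists_prime_dvd this
  obtain ⟨z, ⟨z1, z2⟩, z3⟩ := cauchy hs' e
  have k : ∀ u, u.Prime → u ∣ #A → u = s := fun u hu d => by
    by_contra f
    obtain ⟨y, y1, y2⟩ := cauchy hu d
    exact nc y z (fun e => hu.ne_one (by rw [← y2, e, orderOf_one])) (fun e => hs'.ne_one (by rw [← z3, e, orderOf_one]))
      (by rw [y2, z3]; exact (Nat.coprime_primes hu hs').2 f) (mem_C.1 z2 y y1)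
  exact qr ((k q hq.2.1 hq').trans (k r hr.2.1 hr').symm)

/-! ### quotients -/
theorem cn_step {G' : Type*} [Group G'] [Finite G'] (h : IsCNGroup G) (f : G →* G') (hf : Function.Surjective f)
    (hp : p.Prime) (hk : PiG {p} f.ker) : IsCNGroup G' := by
  intro u u1
  obtain ⟨v, v1, hr⟩ := exists_prime_pow_mem u1
  refine Nil.of_le ?_ (C1_le_of_mem_zpowers v1)
  have v0 : v ≠ 1 := fun e => hr.ne_one (by rw [e, orderOf_one])
  have tp : (tot f).im ⊤ = ⊤ := by rw [tot_im, map_top_of_surjective _ hf]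
  have kk : PiG {p} (tot f).ker := by rwa [tot_ker]
  by_cases e : orderOf v = p
  · have pX : PiG {p} ((tot f).pre (zpowers v)) := pig_pre kk (pig_zpowers.2 (e ▸ pin_single_self hr))
    have iX : (tot f).im ((tot f).pre (zpowers v)) = zpowers v := im_pre (tp ▸ le_top)
    have XC : (tot f).pre (zpowers v) ≤ (tot f).pre C1[v] := pre_mono (zpowers_le.2 (mem_C1_self v))
    have nX : (tot f).pre C1[v] ≤ N[(tot f).pre (zpowers v)] := pre_norm (norm_zpowers le_rfl)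
    obtain ⟨S, s1, s2⟩ := syl_superset hp XC pX
    have X0 : (tot f).pre (zpowers v) ≠ ⊥ := fun o => v0 (by
      rw [o, im_bot] at iX; exact zpowers_eq_bot.1 iX.symm)
    obtain ⟨z, z1, z2, z3⟩ := exists_Z s1.pi.nil fun o => X0 (le_bot_iff.1 (o ▸ s2))
    have : (tot f).pre C1[v] ≤ C1[z] := le_of_syl fun q hq _ => by
      by_cases qp : q = p
      · exact ⟨S, qp ▸ s1, z3⟩
      obtain ⟨Q, q1⟩ := syl_exists hq ((tot f).pre C1[v])
      refine ⟨Q, q1, fun y y1 => ?_⟩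
      by_cases y0 : y = 1
      · exact y0 ▸ one_mem _
      have py : PiG {p}ᶜ (zpowers y) := pig_zpowers.2 ((q1.pi.elt y1).ne_compl qp)
      have a := im_IC' (φ := tot f) (A := zpowers y) (H := (tot f).pre (zpowers v)) le_top le_top (ker_le_pre _)
        (py.coprime' kk) (Or.inl (cyc_zpowers y).sol)
      rw [iX, im_zpowers (mem_top y), (inf_eq_left (a := zpowers v)).2 (by
        rw [C_zpowers]; exact zpowers_le.2 (C1_symm (mem_pre.1 (q1.le y1)).2))] at a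
      have b : (tot f).pre (zpowers v) ⊓ C[zpowers y] ≠ ⊥ := fun o => v0 (by
        rw [o, im_bot] at a; exact zpowers_eq_bot.1 a.symm)
      obtain ⟨x, ⟨x1, x2⟩, x3⟩ := exists_mem_ne_one b
      have := key h s1.pi.nil (cyc_zpowers y).nil (s1.pi.coprime py) (s2 x1) (mem_zpowers y) x3 y0
        (mem_C.1 x2 y (mem_zpowers y)).symm
      exact C1_symm (C_zpowers y ▸ this z1)
    have n := (Nil.of_le (h z z2) this).im (tot f)
    rwa [im_pre (tp ▸ le_top)] at n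
  · obtain ⟨x, rfl⟩ := hf v
    have a : PiE {p}ᶜ (f x) := (pin_single_self hr).ne_compl e
    have b : f (cst {p} x) = 1 := ((cst_pie {p} x).map f).eq_one (a.of_mem_zpowers (by
      rw [← MonoidHom.map_zpowers]; exact mem_map_of_mem f (cst_mem _ _)))
    have c : f (cst {p}ᶜ x) = f x := by
      conv_rhs => rw [← cst_mul_cst {p} x, map_mul, b, one_mul]
    have d := im_IC' (φ := tot f) (A := zpowers (cst {p}ᶜ x)) (H := ⊤) le_top le_top le_top
      ((pig_zpowers.2 (cst_pie _ _)).coprime' kk) (Or.inl (cyc_zpowers _).sol)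
    rw [tp, top_inf_eq, top_inf_eq, im_zpowers (mem_top _), tot_app, c, C_zpowers, C_zpowers] at d
    rw [← d]
    exact Nil.im (h _ fun o => v0 (by rw [← c, o, map_one])) _

theorem cn_quo_aux {G' : Type*} [Group G'] [Finite G'] (n : ℕ) : ∀ (G : Type u) [Group G] [Finite G] (f : G →* G'),
    #f.ker = n → Function.Surjective f → Sol f.ker → IsCNGroup G → IsCNGroup G' := by
  induction n using Nat.strong_induction_on with
  | _ n ih =>
  intro G _ _ f e hf hs h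
  by_cases k : f.ker = ⊥
  · exact cn_step h f hf Nat.prime_two (k ▸ pig_bot _)
  obtain ⟨N, n1, hN⟩ := exists_minN k (norm_of_normal ⊤)
  obtain ⟨p, hp, ab⟩ := hN.abelem (hs.of_le n1)
  haveI : N.Normal := normal_iff.2 hN.norm
  have a := cn_step h (QuotientGroup.mk' N) (QuotientGroup.mk'_surjective N) hp
    (by rw [QuotientGroup.ker_mk']; exact ab.pig hp)
  have kr : (QuotientGroup.lift N f n1).ker = f.ker.map (QuotientGroup.mk' N) := QuotientGroup.ker_lift N f n1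
  refine ih _ ?_ (G ⧸ N) (QuotientGroup.lift N f n1) rfl (QuotientGroup.lift_surjective_of_surjective N f hf n1)
    (kr ▸ hs.map _) a
  rw [kr, ← e, ← tot_im]
  refine card_im_lt le_top ?_
  rw [tot_ker, QuotientGroup.ker_mk', inf_eq_right.2 n1]; exact hN.ne

theorem cn_quo (h : IsCNGroup G) (H : Subgroup G) [H.Normal] (hH : Sol H) : IsCNGroup (G ⧸ H) :=
  cn_quo_aux _ G (QuotientGroup.mk' H) rfl (QuotientGroup.mk'_surjective H) (by rwa [QuotientGroup.ker_mk']) h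

/-! ### the largest normal nilpotent Hall subgroup -/
omit [Finite G] in
theorem le_fh (h1 : ⊤ ≤ N[H]) (h2 : Nil H) (h3 : (#H).Coprime H.index) : H ≤ fittingHall G :=
  le_sSup ⟨normal_iff.2 h1, h2, h3⟩
omit [Finite G] in
theorem fh_le (h : ∀ H : Subgroup G, ⊤ ≤ N[H] → Nil H → (#H).Coprime H.index → H ≤ K) : fittingHall G ≤ K :=
  sSup_le fun H ⟨a, b, c⟩ => h H (normal_iff.1 a) b c
theorem fh_nil : Nil (fittingHall G) := (F_nil ⊤).of_le (fh_le fun _ a b _ => le_F le_top a b)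
theorem le_fh' (h : Hall π H ⊤) (h1 : ⊤ ≤ N[H]) (h2 : Nil H) : H ≤ fittingHall G :=
  le_fh h1 h2 (by rw [← relIndex_top_right]; exact h.coprime)
theorem fh_hall : ∃ π, Hall π (fittingHall G) ⊤ := by
  have a : Hall {p | Syl p O[{p}]((⊤ : Subgroup G)) ⊤} O[{p | Syl p O[{p}]((⊤ : Subgroup G)) ⊤}](F[(⊤ : Subgroup G)]) ⊤ :=
    ⟨le_top, O_pig _ _, fun q hq b c => c.not_dvd hq (b.trans (relIndex_dvd_left
      ((F_nil ⊤).le_O (O_le_F q ⊤) ((O_pig _ _).single_mono c)) ⊤))⟩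
  rw [le_antisymm (le_fh' a (normO _ (F_norm ⊤)) ((F_nil ⊤).of_le (O_le _ _))) (fh_le fun H c d e =>
    (F_nil ⊤).le_O (le_F le_top c d) fun q hq f => ((hall_of_coprime le_top (by rwa [relIndex_top_right])).syl f
      (d.hall_O _)).hall_O (normO _ c))] at a
  exact ⟨_, a⟩

theorem nil_of_reg (h : IsCNGroup G) (h1 : A ≤ N[K]) (h2 : K ≠ ⊥) (h3 : Semireg K A) : Nil A := by
  by_cases e : A = ⊥
  · exact e ▸ nil_bot
  obtain ⟨z, ⟨-, z1⟩, z2⟩ := exists_mem_ne_one (Core.inf_centralizer_ne_bot_of_fpf h1 h2 h3 e)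
  exact Nil.of_le (h z z2) (le_C1_iff.2 z1)

theorem frob_of_normal_syl (h : IsCNGroup G) (hn : ¬ Nil (⊤ : Subgroup G)) (hP : Syl p P ⊤) (h1 : P ≠ ⊥)
    (h2 : ⊤ ≤ N[P]) : ∃ E, Frob (fittingHall G) E ⊤ ∧ Nil E := by
  obtain ⟨π, hK⟩ := fh_hall (G := G)
  have K0 : fittingHall G ≠ ⊥ := fun e => h1 (le_bot_iff.1 (e ▸ le_fh' hP h2 hP.pi.nil))
  obtain ⟨E, hE⟩ := hK.exists_sdprod (norm_of_normal ⊤)
  have pE := (hE.hall_compl hK).pi
  have reg : Semireg (fittingHall G) E := semireg_of_prime_sub fun X x1 hq => by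
    by_contra e
    obtain ⟨k, ⟨k1, k2⟩, k3⟩ := exists_mem_ne_one e
    obtain ⟨y, y1, y2⟩ := exists_mem_ne_one (ne_bot_of_prime hq)
    obtain ⟨Q, q1, q2⟩ := syl_superset hq (le_top (a := X)) (pig_of_card' hq rfl)
    have q' : #X ∈ πᶜ := pE.mem_of_card hq x1 rfl
    have := key h q1.pi.nil fh_nil ((q1.pi.single_mono q').coprime' hK.pi) (q2 y1) k1 y2 k3 (mem_C.1 k2 y y1)
    have n := syl_normal h hq q1 (norm_of_normal ⊤) K0 this
    exact q' (hK.pi.mem_of_card hq (q2.trans (le_fh' q1 n q1.pi.nil)) rfl)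
  refine ⟨E, ⟨hE, K0, fun e => hn ?_, reg⟩, nil_of_reg h hE.norm K0 reg⟩
  rw [← hE.sup, e, sup_bot_eq]; exact fh_nil

omit [Finite G] in
theorem compl'_of_sdprod (h : Sdprod K E ⊤) : IsComplement' K E := by
  haveI : K.Normal := normal_iff.2 h.nl
  exact isComplement'_of_disjoint_and_mul_eq_univ (disjoint_iff.2 h.inf) (by rw [← normal_mul, h.sup, coe_top])

theorem reg_struct (h1 : A ≤ N[K]) (h2 : K ≠ ⊥) (h3 : Semireg K A) (h4 : Nil A) :
    Cyc O[{2}ᶜ](A) ∧ (Cyc A ∨ ∃ n : ℕ, Nonempty (O[{2}](A) ≃* QuaternionGroup (2 ^ n))) := by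
  have a : Cyc O[{2}ᶜ](A) := (h4.of_le (O_le _ _)).cyc_of_syl fun p hp P hP => by
    by_cases e : P = ⊥
    · exact e ▸ cyc_bot
    haveI := Fact.mk hp
    exact Core.isCyclic_of_fpf_of_odd h1 h2 h3 (hP.pi.mem_of_ne e ((O_pig _ _).of_le hP.le)) (hP.pi.pg hp)
      (hP.le.trans (O_le _ _))
  refine ⟨a, ?_⟩
  rcases Core.isCyclic_or_quaternion_of_fpf h1 h2 h3 ((O_pig {2} A).pg Nat.prime_two) (O_le _ _) with b | ⟨-, n, b⟩
  · exact Or.inl ((h4.dprod_O {2}).cyc b a ((O_pig _ _).coprime (O_pig _ _)))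
  · exact Or.inr ⟨_, b⟩

theorem three_step (h : IsCNGroup G) (hs : Sol (⊤ : Subgroup G)) (hn : ¬ Nil (⊤ : Subgroup G))
    (h0 : ∀ p, p.Prime → ∀ P : Subgroup G, Syl p P ⊤ → ⊤ ≤ N[P] → P = ⊥) :
    ∃ p : ℕ, p.Prime ∧ IsThreeStepGroup p G := by
  have t : (⊤ : Subgroup G) ≠ ⊥ := fun e => hn (e ▸ nil_bot)
  obtain ⟨p, hp, pF⟩ := exists_prime_dvd (F_ne_bot hs t)
  have H0 : O[{p}]((⊤ : Subgroup G)) ≠ ⊥ := O_F p (⊤ : Subgroup G) ▸ (F_nil ⊤).O_ne_bot hp pF rfl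
  have FH : F[(⊤ : Subgroup G)] ≤ O[{p}](⊤) := F_le_of_O fun q hq => by
    by_cases e : q = p
    · exact e ▸ le_rfl
    by_cases o : O[{q}]((⊤ : Subgroup G)) = ⊥
    · exact o ▸ bot_le
    obtain ⟨S, hS⟩ := syl_exists hq (⊤ : Subgroup G)
    obtain ⟨x, x1, x2⟩ := exists_mem_ne_one o
    obtain ⟨y, y1, y2⟩ := exists_mem_ne_one H0
    have c := (hS.pi.ne_compl e).coprime' (O_pig {p} (⊤ : Subgroup G))
    have := key h hS.pi.nil (O_pig _ _).nil c (hS.O_le x1) y1 x2 y2 (mem_C_comm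
      ((F_nil ⊤).cent_cop (O_le_F q ⊤) (O_le_F p ⊤) (coprimeS c hS.O_le le_rfl)) x1 y1)
    exact hS.O_le.trans ((h0 q hq S hS (syl_normal h hq hS (O_norm _ _) H0 this)).le.trans bot_le)
  obtain ⟨H, hH⟩ : ∃ H, H = O[{p}]((⊤ : Subgroup G)) := ⟨_, rfl⟩
  have pH : PiG {p} H := hH ▸ O_pig _ _
  have nH : ⊤ ≤ N[H] := hH ▸ O_norm _ _
  have cH : C[H] ≤ H := by
    have := C_F_le hs
    rwa [top_inf_eq, le_antisymm FH (O_le_F p ⊤), ← hH] at this
  rw [← hH] at H0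
  obtain ⟨D, hD⟩ := hall_exists {p}ᶜ hs
  have reg : Semireg H D := fun d d1 d2 => by
    by_contra e
    obtain ⟨k, ⟨k1, k2⟩, k3⟩ := exists_mem_ne_one e
    have := key h pH.nil (cyc_zpowers d).nil (pH.coprime (pig_zpowers.2 (hD.pi.elt d1))) k1 (mem_zpowers d) k3 d2
      (mem_C1.1 k2)
    exact d2 ((pH.elt (cH (cent_symm this (mem_zpowers d)))).eq_one (hD.pi.elt d1))
  have nD := nil_of_reg h (le_top.trans nH) H0 reg
  have HD : H ⊔ D ≠ ⊤ := fun e => H0 (h0 p hp H ((isProd_of_l (le_top.trans nH) e).hall pH hD.pi) nH)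
  haveI : H.Normal := normal_iff.2 nH
  obtain ⟨φ, hφ⟩ : ∃ φ, φ = tot (QuotientGroup.mk' H) := ⟨_, rfl⟩
  have dom : ∀ A : Subgroup G, A ≤ φ.dom := fun A => hφ ▸ le_top
  have ker : φ.ker = H := by rw [hφ, tot_ker, QuotientGroup.ker_mk']
  have tp : φ.im ⊤ = ⊤ := by rw [hφ, tot_im, map_top_of_surjective _ (QuotientGroup.mk'_surjective H)]
  have hq := cn_quo h H pH.sol
  have sq : Sol (⊤ : Subgroup (G ⧸ H)) := tp ▸ hs.im φ
  have O0 : O[{p}]((⊤ : Subgroup (G ⧸ H))) = ⊥ := by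
    rw [← tp, ← im_O (dom _) (by rwa [top_inf_eq, ker]), ← hH, im_eq_bot_iff (dom _), ker]
  have hD' : Hall {p}ᶜ (φ.im D) ⊤ := tp ▸ hD.im (dom _)
  have FD : F[(⊤ : Subgroup (G ⧸ H))] ≤ φ.im D :=
    (F_le_O (π := {p}ᶜ) (by rwa [compl_compl])).trans hD'.O_le
  have le : ∀ {A : Subgroup G}, φ.im A ≤ φ.im D → A ≤ H ⊔ D := fun a => by
    rw [sup_comm, ← ker]; exact (im_le_im_iff (dom _) (dom _)).1 a
  have nn : ¬ Nil (⊤ : Subgroup (G ⧸ H)) := fun e => HD (top_le_iff.1 (le (by rw [tp, ← F_eq_self e]; exact FD)))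
  have DH : D ⊓ φ.ker = ⊥ := by rw [ker, inf_comm]; exact reg.inf_bot
  have odd : PiG {2}ᶜ F[(⊤ : Subgroup (G ⧸ H))] := (pin_compl Nat.prime_two).2 fun e => by
    obtain ⟨t, t1, t2⟩ := cauchy Nat.prime_two e
    have u : ∀ s ∈ F[(⊤ : Subgroup (G ⧸ H))], orderOf s = 2 → ∃ d ∈ D, φ.app d = s ∧ d ≠ 1 ∧ d * d = 1 :=
      fun s s1 s2 => by
      obtain ⟨d, d1, rfl⟩ := (mem_im' (dom _)).1 (FD s1)
      refine ⟨d, d1, rfl, fun o => by simp [o, app_one] at s2, mem_bot.1 (DH ▸ mem_inf.2 ⟨mul_mem d1 d1, ?_⟩)⟩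
      refine mem_ker.2 ⟨dom _ (mem_top _), ?_⟩
      rw [app_mul (dom _ d1) (dom _ d1), ← pow_two, ← s2, pow_orderOf_eq_one]
    refine nn (Nil.of_le (hq t fun o => by simp [o] at t2) fun g _ => ?_)
    obtain ⟨d, d1, d2, d3, d4⟩ := u t t1 t2
    obtain ⟨d', d1', d2', d3', d4'⟩ := u _ (conj_mem (F_norm ⊤ (mem_top g)) t1)
      (by rw [← t2]; exact (SemiconjBy.orderOf_eq g (by simp [SemiconjBy])).symm)
    have := Core.fpf_unique_involution (le_top.trans nH) H0 reg d1 d1' d3 d3' d4 d4'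
    rw [this, d2] at d2'
    rw [mem_C1]; conv_rhs => rw [d2']
    simp
  have cF := C_F_le sq
  rw [top_inf_eq] at cF
  have oD : O[{2}](D) = ⊥ := by
    have a := (O_pig {2} D).im φ
    have b := (a.of_le le_rfl).eq_bot (odd.of_le (((nD.im φ).cent (im_mono (O_le _ _)) FD a odd).trans cF))
    rw [im_eq_bot_iff (dom _)] at b
    exact le_bot_iff.1 (DH ▸ le_inf (O_le _ _) b)
  have eD : O[{2}ᶜ](D) = D := by
    have := (nD.dprod_O {2}).sup
    rwa [oD, bot_sup_eq] at this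
  have cD : Cyc D := eD ▸ (reg_struct (le_top.trans nH) H0 reg nD).1
  have eF : F[(⊤ : Subgroup (G ⧸ H))] = φ.im D :=
    le_antisymm FD ((centSS (cD.im φ).abel le_rfl FD).trans cF)
  have D0 : D ≠ ⊥ := fun e => nn (by
    have := F_ne_bot sq (fun o => nn (o ▸ nil_bot))
    rw [eF, e, im_bot] at this; exact absurd rfl this)
  refine ⟨p, hp, ?_⟩
  rw [IsThreeStepGroup, pCore_eq hp, ← hH]
  refine ⟨H0, D, D0, cD, ?_, (pin_compl_cop hp).1 hD.pi, ?_, HD, ?_, reg, fun x x1 a a1 a2 e => x1 ?_⟩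
  · exact Nat.coprime_two_right.1 ((pin_compl_cop Nat.prime_two).1 (eD ▸ O_pig _ _))
  · rw [BG.normal_iff, sup_comm]
    have := norm_sup_ker (dom ⊤) (dom D) (by rw [← eF, tp]; exact F_norm ⊤)
    rwa [ker] at this
  · rw [← relIndex_top_right]
    exact (pin_single hp (relIndex_pos _ _).ne').1
      (by simpa using hD.idx.of_dvd (relIndex_dvd_left le_sup_right ⊤))
  · refine le (A := zpowers x) ?_ (mem_zpowers x)
    have a3 : φ.app a ≠ 1 := fun o => a2 (mem_bot.1 (DH ▸ mem_inf.2 ⟨a1, mem_ker.2 ⟨dom _ a1, o⟩⟩))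
    have n : ⊤ ≤ N[zpowers (φ.app a)] := (cD.im φ).norm_sub (zpowers_le.2 (app_mem_im a1 (dom _ a1)))
      (eF ▸ F_norm ⊤)
    rw [← eF, im_zpowers (dom _ (mem_top _)), zpowers_le]
    refine le_F le_top (normC n) (C_zpowers (φ.app a) ▸ hq _ a3) ?_
    rw [C_zpowers, mem_C1]
    rw [← ker, mem_ker, app_mul (dom _ (mem_top _)) (dom _ (mem_top _)), app_conj (dom _ (mem_top _))
      (dom _ (mem_top _)), app_inv (dom _ (mem_top _)), mul_inv_eq_one, mul_inv_eq_iff_eq_mul] at e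
    exact e.2

/-! ### invariant subgroups for a self-centralizing subgroup of the Fitting subgroup of a maximal local subgroup -/
section maxloc
variable (hm : ∀ L : Subgroup G, IsLocalSubgroup L → H ≤ L → L = H) (hM : M ≤ F[H]) (hC : F[H] ⊓ C[M] ≤ M)
  (hR : Sol R) (hMR : M ≤ N[R]) (hX : H ⊓ C[F[H]] ≤ N[R])

theorem ZO_ne (hp : p.Prime) (h : p ∣ #F[H]) : Z[O[{p}](H)] ≠ ⊥ :=
  (O_pig _ _).nil.Z_ne_bot (O_F p H ▸ (F_nil H).O_ne_bot hp h rfl)
theorem ZO_cent : Z[O[{p}](H)] ≤ C[F[H]] := fun _ hx => mem_C_of_O (π := {p}) (F_nil H) ((O_F p H).symm ▸ hx.1)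
  ((O_F p H).symm ▸ hx.2)
include hC in
theorem ZO_le (hM : M ≤ F[H]) : Z[O[{p}](H)] ≤ M :=
  (le_inf (inf_le_left.trans (O_le_F p H)) (ZO_cent.trans (centS hM))).trans hC
include hm in
theorem N_ZO (hp : p.Prime) (h : p ∣ #F[H]) : N[Z[O[{p}](H)]] = H :=
  hm _ ⟨p, _, hp, ((O_pig _ _).of_le inf_le_left).pg hp, ZO_ne hp h, rfl⟩ (normZ (O_norm _ _))

include hM hC hR hX in
theorem inf_bot (h1 : Y ≤ R) (h2 : (#Y).Coprime #F[H]) (h3 : M ≤ N[Y]) : Y ⊓ H = ⊥ := by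
  have c := coprimeS h2 (inf_le_left (b := H)) le_rfl
  have a : M ≤ C[Y ⊓ H] := comm_eq_bot.1 (le_bot_iff.1 (inf_bot_of_coprime h2 ▸ le_inf
    ((commS le_rfl inf_le_left).trans (commR h3))
    ((commS hM inf_le_right).trans (commL (F_norm H)))))
  have b := cop_self_cent (F_nil H) (inf_le_right.trans (F_norm H)) c hM a hC
  have n : H ⊓ C[F[H]] ≤ N[H ⊓ C[F[H]] ⊓ R] := normI (normG _) hX
  have d : F[H ⊓ C[F[H]] ⊓ R] ≤ F[H] :=
    (F_le_of_normal inf_le_left n).trans (F_le_of_normal inf_le_left (normI (normG H) (normC (F_norm H))))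
  have e := (le_inf le_rfl ((inf_le_left.trans inf_le_right).trans (centS d))).trans
    (C_F_le (hR.of_le (inf_le_right (a := H ⊓ C[F[H]]))))
  exact le_bot_iff.1 (inf_bot_of_coprime c ▸ le_inf le_rfl
    ((le_inf (le_inf inf_le_right b) (inf_le_left.trans h1)).trans (e.trans d)))

include hm hM hC hR hMR hX in
theorem le_O_compl (h2p : 2 ≤ (#F[H]).primeFactors.card) (hp : p.Prime) (hd : p ∣ #F[H]) (h1 : Y ≤ R)
    (h2 : (#Y).Coprime #F[H]) (h3 : M ≤ N[Y]) : Y ≤ O[{p}ᶜ](R) := by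
  have : 0 < ((#F[H]).primeFactors.erase p).card := by
    have := Finset.pred_card_le_card_erase (s := (#F[H]).primeFactors) (a := p); omega
  obtain ⟨r, hr⟩ := Finset.card_pos.1 this
  simp only [Finset.mem_erase, Nat.mem_primeFactors] at hr
  obtain ⟨rp, hr, rd, -⟩ := hr
  have zp : Z[O[{p}](H)] ≤ M := ZO_le hC hM
  have zr : Z[O[{r}](H)] ≤ M := ZO_le hC hM
  have pp : PiG {p} Z[O[{p}](H)] := (O_pig _ _).of_le inf_le_left
  have pr : PiG {p}ᶜ Z[O[{r}](H)] := ((O_pig _ _).of_le inf_le_left).ne_compl rp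
  have Yc : ⁅Y, Z[O[{r}](H)]⁆ = Y := by
    have := (cop_cent_prod (zr.trans h3) (coprimeS h2.symm (zr.trans hM) le_rfl) (Or.inr (hR.of_le h1))).sup
    rwa [le_bot_iff.1 ((inf_le_inf_left Y ((C_le_N _).trans (N_ZO hm hr rd).le)).trans
      (inf_bot hM hC hR hX h1 h2 h3).le), sup_bot_eq] at this
  obtain ⟨K, hK⟩ : ∃ K, K = O[{p}ᶜ](R) := ⟨_, rfl⟩
  have nM : M ≤ N[K] := hK ▸ normO _ hMR
  have nR : R ≤ N[K] := hK ▸ O_norm _ _
  have pK : PiG {p}ᶜ K := hK ▸ O_pig _ _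
  have KR : K ≤ R := hK ▸ O_le _ _
  have U1 := O_pig {p} (R ÷ K)
  have nU : M ÷ K ≤ N[O[{p}](R ÷ K)] := normO _ (im_norm hMR)
  have a : Z[O[{r}](H)] ÷ K ≤ C[O[{p}](R ÷ K)] := by
    refine pq_lemma (L := O[{p}](R ÷ K) ⊔ Z[O[{p}](H)] ÷ K) (U1.sup_l (pp.im _) ((im_mono zp).trans nU)).nil
      le_sup_right le_sup_left (im_cent (ZO_cent.trans (centS (zr.trans hM)))) ((pr.im _).coprime' U1)
      ((im_mono zp).trans nU) ((im_mono zr).trans nU) ?_
    have b := im_IC' (φ := quo K) (A := Z[O[{p}](H)]) (H := R) (zp.trans nM) nR (by simpa)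
      (by simpa using pp.coprime pK) (Or.inl pp.sol)
    have c : O[{p}](R ÷ K) ⊓ C[Z[O[{p}](H)] ÷ K] ≤ H ÷ K := by
      refine (inf_le_inf_right _ (O_le _ _)).trans ?_
      rw [← b]; exact im_mono (inf_le_right.trans ((C_le_N _).trans (N_ZO hm hp hd).le))
    refine comm_eq_bot.1 (le_bot_iff.1 (U1.inf_bot (pr.im (quo K)) ▸ le_inf
      ((commS inf_le_left le_rfl).trans (commL ((im_mono zr).trans nU))) (commR ?_)))
    exact c.trans (im_norm (normZ (O_norm _ _)))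
  have b : Y ÷ K ≤ C[O[{p}](R ÷ K)] := by
    rw [← Yc, im_comm (h1.trans nR) (zr.trans nM)]
    exact (commS le_rfl a).trans (commR (normC ((im_mono h1).trans (O_norm _ _))))
  have c := (le_inf (im_mono h1) b).trans (C_O_le (hR.im _) (hK ▸ O_quo_O _ _))
  have pY : PiG {p}ᶜ Y := (pin_compl_cop hp).2 (h2.coprime_dvd_right hd)
  rw [← hK, ← quo_bot_iff (h1.trans nR)]
  exact (U1.of_le c).eq_bot (pY.im _)

include hm hM hC hR hMR hX in
theorem le_O_pi (h2p : 2 ≤ (#F[H]).primeFactors.card) (h1 : Y ≤ R) (h2 : (#Y).Coprime #F[H]) (h3 : M ≤ N[Y]) :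
    Y ≤ O[primesNotDvd #F[H]](R) := by
  have : Y ≤ R ⊓ ⨅ p : {p : ℕ // p.Prime ∧ p ∣ #F[H]}, O[{p.1}ᶜ](R) :=
    le_inf h1 (le_iInf fun p => le_O_compl hm hM hC hR hMR hX h2p p.2.1 p.2.2 h1 h2 h3)
  refine this.trans (le_O inf_le_left (normI (normG R) (norm_iInf fun _ => O_norm _ _)) fun s hs a => ⟨hs, fun b => ?_⟩)
  have c : (⨅ p : {p : ℕ // p.Prime ∧ p ∣ #F[H]}, O[{p.1}ᶜ](R)) ≤ O[{s}ᶜ](R) :=
    iInf_le (fun p : {p : ℕ // p.Prime ∧ p ∣ #F[H]} => O[{p.1}ᶜ](R)) ⟨s, hs, b⟩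
  exact O_pig {s}ᶜ R s hs (a.trans (cardS (inf_le_right.trans c))) rfl

include hm hM hC hR hMR hX in
theorem unique_syl (h2p : 2 ≤ (#F[H]).primeFactors.card) (hq : q.Prime) (hd : ¬ q ∣ #F[H]) :
    ∃ Q, Syl q Q O[primesNotDvd #F[H]](R) ∧ M ≤ N[Q] ∧ ∀ Y ≤ R, PiG {q} Y → M ≤ N[Y] → Y ≤ Q := by
  have c : (#O[primesNotDvd #F[H]](R)).Coprime #F[H] :=
    Nat.coprime_of_dvd fun s hs a => (O_pig _ _ s hs a).2
  have n : M ≤ N[O[primesNotDvd #F[H]](R)] := normO _ hMR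
  have c' := coprimeS c.symm hM le_rfl
  have s := hR.of_le (O_le (primesNotDvd #F[H]) R)
  obtain ⟨Q, q1, q2⟩ := cop_syl_exists n c' (Or.inr s) hq
  refine ⟨Q, q1, q2, fun Y y1 y2 y3 => ?_⟩
  obtain ⟨Q', a, b, d⟩ := cop_syl_superset n c' (Or.inr s) hq
    (le_O_pi hm hM hC hR hMR hX h2p y1 (y2.coprime ((pin_compl hq).2 hd)) y3) y2 y3
  obtain ⟨g, g1, g2⟩ := cop_syl_conj n c' (Or.inr s) hq q1 a q2 b
  obtain ⟨p, hp⟩ := Finset.card_pos.1 (lt_of_lt_of_le two_pos h2p)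
  rw [Nat.mem_primeFactors] at hp
  have := (inf_le_inf_left _ ((centS (ZO_le hC hM)).trans ((C_le_N _).trans (N_ZO hm hp.1 hp.2.1).le))).trans
    (inf_bot hM hC hR hX (O_le _ _) c n).le g1
  rw [mem_bot.1 this, cj_one] at g2
  exact g2 ▸ d
end maxloc

end Cfsg.Agent.CN
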