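import Cfsg.Agent.BG.S02
/-!
Linear algebra of Frobenius actions: weight idempotents, free modules, a Hall–Higman type bound.
-/
set_option autoImplicit false

namespace Cfsg.Agent.BG
open Subgroup PHom Module
open scoped TensorProduct

variable {k : Type*} [Field k] {W : Type*} [AddCommGroup W] [Module k W] {Γ : Type*} [Group Γ]

/-- the fixed space of a subgroup -/
def Fx (ρ : Γ →* End k W) (A : Subgroup Γ) : Submodule k W where
  carrier := {w | ∀ a ∈ A, ρ a w = w}
  add_mem' := fun h1 h2 a ha => by rw [map_add, h1 a ha, h2 a ha]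
  zero_mem' := fun a _ => map_zero _
  smul_mem' := fun c w h a ha => by rw [map_smul, h a ha]

variable {ρ : Γ →* End k W} {A B K R Z : Subgroup Γ}

theorem mem_Fx {w : W} : w ∈ Fx ρ A ↔ ∀ a ∈ A, ρ a w = w := Iff.rfl
theorem Fx_anti (h : A ≤ B) : Fx ρ B ≤ Fx ρ A := fun _ hw a ha => hw a (h ha)
/-- the stabilizer of a vector -/
def Stab (ρ : Γ →* End k W) (w : W) : Subgroup Γ where
  carrier := {a | ρ a w = w}
  mul_mem' := fun {a b} (i : ρ a w = w) (j : ρ b w = w) => by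
    show ρ (a * b) w = w
    rw [map_mul, End.mul_apply, j, i]
  one_mem' := by show ρ 1 w = w; rw [map_one]; rfl
  inv_mem' := fun {a} (i : ρ a w = w) => by
    show ρ a⁻¹ w = w
    conv_lhs => rw [← i, ← End.mul_apply, ← map_mul, inv_mul_cancel, map_one]
    rfl
theorem Fx_sup : Fx ρ (A ⊔ B) = Fx ρ A ⊓ Fx ρ B :=
  le_antisymm (le_inf (Fx_anti le_sup_left) (Fx_anti le_sup_right)) fun w hw _ ha =>
    (sup_le (c := Stab ρ w) hw.1 hw.2) ha
theorem Fx_bot : Fx ρ ⊥ = ⊤ := eq_top_iff.2 fun w _ a ha => by rw [mem_bot.1 ha, map_one]; rfl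

theorem finrank_Fx_baseChange {F : Type*} [Field F] [Algebra F k] {V : Type*} [AddCommGroup V] [Module F V]
    (σ : Γ →* End F V) (A : Subgroup Γ) [Finite A] :
    finrank k (Fx ((End.baseChangeHom F k V).toMonoidHom.comp σ) A) = finrank F (Fx σ A) := by
  classical
  haveI := Fintype.ofFinite A
  let B : V →ₗ[F] (A → V) := LinearMap.pi fun a => σ a - 1
  have e1 : Fx σ A = LinearMap.ker B := by
    ext v
    simp [mem_Fx, B, funext_iff, sub_eq_zero]
  have e2 : Fx ((End.baseChangeHom F k V).toMonoidHom.comp σ) A = LinearMap.ker (B.baseChange k) := by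
    ext w
    rw [mem_Fx, LinearMap.mem_ker]
    constructor
    · intro h
      have : B = ∑ a : A, (LinearMap.single F (fun _ : A => V) a).comp (σ a - 1) := by
        ext v a
        simp [B, Finset.sum_apply, Pi.single_apply]
      rw [this, ← LinearMap.baseChangeHom_apply, map_sum, LinearMap.sum_apply]
      refine Finset.sum_eq_zero fun a _ => ?_
      have := h a a.2
      rw [LinearMap.baseChangeHom_apply, LinearMap.baseChange_comp, LinearMap.comp_apply, LinearMap.baseChange_sub,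
        LinearMap.baseChange_one, LinearMap.sub_apply, sub_eq_zero.2 (by exact this), map_zero]
    · intro h a ha
      have : ((LinearMap.proj (⟨a, ha⟩ : A)).comp B).baseChange k w = 0 := by
        rw [LinearMap.baseChange_comp, LinearMap.comp_apply, h, map_zero]
      rw [LinearMap.proj_pi, LinearMap.baseChange_sub, LinearMap.baseChange_one, LinearMap.sub_apply,
        sub_eq_zero] at this
      exact this
  rw [e1, e2, show LinearMap.ker (B.baseChange k) = LinearMap.range ((LinearMap.ker B).subtype.baseChange k) from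
    Module.Flat.ker_lTensor_eq k k B, LinearMap.finrank_range_of_inj, Module.finrank_baseChange]
  exact Module.Flat.lTensor_preserves_injective_linearMap _ (Submodule.injective_subtype _)

theorem finrank_range_sum [FiniteDimensional k W] {ι : Type*} [Fintype ι] {p : ι → End k W}
    (h : OrthogonalIdempotents p) :
    finrank k (LinearMap.range (∑ i, p i)) = ∑ i, finrank k (LinearMap.range (p i)) := by
  classical
  let f : (∀ i, LinearMap.range (p i)) →ₗ[k] W := ∑ i, (LinearMap.range (p i)).subtype.comp (LinearMap.proj i)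
  have hf : ∀ u, f u = ∑ i, (u i : W) := fun u => by simp [f]
  have a : ∀ u j, p j (f u) = u j := fun u j => by
    rw [hf, map_sum, Finset.sum_eq_single j]
    · obtain ⟨w, e⟩ := (u j).2
      rw [← e, ← End.mul_apply, (h.idem j).eq]
    · intro i _ hi
      obtain ⟨w, e⟩ := (u i).2
      rw [← e, ← End.mul_apply, h.ortho hi.symm]; rfl
    · simp
  rw [← finrank_pi_fintype, ← LinearMap.finrank_range_of_inj (f := f) fun u v e => funext fun j =>
    Subtype.ext (by rw [← a, ← a, e])]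
  refine congrArg (fun S : Submodule k W => finrank k S) (le_antisymm ?_ ?_)
  · rintro _ ⟨w, rfl⟩
    exact ⟨fun i => ⟨p i w, w, rfl⟩, by simp [hf]⟩
  · rintro _ ⟨u, rfl⟩
    exact ⟨f u, by rw [LinearMap.sum_apply, hf u]; exact Finset.sum_congr rfl fun i _ => hf u ▸ a u i⟩

theorem finrank_range_conj {u v θ : End k W} (h : v * u = 1) (h' : u * v = 1) :
    finrank k (LinearMap.range (u * θ * v)) = finrank k (LinearMap.range θ) := by
  let e : W ≃ₗ[k] W := LinearEquiv.ofLinear u v h' h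
  rw [End.mul_eq_comp, End.mul_eq_comp, LinearMap.range_comp_of_range_eq_top _ (LinearMap.range_eq_top.2
    (show Function.Surjective v from e.symm.surjective)), LinearMap.range_comp]
  exact LinearEquiv.finrank_map_eq e _

theorem rep_mul_inv (ρ : Γ →* End k W) (a : Γ) : ρ a * ρ a⁻¹ = 1 := by rw [← map_mul, mul_inv_cancel, map_one]
theorem rep_inv_mul (ρ : Γ →* End k W) (a : Γ) : ρ a⁻¹ * ρ a = 1 := by rw [← map_mul, inv_mul_cancel, map_one]

theorem finrank_sum_conj [FiniteDimensional k W] {ι : Type*} [Fintype ι] {θ : End k W} (s : ι → Γ) (a1 : θ * θ = θ)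
    (h : ∀ i j, i ≠ j → θ * ρ ((s i)⁻¹ * s j) * θ = 0) : finrank k (LinearMap.range (∑ i, ρ (s i) * θ * ρ (s i)⁻¹)) =
      Nat.card ι * finrank k (LinearMap.range θ) := by
  have b : ∀ i j, ρ (s i) * θ * ρ (s i)⁻¹ * (ρ (s j) * θ * ρ (s j)⁻¹) =
      ρ (s i) * (θ * ρ ((s i)⁻¹ * s j) * θ) * ρ (s j)⁻¹ := fun s t => by simp only [map_mul, mul_assoc]
  rw [finrank_range_sum ⟨fun s => by rw [IsIdempotentElem, b, inv_mul_cancel, map_one, mul_one, a1],
    fun s t i => (b s t).trans (by rw [h s t i, mul_zero, zero_mul])⟩]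
  simp only [finrank_range_conj (rep_inv_mul ρ _) (rep_mul_inv ρ _), Finset.sum_const, Finset.card_univ,
    smul_eq_mul, ← Nat.card_eq_fintype_card]

/-- the weight idempotent -/
noncomputable def wt (ρ : Γ →* End k W) (Z : Subgroup Γ) [Fintype Z] (l : Z →* kˣ) : End k W :=
  (#Z : k)⁻¹ • ∑ z : Z, (l z⁻¹ : k) • ρ z

variable [Fintype Z] {l m : Z →* kˣ}

theorem mul_wt (z : Z) : ρ z * wt ρ Z l = (l z : k) • wt ρ Z l := by
  rw [wt, mul_smul_comm, smul_comm (l z : k), Finset.mul_sum]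
  congr 1
  rw [Finset.smul_sum]
  refine Fintype.sum_equiv (Equiv.mulLeft z) _ _ fun y => ?_
  simp [smul_smul, mul_left_comm (l z : k)]
theorem wt_mul (z : Z) : wt ρ Z l * ρ z = (l z : k) • wt ρ Z l := by
  rw [wt, smul_mul_assoc, smul_comm (l z : k), Finset.sum_mul]
  congr 1
  rw [Finset.smul_sum]
  refine Fintype.sum_equiv (Equiv.mulRight z) _ _ fun y => ?_
  simp [smul_smul]
theorem wt_orth (h0 : (#Z : k) ≠ 0) [Fintype (Z →* kˣ)] : OrthogonalIdempotents (wt ρ Z) := by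
  classical
  have a : ∀ l m : Z →* kˣ, wt ρ Z l * wt ρ Z m = if m = l then wt ρ Z m else 0 := fun l m => by
    conv_lhs => rw [wt, smul_mul_assoc, Finset.sum_mul]
    simp only [smul_mul_assoc, mul_wt, smul_smul, ← Finset.sum_smul]
    have := sum_hom_units ((Units.coeHom k).comp (m / l))
    simp only [MonoidHom.comp_apply, MonoidHom.div_apply, Units.coeHom_apply, div_eq_mul_inv, Units.val_mul,
      mul_comm (m _ : k), ← map_inv] at this
    rw [this]
    by_cases e : m = l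
    · rw [if_pos e, if_pos (by ext; simp [e]), ← Nat.card_eq_fintype_card, inv_mul_cancel₀ h0, one_smul]
    · rw [if_neg e, if_neg]
      · simp
      · intro i
        refine e (MonoidHom.ext fun z => div_eq_one.1 (Units.ext (DFunLike.congr_fun i z)))
  exact ⟨fun l => by rw [IsIdempotentElem, a, if_pos rfl], fun l m e => (a l m).trans (if_neg e.symm)⟩
theorem wt_comm {f : End k W} (h : ∀ z ∈ Z, Commute f (ρ z)) : Commute f (wt ρ Z l) :=
  (Commute.sum_right _ _ _ fun (z : Z) _ => (h z z.2).smul_right _).smul_right _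
theorem range_wt_one (h0 : (#Z : k) ≠ 0) : LinearMap.range (wt ρ Z 1) = Fx ρ Z := by
  refine le_antisymm ?_ fun w hw => ⟨w, ?_⟩
  · rintro _ ⟨w, rfl⟩ z hz
    rw [← End.mul_apply, mul_wt ⟨z, hz⟩]; simp
  · simp [wt, fun z : Z => hw z z.2, ← Nat.cast_smul_eq_nsmul k, smul_smul, ← Nat.card_eq_fintype_card, h0]
theorem enough_roots [IsAlgClosed k] (h0 : (#Z : k) ≠ 0) : HasEnoughRootsOfUnity k (Monoid.exponent Z) := by
  haveI : NeZero (Monoid.exponent Z : k) := ⟨fun e => h0 (by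
    obtain ⟨c, hc⟩ := Group.exponent_dvd_nat_card (G := Z)
    rw [hc, Nat.cast_mul, e, zero_mul])⟩
  infer_instance
open scoped IsMulCommutative in
theorem card_wt [IsAlgClosed k] (hZ : Abel Z) (h0 : (#Z : k) ≠ 0) : Nat.card (Z →* kˣ) = #Z := by
  haveI := hZ.comm
  haveI := enough_roots h0
  exact CommGroup.card_monoidHom_of_hasEnoughRootsOfUnity Z k
open scoped IsMulCommutative in
theorem sum_wt [IsAlgClosed k] (hZ : Abel Z) (h0 : (#Z : k) ≠ 0) [Fintype (Z →* kˣ)] : ∑ l, wt ρ Z l = 1 := by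
  classical
  haveI := hZ.comm
  haveI := enough_roots h0
  simp only [wt, ← Finset.smul_sum]
  rw [Finset.sum_comm, Finset.sum_eq_single 1]
  · simp [← Nat.cast_smul_eq_nsmul k, smul_smul, ← Nat.card_eq_fintype_card, card_wt hZ h0, h0]
  · intro z _ hz
    rw [← Finset.sum_smul]
    obtain ⟨φ, hφ⟩ := CommGroup.exists_apply_ne_one_of_hasEnoughRootsOfUnity Z k (inv_ne_one.2 hz)
    have := sum_hom_units_eq_zero ((Units.coeHom k).comp (MonoidHom.eval z⁻¹ : (Z →* kˣ) →* kˣ))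
      fun e => hφ (Units.ext (DFunLike.congr_fun e φ))
    rw [show ∑ l : Z →* kˣ, (l z⁻¹ : k) = 0 from this, zero_smul]
  · simp

theorem exists_free_reps {S Λ : Type*} [Group S] [MulAction S Λ] (P : Λ → Prop) (h1 : ∀ (s : S) l, P l → P (s • l))
    (h2 : ∀ (s : S) l, P l → s • l = l → s = 1) : ∃ T : Λ → Prop, (∀ l, T l → P l) ∧
      (∀ (s : S) l, T l → T (s • l) → s = 1) ∧ ∀ l, P l → ∃ s : S, T (s • l) := by
  let o : Λ → Λ := fun l => (Quotient.mk (MulAction.orbitRel S Λ) l).out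
  have a : ∀ (s : S) l, o (s • l) = o l := fun s l => congrArg Quotient.out (Quotient.sound ⟨s, rfl⟩)
  refine ⟨fun l => P l ∧ o l = l, fun _ h => h.1, fun s l i j => h2 s l i.1 (by rw [← j.2, a, i.2]), fun l i => ?_⟩
  obtain ⟨s, hs⟩ : o l ∈ MulAction.orbit S l := Quotient.mk_out (s := MulAction.orbitRel S Λ) l
  exact ⟨s, h1 s l i, by rw [a]; exact hs.symm⟩

omit [Fintype Z] in
/-- the free part of a module for a Frobenius group with abelian kernel -/
theorem exists_free_idem [IsAlgClosed k] [Finite Z] [Fintype R] (hZ : Abel Z) (h0 : (#Z : k) ≠ 0) (h1 : R ≤ N[Z])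
    (h2 : Semireg Z R) : ∃ θ e : End k W, θ * θ = θ ∧ e * e = e ∧ θ * e = 0 ∧ LinearMap.range e = Fx ρ Z ∧
      (∀ z ∈ Z, e * ρ z = e) ∧ (∀ s ∈ R, s ≠ 1 → θ * ρ s * θ = 0) ∧ ∑ s : R, ρ s * θ * ρ s⁻¹ = 1 - e ∧
      ∀ f, (∀ z ∈ Z, Commute f (ρ z)) → Commute f θ := by
  classical
  haveI := Fintype.ofFinite Z
  haveI : Finite (Z →* kˣ) := Nat.finite_of_card_ne_zero (by rw [card_wt hZ h0]; exact Nat.card_pos.ne')
  haveI := Fintype.ofFinite (Z →* kˣ)
  let c : R →* MulAut Z := Z.normalizerMonoidHom.comp (inclusion h1)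
  have hc : ∀ (s : R) (z : Z), (c s z : Γ) = s * z * s⁻¹ := fun s z => rfl
  letI : MulAction R (Z →* kˣ) :=
    { smul := fun s l => l.comp (c s⁻¹).toMonoidHom
      one_smul := fun l => MonoidHom.ext fun z => by
        show l (c 1⁻¹ z) = l z
        rw [inv_one, map_one]; rfl
      mul_smul := fun s t l => MonoidHom.ext fun z => by
        show l (c (s * t)⁻¹ z) = l (c t⁻¹ (c s⁻¹ z))
        rw [mul_inv_rev, map_mul]; rfl }
  have hs : ∀ (s : R) (l : Z →* kˣ) z, (s • l) z = l (c s⁻¹ z) := fun _ _ _ => rfl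
  have cw : ∀ (s : R) l, ρ s * wt ρ Z l * ρ s⁻¹ = wt ρ Z (s • l) := fun s l => by
    rw [wt, wt, mul_smul_comm, smul_mul_assoc, Finset.mul_sum, Finset.sum_mul]
    congr 1
    refine Fintype.sum_equiv (c s).toEquiv _ _ fun z => ?_
    rw [hs, MulEquiv.toEquiv_eq_coe, EquivLike.coe_coe, hc, ← map_inv (c s), ← MulAut.mul_apply, ← map_mul,
      inv_mul_cancel, map_one]
    simp
  have s1 : ∀ s : R, s • (1 : Z →* kˣ) = 1 := fun _ => rfl
  obtain ⟨T, t1, t2, t3⟩ := exists_free_reps (S := R) (fun l : Z →* kˣ => l ≠ 1)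
    (fun s l h e => h (by rw [← inv_smul_smul s l, e, s1])) fun s l h e => by
      by_contra hn
      have i : Function.Injective fun z : Z => z⁻¹ * c s⁻¹ z := fun y z (j : y⁻¹ * c s⁻¹ y = z⁻¹ * c s⁻¹ z) => by
        have : ((z * y⁻¹ : Z) : Γ) ∈ Z ⊓ C1[(s : Γ)] := ⟨(z * y⁻¹).2, mem_C1.2 (by
          have j' := congrArg Subtype.val j
          simp only [coe_mul, coe_inv, hc, inv_inv] at j' ⊢
          calc (z : Γ) * (y : Γ)⁻¹ * s = s * z * ((z : Γ)⁻¹ * ((s : Γ)⁻¹ * z * s)) * (s : Γ)⁻¹ * (y : Γ)⁻¹ * s := by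
                group
            _ = s * (z * (y : Γ)⁻¹) := by rw [← j']; group)⟩
        rw [h2 s s.2 (fun a => hn (Subtype.ext a)), mem_bot] at this
        exact (mul_inv_eq_one.1 (Subtype.ext this)).symm
      refine h (MonoidHom.ext fun z => ?_)
      obtain ⟨y, rfl⟩ := Finite.surjective_of_injective i z
      show l (y⁻¹ * c s⁻¹ y) = 1
      rw [map_mul, ← hs, e, map_inv, inv_mul_cancel]
  have o := wt_orth (ρ := ρ) h0
  have cθ : ∀ s : R, ρ s * (∑ l with T l, wt ρ Z l) * ρ s⁻¹ = ∑ l with T l, wt ρ Z (s • l) := fun s => by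
    rw [Finset.mul_sum, Finset.sum_mul]; exact Finset.sum_congr rfl fun l _ => cw s l
  refine ⟨∑ l with T l, wt ρ Z l, wt ρ Z 1, o.isIdempotentElem_sum, o.idem 1, ?_, range_wt_one h0,
    fun z hz => by simpa using wt_mul (ρ := ρ) (l := 1) ⟨z, hz⟩, fun s i j => ?_, ?_,
    fun f hf => Commute.sum_right _ _ _ fun l _ => wt_comm hf⟩
  · rw [Finset.sum_mul]
    exact Finset.sum_eq_zero fun l hl => o.ortho (t1 l (Finset.mem_filter.1 hl).2)
  · have : (∑ l with T l, wt ρ Z l) * ∑ l with T l, wt ρ Z ((⟨s, i⟩ : R) • l) = 0 := by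
      rw [Finset.sum_mul_sum]
      refine Finset.sum_eq_zero fun l hl => Finset.sum_eq_zero fun m hm => o.ortho fun e => j ?_
      exact congrArg Subtype.val (t2 _ m (Finset.mem_filter.1 hm).2 (e ▸ (Finset.mem_filter.1 hl).2))
    rw [← cθ] at this
    rw [← mul_one (_ * _), ← rep_inv_mul ρ s, ← mul_assoc, mul_assoc _ (ρ s), mul_assoc _ _ (ρ s⁻¹), this, zero_mul]
  · simp only [cθ]
    rw [← sum_wt (ρ := ρ) hZ h0, ← Finset.sum_erase_eq_sub (Finset.mem_univ 1), ← Finset.sum_product']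
    refine Finset.sum_bij (fun x _ => x.1 • x.2) (fun x hx => ?_) (fun x hx y hy e => ?_) (fun l hl => ?_)
      fun _ _ => rfl
    · refine Finset.mem_erase.2 ⟨fun e => t1 _ (Finset.mem_filter.1 (Finset.mem_product.1 hx).2).2 ?_,
        Finset.mem_univ _⟩
      rw [← inv_smul_smul x.1 x.2, e, s1]
    · have i : (y.1⁻¹ * x.1) • x.2 = y.2 := by rw [mul_smul, e, inv_smul_smul]
      have j := t2 _ _ (Finset.mem_filter.1 (Finset.mem_product.1 hx).2).2
        (i ▸ (Finset.mem_filter.1 (Finset.mem_product.1 hy).2).2)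
      rw [j, one_smul] at i
      exact Prod.ext (inv_mul_eq_one.1 j).symm i
    · obtain ⟨s, i⟩ := t3 l (Finset.mem_erase.1 hl).1
      exact ⟨(s⁻¹, s • l), by simp [i], inv_smul_smul s l⟩

omit [Fintype Z] in
theorem free_idem_dim [FiniteDimensional k W] [Fintype R] {θ e : End k W} (a1 : θ * θ = θ)
    (a2 : e * e = e) (a3 : θ * e = 0) (a4 : LinearMap.range e = Fx ρ Z) (a5 : ∀ s ∈ R, s ≠ 1 → θ * ρ s * θ = 0)
    (a6 : ∑ s : R, ρ s * θ * ρ s⁻¹ = 1 - e) :
    finrank k W = #R * finrank k (LinearMap.range θ) + finrank k (Fx ρ Z) ∧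
      finrank k (Fx ρ R) = finrank k (LinearMap.range θ) + finrank k (Fx ρ (Z ⊔ R)) := by
  constructor
  · rw [← finrank_sum_conj (ρ := ρ) (fun s : R => (s : Γ)) a1 fun s t h => a5 _ (mul_mem (inv_mem s.2) t.2)
      fun i => h (Subtype.ext (inv_mul_eq_one.1 i)), a6, ← a4,
      ← LinearMap.IsIdempotentElem.ker_eq_range_one_sub a2, add_comm, LinearMap.finrank_range_add_finrank_ker]
  · rw [← LinearMap.finrank_range_add_finrank_ker (θ.domRestrict (Fx ρ R))]
    congr 1
    · refine congrArg (fun S : Submodule k W => finrank k S) (le_antisymm ?_ ?_)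
      · rintro _ ⟨w, rfl⟩; exact ⟨w, rfl⟩
      · rintro _ ⟨w, rfl⟩
        refine ⟨⟨∑ s : R, ρ s (θ w), fun t ht => ?_⟩, ?_⟩
        · rw [map_sum]
          exact Fintype.sum_equiv (Equiv.mulLeft (⟨t, ht⟩ : R)) _ _ fun s => by simp
        · rw [LinearMap.domRestrict_apply, map_sum, Finset.sum_eq_single 1]
          · simp [← End.mul_apply, a1]
          · intro s _ hs
            rw [← End.mul_apply, ← End.mul_apply, a5 s s.2 fun i => hs (Subtype.ext i)]; rfl
          · simp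
    · rw [← Submodule.finrank_map_subtype_eq, Fx_sup]
      refine congrArg (fun S : Submodule k W => finrank k S) (le_antisymm ?_ ?_)
      · rintro _ ⟨w, hw, rfl⟩
        refine ⟨a4 ▸ ⟨w, ?_⟩, w.2⟩
        have := DFunLike.congr_fun a6 (w : W)
        rw [LinearMap.sum_apply, Finset.sum_eq_zero fun s _ => by
          rw [End.mul_apply, End.mul_apply, w.2 _ (inv_mem s.2), show θ w = 0 from hw, map_zero]] at this
        exact (sub_eq_zero.1 this.symm).symm
      · rintro w ⟨i, j⟩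
        obtain ⟨v, rfl⟩ := a4.ge i
        exact ⟨⟨_, j⟩, show θ (e v) = 0 by rw [← End.mul_apply, a3]; rfl, rfl⟩

omit [Fintype Z] in
theorem lin_wielandt [IsAlgClosed k] [FiniteDimensional k W] [Finite Z] [Finite R] (ρ : Γ →* End k W) (hZ : Abel Z)
    (h0 : (#Z : k) ≠ 0) (h1 : R ≤ N[Z]) (h2 : Semireg Z R) : #R * finrank k (Fx ρ (Z ⊔ R)) + finrank k W =
      #R * finrank k (Fx ρ R) + finrank k (Fx ρ Z) := by
  haveI := Fintype.ofFinite R
  obtain ⟨θ, e, a1, a2, a3, a4, -, a5, a6, -⟩ := exists_free_idem (ρ := ρ) hZ h0 h1 h2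
  obtain ⟨i, j⟩ := free_idem_dim a1 a2 a3 a4 a5 a6
  rw [i, j]; ring

omit [Fintype Z] in
theorem lin_fix_one [IsAlgClosed k] [FiniteDimensional k W] [Finite Z] [Finite R] (ρ : Γ →* End k W) (hZ : Abel Z)
    (h0 : (#Z : k) ≠ 0) (h1 : R ≤ N[Z]) (h2 : Semireg Z R) (h3 : K ≤ C[Z]) (h4 : R ≤ N[K])
    (h5 : finrank k (Fx ρ R) = 1) : Fx ρ Z = ⊤ ∨ Fx ρ (Z ⊔ R) = ⊥ ∧ (Fx ρ Z ≤ Fx ρ K → Fx ρ ⁅K, K⁆ = ⊤) := by
  haveI := Fintype.ofFinite R
  obtain ⟨θ, e, a1, a2, a3, a4, -, a5, a6, a7⟩ := exists_free_idem (ρ := ρ) hZ h0 h1 h2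
  obtain ⟨i, j⟩ := free_idem_dim a1 a2 a3 a4 a5 a6
  by_cases t : finrank k (LinearMap.range θ) = 0
  · exact Or.inl (Submodule.eq_top_of_finrank_eq (by rw [i, t]; simp))
  refine Or.inr ⟨Submodule.finrank_eq_zero.1 (by omega), fun h => eq_top_iff.2 fun w _ => ?_⟩
  obtain ⟨u, -, hu⟩ := finrank_eq_one_iff'.1 (show finrank k (LinearMap.range θ) = 1 by omega)
  have b : ∀ a ∈ K, ∃ c : k, ρ a u = c • (u : W) := fun a ha => by
    obtain ⟨v, hv⟩ := u.2
    obtain ⟨c, hc⟩ := hu ⟨θ (ρ a v), _, rfl⟩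
    refine ⟨c, Eq.trans ?_ (congrArg Subtype.val hc).symm⟩
    rw [← hv, ← End.mul_apply, (a7 (ρ a) fun z hz => by
      rw [Commute, SemiconjBy, ← map_mul, ← map_mul, mem_C_comm h3 ha hz]).eq]; rfl
  have c : ⁅K, K⁆ ≤ Stab ρ (u : W) := comm_le_iff.2 fun x hx y hy => by
    obtain ⟨c1, e1⟩ := b x hx
    obtain ⟨c2, e2⟩ := b y hy
    obtain ⟨c3, e3⟩ := b x⁻¹ (inv_mem hx)
    show ρ _ _ = _
    have : ρ y (ρ x⁻¹ (ρ y⁻¹ u)) = ρ x⁻¹ u := by
      obtain ⟨c4, e4⟩ := b y⁻¹ (inv_mem hy)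
      rw [e4, map_smul, e3, smul_comm, map_smul, ← e4, ← End.mul_apply, rep_mul_inv]; rfl
    rw [map_mul, map_mul, map_mul, End.mul_apply, End.mul_apply, End.mul_apply, this, ← End.mul_apply,
      rep_mul_inv]; rfl
  have d := DFunLike.congr_fun a6 w
  rw [LinearMap.sub_apply, eq_sub_iff_add_eq, End.one_apply, LinearMap.sum_apply] at d
  rw [← d]
  refine add_mem (sum_mem fun s _ x hx => ?_) (Fx_anti (der_le K) (h (a4 ▸ ⟨w, rfl⟩)))
  obtain ⟨c, hc⟩ := hu ⟨θ (ρ s⁻¹ w), _, rfl⟩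
  have hc' : c • (u : W) = θ (ρ s⁻¹ w) := congrArg Subtype.val hc
  rw [End.mul_apply, End.mul_apply, ← hc', map_smul, map_smul, ← End.mul_apply, ← map_mul,
    show x * s = s * ((s : Γ)⁻¹ * x * s) by group, map_mul, End.mul_apply]
  rw [show ρ _ (u : W) = u from ‹⁅K, K⁆ ≤ _› (conj_mem' (normD h4 s.2) hx)]

/-- the conjugation action on endomorphisms -/
def cjRep (ρ : Γ →* End k W) : Γ →* End k (End k W) where
  toFun g := (LinearMap.mulLeft k (ρ g)).comp (LinearMap.mulRight k (ρ g⁻¹))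
  map_one' := by ext; simp
  map_mul' a b := LinearMap.ext fun f => by simp [mul_assoc]
omit [Fintype Z] in
theorem cjRep_apply (g : Γ) (f : End k W) : cjRep ρ g f = ρ g * f * ρ g⁻¹ := (mul_assoc _ _ _).symm

omit [Fintype Z] in
theorem sq_le_Fx_cjRep [IsAlgClosed k] [FiniteDimensional k W] [Finite R] (hR : Abel R) (r0 : (#R : k) ≠ 0)
    (h : Fx ρ R = ⊥) : finrank k W ^ 2 ≤ (#R - 1) * finrank k (Fx (cjRep ρ) R) := by
  classical
  haveI := Fintype.ofFinite R
  haveI : Finite (R →* kˣ) := Nat.finite_of_card_ne_zero (by rw [card_wt hR r0]; exact Nat.card_pos.ne')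
  haveI := Fintype.ofFinite (R →* kˣ)
  have o := wt_orth (ρ := ρ) r0
  have a := finrank_range_sum o
  rw [sum_wt hR r0, End.one_eq_id, LinearMap.range_id, finrank_top, ← Finset.sum_erase _ (a := 1)
    (by rw [range_wt_one r0, h, finrank_bot])] at a
  let P : (R →* kˣ) → End k (End k W) := fun l =>
    (LinearMap.mulLeft k (wt ρ R l)).comp (LinearMap.mulRight k (wt ρ R l))
  have hP : ∀ l f, P l f = wt ρ R l * f * wt ρ R l := fun _ _ => (mul_assoc _ _ _).symm
  have o' : OrthogonalIdempotents P := ⟨fun l => LinearMap.ext fun f => by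
      simp only [End.mul_apply, hP, ← mul_assoc, (o.idem l).eq]
      rw [mul_assoc, (o.idem l).eq],
    fun l m e => LinearMap.ext fun f => by
      simp only [End.mul_apply, hP, ← mul_assoc, show wt ρ R l * wt ρ R m = 0 from o.ortho e, zero_mul]; rfl⟩
  have b : LinearMap.range (∑ l, P l) ≤ Fx (cjRep ρ) R := by
    rintro _ ⟨f, rfl⟩ x hx
    rw [LinearMap.sum_apply, map_sum]
    refine Finset.sum_congr rfl fun l _ => ?_
    have i := wt_mul (ρ := ρ) (l := l) (⟨x, hx⟩ : R)⁻¹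
    rw [cjRep_apply, hP, ← mul_assoc, ← mul_assoc, mul_wt ⟨x, hx⟩, mul_assoc, show wt ρ R l * ρ x⁻¹ = _ from i]
    simp [smul_smul]
  have c : ∀ l, finrank k (LinearMap.range (wt ρ R l)) ^ 2 ≤ finrank k (LinearMap.range (P l)) := fun l => by
    let U := LinearMap.range (wt ρ R l)
    have i : ∀ u : U, wt ρ R l u = u := fun u => by
      obtain ⟨v, hv⟩ := u.2
      rw [← hv, ← End.mul_apply, (o.idem l).eq]
    let f : End k U →ₗ[k] End k W := (LinearMap.llcomp k W U W U.subtype).comp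
      (LinearMap.lcomp k U (wt ρ R l).rangeRestrict)
    have hf : ∀ g w, f g w = g ⟨wt ρ R l w, w, rfl⟩ := fun _ _ => rfl
    rw [sq, ← finrank_linearMap k k U U, ← LinearMap.finrank_range_of_inj (f := f) fun g g' e =>
      LinearMap.ext fun u => Subtype.ext (by
        have := DFunLike.congr_fun e (u : W)
        simpa only [hf, i] using this)]
    refine Submodule.finrank_mono ?_
    rintro _ ⟨g, rfl⟩
    refine ⟨f g, LinearMap.ext fun w => ?_⟩
    rw [hP, End.mul_apply, End.mul_apply, hf, hf, i]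
    simp only [← End.mul_apply, (o.idem l).eq]
  rw [a]
  refine sq_sum_le_card_mul_sum_sq.trans (Nat.mul_le_mul ?_ (le_trans ?_ (Submodule.finrank_mono b)))
  · rw [Finset.card_erase_of_mem (Finset.mem_univ _), Finset.card_univ, ← Nat.card_eq_fintype_card, card_wt hR r0]
    exact le_rfl
  · rw [finrank_range_sum o']
    exact (Finset.sum_le_sum fun l _ => c l).trans (Finset.sum_le_sum_of_subset (Finset.subset_univ _))

omit [Fintype Z] in
/-- a Hall–Higman type bound -/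
theorem hall_higman_bound [IsAlgClosed k] [FiniteDimensional k W] [Nontrivial W] [Finite Γ] (hr : (#R).Prime)
    (h1 : R ≤ N[K]) (k0 : (#K : k) ≠ 0) (r0 : (#R : k) ≠ 0) (hZ : Z ≤ K) (a : ⁅K, K⁆ ≤ Z)
    (b : ∀ z ∈ Z, ∃ c : k, ρ z = c • 1) (c : ∀ x ∈ K, (∀ y ∈ K, Commute (ρ x) (ρ y)) → x ∈ Z)
    (d : ∀ y ∈ K, ∀ x ∈ R, x ≠ 1 → y * x * y⁻¹ * x⁻¹ ∈ Z → y ∈ Z) (e : Fx ρ R = ⊥) :
    Z.relIndex K ≤ (#R - 1) ^ 2 := by
  by_cases hK : K ≤ Z
  · rw [relIndex_eq_one.2 hK]
    exact Nat.one_le_pow _ _ (by have := hr.two_le; omega)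
  let ψ := (cjRep ρ).toHomUnits
  let ι := Units.coeHom (End k (End k W))
  have hψ : ∀ g f, ι (ψ g) f = ρ g * f * ρ g⁻¹ := fun g f => cjRep_apply g f
  have ker : ∀ x ∈ K, ψ x = 1 ↔ x ∈ Z := fun x hx => by
    refine ⟨fun h => c x hx fun y _ => ?_, fun h => Units.ext (LinearMap.ext fun f => ?_)⟩
    · have := hψ x (ρ y)
      rw [h, map_one, End.one_apply] at this
      rw [Commute, SemiconjBy, ← mul_one (ρ x * _), ← rep_inv_mul ρ x, ← mul_assoc, ← this]
    · obtain ⟨s, hs⟩ := b x h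
      show ι (ψ x) f = f
      rw [hψ, hs, smul_mul_assoc, one_mul, ← mul_one f, ← mul_smul_comm, ← hs, mul_assoc, rep_mul_inv]
  have cm : ∀ y ∈ K, ∀ x ∈ R, x ≠ 1 → ψ y * ψ x = ψ x * ψ y → y ∈ Z := fun y hy x hx i j =>
    d y hy x hx i ((ker _ (by
      rw [mul_assoc, mul_assoc]; exact mul_mem hy (by rw [← mul_assoc]; exact conj_mem (h1 hx) (inv_mem hy)))).1 (by
      rw [map_mul, map_mul, map_mul, j, map_inv, map_inv]; group))
  have cR : #(R.map ψ) = #R := by
    rw [← tot_im, card_im_inj le_top (eq_bot_iff.2 fun x hx => ?_)]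
    by_contra i
    have : ψ x = 1 := by have := hx.2; rwa [tot_ker] at this
    exact hK fun y hy => cm y hy x hx.1 i (by rw [this, one_mul, mul_one])
  have cK : #(K.map ψ) = Z.relIndex K := by
    rw [← tot_im, card_im le_top, tot_ker, ← inf_relIndex_left, ← inf_relIndex_left K Z]
    congr 1
    ext x
    exact and_congr_right fun h => ker x h
  haveI : Finite (K.map ψ) := Nat.finite_of_card_ne_zero (cK ▸ (relIndex_pos _ _).ne')
  haveI : Finite (R.map ψ) := Nat.finite_of_card_ne_zero (cR ▸ card_ne _)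
  haveI := Fintype.ofFinite (K.map ψ)
  haveI := Fintype.ofFinite (R.map ψ)
  obtain ⟨θ, ε, a1, a2, a3, a4, a8, a5, a6, -⟩ := exists_free_idem (ρ := ι) (Z := K.map ψ) (R := R.map ψ)
    (by rw [abel_iff_der, ← map_commutator, Subgroup.map_eq_bot_iff]; exact fun x hx => (ker x (der_le K hx)).2 (a hx))
    (fun i => k0 (by rw [← card_mul_relIndex hZ, ← cK, Nat.cast_mul, i, mul_zero])) (norm_map h1 ψ) (by
      rintro _ ⟨x, hx, rfl⟩ i
      refine eq_bot_iff.2 ?_
      rintro _ ⟨⟨y, hy, rfl⟩, j⟩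
      exact (ker y hy).2 (cm y hy x hx (fun e => i (by rw [e, map_one])) (mem_C1.1 j)))
  obtain ⟨i, j⟩ := free_idem_dim a1 a2 a3 a4 a5 a6
  have cs := sq_le_Fx_cjRep (cyc_of_prime hr).abel r0 e
  have e1 : Fx (cjRep ρ) R = Fx ι (R.map ψ) := by
    ext f
    exact ⟨fun h _ ⟨x, hx, e⟩ => e ▸ h x hx, fun h x hx => h _ ⟨x, hx, rfl⟩⟩
  have j' := Submodule.finrank_mono (Fx_anti (ρ := ι) (le_sup_left (a := K.map ψ) (b := R.map ψ)))
  let L : Γ →* End k (End k W) := (Algebra.lmul k (End k W)).toMonoidHom.comp ρ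
  choose s s1 s2 using fun x : K.map ψ => mem_map.1 x.2
  have u := finrank_sum_conj (ρ := L) s a2 fun x y h => LinearMap.ext fun f => by
    have m : (s x)⁻¹ * s y ∈ K := mul_mem (inv_mem (s1 x)) (s1 y)
    generalize hg : (s x)⁻¹ * s y = g at m
    have n : g ∉ Z := fun n => h (Subtype.ext (by
      have := (ker g m).2 n
      rwa [← hg, map_mul, map_inv, s2, s2, inv_mul_eq_one] at this))
    obtain ⟨v, hv, w⟩ : ∃ v ∈ K, ¬ Commute (ρ g) (ρ v) := by
      by_contra o
      push Not at o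
      exact n (c g m o)
    obtain ⟨t, ht⟩ := b _ (a (comm_mem hv m))
    have t1 : ρ v * ρ g * ρ v⁻¹ = t • ρ g := by
      rw [← one_mul (ρ g), ← smul_mul_assoc, ← ht, one_mul, ← map_mul, ← map_mul, ← map_mul, inv_mul_cancel_right]
    have t2 : ρ v * ε f * ρ v⁻¹ = ε f := (hψ v _).symm.trans (a4.le ⟨f, rfl⟩ _ ⟨v, hv, rfl⟩)
    have t3 : ι (ψ v) (ρ g * ε f) = t • (ρ g * ε f) := by
      rw [hψ, ← smul_mul_assoc, ← t1]
      conv_rhs => rw [← t2]
      simp only [mul_assoc]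
      rw [← mul_assoc (ρ v⁻¹), rep_inv_mul, one_mul]
    have t4 := DFunLike.congr_fun (a8 _ ⟨v, hv, rfl⟩) (ρ g * ε f)
    rw [End.mul_apply, t3, map_smul, ← sub_eq_zero, ← one_smul k (ε _), smul_smul, mul_one, ← sub_smul,
      smul_eq_zero] at t4
    refine t4.resolve_left fun o => w ?_
    rw [sub_eq_zero.1 o, one_smul] at t1
    rw [Commute, SemiconjBy, ← mul_one (ρ v * _), ← rep_inv_mul ρ v, ← mul_assoc, t1]
  have v := Submodule.finrank_le (LinearMap.range (∑ i, L (s i) * ε * L (s i)⁻¹))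
  rw [u, a4, cK] at v
  rw [e1, j] at cs
  rw [cR] at i
  rw [finrank_linearMap] at i v
  have d0 : 0 < finrank k W := finrank_pos
  obtain ⟨r, hr'⟩ : ∃ r, #R = r + 2 := ⟨#R - 2, by have := hr.two_le; omega⟩
  rw [hr'] at i cs ⊢
  rw [show r + 2 - 1 = r + 1 from rfl] at cs ⊢
  generalize finrank k (LinearMap.range θ) = t at *
  generalize finrank k (Fx ι (K.map ψ)) = b at *
  have w1 : t ≤ r * b := by nlinarith
  have w2 : finrank k W * finrank k W ≤ (r + 1) ^ 2 * b := by nlinarith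
  have w3 : 0 < b := by
    by_contra o
    rw [show b = 0 by omega] at w2
    nlinarith
  exact Nat.le_of_mul_le_mul_right (v.trans w2) w3

end Cfsg.Agent.BG
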