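import Cfsg.Agent.BG.Base6
/-!
The minimal counterexample: maximal subgroups, uniqueness subgroups, the prime sets `σ, α, β, τ₁, τ₂, τ₃, κ`.
-/
set_option autoImplicit false

namespace Cfsg.Agent.BG
open Subgroup PHom

/-- `G` is a minimal simple group of odd order -/
class MSO (G : Type*) [Group G] : Prop where
  out : IsMinSimpleOddOrder G

scoped notation:max "σ[" M "]" => Cfsg.sigma M
scoped notation:max "α[" M "]" => Cfsg.alpha M
scoped notation:max "β[" M "]" => Cfsg.beta M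
scoped notation:max "κ[" M "]" => Cfsg.kappa M
scoped notation:max "τ1[" M "]" => Cfsg.tau1 M
scoped notation:max "τ2[" M "]" => Cfsg.tau2 M
scoped notation:max "τ3[" M "]" => Cfsg.tau3 M
scoped notation:max "Mσ[" M "]" => Cfsg.piCoreOf (Cfsg.sigma M) M
scoped notation:max "Mα[" M "]" => Cfsg.piCoreOf (Cfsg.alpha M) M
scoped notation:max "Mβ[" M "]" => Cfsg.piCoreOf (Cfsg.beta M) M
scoped notation:max "MF[" M "]" => Cfsg.fittingHallOf M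

variable {G : Type*} [Group G]
variable {A B D E H K L M P Q R S U V W X Y : Subgroup G} {x y g : G} {π ρ : Set ℕ} {p q m n : ℕ}

theorem sigmaCore_eq (M : Subgroup G) : sigmaCore M = Mσ[M] := rfl
theorem alphaCore_eq (M : Subgroup G) : alphaCore M = Mα[M] := rfl

/-- `M` is the only maximal subgroup containing `X` -/
structure UMax (X M : Subgroup G) : Prop where
  max : IsCoatom M
  le : X ≤ M
  uniq : ∀ L, IsCoatom L → X ≤ L → L = M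
/-- `X` lies in a unique maximal subgroup -/
def InU (X : Subgroup G) : Prop := ∃ M, UMax X M
/-- `H` is conjugate to `M` -/
def Cjg (M H : Subgroup G) : Prop := ∃ g, cj g M = H
/-- `Q` is a maximal `A`-invariant `q`-subgroup of the whole group -/
structure MaxN (A : Subgroup G) (q : ℕ) (Q : Subgroup G) : Prop where
  pi : PiG {q} Q
  norm : A ≤ N[Q]
  max : ∀ R, PiG {q} R → A ≤ N[R] → Q ≤ R → R = Q
/-- `K` is transitive on the maximal `A`-invariant `q`-subgroups -/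
def TransN (K A : Subgroup G) (q : ℕ) : Prop := ∀ Q R, MaxN A q Q → MaxN A q R → ∃ k ∈ K, cj k Q = R
/-- the primes dividing the order of `A` -/
abbrev piOf (A : Subgroup G) : Set ℕ := {p | p ∣ #A}
/-- Hypothesis 7.1 -/
structure NormedC (A : Subgroup G) : Prop where
  ne_bot : A ≠ ⊥
  ne_top : A ≠ ⊤
  le : ∀ X Y, X ≠ ⊤ → A ≤ X → Y ≤ X → PiG (piOf A)ᶜ Y → A ≤ N[Y] → Y ≤ O[(piOf A)ᶜ](X)

theorem inU_iff : InU X ↔ InUniqueMaximal X :=
  ⟨fun ⟨M, h⟩ => ⟨M, ⟨h.max, h.le⟩, fun L hL => h.uniq L hL.1 hL.2⟩,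
    fun ⟨M, h1, h2⟩ => ⟨M, h1.1, h1.2, fun L a b => h2 L ⟨a, b⟩⟩⟩
theorem UMax.inU (h : UMax X M) : InU X := ⟨M, h⟩
theorem InU.umax (h : InU X) (hM : IsCoatom M) (h1 : X ≤ M) : UMax X M := by
  obtain ⟨L, hL⟩ := h; rwa [hL.uniq M hM h1]
theorem InU.eq (h : InU X) (hM : IsCoatom M) (hL : IsCoatom L) (h1 : X ≤ M) (h2 : X ≤ L) : L = M :=
  (h.umax hM h1).uniq L hL h2
theorem UMax.mono (h : UMax X M) (h1 : X ≤ Y) (h2 : Y ≤ M) : UMax Y M :=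
  ⟨h.max, h2, fun L a b => h.uniq L a (h1.trans b)⟩
theorem UMax.eq (h : UMax X M) (h2 : UMax X L) : L = M := h.uniq L h2.max h2.le
theorem coatom_cj : IsCoatom (cj g M) ↔ IsCoatom M := by
  have key : ∀ (g : G) (M : Subgroup G), IsCoatom M → IsCoatom (cj g M) := fun g M h =>
    ⟨fun e => h.1 (cj_eq_top.1 e), fun B hB => by
      rw [← cj_eq_top (g := g⁻¹)]; exact h.2 _ (by rw [← cj_lt_cj (g := g), cj_cj_inv]; exact hB)⟩
  exact ⟨fun h => by simpa using key g⁻¹ _ h, key g M⟩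
theorem coatom_cj' (h : IsCoatom M) (g : G) : IsCoatom (cj g M) := coatom_cj.2 h
theorem UMax.cj (h : UMax X M) (g : G) : UMax (cj g X) (cj g M) :=
  ⟨coatom_cj' h.max g, cj_mono g h.le, fun L a b => by
    rw [← h.uniq (BG.cj g⁻¹ L) (coatom_cj' a _) (cj_le_iff.1 b), cj_cj_inv]⟩
theorem umax_cj : UMax (cj g X) (cj g M) ↔ UMax X M := ⟨fun h => by simpa using h.cj g⁻¹, fun h => h.cj g⟩
theorem InU.cj (h : InU X) (g : G) : InU (cj g X) := by obtain ⟨M, h⟩ := h; exact ⟨_, h.cj g⟩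
theorem inU_cj : InU (cj g X) ↔ InU X := ⟨fun h => by simpa using h.cj g⁻¹, fun h => h.cj g⟩
theorem UMax.norm (h : UMax X M) (hg : g ∈ N[X]) : BG.cj g M = M :=
  h.uniq _ (coatom_cj' h.max g) (cj_of_mem_N hg ▸ cj_mono g h.le)
theorem coatom_eq (hM : IsCoatom M) (h1 : M ≤ H) (h2 : H ≠ ⊤) : H = M := (hM.le_iff.1 h1).resolve_left h2
theorem coatom_eq' (hM : IsCoatom M) (hL : IsCoatom L) (h1 : M ≤ L) : L = M := coatom_eq hM h1 hL.1
theorem ne_top_of_le (hM : IsCoatom M) (h : X ≤ M) : X ≠ ⊤ := ne_top_of_le_ne_top hM.1 h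
theorem UMax.ne_top (h : UMax X M) : X ≠ ⊤ := ne_top_of_le h.max h.le
theorem InU.ne_top (h : InU X) : X ≠ ⊤ := h.choose_spec.ne_top

theorem cjg_refl (M : Subgroup G) : Cjg M M := ⟨1, cj_one M⟩
theorem cjg_cj (g : G) (M : Subgroup G) : Cjg M (cj g M) := ⟨g, rfl⟩
theorem Cjg.symm (h : Cjg M H) : Cjg H M := by obtain ⟨g, rfl⟩ := h; exact ⟨g⁻¹, cj_inv_cj g M⟩
theorem Cjg.trans (h : Cjg M H) (h2 : Cjg H L) : Cjg M L := by
  obtain ⟨g, rfl⟩ := h; obtain ⟨k, rfl⟩ := h2; exact ⟨k * g, cj_mul k g M⟩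
theorem cjg_cj_right : Cjg M (cj g H) ↔ Cjg M H :=
  ⟨fun h => h.trans (cjg_cj g H).symm, fun h => h.trans (cjg_cj g H)⟩
theorem cjg_cj_left : Cjg (cj g M) H ↔ Cjg M H :=
  ⟨fun h => (cjg_cj g M).trans h, fun h => (cjg_cj g M).symm.trans h⟩
theorem not_cjg_symm (h : ¬ Cjg M H) : ¬ Cjg H M := fun h2 => h h2.symm
theorem ne_of_not_cjg (h : ¬ Cjg M H) : H ≠ M := fun e => h (e ▸ cjg_refl H)
theorem Cjg.coatom (h : Cjg M H) (hM : IsCoatom M) : IsCoatom H := by obtain ⟨g, rfl⟩ := h; exact coatom_cj' hM g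

theorem maxN_iff : MaxN A q Q ↔ Q ∈ maxInvSubgroups ⊤ A {q} :=
  ⟨fun h => ⟨⟨le_top, h.pi, h.norm⟩, fun R hR h2 => h.max R hR.2.1 hR.2.2 h2⟩,
    fun h => ⟨h.1.2.1, h.1.2.2, fun R a b c => h.2 R ⟨le_top, a, b⟩ c⟩⟩

variable [Finite G]

theorem exists_coatom (h : X ≠ ⊤) : ∃ M, IsCoatom M ∧ X ≤ M := (eq_top_or_exists_le_coatom X).resolve_left h
theorem UMax.le_of (h : UMax X M) (h1 : X ≤ Y) (h2 : Y ≠ ⊤) : Y ≤ M := by
  obtain ⟨L, a, b⟩ := exists_coatom h2; exact h.uniq L a (h1.trans b) ▸ b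
theorem UMax.mono' (h : UMax X M) (h1 : X ≤ Y) (h2 : Y ≠ ⊤) : UMax Y M := h.mono h1 (h.le_of h1 h2)
theorem InU.mono (h : InU X) (h1 : X ≤ Y) (h2 : Y ≠ ⊤) : InU Y := by obtain ⟨M, h⟩ := h; exact ⟨M, h.mono' h1 h2⟩
theorem umax_of (h1 : X ≠ ⊤) (h : ∀ L, IsCoatom L → X ≤ L → L = M) : UMax X M := by
  obtain ⟨L, a, b⟩ := exists_coatom h1; exact h L a b ▸ ⟨a, b, fun L' c d => (h L' c d).trans (h L a b).symm⟩
theorem exists_coatom_ne (h1 : X ≠ ⊤) (h : ¬ UMax X M) : ∃ L, IsCoatom L ∧ X ≤ L ∧ L ≠ M := by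
  by_contra hc; push Not at hc; exact h (umax_of h1 hc)
theorem MaxN.cj (h : MaxN A q Q) (g : G) : MaxN (cj g A) q (cj g Q) :=
  ⟨h.pi.cj g, norm_cj.2 h.norm, fun R a b c => by
    rw [← h.max (BG.cj g⁻¹ R) (a.cj _) (by rw [← cj_N]; exact cj_le_iff.1 b) (cj_le_iff.1 c), cj_cj_inv]⟩
theorem MaxN.cj_norm (h : MaxN A q Q) (hg : g ∈ N[A]) : MaxN A q (BG.cj g Q) := cj_of_mem_N hg ▸ h.cj g
theorem exists_maxN (h1 : PiG {q} R) (h2 : A ≤ N[R]) : ∃ Q, R ≤ Q ∧ MaxN A q Q := by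
  obtain ⟨Q, a, ⟨b, c⟩, d⟩ := exists_maximal (P := fun Q => PiG {q} Q ∧ A ≤ N[Q]) ⟨h1, h2⟩
  exact ⟨Q, a, b, c, fun R x y z => d R ⟨x, y⟩ z⟩

/-! ### the prime sets -/
theorem mem_sigma : p ∈ σ[M] ↔ p.Prime ∧ p ∣ #M ∧ ∃ P, Syl p P M ∧ N[P] ≤ M := by
  refine and_congr_right fun hp => and_congr_right fun _ => ⟨fun ⟨P, h⟩ => ⟨_, syl_map hp P, h⟩, fun ⟨P, a, b⟩ => ?_⟩
  obtain ⟨S, rfl⟩ := a.exists_sylow hp; exact ⟨S, b⟩
theorem sigma_prime (h : p ∈ σ[M]) : p.Prime := h.1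
theorem sigma_dvd (h : p ∈ σ[M]) : p ∣ #M := h.2.1
theorem norm_sigma_syl (h : p ∈ σ[M]) (hP : Syl p P M) : N[P] ≤ M := by
  obtain ⟨hp, -, Q, a, b⟩ := mem_sigma.1 h
  obtain ⟨g, hg, rfl⟩ := a.conj hp hP
  rw [← cj_N]; exact cj_le_of_mem b (normG M hg)
theorem sigma_syl_top (h : p ∈ σ[M]) (hP : Syl p P M) : Syl p P ⊤ :=
  Syl.of_norm (hP.sub (le_inf le_top (normG P)) (inf_le_right.trans (norm_sigma_syl h hP))) h.1
theorem sigma_syl_ne_bot (h : p ∈ σ[M]) (hP : Syl p P M) : P ≠ ⊥ := hP.ne_bot' h.1 h.2.1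
theorem sigma_cj (g : G) (M : Subgroup G) : σ[cj g M] = σ[M] := by
  have key : ∀ (g : G) (M : Subgroup G), σ[M] ⊆ σ[cj g M] := fun g M p h => by
    obtain ⟨hp, a, P, b, c⟩ := mem_sigma.1 h
    exact mem_sigma.2 ⟨hp, by rwa [card_cj], _, b.cj g, by rw [← cj_N]; exact cj_mono g c⟩
  exact Set.Subset.antisymm (by simpa using key g⁻¹ (cj g M)) (key g M)
theorem mem_alpha : p ∈ α[M] ↔ p.Prime ∧ 2 < r[p](M) :=
  and_congr_right fun hp => by rw [prankle_iff hp, not_le]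
theorem alpha_prime (h : p ∈ α[M]) : p.Prime := h.1
theorem alpha_rank (h : p ∈ α[M]) : 2 < r[p](M) := (mem_alpha.1 h).2
theorem rank_le_of_not_alpha (hp : p.Prime) (h : p ∉ α[M]) : r[p](M) ≤ 2 :=
  not_lt.1 fun h2 => h (mem_alpha.2 ⟨hp, h2⟩)
theorem alpha_cj (g : G) (M : Subgroup G) : α[cj g M] = α[M] := by
  ext p; rw [mem_alpha, mem_alpha]; exact and_congr_right fun hp => by rw [pRank_cj hp]
omit [Finite G] in
theorem mem_beta : p ∈ β[M] ↔ p ∈ α[M] ∧ IsIdealPrime p G := Iff.rfl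
omit [Finite G] in
theorem beta_sub_alpha (M : Subgroup G) : β[M] ⊆ α[M] := fun _ h => h.1
omit [Finite G] in
theorem beta_prime (h : p ∈ β[M]) : p.Prime := h.1.1
theorem beta_cj (g : G) (M : Subgroup G) : β[cj g M] = β[M] := by ext p; rw [mem_beta, mem_beta, alpha_cj]
theorem mem_tau1 : p ∈ τ1[M] ↔ p.Prime ∧ p ∉ σ[M] ∧ r[p](M) = 1 ∧ ¬ p ∣ #⁅M, M⁆ :=
  and_congr_right fun hp => and_congr_right fun _ => by
    rw [prankle_iff hp, ← pRank_pos_iff hp]; constructor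
    · rintro ⟨a, b, c⟩; exact ⟨by omega, b⟩
    · rintro ⟨a, b⟩; exact ⟨by omega, b, by omega⟩
theorem mem_tau2 : p ∈ τ2[M] ↔ p.Prime ∧ p ∉ σ[M] ∧ r[p](M) = 2 :=
  and_congr_right fun hp => and_congr_right fun _ => by rw [prankle_iff hp, prankle_iff hp]; omega
theorem mem_tau3 : p ∈ τ3[M] ↔ p.Prime ∧ p ∉ σ[M] ∧ r[p](M) = 1 ∧ p ∣ #⁅M, M⁆ :=
  and_congr_right fun hp => and_congr_right fun _ => by
    rw [prankle_iff hp]; constructor
    · rintro ⟨a, b⟩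
      have := (pRank_pos_iff hp).2 (a.trans (cardS (der_le M)))
      exact ⟨by omega, a⟩
    · rintro ⟨a, b⟩; exact ⟨b, by omega⟩
theorem tau1_cj (g : G) (M : Subgroup G) : τ1[cj g M] = τ1[M] := by
  ext p; rw [mem_tau1, mem_tau1, sigma_cj, ← cj_comm, card_cj]; exact and_congr_right fun hp => by rw [pRank_cj hp]
theorem tau2_cj (g : G) (M : Subgroup G) : τ2[cj g M] = τ2[M] := by
  ext p; rw [mem_tau2, mem_tau2, sigma_cj]; exact and_congr_right fun hp => by rw [pRank_cj hp]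
theorem tau3_cj (g : G) (M : Subgroup G) : τ3[cj g M] = τ3[M] := by
  ext p; rw [mem_tau3, mem_tau3, sigma_cj, ← cj_comm, card_cj]; exact and_congr_right fun hp => by rw [pRank_cj hp]
omit [Finite G] in
theorem tau1_sigma' (h : p ∈ τ1[M]) : p ∉ σ[M] := h.2.1
omit [Finite G] in
theorem tau2_sigma' (h : p ∈ τ2[M]) : p ∉ σ[M] := h.2.1
omit [Finite G] in
theorem tau3_sigma' (h : p ∈ τ3[M]) : p ∉ σ[M] := h.2.1
theorem tau1_rank (h : p ∈ τ1[M]) : r[p](M) = 1 := (mem_tau1.1 h).2.2.1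
theorem tau2_rank (h : p ∈ τ2[M]) : r[p](M) = 2 := (mem_tau2.1 h).2.2
theorem tau3_rank (h : p ∈ τ3[M]) : r[p](M) = 1 := (mem_tau3.1 h).2.2.1
theorem tau1_not_tau2 (h : p ∈ τ1[M]) : p ∉ τ2[M] := fun h2 => by have := tau1_rank h; have := tau2_rank h2; omega
theorem tau3_not_tau2 (h : p ∈ τ3[M]) : p ∉ τ2[M] := fun h2 => by have := tau3_rank h; have := tau2_rank h2; omega
omit [Finite G] in
theorem tau1_not_tau3 (h : p ∈ τ1[M]) : p ∉ τ3[M] := fun h2 => h.2.2.2.1 h2.2.2.1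
theorem cj_Msigma (g : G) (M : Subgroup G) : cj g Mσ[M] = Mσ[cj g M] := by rw [cj_O, sigma_cj]
theorem cj_Malpha (g : G) (M : Subgroup G) : cj g Mα[M] = Mα[cj g M] := by rw [cj_O, alpha_cj]
theorem cj_Mbeta (g : G) (M : Subgroup G) : cj g Mβ[M] = Mβ[cj g M] := by rw [cj_O, beta_cj]
theorem Mbeta_le_Malpha (M : Subgroup G) : Mβ[M] ≤ Mα[M] := O_mono (beta_sub_alpha M) M

/-! ### consequences of minimal simplicity -/
variable [hG : MSO G]
include hG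

omit [Finite G] in
theorem mso_simple : IsSimpleGroup G := hG.out.2.1
omit [Finite G] in
theorem mso_sol (h : H ≠ ⊤) : Sol H := hG.out.2.2.2 H h
omit [Finite G] in
theorem coatom_sol (h : IsCoatom M) : Sol M := mso_sol h.1
omit [Finite G] in
theorem sol_of_le (h : IsCoatom M) (h1 : H ≤ M) : Sol H := (coatom_sol h).of_le h1
omit [Finite G] in
theorem mso_odd (H : Subgroup G) : Odd #H := hG.out.1.of_dvd_nat (card_subgroup_dvd_card H)
omit [Finite G] in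
theorem mso_odd_im {G' : Type*} [Group G'] (φ : PHom G G') (H : Subgroup G) : Odd #(φ.im H) :=
  (mso_odd H).of_dvd_nat (card_im_dvd H)
omit [Finite G] in
theorem mso_odd_orderOf (x : G) : Odd (orderOf x) := hG.out.1.of_dvd_nat (orderOf_dvd_natCard x)
omit [Finite G] in
theorem mso_not_abel : ¬ Abel (⊤ : Subgroup G) := fun h =>
  hG.out.2.2.1 ⟨⟨fun a b => mem_C_comm h (mem_top a) (mem_top b)⟩⟩
omit [Finite G] in
theorem mso_normal (h : ⊤ ≤ N[H]) : H = ⊥ ∨ H = ⊤ :=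
  haveI := mso_simple (G := G); (normal_iff.2 h).eq_bot_or_eq_top
omit [Finite G] in
theorem mso_der : ⁅(⊤ : Subgroup G), (⊤ : Subgroup G)⁆ = ⊤ :=
  (mso_normal (der_norm ⊤)).resolve_left fun e => mso_not_abel (abel_iff_der.2 e)
omit [Finite G] in
theorem mso_top_ne_bot : (⊤ : Subgroup G) ≠ ⊥ := fun e => mso_not_abel (e ▸ abel_bot)
omit [Finite G] in
theorem mso_not_sol : ¬ Sol (⊤ : Subgroup G) := fun h => (h.der_lt mso_top_ne_bot).ne mso_der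
omit [Finite G] in
theorem Sol.ne_top (h : Sol H) : H ≠ ⊤ := fun e => mso_not_sol (e ▸ h)
theorem PiG.ne_top (h : PiG {p} H) : H ≠ ⊤ := h.sol.ne_top
omit [Finite G] in
theorem N_ne_top (h1 : H ≠ ⊥) (h2 : H ≠ ⊤) : N[H] ≠ ⊤ := fun e => (mso_normal e.ge).elim h1 h2
omit [Finite G] in
theorem Sol.N_ne_top (h : Sol H) (h1 : H ≠ ⊥) : N[H] ≠ ⊤ := BG.N_ne_top h1 h.ne_top
theorem PiG.N_ne_top (h : PiG {p} H) (h1 : H ≠ ⊥) : N[H] ≠ ⊤ := h.sol.N_ne_top h1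
omit [Finite G] in
theorem C_ne_top (h1 : H ≠ ⊥) : C[H] ≠ ⊤ := fun e => by
  by_cases h : H = ⊤
  · exact mso_not_abel (e.ge.trans (h ▸ le_rfl))
  · exact N_ne_top h1 h (top_le_iff.1 (e.ge.trans (C_le_N H)))
omit [Finite G] in
theorem C1_ne_top (h : x ≠ 1) : C1[x] ≠ ⊤ := by rw [← C_zpowers]; exact C_ne_top (by simpa using h)
omit [Finite G] in
theorem sol_N (h1 : H ≠ ⊥) (h2 : H ≠ ⊤) : Sol N[H] := mso_sol (N_ne_top h1 h2)
omit [Finite G] in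
theorem sol_C (h1 : H ≠ ⊥) : Sol C[H] := mso_sol (C_ne_top h1)
omit [Finite G] in
theorem sol_C1 (h1 : x ≠ 1) : Sol C1[x] := mso_sol (C1_ne_top h1)
omit [Finite G] in
/-- `mmax_normal` -/
theorem coatom_N (hM : IsCoatom M) (h1 : H ≤ M) (h2 : M ≤ N[H]) (h3 : H ≠ ⊥) : N[H] = M :=
  coatom_eq hM h2 (N_ne_top h3 (ne_top_of_le hM h1))
theorem coatom_ne_bot (hM : IsCoatom M) : M ≠ ⊥ := fun e => by
  obtain ⟨X, -, h⟩ := exists_prime_sub' (mso_top_ne_bot (G := G))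
  exact ne_bot_of_prime h (e ▸ coatom_eq hM (e ▸ bot_le) (cyc_of_prime h).sol.ne_top)
theorem N_coatom (hM : IsCoatom M) : N[M] = M := coatom_N hM le_rfl (normG M) (coatom_ne_bot hM)
theorem mem_of_cj_eq (hM : IsCoatom M) (h : cj g M = M) : g ∈ M := N_coatom hM ▸ mem_N_iff_cj.2 h
theorem cj_ne_of_not_mem (hM : IsCoatom M) (h : g ∉ M) : cj g M ≠ M := fun e => h (mem_of_cj_eq hM e)
theorem UMax.N_le (h : UMax X M) : N[X] ≤ M := fun _ hg => mem_of_cj_eq h.max (h.norm hg)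
theorem UMax.N_le' (h : UMax C[X] M) : N[X] ≤ M := (normC le_rfl).trans h.N_le
theorem F_coatom_ne_bot (hM : IsCoatom M) : F[M] ≠ ⊥ := F_ne_bot (coatom_sol hM) (coatom_ne_bot hM)
theorem N_F_coatom (hM : IsCoatom M) : N[F[M]] = M := coatom_N hM (F_le M) (F_norm M) (F_coatom_ne_bot hM)
omit [Finite G] in
/-- a nontrivial subgroup normalized by `M` lies in `M` or is everything -/
theorem le_of_coatom_norm (hM : IsCoatom M) (h1 : M ≤ N[H]) (h2 : H ≠ ⊤) : H ≤ M := by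
  by_cases e : H = ⊥
  · rw [e]; exact bot_le
  · exact coatom_eq hM h1 (N_ne_top e h2) ▸ normG H
theorem exists_coatom_N (h1 : H ≠ ⊥) (h2 : H ≠ ⊤) : ∃ M, IsCoatom M ∧ N[H] ≤ M := exists_coatom (N_ne_top h1 h2)
theorem exists_coatom_C (h1 : H ≠ ⊥) : ∃ M, IsCoatom M ∧ C[H] ≤ M := exists_coatom (C_ne_top h1)
theorem exists_coatom_C1 (h1 : x ≠ 1) : ∃ M, IsCoatom M ∧ C1[x] ≤ M := exists_coatom (C1_ne_top h1)
omit [Finite G] in
theorem prime_ne_two (h : p ∣ #H) : p ≠ 2 := fun e => (Nat.not_even_iff_odd.2 (mso_odd H)) (even_iff_two_dvd.2 (e ▸ h))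
omit [Finite G] in
theorem prime_gt_two (hp : p.Prime) (h : p ∣ #H) : 2 < p := lt_of_le_of_ne hp.two_le (prime_ne_two h).symm
theorem sigma_of (hM : IsCoatom M) (hp : p.Prime) (hP : Syl p P M) (h : N[P] ≤ M) : p ∈ σ[M] :=
  mem_sigma.2 ⟨hp, (hP.pi.dvd fun e => hM.1 (top_le_iff.1 (N_bot (G := G) ▸ e ▸ h))).trans (cardS hP.le), P, hP, h⟩
theorem sigma_of_top (hM : IsCoatom M) (hp : p.Prime) (hP : Syl p P ⊤) (h : N[P] ≤ M) : p ∈ σ[M] :=
  sigma_of hM hp (hP.sub ((normG P).trans h) le_top) h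
theorem not_N_le_of_sigma' (hM : IsCoatom M) (hp : p.Prime) (h : p ∉ σ[M]) (hP : Syl p P M) : ¬ N[P] ≤ M :=
  fun h2 => h (sigma_of hM hp hP h2)
theorem exists_sigma (hp : p.Prime) (h : p ∣ Nat.card G) : ∃ M : Subgroup G, IsCoatom M ∧ p ∈ σ[M] := by
  obtain ⟨P, hP⟩ := syl_exists hp (⊤ : Subgroup G)
  obtain ⟨M, a, b⟩ := exists_coatom (hP.pi.N_ne_top (hP.ne_bot' hp (by rwa [card_top])))
  exact ⟨M, a, sigma_of_top a hp hP b⟩

end Cfsg.Agent.BG
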