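import Cfsg.Agent.BG.Base6
import Cfsg.Agent.Comp.TB
/-!
Bender–Glauberman, section 1 (the part not already in the Base files).
-/
set_option autoImplicit false

namespace Cfsg.Agent.BG
open Subgroup PHom
open scoped commutatorElement

variable {G : Type*} [Group G] [Finite G] {G' : Type*} [Group G'] [Finite G']
variable {A B C D E H K L M N P Q R S T U V W X Y Z : Subgroup G} {x y g : G} {π ρ : Set ℕ} {p q r m n : ℕ}
  {φ : PHom G G'}

/-- BG 1.2, first half: `F(H)` stabilizes every chief factor of `M` -/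
theorem F_stab_chief (hs : Sol M) (h1 : H ≤ M) (h2 : M ≤ N[H]) (hU : U ≤ M) (h : Chief V U M) :
    ⁅U, F[H]⁆ ≤ V := by
  have a1 : U ÷ V ≤ Z[F[M ÷ V]] := h.minN.le_ZF (im_mono hU) ((hs.of_le hU).im _)
  have a2 : F[H] ÷ V ≤ F[M ÷ V] := (im_mono (F_le_of_normal h1 h2)).trans (im_F_le _)
  exact (quo_cent_iff h.nUV (((F_le H).trans h1).trans h.nV)).1 (centSS (a1.trans inf_le_right) le_rfl a2)

/-- BG 1.9: a coprime group stabilizing all `L`-chief factors inside `K` centralizes `K` -/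
theorem cop_cent_of_chief (hL : L ≤ N[K]) (hc : (#A).Coprime #K) (hs : Sol K)
    (h : ∀ U V, Chief V U L → U ≤ K → ⁅U, A⁆ ≤ V) : A ≤ C[K] := by
  induction K using lt_wf_ind with
  | h K ih =>
  by_cases h0 : K = ⊥
  · rw [h0, C_bot]; exact le_top
  obtain ⟨V, h1, ⟨h2, h3⟩, h4⟩ := exists_maximal (P := fun V => V < K ∧ L ≤ N[V]) (A := ⁅K, K⁆)
    ⟨hs.der_lt h0, normD hL⟩
  have hV : Chief V K L := ⟨h2, h3, hL, norm_of_der_le h1 h2.le, fun B a b c => h4 B ⟨b, c⟩ a⟩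
  have c1 : (#A).Coprime #V := coprimeS hc le_rfl h2.le
  exact cent_symm (cop_stable c1 (h K V hV le_rfl)
    (cent_symm (ih V h2 h3 c1 (hs.of_le h2.le) fun U W a b => h U W a (b.trans h2.le))))

/-- BG 1.2, second half -/
theorem chief_stab_le_F (hs : Sol M) (h1 : H ≤ M) (h2 : M ≤ N[H])
    (h : ∀ U V, Chief V U M → U ≤ F[M] → ⁅U, H⁆ ≤ V) : H ≤ F[M] := by
  have key : ∀ q, ∀ Q ≤ H, PiG {q} Q → Q ≤ C[O[{q}ᶜ](F[M])] := fun q Q a b =>
    cop_cent_of_chief (L := M) (normO _ (F_norm M)) (b.coprime (O_pig _ _)) ((F_nil M).sol.of_le (O_le _ _))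
      fun U V c d => (commS le_rfl a).trans (h U V c (d.trans (O_le _ _)))
  refine le_of_pig fun q hq Q a b => ?_
  set D := H ⊓ C[O[{q}ᶜ](F[M])] with hD
  have nD : M ≤ N[D] := normI h2 (normC (normO _ (F_norm M)))
  have cR : ∀ r, r ≠ q → ∀ R ≤ D, PiG {r} R → R ≤ C[D] := fun r hr R c d => by
    have e1 : R ≤ C[F[M]] := by
      rw [← ((F_nil M).dprod_O {q}).sup]
      refine centY (centSS (key r R (c.trans inf_le_left) d) le_rfl (O_mono ?_ _)) (c.trans inf_le_right)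
      intro s hs; rw [Set.mem_singleton_iff.1 hs]; exact hr.symm
    have e2 : R ≤ F[M] := (le_inf (c.trans (inf_le_left.trans h1)) e1).trans (C_F_le hs)
    exact centSS (A := O[{q}ᶜ](F[M])) (B := D) (cent_symm inf_le_right) ((F_nil M).le_O e2 (d.ne_compl hr)) le_rfl
  have hN : Nil D := nil_of_syl fun r hr _ => by
    obtain ⟨P, hP⟩ := syl_exists hr D
    refine ⟨P, hP, ?_⟩
    by_cases e : r = q
    · refine le_of_syl fun s hs _ => ?_
      by_cases e' : s = r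
      · exact ⟨P, e' ▸ hP, normG P⟩
      · obtain ⟨R, hR⟩ := syl_exists hs D
        exact ⟨R, hR, cents_norm (centSS (cR s (e ▸ e') R hR.le hR.pi) le_rfl hP.le)⟩
    · exact cents_norm (cent_symm (cR r e P hP.le hP.pi))
  exact (le_inf a (key q Q a b)).trans (le_F (inf_le_left.trans h1) nD hN)

theorem cop_cent_F (hA : A ≤ N[K]) (hc : (#A).Coprime #K) (hs : Sol K) (h : A ≤ C[F[K]]) : A ≤ C[K] := by
  have a1 : ⁅⁅K, A⁆, F[K]⁆ = ⊥ := three_subgroup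
    (by rw [comm_eq_bot.2 h]; exact commutator_bot_left _)
    (comm_eq_bot.2 (centSS (cent_symm h) (commL (F_norm K)) le_rfl))
  have a2 : ⁅K, A⁆ ≤ F[K] := (le_inf (commL hA) (comm_eq_bot.1 a1)).trans (C_F_le hs)
  exact cent_symm (cop_stable (coprimeS hc le_rfl (F_le K)) a2 (cent_symm h))

/-- BG 1.4 -/
theorem cop_trivial_cent_F (hA : A ≤ N[K]) (hc : (#A).Coprime #K) (hs : Sol K) (h : A ⊓ C[K] = ⊥) :
    A ⊓ C[F[K]] = ⊥ := by
  rw [eq_bot_iff, ← h]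
  exact le_inf inf_le_left (cop_cent_F (inf_le_left.trans hA) (coprimeS hc inf_le_left le_rfl) hs inf_le_right)

/-- BG 1.5(e) -/
theorem cop_comm_le_O (hA : A ≤ N[K]) (hc : (#A).Coprime #K) (hs : Sol K) (hH : Hall πᶜ H K) (h : H ≤ C[A]) :
    ⁅K, A⁆ ≤ O[π](K) := by
  obtain ⟨P, hP, nP⟩ := cop_hall_exists π hA hc hs
  have a1 : ⁅K, A⁆ ≤ P := comm_le_iff.2 fun k hk a ha => by
    obtain ⟨u, hu, v, hv, rfl⟩ := (hP.prod hH).ex k hk
    have e := mem_C_comm h hv ha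
    have : u * v * a * (u * v)⁻¹ * a⁻¹ = u * (a * u⁻¹ * a⁻¹) := by
      rw [mul_assoc u v a, e]; group
    rw [this]; exact P.mul_mem hu (conj_mem (nP ha) (P.inv_mem hu))
  exact le_O (commL hA) (comm_norml _ _) (hP.pi.of_le a1)

theorem PiG.ne_two (hP : PiG {p} P) (ho : Odd #P) (h1 : P ≠ ⊥) : p ≠ 2 := by
  rintro rfl
  exact (Nat.not_even_iff_odd.2 ho) (even_iff_two_dvd.2 (hP.dvd h1))

theorem PiG.cop_prime (hP : PiG {p} P) (h1 : P ≠ ⊥) (hc : (#A).Coprime #P) : (#A).Coprime p :=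
  hc.coprime_dvd_right (hP.dvd h1)

/-- BG 1.11 -/
theorem cop_odd_faithful_Om (hP : PiG {p} P) (ho : Odd #P) (hA : A ≤ N[P]) (hc : (#A).Coprime #P)
    (h : A ≤ C[Ω[p](P)]) : A ≤ C[P] := by
  by_cases h0 : P = ⊥
  · rw [h0, C_bot]; exact le_top
  have hp := hP.prime h0
  haveI := Fact.mk hp
  exact cent_symm (Comp.tb_pgroup (hP.ne_two ho h0) (A := ⊥) (hP.pg hp) (hP.cop_prime h0 hc)
    IsPGroup.of_bot bot_le bot_le hA fun x hx e _ => cent_symm h (mem_Om hx e))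

/-- BG 1.12 -/
theorem cop_odd_faithful_cent_abelem (hP : PiG {p} P) (ho : Odd #P) (hA : A ≤ N[P]) (hc : (#A).Coprime #P)
    (hE : E ≤ P) (hE' : Abelem p E) (h : A ≤ C[Ω[p](P ⊓ C[E])]) : A ≤ C[P] := by
  have a1 : A ≤ C[E] := centSS h le_rfl (hE'.le_Om (le_inf hE hE'.abel))
  have a2 : A ≤ C[P ⊓ C[E]] := cop_odd_faithful_Om (hP.of_le inf_le_left) (ho.of_dvd_nat (cardS inf_le_left))
    (normI hA (normC (cents_norm a1))) (coprimeS hc le_rfl inf_le_left) h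
  exact cop_nil_faithful hP.nil hA hc
    ((inf_le_inf_left _ (centS (le_inf hE (cent_symm a1)))).trans (cent_symm a2))

omit [Finite G] in
/-- `Ω₁` of a group of class two has exponent `p` for odd `p` -/
theorem Om_pow_class_two (hp : Odd p) (h : ⁅K, K⁆ ≤ C[K]) : ∀ x ∈ Ω[p](K), x ^ p = 1 := by
  let S : Subgroup G :=
    { carrier := {x | x ∈ K ∧ x ^ p = 1}
      one_mem' := ⟨K.one_mem, one_pow _⟩
      inv_mem' := fun {a} ha => ⟨K.inv_mem ha.1, by rw [inv_pow, ha.2, inv_one]⟩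
      mul_mem' := fun {a b} ha hb => ⟨K.mul_mem ha.1 hb.1, by
        have c : ⁅b, a⁆ ∈ C[K] := h (commutator_mem_commutator hb.1 ha.1)
        have ca : Commute ⁅b, a⁆ a := (mem_C.1 c a ha.1).symm
        have cb : Commute ⁅b, a⁆ b := (mem_C.1 c b hb.1).symm
        have e : ⁅b, a⁆ ^ p = 1 := by
          rw [← PLoc.commutatorElement_pow_left cb, hb.2, commutatorElement_one_left]
        obtain ⟨k, hk⟩ := hp
        have e2 : p.choose 2 = p * k := by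
          rw [Nat.choose_two_right, hk]
          simp only [Nat.add_sub_cancel]
          rw [mul_left_comm, Nat.mul_div_cancel_left _ (by norm_num)]
        rw [PLoc.mul_pow_of_class_two ca cb, ha.2, hb.2, e2, pow_mul, e]; simp⟩ }
  intro x hx
  exact ((Om_le_iff (K := S)).2 (fun y a b => ⟨a, b⟩) hx).2

/-- Thompson's critical subgroup -/
theorem critical (hP : Nil P) :
    ∃ K ≤ P, N[P] ≤ N[K] ∧ ⁅K, P⁆ ≤ Z[K] ∧ P ⊓ C[K] ≤ K := by
  obtain ⟨A, -, ⟨h1, h2, h3⟩, h4⟩ := exists_maximal (P := fun A => A ≤ P ∧ N[P] ≤ N[A] ∧ Abel A) (A := ⊥)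
    ⟨bot_le, norm_bot _, abel_bot⟩
  have nA : P ≤ N[A] := (normG P).trans h2
  set K := P ⊓ C[A] ⊓ (quo A).pre C[P ÷ A] with hK
  have nK : N[P] ≤ N[K] := normI (normI le_rfl (normC h2)) (norm_pre h2 (normC (im_norm le_rfl)))
  have KP : K ≤ P := inf_le_left.trans inf_le_left
  have mK : ∀ X, X ≤ P → X ≤ C[A] → ⁅X, P⁆ ≤ A → X ≤ K := fun X a b c =>
    le_inf (le_inf a b) ((le_pre_iff (a.trans nA)).2 ((quo_cent_iff (a.trans nA) nA).2 c))
  have AK : A ≤ K := mK A h1 h3 (commL nA)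
  have cK : ⁅K, P⁆ ≤ A := (quo_cent_iff (KP.trans nA) nA).1 ((le_pre_iff (KP.trans nA)).1 inf_le_right)
  have AZ : A ≤ Z[K] := le_inf AK (cent_symm (inf_le_left.trans inf_le_right))
  have ZA : Z[K] = A := h4 _ ⟨inf_le_left.trans KP, normZ nK, abel_Z K⟩ AZ
  refine ⟨K, KP, nK, cK.trans AZ, ?_⟩
  by_contra hn
  obtain ⟨x, a, b, c⟩ := hP.exists_Z_mod h1 nA (L := P ⊓ C[K]) (normI (normG P) (normC ((normG P).trans nK)))
    inf_le_left (fun e => hn (e.trans AK))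
  have d : zpowers x ≤ K := mK _ (zpowers_le.2 a.1) (zpowers_le.2 (centS AK a.2)) c
  exact b (ZA ▸ ⟨d (mem_zpowers x), a.2⟩)

/-- BG 1.13, Thompson's critical subgroup for odd `p` -/
theorem critical_odd (hP : PiG {p} P) (ho : Odd #P) (h1 : P ≠ ⊥) :
    ∃ H ≤ P, H ≠ ⊥ ∧ N[P] ≤ N[H] ∧ ⁅H, P⁆ ≤ Z[H] ∧ (∀ x ∈ H, x ^ p = 1) ∧
      ∀ A ≤ N[P], PiG {p}ᶜ A → A ≤ C[H] → A ≤ C[P] := by
  obtain ⟨K, a1, a2, a3, a4⟩ := critical hP.nil
  have hK : K ≠ ⊥ := fun e => hP.nil.Z_ne_bot h1 (by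
    rw [eq_bot_iff, ← e]; exact (inf_le_inf_left _ (centS a1)).trans a4)
  have nH : N[P] ≤ N[Ω[p](K)] := normOm p a2
  refine ⟨Ω[p](K), (Om_le _ _).trans a1, (hP.of_le a1).Om_ne_bot hK, nH, ?_, ?_, fun A b1 b2 b3 => ?_⟩
  · exact le_inf (commL ((normG P).trans nH))
      (centSS (a3.trans inf_le_right) (commS (Om_le _ _) le_rfl) (Om_le _ _))
  · exact Om_pow_class_two (ho.of_dvd_nat (hP.dvd h1)) (((commS le_rfl a1).trans a3).trans inf_le_right)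
  · have c := b2.coprime' hP
    have c1 := cop_odd_faithful_Om (hP.of_le a1) (ho.of_dvd_nat (cardS a1)) (b1.trans a2) (coprimeS c le_rfl a1) b3
    exact cop_self_cent hP.nil b1 c a1 (cent_symm c1) a4

theorem p'core_cent_pgroup_aux (hR : PiG {p} R) (h1 : R ≤ H) (hs : Sol H) (h0 : O[{p}ᶜ](H) = ⊥) :
    O[{p}ᶜ](H ⊓ C[R]) = ⊥ := by
  set X := O[{p}ᶜ](H ⊓ C[R])
  set V := O[{p}](H)
  have xH : X ≤ H := (O_le _ _).trans inf_le_left
  have xR : X ≤ C[R] := (O_le _ _).trans inf_le_right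
  have nV : H ≤ N[V] := O_norm _ _
  have pX : PiG {p}ᶜ X := O_pig _ _
  have pV : PiG {p} V := O_pig _ _
  have a1 : V ⊓ C[R] ≤ C[X] := (pV.of_le inf_le_left).cent pX
    ((inf_le_inf_right _ (O_le _ _)).trans (O_norm _ _)) (normI (xH.trans nV) (normC (cents_norm xR)))
  have a2 : X ≤ C[V] := pq_lemma (pV.sup_l hR (h1.trans nV)).nil le_sup_right le_sup_left (cent_symm xR)
    (pX.coprime' pV) (h1.trans nV) (xH.trans nV) a1
  have a3 : X ≤ V := (le_inf xH a2).trans (C_O_le hs h0)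
  exact (pV.of_le a3).eq_bot pX

/-- BG 1.15(b) -/
theorem p'core_cent_pgroup (hR : PiG {p} R) (h1 : R ≤ H) (hs : Sol H) : O[{p}ᶜ](H ⊓ C[R]) ≤ O[{p}ᶜ](H) := by
  set K := O[{p}ᶜ](H)
  have nK : H ≤ N[K] := O_norm _ _
  have a1 : (H ⊓ C[R]) ÷ K = H ÷ K ⊓ C[R ÷ K] := im_IC' (φ := quo K) (h1.trans nK) nK
    (by rw [quo_ker]; exact O_le _ _) (by rw [quo_ker]; exact hR.coprime (O_pig _ _)) (Or.inl hR.sol)
  have a2 := p'core_cent_pgroup_aux (hR.im (quo K)) (im_mono h1) (hs.im _) (O_quo_O _ _)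
  rw [← a1] at a2
  exact (quo_bot_iff (((O_le _ _).trans inf_le_left).trans nK)).1 (eq_bot_iff.2 (a2 ▸ im_O_le _ _))

/-- BG 1.16, cocyclic form -/
theorem cop_gen_cocyc (hA : Abel A) (h2 : A ≤ N[K]) (hc : (#A).Coprime #K)
    (h : ∀ B ≤ A, Cyc (A ÷ B) → K ⊓ C[B] ≤ H) : K ≤ H := by
  suffices key : ∀ D, D ≤ A → K ⊓ C[D] ≤ H by
    have := key ⊥ bot_le
    rwa [C_bot, inf_top_eq] at this
  intro D
  induction D using gt_wf_ind with
  | h D ih =>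
  intro hD
  by_cases hcy : Cyc (A ÷ D)
  · exact h D hD hcy
  have nA : A ≤ N[D] := abel_norm hA hD
  set L := K ⊓ C[D] with hL
  have nL : L ≤ N[D] := cents_norm inf_le_right
  have AL : A ≤ N[L] := normI h2 (normC nA)
  have KD : K ⊓ D = ⊥ := inf_bot_of_coprime (coprimeS hc.symm le_rfl hD)
  have a1 : L ÷ D ≤ (H ⊓ L) ÷ D := cop_gen_cent1 (hA.im _) hcy (im_norm AL)
    (cop_im (coprimeS hc le_rfl inf_le_left) _) fun a ha a1 y hy => by
      obtain ⟨b, hb, rfl⟩ := (mem_im' nA).1 ha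
      obtain ⟨k, hk, rfl⟩ := (mem_im' nL).1 hy.1
      have bD : b ∉ D := fun e => a1 (by
        have : b ∈ (quo D).ker := by rw [quo_ker]; exact e
        exact (mem_ker.1 this).2)
      have c1 : ⁅zpowers k, zpowers b⁆ ≤ D := (quo_cent_iff (zpowers_le.2 (nL hk)) (zpowers_le.2 (nA hb))).1 (by
        rw [im_zpowers (nL hk), im_zpowers (nA hb), C_zpowers]; exact zpowers_le.2 hy.2)
      have c2 : ⁅zpowers k, zpowers b⁆ ≤ K :=
        (commS (zpowers_le.2 hk.1) (zpowers_le.2 hb)).trans (commL h2)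
      have c3 : zpowers k ≤ C[zpowers b] := comm_eq_bot.1 (eq_bot_iff.2 (KD ▸ le_inf c2 c1))
      have c4 : K ⊓ C[D ⊔ zpowers b] ≤ H := ih _ (lt_of_le_of_ne le_sup_left fun e =>
        bD (e ▸ (le_sup_right : zpowers b ≤ D ⊔ zpowers b) (mem_zpowers b))) (sup_le hD (zpowers_le.2 hb))
      refine app_mem_im ⟨c4 ⟨hk.1, ?_⟩, hk⟩ (nL hk)
      rw [C_sup]; exact ⟨hk.2, c3 (mem_zpowers k)⟩
  have a2 : L ≤ (H ⊓ L) ⊔ D := (quo_le_iff nL (inf_le_right.trans nL)).1 a1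
  have a3 : L ≤ (H ⊓ L) ⊔ (D ⊓ L) := by
    rw [← modl_r (inf_le_right.trans nL) inf_le_right]; exact le_inf a2 le_rfl
  refine a3.trans (sup_le inf_le_left ?_)
  exact (le_inf (inf_le_right.trans inf_le_left) inf_le_left).trans (KD.le.trans bot_le)

/-- a cyclic Sylow subgroup for the smallest prime has a normal complement -/
theorem cyc_min_pnil (hp : p.Prime) (hP : Syl p P H) (h : Cyc P) (h2 : ∀ q, q.Prime → q ∣ #H → p ≤ q) :
    PNil p H := by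
  refine burnside hp hP (relIndex_eq_one.1 ?_)
  by_contra hn
  obtain ⟨q, hq, hd⟩ := Nat.exists_prime_and_dvd hn
  have a1 : p ≤ q := h2 q hq (hd.trans ((relIndex_dvd _ _).trans (cardS inf_le_left)))
  have a2 : q ≠ p := by
    rintro rfl
    exact Syl.not_dvd (hP.sub (le_inf hP.le (normG P)) inf_le_left) hq (hd.trans (relIndex_dvd_left h.abel _))
  have a3 := hd.trans (h.idx_cent_dvd (A := H ⊓ N[P]) inf_le_right)
  obtain ⟨k, hk⟩ := hP.pi.card_pow hp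
  rw [hk] at a3
  rcases k with _ | k
  · simp at a3; exact hq.one_lt.ne' a3
  rw [Nat.totient_prime_pow_succ hp] at a3
  rcases (Nat.Prime.dvd_mul hq).1 a3 with e | e
  · exact a2 ((Nat.prime_dvd_prime_iff_eq hq hp).1 (hq.dvd_of_dvd_pow e))
  · have := Nat.le_of_dvd (by have := hp.two_le; omega) e
    have := hp.two_le; omega

theorem pin_relIndex_inf (h1 : A ≤ X) (h2 : B ≤ Y) (n1 : X ≤ N[A]) (n2 : Y ≤ N[B])
    (a : PiN π (A.relIndex X)) (b : PiN π (B.relIndex Y)) : PiN π ((A ⊓ B).relIndex (X ⊓ Y)) := by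
  rw [← relIndex_inf_mul_relIndex]
  refine pin_mul.2 ⟨a.of_dvd (relIndex_dvd_of_norm h1 (inf_le_right.trans inf_le_left)
    ((inf_le_right.trans inf_le_left).trans n1)), b.of_dvd (relIndex_dvd_of_norm h2 inf_le_right
    (inf_le_right.trans n2))⟩

theorem PL1.exists_pre (h : PL1 p (H ÷ K)) (hK : K ≤ H) (nK : H ≤ N[K]) :
    ∃ A B, K ≤ A ∧ A ≤ B ∧ B ≤ H ∧ H ≤ N[A] ∧ H ≤ N[B] ∧ PiN {p}ᶜ (K.relIndex A) ∧ PiN {p} (A.relIndex B) ∧
      PiN {p}ᶜ (B.relIndex H) := by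
  have hk : (quo K).ker ≤ H := by rw [quo_ker]; exact hK
  refine ⟨(quo K).pre O[{p}ᶜ](H ÷ K), (quo K).pre O2[{p}ᶜ, {p}](H ÷ K), le_pre_quo _ _, pre_mono (O_le_O2 _ _ _),
    pre_le_of_le_im nK hk (O2_le _ _ _), norm_pre nK (O_norm _ _), norm_pre nK (O2_norm _ _ _), ?_, ?_, ?_⟩
  · rw [← card_quo (pre_le_dom _), quo_pre]; exact O_pig _ _
  · rw [relIndex_pre _ (pre_le_dom _), quo_pre]; exact OM_idx _ _ _
  · rw [relIndex_pre _ nK]; exact h

/-- BG 1.21(e) -/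
theorem pl1_of_quo2 (hK : K ≤ H) (hL : L ≤ H) (nK : H ≤ N[K]) (nL : H ≤ N[L]) (h : K ⊓ L = ⊥)
    (h1 : PL1 p (H ÷ K)) (h2 : PL1 p (H ÷ L)) : PL1 p H := by
  obtain ⟨A, B, a1, a2, a3, a4, a5, a6, a7, a8⟩ := h1.exists_pre hK nK
  obtain ⟨A', B', b1, b2, b3, b4, b5, b6, b7, b8⟩ := h2.exists_pre hL nL
  refine pl1_of (K := A ⊓ A') (L := B ⊓ B') (inf_le_inf a2 b2) (inf_le_left.trans a3) (normI a4 b4) (normI a5 b5)
    ?_ (pin_relIndex_inf a2 b2 (a3.trans a4) (b3.trans b4) a7 b7) ?_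
  · have := pin_relIndex_inf a1 b1 ((a2.trans a3).trans nK) ((b2.trans b3).trans nL) a6 b6
    rwa [h, relIndex_bot_left] at this
  · simpa using pin_relIndex_inf a3 b3 a5 b5 a8 b8

/-- `pquo_plength1` -/
theorem pl1_of_pquo (hK : K ≤ H) (nK : H ≤ N[K]) (hp : PiG {p} K) (h : O[{p}ᶜ](H ÷ K) = ⊥)
    (h1 : PL1 p (H ÷ K)) : PL1 p H :=
  pl1_of_normal_syl ((h1.hall_O h).pre nK (by rw [quo_ker]; exact hK) (by rw [quo_ker]; exact hp))
    (norm_pre nK (O_norm _ _))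

end Cfsg.Agent.BG
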