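import Cfsg.Agent.BG.S01
import Cfsg.Agent.Class.Dick3
import Cfsg.Agent.PLoc.QuadLin
/-!
Bender–Glauberman, section 2: odd linear groups of degree two, in group-theoretic form.
-/
set_option autoImplicit false

namespace Cfsg.Agent.BG
open Subgroup PHom

section Lin
open Matrix MulAction Cfsg.Agent.Class
open scoped MatrixGroups

theorem odd_pgl2_fix {K : Type*} [Field K] [IsAlgClosed K] (p : ℕ) [hp : Fact p.Prime] [CharP K p]
    (L : Subgroup PGL(2, K)) [Finite L] (ho : Odd (Nat.card L)) : ∃ x : P1 K, ∀ g : L, g • x = x := by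
  have d := (dk_pgl (F := K) p).subgroup L
  haveI : Nonempty (P1 K) := ⟨pinf K⟩
  have ev : ∀ x : P1 K, Odd (orbit L x).ncard := fun x => ho.of_dvd_nat ⟨_, (card_orbit_mul x).symm⟩
  rcases d.dickson (fun g => pgl_ex (g : PGL(2, K))) with h | ⟨x, h⟩ | h | h | ⟨x, h1, h2, -⟩
  · exact h
  · have := ev x; rw [h] at this; exact absurd this (by decide)
  · rcases h.2.2 with e | e | e <;> rw [e] at ho <;> exact absurd ho (by decide)
  · rw [h.2.2.1] at ho; exact absurd ho (by decide)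
  · have a := ev x
    rw [h2, Nat.odd_add_one] at a
    exact absurd (ho.of_dvd_nat (card_subgroup_dvd_card _)) a

theorem odd_gl2_fix {F H : Type*} [Field F] (p : ℕ) [Fact p.Prime] [CharP F p] [Group H] [Finite H]
    (ρ : H →* GL (Fin 2) F) (ho : Odd (Nat.card H)) : ∃ x : P1 (AlgebraicClosure F),
      ∀ g : H, GeneralLinearGroup.map (algebraMap F (AlgebraicClosure F)) (ρ g) • x = x := by
  let τ : H →* PGL(2, AlgebraicClosure F) := (ProjGenLinGroup.mk).comp
    ((GeneralLinearGroup.map (algebraMap F (AlgebraicClosure F))).comp ρ)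
  haveI : Finite τ.range := Finite.of_surjective _ τ.rangeRestrict_surjective
  obtain ⟨x, hx⟩ := odd_pgl2_fix p τ.range (ho.of_dvd_nat (card_range_dvd τ))
  exact ⟨x, fun g => hx ⟨τ g, g, rfl⟩⟩

theorem gl2_der_pow {K H : Type*} [Field K] (p : ℕ) [Fact p.Prime] [CharP K p] [Group H]
    (σ : H →* GL (Fin 2) K) {x : P1 K} (hx : ∀ g, σ g • x = x) {g : H} (hg : g ∈ commutator H) : σ g ^ p = 1 := by
  obtain ⟨t, rfl⟩ := sl_trans x
  generalize (SpecialLinearGroup.toGL t : GL (Fin 2) K) = s at hx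
  let σ' : H →* GL (Fin 2) K := (MulAut.conj s⁻¹).toMonoidHom.comp σ
  have h1 : ∀ g, σ' g 1 0 = 0 := fun g => smul_pinf_pinf.1 (by
    have := hx g
    simp only [σ', MonoidHom.comp_apply, MulEquiv.coe_toMonoidHom, MulAut.conj_apply, inv_inv, mul_smul, this,
      inv_smul_smul])
  have hm : ∀ (i : Fin 2) g h, σ' (g * h) i i = σ' g i i * σ' h i i := fun i g h => by
    rw [map_mul, Units.val_mul, Matrix.mul_apply, Fin.sum_univ_two]
    fin_cases i <;> simp [h1]
  have key : ∀ i : Fin 2, σ' g i i = 1 := fun i => by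
    let χ : H →* K := ⟨⟨fun g => σ' g i i, by simp⟩, hm i⟩
    have := Abelianization.commutator_subset_ker χ.toHomUnits hg
    exact congrArg Units.val this
  have h2 : σ' g ∈ uni p (GL (Fin 2) K) (pinf K) := (mem_uni_gl_pinf p).2 ⟨σ' g 0 1, by
    ext i j; fin_cases i <;> fin_cases j <;> simp [slU_coe, key, h1]⟩
  have h3 := ((mem_uni_gl p).1 h2).2
  rw [← map_pow] at h3 ⊢
  exact (map_eq_one_iff _ (MulAut.conj s⁻¹).injective).1 h3

theorem odd_gl2_der {F H : Type*} [Field F] (p : ℕ) [Fact p.Prime] [CharP F p] [Group H] [Finite H]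
    (ρ : H →* GL (Fin 2) F) (ho : Odd (Nat.card H)) {g : H} (hg : g ∈ commutator H) : ρ g ^ p = 1 := by
  obtain ⟨x, hx⟩ := odd_gl2_fix p ρ ho
  have := gl2_der_pow p ((GeneralLinearGroup.map (algebraMap F (AlgebraicClosure F))).comp ρ) hx hg
  rw [MonoidHom.comp_apply, ← map_pow] at this
  ext i j
  apply (algebraMap F (AlgebraicClosure F)).injective
  have e := congrArg (fun A : GL (Fin 2) (AlgebraicClosure F) => A i j) this
  simp only [GeneralLinearGroup.map_apply] at e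
  rw [e]; by_cases h : i = j <;> simp [h, Matrix.one_apply]

end Lin

variable {G : Type*} [Group G] [Finite G] {G' : Type*} [Group G'] [Finite G']
variable {A B C D E H K L M N P Q R S T U V W X Y Z : Subgroup G} {x y g : G} {π ρ : Set ℕ} {p q r m n : ℕ}
  {φ : PHom G G'}

open Matrix in
/-- the matrix representation of the normalizer of an elementary abelian group -/
theorem PnElem.exists_gl [hp : Fact p.Prime] (hE : PnElem p n E H) :
    ∃ (ε : Multiplicative (Fin n → ZMod p) →* G) (ρ : N[E] →* GL (Fin n) (ZMod p)),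
      Function.Injective ε ∧ ε.range = E ∧ ρ.ker = (C[E]).subgroupOf N[E] ∧ ∀ (g : N[E]) x,
        g * ε (Multiplicative.ofAdd x) * (g : G)⁻¹ = ε (Multiplicative.ofAdd ((ρ g).1 *ᵥ x)) := by
  obtain ⟨m, ε, ρ, h1, h2, h3⟩ := PLoc.exists_matrix_rep (abelem_iff.1 hE.ab)
  have e : m = n := by
    have a := hE.card
    rw [← h2, ← Nat.card_congr (MonoidHom.ofInjective h1).toEquiv] at a
    simp only [Nat.card_eq_fintype_card, Fintype.card_multiplicative, Fintype.card_pi, ZMod.card,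
      Finset.prod_const, Finset.card_univ, Fintype.card_fin] at a
    exact Nat.pow_right_injective hp.out.two_le a
  subst e
  refine ⟨ε, ρ.toHomUnits, h1, h2, ?_, h3⟩
  ext g
  rw [MonoidHom.mem_ker, mem_subgroupOf, mem_C]
  refine ⟨fun h a ha => ?_, fun h => Units.ext ?_⟩
  · obtain ⟨v, rfl⟩ := h2.ge ha
    have b := h3 g v.toAdd
    rw [show ρ g = 1 from congrArg Units.val h, one_mulVec, ofAdd_toAdd] at b
    rw [← mul_inv_eq_iff_eq_mul.1 b]
  · refine Matrix.toLin'.injective (LinearMap.ext fun v => ?_)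
    have b := h3 g v
    rw [← h _ (h2.le ⟨_, rfl⟩), mul_inv_cancel_right] at b
    simpa using (Multiplicative.ofAdd.injective (h1 b)).symm

/-- BG 2.6(b): an odd group acting on an elementary abelian group of rank at most two has a derived group
inducing a `p`-group -/
theorem der_odd_rank2 (hp : p.Prime) (hE : Abelem p E) (hr : r[p](E) ≤ 2) (hA : A ≤ N[E]) (ho : Odd #A) :
    PiN {p} ((C[E]).relIndex ⁅A, A⁆) := by
  haveI := Fact.mk hp
  rcases hr.lt_or_eq with h | h
  · have : Cyc E := hE.abel.cyc_of_rank (by rw [(hE.pig hp).rank_eq hp]; omega)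
    rw [relIndex_eq_one.2 (this.der_cent hA)]; exact pin_one _
  obtain ⟨ε, ρ, -, -, h3, -⟩ := (hE.pnElem' hp le_rfl h).exists_gl
  rw [← card_aut_im ((der_le A).trans hA)]
  refine pig_of_elts fun x hx => pie_of_pow hp ?_
  obtain ⟨y, hy, rfl⟩ := (mem_im' ((der_le A).trans hA)).1 hx
  have yA := der_le A hy
  have a := odd_gl2_der p (ρ.comp (inclusion hA)) ho (g := ⟨y, yA⟩) (by
    rw [← map_subtype_commutator] at hy
    obtain ⟨z, b, rfl⟩ := hy; exact b)
  rw [← map_pow, MonoidHom.comp_apply, ← MonoidHom.mem_ker, h3, mem_subgroupOf] at a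
  rw [← app_pow (hA yA)]
  exact (mem_ker.1 (by rw [aut_ker]; exact a)).2
/-- BG 2.6(a) -/
theorem der_odd_rank2_cent (hp : p.Prime) (hE : Abelem p E) (hr : r[p](E) ≤ 2) (hA : A ≤ N[E]) (ho : Odd #A)
    (hA' : PiG {p}ᶜ A) : ⁅A, A⁆ ≤ C[E] :=
  relIndex_eq_one.1 ((der_odd_rank2 hp hE hr hA ho).eq_one ((hA'.of_le (der_le A)).relIndex _))
/-- the order of `GL(2, p)` -/
theorem idx_cent_rank2 (hp : p.Prime) (hE : Abelem p E) (hr : r[p](E) ≤ 2) (hA : A ≤ N[E]) :
    (C[E]).relIndex A ∣ (p ^ 2 - 1) * (p ^ 2 - p) := by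
  haveI := Fact.mk hp
  obtain ⟨ε, ρ, -, -, h3, -⟩ := (hE.pnElem hp).exists_gl
  have a : (C[E]).relIndex A ∣ (C[E]).relIndex N[E] := relIndex_dvd_of_norm (C_le_N E) hA (normC hA)
  refine a.trans ?_
  rw [relIndex, ← h3, index_ker]
  refine (card_subgroup_dvd_card _).trans ?_
  rw [Matrix.card_GL_field]
  generalize r[p](E) = n at hr
  interval_cases n
  · simp
  · simp only [Finset.univ_unique, Fin.default_eq_zero, Fin.val_eq_zero, Finset.prod_singleton, ZMod.card, pow_one,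
      pow_zero]
    exact (Nat.sub_one_dvd_pow_sub_one _ _).mul_right _
  · simp [Fin.prod_univ_two]

open Matrix in
theorem exists_char_prime [hp : Fact p.Prime] (hX : #X = p) :
    ∃ χ : N[X] →* (ZMod p)ˣ, ∀ g : N[X], ∀ x ∈ X, g * x * (g : G)⁻¹ = x ^ (χ g : ZMod p).val := by
  obtain ⟨ε, ρ, -, h2, -, h4⟩ := (pnElem_one hp.out hX le_rfl).exists_gl
  refine ⟨GeneralLinearGroup.det.comp ρ, fun g x hx => ?_⟩
  obtain ⟨v, rfl⟩ := h2.ge hx
  have b := h4 g v.toAdd
  rw [ofAdd_toAdd] at b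
  rw [b, ← map_pow]
  congr 1
  apply Multiplicative.toAdd.injective
  ext i
  simp [mulVec, dotProduct, Subsingleton.elim i 0]

/-- BG 2.7 -/
theorem regular_abelem2_on_abelem2 (hp : p.Prime) (hq : q.Prime) (hP : PnElem p 2 P P) (hQ : PnElem q 2 Q Q)
    (h1 : Q ≤ N[P]) (h2 : Q ⊓ C[P] = ⊥) :
    q ∣ p - 1 ∧ ∃ a ∈ Q, a ≠ 1 ∧ ∃ r : ℕ, (∀ x ∈ P, a * x * a⁻¹ = x ^ r) ∧ r ^ q ≡ 1 [MOD p] ∧ ¬ r ≡ 1 [MOD p] := by
  haveI := Fact.mk hp
  have pq : q ≠ p := by
    rintro rfl
    have a := idx_cent_rank2 hq hP.ab (hP.pRank_eq hq).le h1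
    rw [← inf_relIndex_right, inf_comm, h2, relIndex_bot_left, hQ.card, pow_two, ← Nat.mul_sub_one,
      mul_left_comm] at a
    have b := Nat.dvd_of_mul_dvd_mul_left hq.pos a
    have c := hq.two_le
    rcases (Nat.Prime.dvd_mul hq).1 b with e | e
    · have := (Nat.dvd_sub_iff_right (by nlinarith) (dvd_mul_right q q)).1 e
      exact hq.one_lt.ne' (Nat.dvd_one.1 this)
    · have := Nat.le_of_dvd (by omega) e; omega
  have c : (#Q).Coprime #P := (hQ.pig hq).coprime ((hP.pig hp).ne_compl pq.symm)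
  obtain ⟨a, a1, a2, a3⟩ := cop_exists_cent1 hQ.abel (hQ.not_cyc hq) h1 c (hP.ne_bot hp)
  have nz : zpowers a ≤ N[P] := (zpowers_le.2 a1).trans h1
  have d := cop_abel_dprod hP.abel nz (coprimeS c (zpowers_le.2 a1) le_rfl)
  rw [C_zpowers] at d
  have nc : ∀ b ∈ Q, b ∈ C[P] → b = 1 := fun b i j => mem_bot.1 (h2 ▸ ⟨i, j⟩)
  have cX : #(P ⊓ C1[a]) = p := card_sub_of_sq hp hP.card
    (inf_lt_left.2 fun e => a2 (nc a a1 (le_C1_iff.1 e))) a3
  have cY : #⁅P, zpowers a⁆ = p := by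
    have := d.card; rw [cX, hP.card, pow_two] at this; exact Nat.eq_of_mul_eq_mul_left hp.pos this
  have Qa : Q ≤ C1[a] := le_C1_iff.2 (hQ.abel a1)
  have nX : Q ≤ N[P ⊓ C1[a]] := normI h1 (normC1 Qa)
  have nY : Q ≤ N[⁅P, zpowers a⁆] := normR h1 (norm_zpowers Qa)
  obtain ⟨χ, hχ⟩ := exists_char_prime cX
  obtain ⟨ψ, hψ⟩ := exists_char_prime cY
  have ni : ¬ Function.Injective (χ.comp (inclusion nX) * (ψ.comp (inclusion nY))⁻¹) := fun e =>
    hQ.not_cyc hq (isCyclic_of_injective _ e)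
  rw [injective_iff_map_eq_one] at ni
  push Not at ni
  obtain ⟨b, b1, b2⟩ := ni
  have b3 : χ (inclusion nX b) = ψ (inclusion nY b) := by simpa [mul_inv_eq_one] using b1
  set u := χ (inclusion nX b) with hu
  have b4 : ∀ x ∈ P, b * x * (b : G)⁻¹ = x ^ (u : ZMod p).val := fun x hx => by
    obtain ⟨y, hy, z, hz, rfl⟩ := d.prod.ex x hx
    have i := hχ (inclusion nX b) y hy
    have j := hψ (inclusion nY b) z hz
    rw [← b3] at j
    rw [(show Commute y z from mem_C_comm hP.abel hy.1 (d.right hz)).mul_pow, ← i, ← j]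
    simp [mul_assoc]
  have b5 : u ^ q = 1 := by
    rw [hu, ← map_pow, ← map_pow, show b ^ q = 1 from Subtype.ext (hQ.ab.pow b b.2), map_one, map_one]
  have b6 : u ≠ 1 := fun e => b2 (Subtype.ext (nc b b.2 (mem_C.2 fun x hx => by
    have := b4 x hx
    rw [e, Units.val_one, ZMod.val_one, pow_one] at this
    exact (mul_inv_eq_iff_eq_mul.1 this).symm)))
  refine ⟨?_, b, b.2, fun e => b2 (Subtype.ext e), _, b4, ?_, fun e => b6 (Units.ext ?_)⟩
  · rw [← orderOf_of_pow hq b5 b6, ← ZMod.card_units p]; exact orderOf_dvd_card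
  · rw [← ZMod.natCast_eq_natCast_iff]; simpa using congrArg Units.val b5
  · rw [← ZMod.natCast_eq_natCast_iff] at e; simpa using e

end Cfsg.Agent.BG
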