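import Cfsg.Agent.BG.S01
import Cfsg.Agent.Core.Quaternion
/-!
Bender–Glauberman, section 4: 4.3–4.11.
-/
set_option autoImplicit false

namespace Cfsg.Agent.BG
open Subgroup PHom
open scoped commutatorElement

variable {G : Type*} [Group G] [Finite G] {G' : Type*} [Group G'] [Finite G']
variable {A B C D E H K L M N P Q R S T U V W X Y Z : Subgroup G} {x y g : G} {π ρ : Set ℕ} {p q r m n : ℕ}
  {φ : PHom G G'}

omit [Finite G] in
/-- the collection formula in class three -/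
theorem mul_pow_class_three {u v r a b : G} (h1 : v * u = u * v * r) (h2 : r * u = u * r * a)
    (h3 : r * v = v * r * b) (au : Commute a u) (av : Commute a v) (ar : Commute a r) (bu : Commute b u)
    (bv : Commute b v) (br : Commute b r) (ab : Commute a b) (n : ℕ) :
    (u * v) ^ n = u ^ n * v ^ n * r ^ n.choose 2 * a ^ n.choose 3 * b ^ (2 * n.choose 3 + n.choose 2) := by
  have e1 : ∀ m : ℕ, r ^ m * u = u * r ^ m * a ^ m := fun m => by
    induction m with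
    | zero => simp
    | succ m ih =>
      calc r ^ (m + 1) * u = r * (r ^ m * u) := by rw [pow_succ', mul_assoc]
        _ = (r * u) * r ^ m * a ^ m := by rw [ih]; simp only [mul_assoc]
        _ = u * r * (a * r ^ m) * a ^ m := by rw [h2]; simp only [mul_assoc]
        _ = _ := by rw [(ar.pow_right m).eq, pow_succ' r, pow_succ' a]; simp only [mul_assoc]
  have e2 : ∀ m : ℕ, r ^ m * v = v * r ^ m * b ^ m := fun m => by
    induction m with
    | zero => simp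
    | succ m ih =>
      calc r ^ (m + 1) * v = r * (r ^ m * v) := by rw [pow_succ', mul_assoc]
        _ = (r * v) * r ^ m * b ^ m := by rw [ih]; simp only [mul_assoc]
        _ = v * r * (b * r ^ m) * b ^ m := by rw [h3]; simp only [mul_assoc]
        _ = _ := by rw [(br.pow_right m).eq, pow_succ' r, pow_succ' b]; simp only [mul_assoc]
  have e3 : ∀ m : ℕ, v ^ m * u = u * v ^ m * r ^ m * b ^ m.choose 2 := fun m => by
    induction m with
    | zero => simp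
    | succ m ih =>
      have e4 : ∀ k : ℕ, r * v ^ k = v ^ k * r * b ^ k := fun k => by
        induction k with
        | zero => simp
        | succ k ih =>
          calc r * v ^ (k + 1) = (r * v ^ k) * v := by rw [pow_succ, mul_assoc]
            _ = v ^ k * r * (b ^ k * v) := by rw [ih]; simp only [mul_assoc]
            _ = v ^ k * (r * v) * b ^ k := by rw [(bv.pow_left k).eq]; simp only [mul_assoc]
            _ = _ := by rw [h3, pow_succ v, pow_succ' b]; simp only [mul_assoc]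
      calc v ^ (m + 1) * u = v * (v ^ m * u) := by rw [pow_succ', mul_assoc]
        _ = (v * u) * v ^ m * r ^ m * b ^ m.choose 2 := by rw [ih]; simp only [mul_assoc]
        _ = u * v * (r * v ^ m) * r ^ m * b ^ m.choose 2 := by rw [h1]; simp only [mul_assoc]
        _ = u * v * v ^ m * r * (b ^ m * r ^ m) * b ^ m.choose 2 := by rw [e4]; simp only [mul_assoc]
        _ = _ := by
          rw [(br.pow_pow m m).eq, pow_succ' v, pow_succ' r, Nat.choose_succ_succ' m 1, Nat.choose_one_right,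
            pow_add]
          simp only [mul_assoc]
  induction n with
  | zero => simp
  | succ n ih =>
    have c1 : ∀ i j, a ^ i * b ^ j * (u * v) = u * v * (a ^ i * b ^ j) := fun i j =>
      (((au.mul_right av).pow_left i).mul_left ((bu.mul_right bv).pow_left j)).eq
    set c := n.choose 2
    set f := n.choose 3
    have k2 : (n + 1).choose 2 = n + c := by rw [Nat.choose_succ_succ' n 1, Nat.choose_one_right]
    have k3 : (n + 1).choose 3 = c + f := by rw [Nat.choose_succ_succ' n 2]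
    calc (u * v) ^ (n + 1) = u ^ n * v ^ n * r ^ c * (a ^ f * b ^ (2 * f + c) * (u * v)) := by
          rw [pow_succ, ih]; simp only [mul_assoc]
      _ = u ^ n * v ^ n * (r ^ c * u) * v * (a ^ f * b ^ (2 * f + c)) := by rw [c1]; simp only [mul_assoc]
      _ = u ^ n * (v ^ n * u) * r ^ c * (a ^ c * v) * (a ^ f * b ^ (2 * f + c)) := by
          rw [e1]; simp only [mul_assoc]
      _ = u ^ n * u * v ^ n * r ^ n * (b ^ c * (r ^ c * v)) * a ^ c * (a ^ f * b ^ (2 * f + c)) := by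
          rw [e3, (av.pow_left c).eq]; simp only [mul_assoc]; rfl
      _ = u ^ n * u * v ^ n * (r ^ (n + c) * v) * (b ^ c * a ^ c) * (a ^ f * b ^ (2 * f + c)) := by
          rw [(((br.pow_right c).mul_right bv).pow_left c).eq, pow_add r]; simp only [mul_assoc]
      _ = u ^ n * u * v ^ n * v * r ^ (n + c) * (b ^ (n + c) * b ^ c * (a ^ c * a ^ f)) * b ^ (2 * f + c) := by
          rw [e2]; simp only [mul_assoc]
      _ = _ := by
          rw [← pow_add b, ← pow_add a, ← (ab.pow_pow _ _).eq, k2, k3, pow_succ u, pow_succ v,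
            show 2 * (c + f) + (n + c) = n + c + c + (2 * f + c) by ring, pow_add b (n + c + c)]
          simp only [mul_assoc]

/-- closure under products of a conjugation invariant property, by induction in a `p`-group -/
theorem closed_ind (hW : Nil W) {Q : G → Prop} (h1 : ∀ x ∈ W, Q x → ∀ y ∈ zpowers x, Q y)
    (h2 : ∀ g ∈ W, ∀ x ∈ W, Q x → Q (g * x * g⁻¹))
    (h3 : ∀ S ≤ W, (∀ s ∈ S, Q s) → ∀ x ∈ S, ∀ y ∈ W, Q y → y ∈ N[S] → Q (x * y)) :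
    ∀ x ∈ W, ∀ y ∈ W, Q x → Q y → Q (x * y) := by
  suffices h : ∀ U, U ≤ W → ∀ x ∈ U, ∀ y ∈ U, Q x → Q y → Q (x * y) from h W le_rfl
  intro U
  induction U using lt_wf_ind with
  | h U ih =>
  intro hU x hx y hy qx qy
  -- a maximal proper subgroup containing `x`
  by_cases e : zpowers x = U
  · exact h3 _ (e ▸ hU) (h1 x (hU hx) qx) x (mem_zpowers x) y (hU hy) qy (normG _ (e ▸ hy))
  obtain ⟨M, a1, a2, a3⟩ := exists_maximal (P := fun M => M < U) (lt_of_le_of_ne (zpowers_le.2 hx) e)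
  have nM : U ≤ N[M] := by
    by_contra hn
    have b := (hW.of_le hU).lt_norm a2
    exact b.ne' (a3 _ (lt_of_le_of_ne inf_le_left fun e => hn (e ▸ inf_le_right)) b.le)
  let S : Subgroup G :=
    { carrier := {s | s ∈ M ∧ Q s}
      one_mem' := ⟨M.one_mem, h1 x (hU hx) qx 1 (one_mem _)⟩
      inv_mem' := fun {a} ha => ⟨M.inv_mem ha.1, h1 a (hU (a2.le ha.1)) ha.2 _ (inv_mem (mem_zpowers a))⟩
      mul_mem' := fun {a b} ha hb =>
        ⟨M.mul_mem ha.1 hb.1, ih M a2 (a2.le.trans hU) a ha.1 b hb.1 ha.2 hb.2⟩ }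
  exact h3 S (fun s hs => hU (a2.le hs.1)) (fun s hs => hs.2) x ⟨a1 (mem_zpowers x), qx⟩ y (hU hy) qy
    (mem_N_of fun s hs => ⟨conj_mem (nM hy) hs.1, h2 y (hU hy) s (hU (a2.le hs.1)) hs.2⟩)

omit [Finite G] in
theorem Om_pow_of_closed (h : ∀ x ∈ R, ∀ y ∈ R, x ^ p = 1 → y ^ p = 1 → (x * y) ^ p = 1) :
    ∀ x ∈ Ω[p](R), x ^ p = 1 := by
  let S : Subgroup G :=
    { carrier := {x | x ∈ R ∧ x ^ p = 1}
      one_mem' := ⟨R.one_mem, one_pow _⟩
      inv_mem' := fun {a} ha => ⟨R.inv_mem ha.1, by rw [inv_pow, ha.2, inv_one]⟩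
      mul_mem' := fun {a b} ha hb => ⟨R.mul_mem ha.1 hb.1, h a ha.1 b hb.1 ha.2 hb.2⟩ }
  intro x hx
  exact ((Om_le_iff (K := S)).2 (fun y a b => ⟨a, b⟩) hx).2

omit [Finite G] in
theorem pow_eq_one_of_mem_zpowers (h : x ^ n = 1) (hy : y ∈ zpowers x) : y ^ n = 1 := by
  obtain ⟨k, rfl⟩ := hy
  change (x ^ k) ^ n = 1
  rw [← zpow_natCast, ← zpow_mul, mul_comm, zpow_mul, zpow_natCast, h, one_zpow]

theorem Om_pow_ind (hR : Nil R)
    (h : ∀ S ≤ R, (∀ s ∈ S, s ^ p = 1) → ∀ x ∈ S, ∀ y ∈ R, y ^ p = 1 → y ∈ N[S] → (x * y) ^ p = 1) :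
    ∀ x ∈ Ω[p](R), x ^ p = 1 :=
  Om_pow_of_closed (closed_ind hR (Q := fun x => x ^ p = 1) (fun _ _ a _ b => pow_eq_one_of_mem_zpowers a b)
    (fun g _ x _ a => by rw [conj_pow, a, mul_one, mul_inv_cancel]) h)

omit [Finite G] in
/-- nilpotency class at most two -/
abbrev Cls2 (R : Subgroup G) : Prop := ⁅R, R⁆ ≤ C[R]
omit [Finite G] in
/-- nilpotency class at most three -/
abbrev Cls3 (R : Subgroup G) : Prop := ⁅⁅R, R⁆, R⁆ ≤ C[R]
omit [Finite G] in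
/-- the second centre -/
def Z2 (R : Subgroup G) : Subgroup G := R ⊓ (quo Z[R]).pre Z[R ÷ Z[R]]
omit [Finite G] in
theorem le_Z2_iff : A ≤ Z2 R ↔ A ≤ R ∧ ⁅A, R⁆ ≤ C[R] := by
  have nZ : R ≤ N[Z[R]] := normZ (normG R)
  rw [Z2, le_inf_iff]
  refine and_congr_right fun h => ?_
  rw [le_pre_iff (φ := quo Z[R]) (h.trans nZ), le_inf_iff, quo_cent_iff (h.trans nZ) nZ, le_inf_iff]
  exact ⟨fun a => a.2.2, fun a => ⟨im_mono h, comm_le h le_rfl, a⟩⟩
omit [Finite G] in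
theorem comm_zpowers_le (hx : x ∈ N[K]) (h : ∀ y ∈ A, x * y * x⁻¹ * y⁻¹ ∈ K) : ⁅zpowers x, A⁆ ≤ K := by
  rw [zpowers_eq_closure]
  refine PLoc.commutator_closure_left_le (by rw [← zpowers_eq_closure]; exact zpowers_le.2 hx) ?_
  rintro _ rfl y hy
  exact h y hy
omit [Finite G] in
theorem comm_zpowers_le' (hx : x ∈ N[K]) (h : ∀ y ∈ A, y * x * y⁻¹ * x⁻¹ ∈ K) : ⁅A, zpowers x⁆ ≤ K :=
  PLoc.commutator_zpowers_right_le hx h
omit [Finite G] in
theorem comm_zpowers_zpowers (hx : x ∈ N[K]) (hy : y ∈ N[K]) (h : x * y * x⁻¹ * y⁻¹ ∈ K) :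
    ⁅zpowers x, zpowers y⁆ ≤ K := by
  rw [zpowers_eq_closure, zpowers_eq_closure]
  refine PLoc.commutator_closure_le (by rw [← zpowers_eq_closure]; exact zpowers_le.2 hx)
    (by rw [← zpowers_eq_closure]; exact zpowers_le.2 hy) ?_
  rintro _ rfl _ rfl
  exact h
omit [Finite G] in
theorem mem_Z2 : x ∈ Z2 R ↔ x ∈ R ∧ ∀ y ∈ R, x * y * x⁻¹ * y⁻¹ ∈ C[R] := by
  rw [← zpowers_le, le_Z2_iff, zpowers_le]
  refine and_congr_right fun h => ⟨fun a y hy => a (comm_mem (mem_zpowers x) hy), fun a => ?_⟩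
  exact comm_zpowers_le (normC (normG R) h) a
omit [Finite G] in
theorem Z2_le (R : Subgroup G) : Z2 R ≤ R := inf_le_left
omit [Finite G] in
theorem Z_le_Z2 (R : Subgroup G) : Z[R] ≤ Z2 R :=
  le_Z2_iff.2 ⟨inf_le_left, by rw [comm_eq_bot.2 inf_le_right]; exact bot_le⟩
omit [Finite G] in
theorem normZ2 (h : X ≤ N[R]) : X ≤ N[Z2 R] :=
  normI h (norm_pre (φ := quo Z[R]) (normZ h) (normZ (im_norm h)))
omit [Finite G] in
theorem Z2_cls2 (R : Subgroup G) : Cls2 (Z2 R) :=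
  ((commS le_rfl (Z2_le R)).trans (le_Z2_iff.1 le_rfl).2).trans (centS (Z2_le R))
omit [Finite G] in
theorem Cls2.cls3 (h : Cls2 R) : Cls3 R := by rw [Cls3, comm_eq_bot.2 h]; exact bot_le
omit [Finite G] in
theorem Cls3.of_le (h : Cls3 R) (h1 : S ≤ R) : Cls3 S := ((commS (derS h1) h1).trans h).trans (centS h1)
omit [Finite G] in
theorem Cls2.of_le (h : Cls2 R) (h1 : S ≤ R) : Cls2 S := ((derS h1).trans h).trans (centS h1)

theorem dvd_choose_two (hp : Odd p) : p ∣ p.choose 2 := by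
  obtain ⟨k, hk⟩ := hp
  refine ⟨k, ?_⟩
  rw [Nat.choose_two_right, hk]
  simp only [Nat.add_sub_cancel]
  rw [mul_left_comm, Nat.mul_div_cancel_left _ (by norm_num)]

omit [Finite G] in
/-- the power formula in class two or three -/
theorem mul_pow_nil23 (hp : p.Prime) (ho : Odd p) (h : Cls2 R ∨ (3 < p ∧ Cls3 R)) (hx : x ∈ R) (hy : y ∈ R)
    (hS : ∀ s ∈ S, s ^ p = 1) (nx : x ∈ N[S]) (ny : y ∈ N[S]) (hr : y⁻¹ * x⁻¹ * y * x ∈ S) :
    (x * y) ^ p = x ^ p * y ^ p := by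
  have h3 : Cls3 R := h.elim (·.cls3) (·.2)
  set r := y⁻¹ * x⁻¹ * y * x with hr'
  have rR : r ∈ ⁅R, R⁆ := by simpa using comm_mem (inv_mem hy) (inv_mem hx)
  have k : ∀ z ∈ R, z ∈ N[S] → r⁻¹ * z⁻¹ * r * z ∈ C[R] ∧ (r⁻¹ * z⁻¹ * r * z) ^ p = 1 ∧
      (Cls2 R → r⁻¹ * z⁻¹ * r * z = 1) := fun z a b => by
    refine ⟨h3 (by simpa using comm_mem (inv_mem rR) (inv_mem a)), hS _ ?_, fun c => ?_⟩
    · simpa only [mul_assoc] using S.mul_mem (S.inv_mem hr) (conj_mem' b hr)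
    · rw [mul_assoc, ← mem_C.1 (c rR) z a]; group
  obtain ⟨a1, a2, a3⟩ := k x hx nx
  obtain ⟨b1, b2, b3⟩ := k y hy ny
  have c : ∀ a ∈ C[R], ∀ z ∈ R, Commute a z := fun a ha z hz => (mem_C.1 ha z hz).symm
  have rR' := der_le R rR
  rw [mul_pow_class_three (r := r) (a := r⁻¹ * x⁻¹ * r * x) (b := r⁻¹ * y⁻¹ * r * y) (by rw [hr']; group)
    (by group) (by group) (c _ a1 x hx) (c _ a1 y hy) (c _ a1 r rR') (c _ b1 x hx) (c _ b1 y hy) (c _ b1 r rR')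
    (c _ a1 _ (R.mul_mem (R.mul_mem (R.mul_mem (R.inv_mem rR') (R.inv_mem hy)) rR') hy))]
  obtain ⟨k2, e2⟩ := dvd_choose_two ho
  have f1 : r ^ p.choose 2 = 1 := by rw [e2, pow_mul, hS r hr, one_pow]
  rw [f1, mul_one]
  rcases h with h | h
  · rw [a3 h, b3 h]; simp
  · obtain ⟨k3, e3⟩ := hp.dvd_choose_self (k := 3) (by norm_num) h.1
    rw [e2, e3, pow_mul, a2, show 2 * (p * k3) + p * k2 = p * (2 * k3 + k2) by ring, pow_mul, b2]; simp

theorem PiG.odd (hP : PiG {p} P) (ho : Odd #P) (h1 : P ≠ ⊥) : Odd p := ho.of_dvd_nat (hP.dvd h1)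
theorem odd_of_le (ho : Odd #P) (h : Q ≤ P) : Odd #Q := ho.of_dvd_nat (cardS h)
omit [Finite G] [Finite G'] in
theorem odd_im (ho : Odd #P) (φ : PHom G G') : Odd #(φ.im P) := ho.of_dvd_nat (card_im_dvd P)
theorem PiG.odd_card (hP : PiG {p} P) (hp : p.Prime) (h2 : p ≠ 2) : Odd #P := by
  obtain ⟨k, e⟩ := hP.card_pow hp
  rw [e]; exact (hp.odd_of_ne_two h2).pow
theorem PiG.odd_card' (hP : PiG {p} P) (h : 2 < p) : Odd #P := by
  by_cases h0 : P = ⊥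
  · rw [h0, card_bot']; exact odd_one
  · exact hP.odd_card (hP.prime h0) (by omega)

/-- BG 4.3(a) -/
theorem exp_Om_odd_nil23 (hR : PiG {p} R) (ho : Odd #R) (h : Cls2 R ∨ (3 < p ∧ Cls3 R)) :
    ∀ x ∈ Ω[p](R), x ^ p = 1 := by
  by_cases h0 : R = ⊥
  · intro x hx
    have : x = 1 := by simpa [h0] using Om_le p R hx
    rw [this, one_pow]
  refine Om_pow_ind hR.nil fun S a1 a2 x hx y hy a3 a4 => ?_
  rw [mul_pow_nil23 (hR.prime h0) (hR.odd ho h0) h (a1 hx) hy a2 (normG S hx) a4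
    (S.mul_mem (conj_mem' a4 (S.inv_mem hx)) hx), a2 x hx, a3, one_mul]
/-- BG 4.3(b) -/
theorem pow_morph_odd_nil23 (hR : PiG {p} R) (ho : Odd #R) (h : Cls2 R ∨ (3 < p ∧ Cls3 R))
    (h2 : ⁅R, R⁆ ≤ Ω[p](R)) : ∀ x ∈ R, ∀ y ∈ R, (x * y) ^ p = x ^ p * y ^ p := by
  intro x hx y hy
  by_cases h0 : R = ⊥
  · have : x = 1 := by simpa [h0] using hx
    rw [this]; simp
  exact mul_pow_nil23 (hR.prime h0) (hR.odd ho h0) h hx hy (exp_Om_odd_nil23 hR ho h) (Om_norm p R hx)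
    (Om_norm p R hy) (h2 (by simpa using comm_mem (inv_mem hy) (inv_mem hx)))
/-- BG 4.4(b) -/
theorem scn_syl_cent_dprod (hp : p.Prime) (hR : Syl p R H) (hA : SCN A R) :
    Dprod A O[{p}ᶜ](H ⊓ C[A]) (H ⊓ C[A]) := by
  have a1 : Syl p A (H ⊓ C[A]) := by
    have := hR.inf_norm (K := H ⊓ C[A]) inf_le_left (normI (normsG hR.le) (normC hA.norm))
    rwa [← inf_assoc, inf_eq_left.2 hR.le, hA.cent] at this
  have a2 := (burnside hp a1 (inf_le_left.trans inf_le_right)).sdprod a1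
  exact Dprod.symm ⟨a2.sup, a2.inf, cent_symm ((O_le _ _).trans inf_le_right)⟩

/-- an automorphism of order `p` of an abelian `p`-group fixing the elements of small order -/
theorem comm_pow_of_fix (hp : p.Prime) (hB : Abel B) (hx : x ∈ N[B]) (h1 : x ^ p ∈ C[B])
    (h2 : ∀ b ∈ B, b ^ p = 1 → x * b = b * x) (h3 : p = 2 → ∀ b ∈ B, b ^ p ^ 2 = 1 → x * b = b * x)
    (hB' : PiG {p} B) : ∀ b ∈ B, (b⁻¹ * (x * b * x⁻¹)) ^ p = 1 := by
  have cm : ∀ a ∈ B, ∀ b ∈ B, Commute a b := fun a ha b hb => mem_C_comm hB ha hb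
  have dl : ∀ b ∈ B, b⁻¹ * (x * b * x⁻¹) ∈ B := fun b hb => B.mul_mem (B.inv_mem hb) (conj_mem hx hb)
  have pw : ∀ b ∈ B, ∀ k : ℕ, (b⁻¹ * (x * b * x⁻¹)) ^ k = (b ^ k)⁻¹ * (x * b ^ k * x⁻¹) := fun b hb k => by
    rw [(cm _ (B.inv_mem hb) _ (conj_mem hx hb)).mul_pow, conj_pow, inv_pow]
  have key : ∀ b ∈ B, (b⁻¹ * (x * b * x⁻¹)) ^ p ^ 2 = 1 → (b⁻¹ * (x * b * x⁻¹)) ^ p = 1 := fun b hb e => by
    set c := b⁻¹ * (x * b * x⁻¹) with hc
    have cB := dl b hb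
    set d := c⁻¹ * (x * c * x⁻¹) with hd
    have dB := dl c cB
    have dp : d ^ p = 1 := by
      rw [hd, pw c cB, h2 _ (B.pow_mem cB p) (by rw [← pow_mul, ← sq, e]), mul_inv_cancel_right, inv_mul_cancel]
    have xd : x * d * x⁻¹ = d := by rw [h2 d dB dp]; group
    have f : ∀ i : ℕ, x ^ i * b * (x ^ i)⁻¹ = b * c ^ i * d ^ i.choose 2 := fun i => by
      induction i with
      | zero => simp
      | succ i ih =>
        calc x ^ (i + 1) * b * (x ^ (i + 1))⁻¹ = x * (x ^ i * b * (x ^ i)⁻¹) * x⁻¹ := by rw [pow_succ']; group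
          _ = (x * b * x⁻¹) * (x * c * x⁻¹) ^ i * (x * d * x⁻¹) ^ i.choose 2 := by
            rw [ih, conj_pow, conj_pow]; group
          _ = b * c * (c * d) ^ i * d ^ i.choose 2 := by
            rw [xd, show x * b * x⁻¹ = b * c by rw [hc]; group, show x * c * x⁻¹ = c * d by rw [hd]; group]
          _ = _ := by
            rw [(cm c cB d dB).mul_pow, Nat.choose_succ_succ' i 1, Nat.choose_one_right, pow_add d, pow_succ' c]
            simp only [mul_assoc]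
    have f2 := f p
    rw [← mem_C.1 h1 b hb, mul_inv_cancel_right, mul_assoc, left_eq_mul] at f2
    have f3 : d ^ p.choose 2 = 1 := by
      by_cases h : p = 2
      · rw [hd, h3 h c cB e]; simp
      · obtain ⟨k, e2⟩ := dvd_choose_two (hp.odd_of_ne_two h)
        rw [e2, pow_mul, dp, one_pow]
    rwa [f3, mul_one] at f2
  have : ∀ k : ℕ, ∀ b ∈ B, (b⁻¹ * (x * b * x⁻¹)) ^ p ^ (k + 1) = 1 → (b⁻¹ * (x * b * x⁻¹)) ^ p = 1 := fun k => by
    induction k with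
    | zero => simp
    | succ k ih =>
      intro b hb e
      refine ih b hb ?_
      rw [pow_succ, pow_mul, pw b hb]
      refine key _ (B.pow_mem hb _) ?_
      rw [← pw b hb, ← pow_mul, ← pow_add]; exact e
  intro b hb
  obtain ⟨k, e⟩ := (hB'.elt (dl b hb)).pow_eq_one hp
  exact this k b hb (by rw [pow_succ, pow_mul, e, one_pow])

/-- Alperin's lemma on maximal abelian normal subgroups of given exponent -/
theorem cent_max_normal_abel (hp : p.Prime) (hP : PiG {p} P) (hn : p ^ n ≠ 2) (h1 : A ≤ P) (h2 : P ≤ N[A])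
    (h3 : Abel A) (h4 : ∀ a ∈ A, a ^ p ^ n = 1)
    (hm : ∀ B, B ≤ P → P ≤ N[B] → Abel B → (∀ b ∈ B, b ^ p ^ n = 1) → A ≤ B → B = A)
    (hx : x ∈ P) (hc : x ∈ C[A]) (hx2 : x ^ p ^ n = 1) : x ∈ A := by
  rcases n with _ | n
  · rw [pow_zero, pow_one] at hx2; rw [hx2]; exact A.one_mem
  obtain ⟨B, b1, hB⟩ := hP.nil.exists_scn h1 h2 h3
  have b2 : Ω[p ^ (n + 1)](B) = A := hm _ ((Om_le _ _).trans hB.le) (normOm _ hB.norm)
    (hB.abel.of_le (Om_le _ _)) (hB.abel.Om_abelem _).pow (fun a ha => mem_Om (b1 ha) (h4 a ha))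
  have b3 : ∀ b ∈ B, b ^ p ^ (n + 1) = 1 → b ∈ A := fun b a c => b2 ▸ mem_Om a c
  have b4 : ∀ b ∈ B, b ^ p = 1 → b ∈ A := fun b a c => b3 b a (by rw [pow_succ', pow_mul, c, one_pow])
  set W := P ⊓ C[A]
  have nW : P ≤ N[W] := normI (normG P) (normC h2)
  let Q : G → Prop := fun x => x ^ p ^ (n + 1) = 1 ∧ x ^ p ∈ A
  have c1 : ∀ x ∈ W, Q x → ⁅B, zpowers x⁆ ≤ A := fun x a q => by
    refine comm_zpowers_le' (h2 a.1) fun b hb => ?_
    have := comm_pow_of_fix hp hB.abel (hB.norm a.1) (hB.abel (b1 q.2))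
      (fun b u v => (mem_C.1 a.2 b (b4 b u v)).symm) (fun e b u v => (mem_C.1 a.2 b (b3 b u ?_)).symm)
      (hP.of_le hB.le) b⁻¹ (B.inv_mem hb)
    · have e : b * x * b⁻¹ * x⁻¹ = b⁻¹⁻¹ * (x * b⁻¹ * x⁻¹) := by group
      rw [e]; exact b4 _ (B.mul_mem (B.inv_mem (B.inv_mem hb)) (conj_mem (hB.norm a.1) (B.inv_mem hb))) this
    · rcases n with _ | n
      · exact absurd (by rw [e]; rfl) hn
      · rw [show n + 1 + 1 = 2 + n by ring, pow_add, pow_mul, v, one_pow]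
  have q1 : ∀ x, Q x → ∀ y ∈ zpowers x, Q y := fun x q y hy => ⟨pow_eq_one_of_mem_zpowers q.1 hy, by
    obtain ⟨k, rfl⟩ := hy
    change (x ^ k) ^ p ∈ A
    rw [← zpow_natCast, ← zpow_mul, mul_comm, zpow_mul, zpow_natCast]; exact A.zpow_mem q.2 k⟩
  have q2 : ∀ g ∈ P, ∀ x, Q x → Q (g * x * g⁻¹) := fun g hg x q =>
    ⟨by rw [conj_pow, q.1]; group, by rw [conj_pow]; exact conj_mem (h2 hg) q.2⟩
  have cl := closed_ind (W := W) (hP.of_le inf_le_left).nil (Q := Q) (fun x _ => q1 x)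
    (fun g hg x _ => q2 g hg.1 x) (fun S s1 s2 x hx y hy qy ny => by
      have xW := s1 hx
      have qx := s2 x hx
      have zS : ⁅y, x⁆ ∈ S := S.mul_mem (conj_mem ny hx) (S.inv_mem hx)
      have zB : ⁅y, x⁆ ∈ B := by
        rw [← hB.cent]
        refine ⟨(s1 zS).1, ?_⟩
        have t := three_subgroup (A := zpowers x) (B := B) (X := zpowers y)
          (comm_eq_bot.2 (centSS (cent_symm inf_le_right : A ≤ C[W]) ((commC _ B).le.trans (c1 x xW qx))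
            (zpowers_le.2 hy)))
          (comm_eq_bot.2 (centSS (cent_symm inf_le_right : A ≤ C[W]) (c1 y hy qy) (zpowers_le.2 xW)))
        exact comm_eq_bot.1 t (comm_mem (mem_zpowers y) (mem_zpowers x))
      have zA := b3 _ zB (s2 _ zS).1
      have cx : Commute ⁅y, x⁆ x := mem_C.1 xW.2 _ zA
      have cy : Commute ⁅y, x⁆ y := mem_C.1 hy.2 _ zA
      have zp : ⁅y, x⁆ ^ p = 1 := by
        rw [← PLoc.commutatorElement_pow_left cy]
        exact commutatorElement_eq_one_iff_mul_comm.2 (mem_C.1 xW.2 _ qy.2)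
      refine ⟨?_, ?_⟩
      · have : p ∣ (p ^ (n + 1)).choose 2 := by
          by_cases h : p = 2
          · rcases n with _ | n
            · exact absurd (by rw [h]; rfl) hn
            · rw [Nat.choose_two_right, h, pow_succ, pow_succ, mul_right_comm,
                Nat.mul_div_cancel _ (by norm_num), mul_right_comm]
              exact dvd_mul_left _ _
          · exact (dvd_pow_self p n.succ_ne_zero).trans (dvd_choose_two (hp.odd_of_ne_two h).pow)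
        obtain ⟨k, e⟩ := this
        rw [PLoc.mul_pow_of_class_two cx cy, qx.1, qy.1, e, pow_mul, zp]; simp
      · rw [PLoc.mul_pow_of_class_two cx cy]
        exact A.mul_mem (A.mul_mem qx.2 qy.2) (A.pow_mem zA _))
  let S : Subgroup G :=
    { carrier := {s | s ∈ W ∧ Q s}
      one_mem' := ⟨W.one_mem, one_pow _, by rw [one_pow]; exact A.one_mem⟩
      inv_mem' := fun {a} ha => ⟨W.inv_mem ha.1, q1 a ha.2 _ (inv_mem (mem_zpowers a))⟩
      mul_mem' := fun {a b} ha hb => ⟨W.mul_mem ha.1 hb.1, cl a ha.1 b hb.1 ha.2 hb.2⟩ }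
  have nS : P ≤ N[S] := fun g hg => mem_N_of fun s hs => ⟨conj_mem (nW hg) hs.1, q2 g hg s hs.2⟩
  have sA : S ≤ A := by
    by_contra hn
    obtain ⟨y, y1, y2, y3⟩ := hP.nil.exists_Z_mod h1 h2 nS (fun s hs => hs.1.1) hn
    have yA : zpowers y ≤ C[A] := zpowers_le.2 y1.1.2
    have d : A ⊔ zpowers y ≤ P := sup_le h1 (zpowers_le.2 y1.1.1)
    have e := hm (A ⊔ zpowers y) d (norm_of_comm_le (A := A ⊔ zpowers y)
      ((comm_sup_le (commL h2) y3 (normG A) (cents_norm yA)).trans le_sup_left) le_rfl)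
      (h3.sup (abel_zpowers y) (cent_symm yA))
      (Abelem.sup ⟨h3, h4⟩ (abelem_zpowers y1.2.1) (cent_symm yA)).pow le_sup_left
    exact y2 (e ▸ mem_sup_right (mem_zpowers y))
  by_contra hn
  obtain ⟨i, i1, i2⟩ := Core.exists_pow_not_mem_pow_mem (hP.pg hp) (A := A.subgroupOf P) (g := ⟨x, hx⟩) hn
  exact i1 (sA ⟨⟨P.pow_mem hx _, (C[A]).pow_mem hc _⟩, pow_eq_one_of_mem_zpowers hx2 (npow_mem_zpowers x _), i2⟩)

/-- Aschbacher 23.16 -/
theorem Om_cent_max_normal (hP : PiG {p} P) (ho : Odd #P) (h1 : E ≤ P) (h2 : P ≤ N[E]) (h3 : Abelem p E) :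
    ∃ A, E ≤ A ∧ P ≤ N[A] ∧ PMax p A P ∧ ∀ B, B ≤ P → P ≤ N[B] → Abelem p B → A ≤ B → B = A := by
  obtain ⟨A, a1, ⟨a2, a3, a4⟩, a5⟩ :=
    exists_maximal (P := fun A => A ≤ P ∧ P ≤ N[A] ∧ Abelem p A) (A := E) ⟨h1, h2, h3⟩
  refine ⟨A, a1, a3, pmax_of a2 a4 fun x b1 b2 b3 => ?_, fun B b1 b2 b3 b4 => a5 B ⟨b1, b2, b3⟩ b4⟩
  by_cases h0 : P = ⊥
  · have : x = 1 := by simpa [h0] using b1
    rw [this]; exact A.one_mem
  exact cent_max_normal_abel (n := 1) (hP.prime h0) hP (by rw [pow_one]; exact hP.ne_two ho h0) a2 a3 a4.abel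
    (by simpa using a4.pow) (fun B c1 c2 c3 c4 c5 => a5 B ⟨c1, c2, c3, by simpa using c4⟩ c5) b1 b2 (by simpa using b3)

theorem PiG.card_dvd_or (hP : PiG {p} P) (hp : p.Prime) (n : ℕ) : #P ∣ p ^ n ∨ p ^ (n + 1) ∣ #P := by
  obtain ⟨k, e⟩ := hP.card_pow hp
  rw [e]
  rcases le_or_gt k n with h | h
  · exact Or.inl (pow_dvd_pow p h)
  · exact Or.inr (pow_dvd_pow p h)
theorem PiG.card_dvd_of_le (hP : PiG {p} P) (hp : p.Prime) (h : #P ≤ p ^ n) : #P ∣ p ^ n :=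
  (hP.card_dvd_or hp n).resolve_right fun a =>
    absurd ((Nat.le_of_dvd (card_pos P) a).trans h) (not_le.2 (Nat.pow_lt_pow_right hp.one_lt n.lt_succ_self))
theorem PiG.card_dvd_of_lt (hP : PiG {p} P) (hp : p.Prime) (h : #P < p ^ (n + 1)) : #P ∣ p ^ n :=
  (hP.card_dvd_or hp n).resolve_right fun a => absurd (Nat.le_of_dvd (card_pos P) a) (not_le.2 h)
theorem card_dvd_of_lt_pow (hp : p.Prime) (h : A < B) (h2 : #B ∣ p ^ (n + 1)) : #A ∣ p ^ n :=
  PiG.card_dvd_of_lt ((pin_pow_self hp _).of_dvd ((cardS h.le).trans h2)) hp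
    ((card_lt h).trans_le (Nat.le_of_dvd (pow_pos hp.pos _) h2))
theorem not_pow_succ_dvd (hp : p.Prime) : ¬ p ^ (n + 1) ∣ p ^ n := fun h =>
  absurd ((Nat.pow_dvd_pow_iff_le_right hp.one_lt).1 h) (by omega)
theorem card_comm_dvd (hp : p.Prime) (hP : PiG {p} P) (h1 : P ≤ N[K]) (h2 : #K ∣ p ^ (n + 1)) : #⁅K, P⁆ ∣ p ^ n := by
  by_cases h0 : K = ⊥
  · rw [h0, commutator_bot_left, card_bot']; exact one_dvd _
  · exact card_dvd_of_lt_pow hp (PiG.comm_lt ((pin_pow_self hp _).of_dvd h2) hP h1 h0) h2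
theorem PiG.cent_of_dvd (hP : PiG {p} P) (hp : p.Prime) (h1 : P ≤ N[K]) (h2 : #K ∣ p) : K ≤ C[P] := by
  have := card_comm_dvd (n := 0) hp hP h1 (by simpa using h2)
  exact comm_eq_bot.1 (card_eq_one.1 (by simpa using this))
theorem le_Z2_of_card (hp : p.Prime) (hR : PiG {p} R) (h1 : E ≤ R) (h2 : R ≤ N[E]) (h3 : #E ∣ p ^ 2) : E ≤ Z2 R :=
  le_Z2_iff.2 ⟨h1, hR.cent_of_dvd hp (comm_normr _ _) (by simpa using card_comm_dvd hp hR h2 h3)⟩
theorem cyc_of_card_dvd (hp : p.Prime) (h : #X ∣ p) : Cyc X := by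
  rcases (Nat.dvd_prime hp).1 h with e | e
  · rw [card_eq_one.1 e]; exact cyc_bot
  · exact cyc_of_prime (e ▸ hp)
theorem abel_of_card_dvd_sq (hp : p.Prime) (h : #X ∣ p ^ 2) : Abel X := by
  rcases PiG.card_dvd_or (P := X) ((pin_pow_self hp _).of_dvd h) hp 1 with e | e
  · exact (cyc_of_card_dvd hp (by simpa using e)).abel
  · exact abel_of_card_sq hp (Nat.dvd_antisymm h e)
theorem PiG.prime_of_not_cyc (hR : PiG {p} R) (h : ¬ Cyc R) : p.Prime := hR.prime fun e => h (e ▸ cyc_bot)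
theorem cyc_exp_card (hp : p.Prime) (h : Cyc X) (h2 : ∀ x ∈ X, x ^ p = 1) : #X ∣ p :=
  Abelem.cyc_card ⟨h.abel, h2⟩ hp h

omit [Finite G] in
/-- the index of the centralizer of an element that is central modulo a central subgroup -/
theorem idx_C1_dvd (h0 : Abel K) (h1 : K ≤ C[R]) (h2 : ∀ g ∈ R, g * x * g⁻¹ * x⁻¹ ∈ K) :
    (C1[x]).relIndex R ∣ #K := by
  let f : R →* K := MonoidHom.mk' (fun g => ⟨g * x * (g : G)⁻¹ * x⁻¹, h2 g g.2⟩) fun a b => Subtype.ext (by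
    have := mem_C.1 (h1 (h2 b b.2)) a a.2
    change (a : G) * b * x * ((a : G) * b)⁻¹ * x⁻¹ = a * x * (a : G)⁻¹ * x⁻¹ * (b * x * (b : G)⁻¹ * x⁻¹)
    calc (a : G) * b * x * ((a : G) * b)⁻¹ * x⁻¹ = (a * (b * x * (b : G)⁻¹ * x⁻¹)) * x * (a : G)⁻¹ * x⁻¹ := by group
      _ = (b * x * (b : G)⁻¹ * x⁻¹) * (a * x * (a : G)⁻¹ * x⁻¹) := by rw [this]; group
      _ = _ := mem_C_comm h0 (h2 b b.2) (h2 a a.2))
  have e : f.ker = (C1[x]).subgroupOf R := by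
    ext g
    rw [MonoidHom.mem_ker, mem_subgroupOf, mem_C1, Subtype.ext_iff]
    change (g : G) * x * (g : G)⁻¹ * x⁻¹ = 1 ↔ _
    exact commutatorElement_eq_one_iff_mul_comm
  rw [relIndex, ← e, index_ker]
  exact card_subgroup_dvd_card _

/-- a normal subgroup of order at most `p ^ 2` has a centralizer of index at most `p` -/
theorem idx_cent_sq (hp : p.Prime) (hR : PiG {p} R) (h2 : R ≤ N[E]) (h3 : #E ∣ p ^ 2) : (C[E]).relIndex R ∣ p := by
  by_cases h : E ≤ C[R]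
  · rw [relIndex_eq_one.2 (cent_symm h)]; exact one_dvd _
  have hE : PiG {p} E := (pin_pow_self hp _).of_dvd h3
  have a1 : E ⊓ C[R] ≠ ⊥ := hE.meet_C hR h2 fun e => h (e ▸ bot_le)
  obtain ⟨u, u1, u2⟩ := SetLike.not_le_iff_exists.1 h
  have a2 : #E = p ^ 2 := Nat.dvd_antisymm h3 ((hE.card_dvd_or hp 1).resolve_left fun e =>
    h (hR.cent_of_dvd hp h2 (by simpa using e)))
  have a3 : #(E ⊓ C[R]) = p := card_sub_of_sq hp a2 (inf_lt_left.2 h) a1
  have a4 : (E ⊓ C[R]) ⊔ zpowers u = E := by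
    by_contra hn
    have b1 := card_sub_of_sq hp a2 (lt_of_le_of_ne (sup_le inf_le_left (zpowers_le.2 u1)) hn)
      fun e => a1 (eq_bot_iff.2 (e ▸ le_sup_left))
    have b2 := eq_of_card_le (le_sup_left : E ⊓ C[R] ≤ (E ⊓ C[R]) ⊔ zpowers u) (by rw [b1, a3])
    exact u2 (b2 ▸ mem_sup_right (mem_zpowers u) : u ∈ E ⊓ C[R]).2
  have a5 : C[E] ⊓ R = C1[u] ⊓ R := le_antisymm (inf_le_inf_right _ (C_le_C1 u1)) (le_inf (by
    rw [← a4]
    exact centY (centSS (le_CC R) inf_le_right inf_le_right) (by rw [C_zpowers]; exact inf_le_left)) inf_le_right)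
  have a6 : #⁅E, R⁆ ∣ p := by simpa using card_comm_dvd hp hR h2 h3
  rw [← inf_relIndex_right, a5, inf_relIndex_right]
  exact (idx_C1_dvd (cyc_of_card_dvd hp a6).abel (hR.cent_of_dvd hp (comm_normr _ _) a6)
    fun g hg => commC E R ▸ comm_mem hg u1).trans a6

theorem odd_cyc_of_unique (hR : PiG {p} R) (ho : Odd #R) (h : #Ω[p](R) ∣ p) : Cyc R := by
  by_cases h0 : R = ⊥
  · rw [h0]; exact cyc_bot
  have hp := hR.prime h0
  have := Fact.mk hp
  refine (Core.isCyclic_or_quaternion_of_unique (hR.pg hp) fun x y a b c => ?_).resolve_right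
    fun e => hR.ne_two ho h0 e.1
  have a' : (x : G) ^ p = 1 := congrArg Subtype.val a
  have b' : (y : G) ^ p = 1 := congrArg Subtype.val b
  have e := eq_of_card_le (zpowers_le.2 (mem_Om y.2 b')) (by
    rw [card_zpowers_of_pow hp b' fun e => c (Subtype.ext e)]; exact Nat.le_of_dvd hp.pos h)
  obtain ⟨k, hk⟩ : (x : G) ∈ zpowers (y : G) := e ▸ mem_Om x.2 a'
  exact ⟨k, Subtype.ext (by simpa using hk)⟩

theorem odd_normal_p2Elem_self (hR : PiG {p} R) (ho : Odd #R) (h3 : ¬ Cyc R) : ∃ E, PnElem p 2 E R ∧ R ≤ N[E] := by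
  have hp := hR.prime_of_not_cyc h3
  obtain ⟨A, -, a1, a2, -⟩ := Om_cent_max_normal hR ho bot_le (norm_bot _) (abelem_bot p)
  rcases (a2.ab.pig hp).card_dvd_or hp 1 with e | e
  · rw [pow_one] at e
    have := a2.Om_eq
    rw [inf_eq_left.2 (cent_symm (hR.cent_of_dvd hp a1 e))] at this
    exact absurd (odd_cyc_of_unique hR ho (this ▸ e)) h3
  · obtain ⟨E, b1, b2, b3⟩ := hR.exists_normal hp a2.le a1 e
    exact ⟨E, ⟨b1.trans a2.le, a2.ab.of_le b1, b3⟩, b2⟩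
/-- BG 4.5(c) -/
theorem Om_odd_Z2 (hR : PiG {p} R) (ho : Odd #R) (h : ¬ Cyc R) :
    ¬ Cyc Ω[p](Z2 R) ∧ ∀ x ∈ Ω[p](Z2 R), x ^ p = 1 := by
  have hp := hR.prime_of_not_cyc h
  obtain ⟨E, a1, a2⟩ := odd_normal_p2Elem_self hR ho h
  exact ⟨fun e => a1.not_cyc hp (e.of_le (a1.ab.le_Om (le_Z2_of_card hp hR a1.le a2 a1.card.dvd))),
    exp_Om_odd_nil23 (hR.of_le (Z2_le R)) (odd_of_le ho (Z2_le R)) (Or.inl (Z2_cls2 R))⟩
/-- BG 4.5(a), 4.6 -/
theorem odd_normal_p2Elem (hR : PiG {p} R) (ho : Odd #R) (h1 : S ≤ R) (h2 : R ≤ N[S]) (h3 : ¬ Cyc S) :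
    ∃ E, PnElem p 2 E S ∧ R ≤ N[E] := by
  have hS := hR.of_le h1
  have hp := hS.prime_of_not_cyc h3
  obtain ⟨a1, a2⟩ := Om_odd_Z2 hS (odd_of_le ho h1) h3
  have a3 : Ω[p](Z2 S) ≤ S := (Om_le _ _).trans (Z2_le S)
  obtain ⟨E, b1, b2, b3⟩ := hR.exists_normal hp (a3.trans h1) (normOm p (normZ2 h2))
    (((hS.of_le a3).card_dvd_or hp 1).resolve_left fun e => a1 (cyc_of_card_dvd hp (by simpa using e)))
  exact ⟨E, ⟨b1.trans a3, ⟨abel_of_card_sq hp b3, fun x hx => a2 x (b1 hx)⟩, b3⟩, b2⟩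
theorem odd_pgroup_rank1_cyc (hR : PiG {p} R) (ho : Odd #R) (h : r[p](R) ≤ 1) : Cyc R := by
  by_contra hn
  obtain ⟨E, a1, -⟩ := odd_normal_p2Elem_self hR ho hn
  exact absurd ((a1.le_pRank (hR.prime_of_not_cyc hn)).trans h) (by norm_num)
theorem odd_rank1_zg (ho : Odd #H) (h : r(H) ≤ 1) : ZG H := fun p hp P h1 h2 =>
  odd_pgroup_rank1_cyc h2 (odd_of_le ho h1) ((pRank_mono hp h1).trans ((pRank_le_rank hp H).trans h))
theorem odd_cyc_of_Om (hR : PiG {p} R) (ho : Odd #R) (h : Cyc Ω[p](R)) : Cyc R := by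
  by_contra hn
  have hp := hR.prime_of_not_cyc hn
  exact hn (odd_pgroup_rank1_cyc hR ho (pRank_Om hp R ▸ h.pRank_le hp))

omit [Finite G] [Finite G'] in
theorem cyc_im_iff (h : R ≤ φ.dom) : Cyc (φ.im R) ↔ ∃ b ∈ R, R ≤ zpowers b ⊔ φ.ker := by
  rw [cyc_iff]
  constructor
  · rintro ⟨y, e⟩
    obtain ⟨b, b1, rfl⟩ := (mem_im' h).1 (e ▸ mem_zpowers y)
    refine ⟨b, b1, (im_le_im_iff h (zpowers_le.2 (h b1))).1 ?_⟩
    rw [im_zpowers (h b1), e]
  · rintro ⟨b, b1, b2⟩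
    refine ⟨φ.app b, ?_⟩
    rw [← im_zpowers (h b1)]
    exact le_antisymm (im_mono (zpowers_le.2 b1)) ((im_le_im_iff h (zpowers_le.2 (h b1))).2 b2)
omit [Finite G] in
theorem cyc_quo_iff (h1 : K ≤ R) (h : R ≤ N[K]) : Cyc (R ÷ K) ↔ ∃ b ∈ R, K ⊔ zpowers b = R := by
  rw [cyc_im_iff (φ := quo K) h, quo_ker]
  refine exists_congr fun b => and_congr_right fun hb => ⟨fun e => ?_, fun e => ?_⟩
  · exact le_antisymm (sup_le h1 (zpowers_le.2 hb)) (e.trans (sup_comm _ _).le)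
  · rw [sup_comm, e]
omit [Finite G] in
theorem der_le_of_cyc_quo (h : R ≤ N[K]) (h2 : Cyc (R ÷ K)) : ⁅R, R⁆ ≤ K := (quo_abel_iff h).1 h2.abel
theorem cyc_quo_of_idx (hp : p.Prime) (h : R ≤ N[K]) (h2 : K.relIndex R ∣ p) : Cyc (R ÷ K) :=
  cyc_of_card_dvd hp (by rwa [card_quo h])
theorem der_le_of_idx_sq (hp : p.Prime) (h : R ≤ N[K]) (h2 : K.relIndex R ∣ p ^ 2) : ⁅R, R⁆ ≤ K :=
  (quo_abel_iff h).1 (abel_of_card_dvd_sq hp (by rwa [card_quo h]))
omit [Finite G] in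
theorem cyc_quo_of_sup (h : R ≤ N[K]) (h1 : X ≤ R) (h2 : R ≤ X ⊔ K) (h3 : Cyc X) : Cyc (R ÷ K) := by
  have : R ÷ K = X ÷ K := le_antisymm ((quo_le_iff h (h1.trans h)).2 h2) (im_mono h1)
  rw [this]; exact h3.im _
theorem card_dvd_of_idx (h : R ≤ N[K]) (h1 : A ≤ R) : #A ∣ #(K ⊓ A) * K.relIndex R := by
  rw [← card_inf_mul_relIndex K A]
  refine Nat.mul_dvd_mul_left _ ?_
  rw [← card_quo h, ← card_quo (h1.trans h)]; exact cardS (im_mono h1)

/-- BG 4.5(b) -/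
theorem Om_extremal_odd (hR : PiG {p} R) (ho : Odd #R) (h : ¬ Cyc R) (h1 : X ≤ R) (h2 : Cyc X)
    (h3 : X.relIndex R = p) : PnElem p 2 Ω[p](R) R := by
  have hp := hR.prime_of_not_cyc h
  obtain ⟨E, a1, a2⟩ := odd_normal_p2Elem_self hR ho h
  have nX := hR.norm_of_relIndex hp h1 h3
  have a3 : X ⊔ E = R := (eq_or_eq_of_relIndex_prime (h3 ▸ hp) le_sup_left (sup_le h1 a1.le)).resolve_left
    fun e => a1.not_cyc hp (h2.of_le (e ▸ le_sup_right))
  have a4 : ⁅R, R⁆ ≤ X ⊓ E := le_inf (der_le_of_cyc_quo nX (cyc_quo_of_idx hp nX h3.dvd))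
    (der_le_of_cyc_quo a2 (cyc_quo_of_sup a2 h1 a3.ge h2))
  have a5 : Cls2 R := a4.trans (hR.cent_of_dvd hp (normI nX a2)
    (cyc_exp_card hp (h2.of_le inf_le_left) fun x hx => a1.ab.pow x hx.2))
  have a6 : #Ω[p](R) ∣ p ^ 2 := (card_dvd_of_idx nX (Om_le p R)).trans (by
    rw [h3, sq]
    exact Nat.mul_dvd_mul_right (cyc_exp_card hp (h2.of_le inf_le_left)
      fun x hx => exp_Om_odd_nil23 hR ho (Or.inl a5) x hx.2) p)
  rwa [← eq_of_card_le (a1.ab.le_Om a1.le) (a1.card ▸ Nat.le_of_dvd (pow_pos hp.pos _) a6)]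
theorem pRank_bot (p : ℕ) : r[p]((⊥ : Subgroup G)) = 0 := by
  unfold pRank
  by_cases h : p = 1
  · rw [csSup_of_not_bddAbove, csSup_empty]; rfl
    rw [not_bddAbove_iff]
    exact fun n => ⟨n + 1, ⟨⊥, le_rfl, abelem_bot _, by rw [h, card_bot', one_pow]⟩, n.lt_succ_self⟩
  · refine Nat.le_zero.1 (csSup_le' ?_)
    rintro n ⟨E, a, -, b⟩
    rw [le_bot_iff.1 a, card_bot', eq_comm, Nat.pow_eq_one] at b
    exact (b.resolve_left h).le
theorem PiG.prime_of_pRank (hR : PiG {p} R) (h : n < r[p](R)) : p.Prime := by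
  refine hR.prime ?_
  rintro rfl
  rw [pRank_bot] at h; omega
theorem rank3_normal_abelem (hR : PiG {p} R) (ho : Odd #R) (h : 3 ≤ r[p](R)) : ∃ A, PnElem p 3 A R ∧ R ≤ N[A] := by
  have hp := hR.prime_of_pRank h
  obtain ⟨A, -, a1, a2, -⟩ := Om_cent_max_normal hR ho bot_le (norm_bot _) (abelem_bot p)
  rcases (a2.ab.pig hp).card_dvd_or hp 2 with e | e
  · obtain ⟨F, hF⟩ := exists_pnElem hp h
    have b1 : C[A] ⊓ F ≤ A := a2.le_of (inf_le_right.trans hF.le) inf_le_left (hF.ab.of_le inf_le_right)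
    have b2 := (card_dvd_of_idx (normC a1) hF.le).trans (Nat.mul_dvd_mul_left _ (idx_cent_sq hp hR a1 e))
    rw [hF.card, pow_succ, Nat.mul_dvd_mul_iff_right hp.pos] at b2
    have b3 := eq_of_card_le b1 ((Nat.le_of_dvd (pow_pos hp.pos _) e).trans (Nat.le_of_dvd (card_pos _) b2))
    have b4 : F ≤ A := a2.le_of hF.le (centSS hF.abel le_rfl (b3 ▸ inf_le_right)) hF.ab
    exact absurd ((hF.card ▸ cardS b4).trans e) (not_pow_succ_dvd hp)
  · obtain ⟨E, b1, b2, b3⟩ := hR.exists_normal hp a2.le a1 e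
    exact ⟨E, ⟨b1.trans a2.le, a2.ab.of_le b1, b3⟩, b2⟩
/-- BG 4.7 -/
theorem rank3_scn3 (hR : PiG {p} R) (ho : Odd #R) (h : 3 ≤ r[p](R)) : ∃ B, SCN B R ∧ 3 ≤ r[p](B) := by
  obtain ⟨A, a1, a2⟩ := rank3_normal_abelem hR ho h
  obtain ⟨B, b1, b2⟩ := hR.nil.exists_scn a1.le a2 a1.abel
  exact ⟨B, b2, (a1.sub b1).le_pRank (hR.prime_of_pRank h)⟩
/-- BG 4.8(a) -/
theorem rank2_exp_p3group (hp : p.Prime) (hR : PiG {p} R) (h : r[p](R) ≤ 2) (h2 : ∀ x ∈ R, x ^ p = 1) :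
    #R ∣ p ^ 3 := by
  obtain ⟨B, -, b2⟩ := hR.nil.exists_scn bot_le (norm_bot _) abel_bot
  have b3 : Abelem p B := ⟨b2.abel, fun x hx => h2 x (b2.le hx)⟩
  have b4 : #B ∣ p ^ 2 := (b3.pig hp).card_dvd_of_le hp
    ((b3.card_le hp b2.le).trans (Nat.pow_le_pow_right hp.pos h))
  rw [← card_inf_mul_relIndex C[B] R, inf_comm, b2.cent, pow_succ]
  exact Nat.mul_dvd_mul b4 (idx_cent_sq hp hR b2.norm b4)
theorem cls3_of_der (hp : p.Prime) (hR : PiG {p} R) (h : #⁅R, R⁆ ∣ p ^ 2) : Cls3 R :=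
  hR.cent_of_dvd hp (comm_normr _ _) (by simpa using card_comm_dvd hp hR (der_norm R) h)
/-- BG 4.8(b) -/
theorem exp_Om_rank2 (hR : PiG {p} R) (h : r[p](R) ≤ 2) (h3 : 3 < p) : ∀ x ∈ Ω[p](R), x ^ p = 1 := by
  refine Om_pow_ind hR.nil fun S a1 a2 x hx y hy a3 a4 => ?_
  by_cases h0 : S = ⊥
  · have : x = 1 := by simpa [h0] using hx
    rw [this, one_mul, a3]
  have hS := hR.of_le a1
  have hp := hS.prime h0
  set U := S ⊔ zpowers y
  have hU : PiG {p} U := hR.of_le (sup_le a1 (zpowers_le.2 hy))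
  have nS : U ≤ N[S] := sup_le (normG S) (zpowers_le.2 a4)
  have b1 : ⁅U, U⁆ ≤ ⁅S, U⁆ := der_sup_le (commS le_rfl le_sup_left)
    (by rw [abel_iff_der.1 (abel_zpowers y)]; exact bot_le) (commS le_rfl le_sup_right) (comm_norml _ _)
    (le_sup_right.trans (comm_normr _ _))
  have b2 : Cls3 U := cls3_of_der hp hU ((cardS b1).trans
    (card_comm_dvd hp hU nS (rank2_exp_p3group hp hS ((pRank_mono hp a1).trans h) a2)))
  exact exp_Om_odd_nil23 hU (hU.odd_card' (by omega)) (Or.inr ⟨h3, b2⟩) _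
    (mul_mem (mem_Om (mem_sup_left hx) (a2 x hx)) (mem_Om (mem_sup_right (mem_zpowers y)) a3))

theorem PiN.dvd_of_ne (h : PiN {p} n) (h1 : n ≠ 1) : p ∣ n := by
  obtain ⟨q, a, b⟩ := Nat.exists_prime_and_dvd h1
  exact h.eq_prime a b ▸ b
/-- the kernel of the power map is large -/
theorem card_le_Om_mul (h : ∀ x ∈ U, ∀ y ∈ U, (x * y) ^ p = x ^ p * y ^ p) (h2 : ∀ x ∈ U, x ^ p ∈ T) :
    #U ≤ #Ω[p](U) * #T := by
  let f : U →* T := MonoidHom.mk' (fun x => ⟨(x : G) ^ p, h2 x x.2⟩) fun a b => Subtype.ext (h a a.2 b b.2)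
  have e : f.ker ≤ (Ω[p](U)).subgroupOf U := fun x hx => mem_Om x.2 (congrArg Subtype.val hx)
  rw [← card_mul_index f.ker, index_ker]
  refine Nat.mul_le_mul ((card_le e).trans (Nat.card_congr (subgroupOfEquivOfLe (Om_le p U)).toEquiv).le) ?_
  exact Nat.le_of_dvd (card_pos T) (card_subgroup_dvd_card _)

theorem quo_p2_Om_prime (hp : p.Prime) (hR : PiG {p} R) (h3 : 3 < p) (h : #Ω[p](R) ∣ p ^ 2) (hT : #T = p)
    (h1 : T ≤ U) (h2 : U ≤ R) (h4 : T.relIndex U = p ^ 3) : ¬ ∀ x ∈ U, x ^ p ∈ T := by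
  intro h5
  have hU := hR.of_le h2
  have oU := hU.odd_card' (by omega)
  have cU : #U = p ^ 4 := by rw [← card_mul_relIndex h1, hT, h4]; ring
  have a1 : ¬ Cyc U := fun e => by
    have nT : U ≤ N[T] := abel_norm e.abel h1
    have := cyc_exp_card hp (e.im (quo T)) ((abelem_im_iff (φ := quo T) nT).2
      ⟨by rw [abel_iff_der.1 e.abel]; exact bot_le, by rwa [quo_ker]⟩).pow
    rw [card_quo nT, h4] at this
    exact not_pow_succ_dvd (n := 1) hp ((pow_dvd_pow p (by norm_num)).trans (this.trans (pow_one p).symm.dvd))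
  obtain ⟨E, a2, a3⟩ := odd_normal_p2Elem_self hU oU a1
  have a4 : ⁅U, U⁆ ≤ E := der_le_of_idx_sq hp a3 (by
    have := card_mul_relIndex a2.le
    rw [a2.card, cU, show 4 = 2 + 2 from rfl, pow_add] at this
    exact (Nat.eq_of_mul_eq_mul_left (pow_pos hp.pos _) this).dvd)
  have a5 := card_le_Om_mul (pow_morph_odd_nil23 hU oU (Or.inr ⟨h3, cls3_of_der hp hU (a2.card ▸ cardS a4)⟩)
    (a4.trans (a2.ab.le_Om a2.le))) h5
  rw [cU, hT, pow_succ] at a5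
  have a6 := (Nat.le_of_mul_le_mul_right a5 hp.pos).trans
    ((card_le (Om_mono h2)).trans (Nat.le_of_dvd (pow_pos hp.pos _) h))
  exact absurd ((Nat.pow_le_pow_iff_right hp.one_lt).1 a6) (by norm_num)

theorem exists_exp_p3 (hp : p.Prime) (hR : PiG {p} R) (h3 : 3 < p) (h : ¬ #Ω[p](R) ∣ p ^ 2) :
    ∃ U ≤ R, #U = p ^ 3 ∧ ∀ x ∈ U, x ^ p = 1 := by
  rcases le_or_gt r[p](R) 2 with e | e
  · obtain ⟨U, a1, a2⟩ := exists_sub_pow hp (((hR.of_le (Om_le p R)).card_dvd_or hp 2).resolve_left h)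
    exact ⟨U, a1.trans (Om_le _ _), a2, fun x hx => exp_Om_rank2 hR e h3 x (a1 hx)⟩
  · obtain ⟨U, a⟩ := exists_pnElem hp e
    exact ⟨U, a.le, a.card, a.ab.pow⟩

/-- BG 4.9 -/
theorem quo_p2_Om (hp : p.Prime) (hR : PiG {p} R) (h3 : 3 < p) (h : #Ω[p](R) ∣ p ^ 2) (h1 : T ≤ R) (h2 : R ≤ N[T]) :
    #Ω[p](R ÷ T) ∣ p ^ 2 := by
  induction T using lt_wf_ind with
  | h T ih =>
  by_contra hn
  obtain ⟨U', a1, a2, a3⟩ := exists_exp_p3 hp (hR.im _) h3 hn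
  obtain ⟨U, b1, b2, rfl⟩ := exists_quo_eq h2 h1 a1
  rw [card_quo (b2.trans h2)] at a2
  have b3 : ∀ x ∈ U, x ^ p ∈ T := fun x hx => by
    have := a3 _ (app_mem_im (φ := quo T) hx (h2 (b2 hx)))
    rw [← app_pow (h2 (b2 hx))] at this
    rw [← quo_ker T]; exact mem_ker.2 ⟨h2 (b2 (U.pow_mem hx p)), this⟩
  obtain ⟨k, e⟩ := (hR.of_le h1).card_pow hp
  rcases k with _ | k
  · rw [card_eq_one.1 e] at a2 b3
    rw [relIndex_bot_left] at a2
    exact not_pow_succ_dvd hp ((a2 ▸ cardS (fun x hx => mem_Om (b2 hx) (b3 x hx)) : p ^ 3 ∣ #Ω[p](R)).trans h)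
  obtain ⟨L, c1, c2, c3⟩ := hR.exists_normal hp h1 h2 (n := k) (e ▸ pow_dvd_pow p k.le_succ)
  have c4 : L.relIndex T = p := by
    have := card_mul_relIndex c1
    rw [c3, e, pow_succ] at this
    exact Nat.eq_of_mul_eq_mul_left (pow_pos hp.pos _) this
  have c5 : L < T := lt_of_le_of_ne c1 fun e => hp.one_lt.ne' (by rw [← c4, e, relIndex_self])
  refine quo_p2_Om_prime hp (hR.im (quo L)) h3 (ih L c5 (c1.trans h1) c2) (T := T ÷ L) (U := U ÷ L)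
    (by rw [card_quo (h1.trans c2), c4]) (im_mono b1) (im_mono b2)
    (by rw [relIndex_im (φ := quo L) (h1.trans c2) (b2.trans c2) (by rwa [quo_ker]), a2]) ?_
  intro y hy
  obtain ⟨x, d1, d2, rfl⟩ := mem_im.1 hy
  rw [← app_pow d2]; exact app_mem_im (b3 x d1) (pow_mem d2 p)

theorem Cyc.card_Om_dvd (h : Cyc H) (hp : p.Prime) : #Ω[p](H) ∣ p :=
  cyc_exp_card hp (h.of_le (BG.Om_le _ _)) (h.abel.Om_abelem p).pow

/-- BG 4.10 -/
theorem Om_metacyc_p2Elem (h : Metacyc R) (hR : PiG {p} R) (ho : Odd #R) (h1 : ¬ Cyc R) :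
    PnElem p 2 Ω[p](R) R := by
  obtain ⟨S, a1, a2, a3, a4⟩ := h
  have hp := hR.prime_of_not_cyc h1
  obtain ⟨T, b1, b2, b3⟩ := exists_quo_eq a2 a1 (Om_le p (R ÷ S))
  have b4 : Ω[p](R) ≤ T := le_of_im_le (φ := quo S) ((Om_le _ _).trans a2) (b2.trans a2) (by rwa [quo_ker])
    (b3 ▸ im_Om_le' a2)
  have b5 : Ω[p](T) = Ω[p](R) := le_antisymm (Om_mono b2) ((Om_Om p R).ge.trans (Om_mono b4))
  have b6 : ¬ Cyc T := fun e => h1 (odd_cyc_of_Om hR ho (e.of_le b4))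
  have b7 : S.relIndex T = p := by
    have := a4.card_Om_dvd hp
    rw [← b3, card_quo (b2.trans a2)] at this
    exact ((Nat.dvd_prime hp).1 this).resolve_left fun e => b6 (a3.of_le (relIndex_eq_one.1 e))
  rw [← b5]; exact (Om_extremal_odd (hR.of_le b2) (odd_of_le ho b2) b6 b1 a3 b7).mono b2

omit [Finite G] in
theorem Cyc.metacyc (h : Cyc R) : Metacyc R := ⟨R, le_rfl, normG R, h, by rw [quo_self]; exact cyc_bot⟩
omit [Finite G] [Finite G'] in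
theorem cyc_quo_im (h : R ≤ φ.dom) (h1 : K ≤ R) (h2 : R ≤ N[K]) (h3 : Cyc (R ÷ K)) : Cyc (φ.im R ÷ φ.im K) := by
  obtain ⟨b, b1, b2⟩ := (cyc_quo_iff h1 h2).1 h3
  refine (cyc_quo_iff (im_mono h1) (im_norm h2)).2 ⟨_, app_mem_im b1 (h b1), ?_⟩
  rw [← im_zpowers (h b1), ← im_sup (h1.trans h) (zpowers_le.2 (h b1)), b2]
omit [Finite G] [Finite G'] in
theorem cyc_quo_of_im (h : R ≤ φ.dom) (h0 : φ.ker ≤ K) (h1 : K ≤ R) (h2 : R ≤ N[K]) (h3 : Cyc (φ.im R ÷ φ.im K)) :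
    Cyc (R ÷ K) := by
  obtain ⟨b', b1, b2⟩ := (cyc_quo_iff (im_mono h1) (im_norm h2)).1 h3
  obtain ⟨b, c1, rfl⟩ := (mem_im' h).1 b1
  rw [← im_zpowers (h c1), ← im_sup (h1.trans h) (zpowers_le.2 (h c1))] at b2
  exact (cyc_quo_iff h1 h2).2 ⟨b, c1, im_inj (sup_le (h1.trans h) (zpowers_le.2 (h c1))) h
    (h0.trans le_sup_left) (h0.trans h1) b2⟩
omit [Finite G] [Finite G'] in
theorem Metacyc.im (h : Metacyc R) (h1 : R ≤ φ.dom) : Metacyc (φ.im R) := by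
  obtain ⟨K, a1, a2, a3, a4⟩ := h
  exact ⟨φ.im K, im_mono a1, im_norm a2, a3.im φ, cyc_quo_im h1 a1 a2 a4⟩
omit [Finite G] in
theorem Metacyc.of_le (h : Metacyc R) (h1 : S ≤ R) : Metacyc S := by
  obtain ⟨K, a1, a2, a3, a4⟩ := h
  have n : S ≤ N[K ⊓ S] := normI (h1.trans a2) (normG S)
  refine ⟨K ⊓ S, inf_le_right, n, a3.of_le inf_le_left, ?_⟩
  exact cyc_im_of_ker_le (φ := quo K) (ψ := quo (K ⊓ S)) (h1.trans a2) n
    (by rw [quo_ker, quo_ker, inf_comm]) (a4.of_le (im_mono h1))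
omit [Finite G] in
theorem Metacyc.der_cyc (h : Metacyc R) : Cyc ⁅R, R⁆ := by
  obtain ⟨K, -, a2, a3, a4⟩ := h
  exact a3.of_le (der_le_of_cyc_quo a2 a4)

omit [Finite G] in
theorem mem_Mho_of_morph (h : ∀ x ∈ R, ∀ y ∈ R, (x * y) ^ p = x ^ p * y ^ p) (hy : y ∈ Mho p R) :
    ∃ x ∈ R, x ^ p = y := by
  let S : Subgroup G :=
    { carrier := {y | ∃ x ∈ R, x ^ p = y}
      one_mem' := ⟨1, R.one_mem, one_pow _⟩
      inv_mem' := by rintro _ ⟨x, a, rfl⟩; exact ⟨x⁻¹, R.inv_mem a, inv_pow _ _⟩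
      mul_mem' := by rintro _ _ ⟨x, a, rfl⟩ ⟨y, b, rfl⟩; exact ⟨x * y, R.mul_mem a b, h x a y b⟩ }
  exact (Mho_le_iff (K := S)).2 (fun x hx => ⟨x, hx, rfl⟩) hy

theorem idx_le_of_Om_quo (h : R ≤ N[K]) (h1 : ∀ x ∈ R, x ^ p ∈ K) (h2 : #Ω[p](R ÷ K) ∣ n) : K.relIndex R ∣ n := by
  rw [← card_quo h]
  refine (cardS fun y hy => mem_Om hy ?_).trans h2
  obtain ⟨x, a, b, rfl⟩ := mem_im.1 hy
  rw [← app_pow b]; exact (mem_ker.1 (by rw [quo_ker]; exact h1 x a)).2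

theorem metacyc_of_pow (hp : p.Prime) (hR : PiG {p} R) (h1 : Cyc ⁅R, R⁆) (h2 : Φ[R].relIndex R ∣ p ^ 2)
    (h3 : ∀ y ∈ Φ[R], ∃ x ∈ R, x ^ p = y) : Metacyc R := by
  obtain ⟨C, a1, ⟨a2, a3⟩, a4⟩ := exists_maximal (P := fun C => C ≤ R ∧ Cyc C) (A := ⁅R, R⁆) ⟨der_le R, h1⟩
  have nC := norm_of_der_le a1 a2
  by_cases h0 : R = ⊥
  · rw [h0]; exact cyc_bot.metacyc
  obtain ⟨c, rfl⟩ := cyc_iff.1 a3
  have b1 : c ∉ Φ[R] := fun e => by
    obtain ⟨d, d1, rfl⟩ := h3 c e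
    have d2 := a4 (zpowers d) ⟨zpowers_le.2 d1, cyc_zpowers d⟩ (zpowers_le.2 (npow_mem_zpowers d p))
    have d3 : d = 1 := by
      by_contra hn
      have d4 := congrArg (fun X : Subgroup G => #X) d2
      simp only [card_zpowers'] at d4
      rw [orderOf_pow_of_dvd hp.ne_zero ((hR.elt d1).dvd hn)] at d4
      exact absurd d4 (Nat.div_lt_self (orderOf_pos d) hp.one_lt).ne'
    obtain ⟨x, x1, x2⟩ := exists_mem_ne_one h0
    have := a4 (zpowers x) ⟨zpowers_le.2 x1, cyc_zpowers x⟩ (by rw [d3]; simp)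
    rw [d3] at this
    exact x2 (by simpa using this)
  set D := Φ[R] ⊔ zpowers c
  have d1 : D ≤ R := sup_le (Phi_le R) a2
  have d2 : D.relIndex R ∣ p := by
    have e := relIndex_mul_relIndex Φ[R] D R le_sup_left d1
    obtain ⟨k, e2⟩ := ((hR.of_le d1).relIndex Φ[R]).dvd_of_ne fun e =>
      b1 (relIndex_eq_one.1 e (mem_sup_right (mem_zpowers c)))
    rw [← e, e2, sq, mul_assoc, Nat.mul_dvd_mul_iff_left hp.pos] at h2
    exact (dvd_mul_left _ _).trans h2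
  have nD : R ≤ N[D] := norm_of_der_le (a1.trans le_sup_right) d1
  obtain ⟨b, b2, b3⟩ := (cyc_quo_iff d1 nD).1 (cyc_quo_of_idx hp nD d2)
  refine ⟨_, a2, nC, a3, (cyc_quo_iff a2 nC).2 ⟨b, b2, eq_of_sup_Phi (sup_le a2 (zpowers_le.2 b2)) ?_⟩⟩
  rw [sup_comm, ← sup_assoc]; exact b3.ge

theorem der_le_zpowers_aux {a b : G} (hT : T ≤ C[R]) (ha : a ∈ R) (hb : b ∈ R) (h1 : T ≤ R)
    (h2 : b ∈ N[T ⊔ zpowers a]) (h3 : T ⊔ zpowers a ⊔ zpowers b = R) :
    ⁅R, R⁆ ≤ zpowers (b * a * b⁻¹ * a⁻¹) := by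
  have aT : Abel T := centSS hT le_rfl h1
  have cT : T ≤ C[zpowers a] := centSS hT le_rfl (zpowers_le.2 ha)
  have aX : Abel (T ⊔ zpowers a) := aT.sup (abel_zpowers a) cT
  have aX' := mem_sup_right (S := T) (mem_zpowers a)
  have wX := mul_mem (conj_mem h2 aX') (inv_mem aX')
  obtain ⟨t, t1, _, ⟨m, rfl⟩, e⟩ := (mem_sup_r (cents_norm cT)).1 (conj_mem h2 aX')
  have c1 : Commute t a := (mem_C.1 (hT t1) a ha).symm
  have c2 : Commute t b := (mem_C.1 (hT t1) b hb).symm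
  have e1 : b * a * b⁻¹ * a⁻¹ = t * a ^ (m - 1) := by rw [e, zpow_sub_one, mul_assoc]
  set w := b * a * b⁻¹ * a⁻¹
  have e2 : b * w * b⁻¹ = w ^ m := by
    have : b * w * b⁻¹ = t * (b * a * b⁻¹) ^ (m - 1) := by rw [e1, conj_zpow, ← mul_assoc, ← c2.eq]; group
    rw [this, e, e1, (c1.zpow_right _).mul_zpow, (c1.zpow_right _).mul_zpow, ← zpow_mul, ← zpow_mul, mul_comm m]
    group
  have nX : T ⊔ zpowers a ≤ N[zpowers w] := abel_norm aX (zpowers_le.2 wX)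
  have nb : b ∈ N[zpowers w] := mem_N_of (by
    rintro _ ⟨k, rfl⟩
    rw [← conj_zpow, e2]; exact zpow_mem (zpow_mem_zpowers w m) k)
  rw [← h3]
  refine der_sup_le (by rw [abel_iff_der.1 aX]; exact bot_le)
    (by rw [abel_iff_der.1 (abel_zpowers b)]; exact bot_le) (comm_sup_le ?_ ?_ (le_sup_left.trans nX)
    (le_sup_right.trans nX)) nX (zpowers_le.2 nb)
  · rw [comm_eq_bot.2 (centSS hT le_rfl (zpowers_le.2 hb))]; exact bot_le
  · rw [commC]; exact comm_zpowers_zpowers nb (nX aX') (mem_zpowers w)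

theorem p2_Om_metacyc_aux (hp : p.Prime) (h3 : 3 < p) (n : ℕ) : ∀ {G : Type _} [Group G] [Finite G]
    {R : Subgroup G}, #R = n → PiG {p} R → #Ω[p](R) ∣ p ^ 2 → Metacyc R := by
  induction n using Nat.strong_induction_on with
  | h n ih =>
  intro G _ _ R hn hR h
  have ho := hR.odd_card' (by omega)
  have nM := normMho p (normG R)
  have a0 : Φ[R].relIndex R ∣ p ^ 2 := idx_le_of_Om_quo (Phi_norm R) (fun x hx => hR.pow_mem_Phi hp hx)
    (quo_p2_Om hp hR h3 h (Phi_le R) (Phi_norm R))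
  have a1 : ⁅R, R⁆ ≤ Mho p R := der_le_of_idx_sq hp nM (idx_le_of_Om_quo nM (fun x hx => pow_mem_Mho hx)
    (quo_p2_Om hp hR h3 h (Mho_le p R) nM))
  have key : #⁅R, R⁆ ∣ p → Metacyc R := fun e => metacyc_of_pow hp hR (cyc_of_card_dvd hp e) a0 fun y hy =>
    mem_Mho_of_morph (pow_morph_odd_nil23 hR ho (Or.inl (hR.cent_of_dvd hp (der_norm R) e))
      fun x hx => mem_Om (der_le R hx) (orderOf_dvd_iff_pow_eq_one.1 ((orderOf_dvd hx).trans e)))
      (by rwa [hR.Phi_eq hp, sup_eq_right.2 a1] at hy)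
  rcases (hR.of_le (der_le R)).card_dvd_or hp 0 with e | e
  · exact key (e.trans (one_dvd _))
  obtain ⟨T, t1, t2, t3⟩ := hR.exists_normal hp (der_le R) (der_norm R) e
  rw [zero_add, pow_one] at t3
  have t4 := t1.trans (der_le R)
  have t5 := hR.cent_of_dvd hp t2 t3.dvd
  have t6 : T ≠ ⊥ := ne_bot_of_prime (t3 ▸ hp)
  obtain ⟨X', x1, x2, x3, x4⟩ := ih _ (hn ▸ card_quo_lt t2 t4 t6) rfl (hR.im (quo T)) (quo_p2_Om hp hR h3 h t4 t2)
  obtain ⟨X, y1, y2, rfl⟩ := exists_quo_eq t2 t4 x1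
  have nX : R ≤ N[X] := norm_of_im (φ := quo T) t2 (y2.trans t2) (by rwa [quo_ker]) x2
  have y3 : Cyc (R ÷ X) := cyc_quo_of_im (φ := quo T) t2 (by rwa [quo_ker]) y2 nX x4
  by_cases hX : Cyc X
  · exact ⟨X, y2, nX, hX, y3⟩
  obtain ⟨a, a2, rfl⟩ := (cyc_quo_iff y1 (y2.trans t2)).1 x3
  obtain ⟨b, b2, b3⟩ := (cyc_quo_iff y2 nX).1 y3
  have c1 := der_le_zpowers_aux t5 (y2 a2) b2 t4 (nX b2) b3
  have c2 : T ⊓ zpowers a = ⊥ := inf_bot_of_prime (t3 ▸ hp) fun e => hX (by rw [sup_eq_right.2 e]; exact cyc_zpowers a)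
  have wX := mul_mem (conj_mem (nX b2) a2) (inv_mem a2)
  set w := b * a * b⁻¹ * a⁻¹
  have c3 : w ^ p = 1 := by
    by_contra hn
    obtain ⟨t, u1, s, u2, e⟩ := (mem_sup_r (cents_norm (centSS t5 le_rfl (zpowers_le.2 (y2 a2))))).1 wX
    have c : Commute t s := (mem_C.1 (t5 u1) s (y2 (mem_sup_right u2))).symm
    have d : zpowers (w ^ p) ≤ zpowers a := by
      rw [zpowers_le, e, c.mul_pow, pow_eq_one_of_card t3 u1, one_mul]; exact pow_mem u2 p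
    have d2 := (cyc_zpowers w).Om_le (hR.of_le (zpowers_le.2 (y2 wX))) (zpowers_le.2 (npow_mem_zpowers w p))
      (by rwa [Ne, zpowers_eq_bot])
    exact t6 (c2 ▸ (inf_eq_left.2 (((le_Om_of_card t3 (t1.trans c1)).trans d2).trans d)).symm)
  exact key ((cardS c1).trans (card_zpowers' w ▸ orderOf_dvd_of_pow_eq_one c3))

/-- BG 4.11 (Huppert) -/
theorem p2_Om_metacyc (hp : p.Prime) (hR : PiG {p} R) (h3 : 3 < p) (h : #Ω[p](R) ∣ p ^ 2) : Metacyc R :=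
  p2_Om_metacyc_aux hp h3 _ rfl hR h

end Cfsg.Agent.BG
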