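import Cfsg.Agent.BG.S01
/-!
Bender–Glauberman, section 6: 6.3, 6.5–6.7.
-/
set_option autoImplicit false

namespace Cfsg.Agent.BG
open Subgroup PHom

variable {G : Type*} [Group G] [Finite G] {G' : Type*} [Group G'] [Finite G']
variable {A B C D E H K L M N P Q R S T U V W X Y Z : Subgroup G} {x y g : G} {π ρ : Set ℕ} {p q r m n : ℕ}
  {φ : PHom G G'}

theorem Sol.eq_of_sup_der (hs : Sol K) (h1 : L ≤ K) (h2 : K ≤ N[L]) (h : K ≤ ⁅K, K⁆ ⊔ L) : L = K := by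
  refine le_antisymm h1 ((quo_bot_iff h2).1 ?_)
  by_contra hn
  have a := (quo_le_iff h2 ((der_le K).trans h2)).2 h
  rw [im_der h2] at a
  exact ((hs.im _).der_lt hn).not_ge a

theorem Sdprod.le_der_sup (h : Sdprod K H M) (h1 : K ≤ ⁅M, M⁆) : K ≤ ⁅K, K⁆ ⊔ ⁅K, H⁆ := by
  have a : K ≤ (⁅K, K⁆ ⊔ ⁅K, H⁆ ⊔ ⁅H, H⁆) ⊓ K := by
    rw [← der_sup h.norm, h.sup]; exact le_inf h1 le_rfl
  rw [modl_l ((der_le H).trans (normY (normD h.norm) (comm_normr _ _))) (sup_le (der_le K) (commL h.norm))] at a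
  refine a.trans (sup_le le_rfl ?_)
  exact (le_inf inf_le_right (inf_le_left.trans (der_le H))).trans (h.inf.le.trans bot_le)

/-- BG 6.3(a) -/
theorem cop_der_sdprod (h : Sdprod K H M) (hc : (#H).Coprime #K) (hs : Sol K) (h1 : K ≤ ⁅M, M⁆) :
    ⁅K, H⁆ = K ∧ K ⊓ C[H] ≤ ⁅K, K⁆ := by
  have a := hs.eq_of_sup_der (commL h.norm) (comm_norml K H) (h.le_der_sup h1)
  refine ⟨a, (quo_bot_iff (inf_le_left.trans (der_norm K))).1 (eq_bot_iff.2 ((im_IC_le _ _).trans ?_))⟩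
  have b := cop_abel_C_comm ((quo_abel_iff (der_norm K)).2 le_rfl) (im_norm h.norm) (cop_im hc _)
  rw [← im_comm (der_norm K) (normD h.norm), a] at b
  exact b.le

theorem sup_zpowers_of_prime (hp : (K.relIndex M).Prime) (h1 : K ≤ M) (hx : x ∈ M) (h2 : x ∉ K) :
    K ⊔ zpowers x = M :=
  (eq_or_eq_of_relIndex_prime hp le_sup_left (sup_le h1 (zpowers_le.2 hx))).resolve_left
    fun e => h2 (e ▸ (le_sup_right : zpowers x ≤ K ⊔ zpowers x) (mem_zpowers x))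

/-- BG 6.3(b) -/
theorem prime_nil_der_factor (h : Nil ⁅M, M⁆) (h1 : (⁅M, M⁆.relIndex M).Prime) :
    (#⁅M, M⁆).Coprime (⁅M, M⁆.relIndex M) ∧ ∀ H, Sdprod ⁅M, M⁆ H M → ⁅M, H⁆ = ⁅M, M⁆ := by
  have c : (#⁅M, M⁆).Coprime (⁅M, M⁆.relIndex M) := by
    set p := ⁅M, M⁆.relIndex M with hp
    set K := O[{p}ᶜ](⁅M, M⁆)
    have nK : M ≤ N[K] := normO _ (der_norm M)
    obtain ⟨x, hx, hx'⟩ : ∃ x ∈ M, x ∉ ⁅M, M⁆ := by
      by_contra hn
      push Not at hn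
      exact h1.one_lt.ne' (relIndex_eq_one.2 hn)
    have a1 : PiG {p} (M ÷ K) := by
      rw [PiG, card_quo nK, ← relIndex_mul_relIndex K ⁅M, M⁆ M (O_le _ _) (der_le M)]
      exact pin_mul.2 ⟨by simpa using (h.hall_O {p}ᶜ).idx, pin_single_self h1⟩
    have nx : zpowers x ≤ N[K] := (zpowers_le.2 hx).trans nK
    have a2 : zpowers x ÷ K = M ÷ K := a1.nil.eq_of_sup_der (im_mono (zpowers_le.2 hx)) (by
      rw [← im_der nK, ← im_sup nx ((der_le M).trans nK), sup_comm, sup_zpowers_of_prime h1 (der_le M) hx hx'])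
    have a3 : ⁅M, M⁆ ≤ K := (quo_abel_iff nK).1 (a2 ▸ (abel_zpowers x).im _)
    exact (pin_compl_cop h1).1 ((O_pig _ _).of_le a3)
  refine ⟨c, fun H hH => le_antisymm (commS le_rfl hH.right) ?_⟩
  exact (cop_der_sdprod hH (hH.relIndex_l ▸ c.symm) h.sol le_rfl).1.ge.trans (commS (der_le M) le_rfl)

theorem IsProd.der_le (h : IsProd K U M) (hn : M ≤ N[K]) : ⁅M, M⁆ ≤ ⁅U, U⁆ ⊔ K := by
  refine (quo_le_iff ((BG.der_le M).trans hn) (((BG.der_le U).trans h.right).trans hn)).1 ?_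
  rw [im_der hn, im_der (h.right.trans hn), ← h.sup, quo_sup_l (h.right.trans hn)]

/-- BG 6.5(a) -/
theorem prod_focal_cop (h : IsProd K U M) (hn : M ≤ N[K]) (h1 : H ≤ U) (hc : (#H).Coprime #K) :
    H ⊓ ⁅M, M⁆ = H ⊓ ⁅U, U⁆ := by
  refine le_antisymm (le_inf inf_le_left ?_) (inf_le_inf_left _ (derS h.right))
  have a : H ⊓ ⁅M, M⁆ ≤ (⁅U, U⁆ ⊔ K) ⊓ U := le_inf (inf_le_right.trans (h.der_le hn)) (inf_le_left.trans h1)
  rw [modl_r (((der_le U).trans h.right).trans hn) (der_le U)] at a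
  have n : K ⊓ U ≤ N[⁅U, U⁆] := inf_le_right.trans (der_norm U)
  refine le_of_cop_relIndex (sup_le (normG _) n) a ?_
  rw [relIndex_sup_l n]
  exact (coprimeS hc inf_le_left inf_le_left).coprime_dvd_right (relIndex_dvd _ _)

/-- BG 6.5(c) -/
theorem prod_trans_cop (hs : Sol H ∨ Sol K) (h : IsProd K U M) (hn : M ≤ N[K]) (h1 : H ≤ U) (hc : (#H).Coprime #K)
    (hg : g ∈ M) (h2 : cj g H ≤ U) : ∃ c ∈ K ⊓ C[H], ∃ u ∈ U, g = u * c := by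
  obtain ⟨u, hu, k, hk, rfl⟩ := h.symm.ex g hg
  have nK : H ≤ N[K] := (h1.trans h.right).trans hn
  have a1 : cj k H ≤ U := by
    rw [cj_mul, cj_le_iff, cj_of_mem (U.inv_mem hu)] at h2; exact h2
  have a2 : cj k H ≤ (K ⊓ U) ⊔ H := by
    rw [← modr_l nK h1]
    exact le_inf (cj_le_of_mem le_sup_right (normG _ ((le_sup_left : K ≤ K ⊔ H) hk))) a1
  obtain ⟨l, hl, a3⟩ := sz_sub (normI nK (normsG h1)) a2 (coprimeS hc le_rfl inf_le_left)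
    (by rw [card_cj]; exact coprimeS hc le_rfl inf_le_left)
    (hs.elim Or.inl fun e => Or.inr (Or.inl (e.of_le inf_le_left)))
  refine ⟨l⁻¹ * k, ?_, u * l, U.mul_mem hu hl.2, by group⟩
  rw [← cop_inf_N nK hc]
  refine ⟨K.mul_mem (K.inv_mem hl.1) hk, mem_N_of_cj_le ?_⟩
  rw [cj_mul]; exact le_cj_iff.1 a3

/-- BG 6.5(b) -/
theorem prod_norm_cop (hs : Sol H ∨ Sol K) (h : IsProd K U M) (hn : M ≤ N[K]) (h1 : H ≤ U) (hc : (#H).Coprime #K) :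
    IsProd (K ⊓ C[H]) (U ⊓ N[H]) (M ⊓ N[H]) := by
  refine ⟨inf_le_inf h.left (C_le_N H), inf_le_inf_right _ h.right, fun g hg => ?_⟩
  obtain ⟨c, hc', u, hu, e⟩ := prod_trans_cop hs h hn h1 hc (M.inv_mem hg.1)
    (by rw [cj_of_mem_N (N[H].inv_mem hg.2)]; exact h1)
  refine ⟨c⁻¹, inv_mem hc', u⁻¹, ⟨U.inv_mem hu, ?_⟩, by rw [← mul_inv_rev, ← e, inv_inv]⟩
  have : u⁻¹ = c * g := by rw [← inv_inv g, e]; group
  rw [this]; exact N[H].mul_mem (C_le_N H hc'.2) hg.2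

/-- BG 6.6(b) -/
theorem PL1.syl_le_der (h : PL1 p M) (hp : p.Prime) (hS : Syl p S M) (h1 : S ≤ ⁅M, M⁆) :
    S ≤ ⁅M ⊓ N[S], M ⊓ N[S]⁆ := by
  have := prod_focal_cop (h.frattini hp hS) (O_norm _ _) (le_inf hS.le (normG S)) (hS.pi.coprime (O_pig _ _))
  exact (le_inf le_rfl h1).trans (this.le.trans inf_le_right)

/-- BG 6.6(c) -/
theorem PL1.syl_trans (h : PL1 p M) (hp : p.Prime) (hS : Syl p S M) (h1 : Y ≤ S) (hg : g ∈ M)
    (h2 : cj g Y ≤ S) : ∃ c ∈ M ⊓ C[Y], ∃ u ∈ M ⊓ N[S], g = u * c := by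
  obtain ⟨c, a, u, b, e⟩ := prod_trans_cop (Or.inl (hS.pi.of_le h1).sol) (h.frattini hp hS) (O_norm _ _)
    (h1.trans (le_inf hS.le (normG S))) ((hS.pi.of_le h1).coprime (O_pig _ _)) hg
    (h2.trans (le_inf hS.le (normG S)))
  exact ⟨c, ⟨O_le _ _ a.1, a.2⟩, u, b, e⟩

/-- BG 6.6(d) -/
theorem PL1.syl_cj_le (h : PL1 p M) (hp : p.Prime) (hS : Syl p S M) (h1 : Q ≤ M) (h2 : PiG {p} Q) :
    ∃ x ∈ M ⊓ C[Q ⊓ S], cj x Q ≤ S := by
  obtain ⟨g, hg, a⟩ := Syl.cj_sub hS hp h1 h2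
  obtain ⟨c, b, u, d, rfl⟩ := h.syl_trans hp hS (Y := Q ⊓ S) inf_le_right hg ((cj_mono _ inf_le_left).trans a)
  refine ⟨c, b, ?_⟩
  rwa [cj_mul, cj_le_iff, cj_of_mem_N (N[S].inv_mem d.2)] at a

/-- BG 6.7, without the `p`-length hypothesis (Thompson–Bender) -/
theorem norm_pmax (hp : p.Prime) (h2 : p ≠ 2) (hs : Sol M) (hE : PMax p E M) (h1 : L ≤ M)
    (h3 : E ≤ N[L]) (h4 : PiG {p}ᶜ L) : L ≤ O[{p}ᶜ](M) := by
  haveI := Fact.mk hp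
  rw [← pPrimeCore_map hp, Comp.Opp_eq]
  exact Comp.thompson_bender h2 (Comp.PLay_eq_bot_of_solvable hs) hE.le h1 ((hE.ab.pig hp).pg hp)
    ((pin_compl_cop hp).1 h4) h3 fun x a b c => hE.mem a b c

end Cfsg.Agent.BG
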