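import Cfsg.Agent.BG.Lin
import Cfsg.Agent.BG.S04a
import Cfsg.Agent.BG.S06
import Cfsg.Agent.Core.ThompsonFPF
/-!
Bender–Glauberman, section 3: 3.4, 3.5, 3.7, 3.9 and Wielandt's fixed point formula.
-/
set_option autoImplicit false

namespace Cfsg.Agent.BG
open Subgroup PHom Module

variable {G : Type*} [Group G] [Finite G] {G' : Type*} [Group G'] [Finite G']
variable {A B C D E H K L M N P Q R S T U V W X Y Z : Subgroup G} {x y g : G} {π ρ : Set ℕ} {p q r m n : ℕ}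
  {φ : PHom G G'}

/-- the linearization of the action on an elementary abelian group, over an algebraically closed field -/
theorem Abelem.exists_lin (hV : Abelem q V) (hq : q.Prime) : ∃ (Γ : Type) (_ : Group Γ) (_ : Finite Γ) (k : Type)
    (_ : Field k) (_ : IsAlgClosed k) (W : Type) (_ : AddCommGroup W) (_ : Module k W) (_ : FiniteDimensional k W)
    (φ : PHom G Γ) (σ : Γ →* End k W), φ.dom = N[V] ∧ φ.ker = C[V] ∧ (∀ A, Fx σ A = ⊤ → A = ⊥) ∧
      (∀ n : ℕ, PiN {q}ᶜ n → (n : k) ≠ 0) ∧ #V = q ^ finrank k W ∧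
      ∀ A ≤ N[V], #(V ⊓ C[A]) = q ^ finrank k (Fx σ (φ.im A)) := by
  haveI := Fact.mk hq
  obtain ⟨n, hE⟩ := hV.exists_pnElem hq
  obtain ⟨ε, ρ, h1, h2, h3, h4⟩ := hE.exists_gl
  let σ : GL (Fin n) (ZMod q) →* End (ZMod q) (Fin n → ZMod q) :=
    (Matrix.toLinAlgEquiv' (R := ZMod q) (n := Fin n)).toMonoidHom.comp (Units.coeHom _)
  have hσ : ∀ g v, σ g v = Matrix.mulVec g.1 v := fun g v => Matrix.toLinAlgEquiv'_apply _ _
  let φ : PHom G (GL (Fin n) (ZMod q)) := ⟨N[V], ρ⟩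
  have key : ∀ A ≤ N[V], #(V ⊓ C[A]) = q ^ finrank (AlgebraicClosure (ZMod q)) (Fx
      ((End.baseChangeHom (ZMod q) (AlgebraicClosure (ZMod q)) _).toMonoidHom.comp σ) (φ.im A)) := fun A hA => by
    rw [finrank_Fx_baseChange]
    refine Eq.trans ?_ ((natCard_eq_pow_finrank (K := ZMod q)).trans (by rw [Nat.card_zmod]))
    have a : ∀ v, v ∈ Fx σ (φ.im A) ↔ ε (Multiplicative.ofAdd v) ∈ C[A] := fun v => by
      rw [mem_Fx, mem_C]
      refine ⟨fun h a ha => ?_, fun h g hg => ?_⟩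
      · have i := h4 ⟨a, hA ha⟩ v
        rw [← hσ, show σ (ρ ⟨a, hA ha⟩) v = v from app_eq (φ := φ) (hA ha) ▸ h _ (app_mem_im ha (hA ha))] at i
        exact mul_inv_eq_iff_eq_mul.1 i
      · obtain ⟨a, ha, rfl⟩ := (mem_im' hA).1 hg
        have i := h4 ⟨a, hA ha⟩ v
        rw [h a ha, mul_inv_cancel_right] at i
        rw [app_eq (φ := φ) (hA ha), hσ]
        exact (Multiplicative.ofAdd.injective (h1 i)).symm
    refine (Nat.card_eq_of_bijective (fun v => ⟨ε (Multiplicative.ofAdd v.1), h2.le ⟨_, rfl⟩, (a _).1 v.2⟩)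
      ⟨fun v w e => Subtype.ext (Multiplicative.ofAdd.injective (h1 (congrArg Subtype.val e))), fun x => ?_⟩).symm
    obtain ⟨v, hv⟩ := h2.ge x.2.1
    exact ⟨⟨v.toAdd, (a _).2 (by rw [ofAdd_toAdd, hv]; exact x.2.2)⟩, Subtype.ext hv⟩
  refine ⟨_, inferInstance, inferInstance, _, inferInstance, inferInstance, _, inferInstance, inferInstance,
    inferInstance, φ, _, rfl, ?_, fun A h => eq_bot_iff.2 fun g hg => ?_, fun m hm e => ?_, ?_, key⟩
  · rw [ker_eq, show φ.hom.ker = _ from h3]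
    exact map_subgroupOf_eq_of_le (C_le_N V)
  · have a := finrank_Fx_baseChange (k := AlgebraicClosure (ZMod q)) σ A
    rw [h, finrank_top, finrank_baseChange] at a
    refine Units.ext (Matrix.toLinAlgEquiv'.injective (LinearMap.ext fun v => ?_))
    simpa [← hσ] using (Submodule.eq_top_of_finrank_eq a.symm).ge (Submodule.mem_top (x := v)) g hg
  · exact hm q hq ((CharP.cast_eq_zero_iff _ q m).1 e) rfl
  · have := key ⊥ bot_le
    rwa [C_bot, inf_top_eq, im_bot, Fx_bot, finrank_top] at this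

theorem Semireg.nil' (h0 : Semireg K R) (h : R ≤ N[K]) (hR : R ≠ ⊥) : Nil K := Core.isNilpotent_of_fpf h hR h0
/-- BG 3.7 -/
theorem prime_frob_nil (_hs : Sol K) (h : R ≤ N[K]) (hR : (#R).Prime) (h0 : K ⊓ C[R] = ⊥) : Nil K :=
  (semireg_of_prime hR h0).nil' h (ne_bot_of_prime hR)
theorem Semireg.nil (h0 : Semireg K R) (_hs : Sol K) (h : R ≤ N[K]) (hR : R ≠ ⊥) : Nil K := h0.nil' h hR
/-- BG 3.9 -/
theorem Semireg.zg (h0 : Semireg K R) (ho : Odd #R) (hK : K ≠ ⊥) (h : R ≤ N[K]) : ZG R :=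
  zg_iff.1 (Core.isZGroup_of_fpf_of_odd h hK h0 ho.not_two_dvd_nat)
theorem Semireg.cyc_of_pig (h0 : Semireg K R) (ho : Odd #R) (hK : K ≠ ⊥) (h : R ≤ N[K]) (hR : PiG {p} R) :
    Cyc R := (h0.zg ho hK h).cyc hR.nil
theorem Semireg.cyc_of_pq (h0 : Semireg K R) (hK : K ≠ ⊥) (h : R ≤ N[K]) (hp : p.Prime) (hq : q.Prime)
    (hR : #R = p * q) : Cyc R := Core.isCyclic_of_fpf_of_card_eq_mul h hK h0 hp hq hR

/-- a Frobenius complement acts faithfully when the kernel acts non-trivially -/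
theorem Semireg.inf_ker (h0 : Semireg K R) (h : R ≤ N[K]) (hK : K ≤ φ.dom) (hR : R ≤ φ.dom) (h1 : ¬ K ≤ φ.ker) :
    R ⊓ φ.ker = ⊥ := by
  by_contra hn
  have a := (cop_cent_prod (inf_le_left.trans h) (coprimeS (h0.coprime h) (inf_le_left (b := φ.ker)) le_rfl)
    (Or.inr (h0.nil' h fun e => hn (by rw [e, bot_inf_eq])).sol)).sup
  rw [h0.cent inf_le_left hn, sup_bot_eq] at a
  exact h1 (a.ge.trans ((commS le_rfl inf_le_right).trans (commR (hK.trans dom_norm_ker))))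

/-- a group of class two with derived group of prime order has a central quotient of square order -/
theorem idx_Z_sq (hp : p.Prime) : ∀ K : Subgroup G, ⁅K, K⁆ ≤ C[K] → #⁅K, K⁆ ∣ p →
    ∃ m, Z[K].relIndex K = p ^ (2 * m) := by
  refine lt_wf_ind fun K ih h1 h2 => ?_
  by_cases h : Abel K
  · exact ⟨0, relIndex_eq_one.2 (le_inf le_rfl h)⟩
  obtain ⟨x, hx, y, hy, e⟩ : ∃ x ∈ K, ∃ y ∈ K, x * y ≠ y * x := by
    by_contra i
    push Not at i
    exact h (le_C_iff.2 i)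
  have a : ∀ x ∈ K, ∀ L ≤ K, ¬ L ≤ C1[x] → (L ⊓ C1[x]).relIndex L = p := fun x hx L i j => by
    rw [inf_relIndex_left]
    exact ((Nat.dvd_prime hp).1 ((idx_C1_dvd (h1.trans (centS (der_le K))) (h1.trans (centS i))
      fun g hg => comm_mem (i hg) hx).trans h2)).resolve_left fun l => j (relIndex_eq_one.1 l)
  have a1 := a x hx K le_rfl fun i => e (mem_C1'.1 (i hy))
  have hx' : x ∈ K ⊓ C1[x] := ⟨hx, mem_C1_self x⟩
  have a2 := a y hy _ (inf_le_left (b := C1[x])) fun i => e (mem_C1.1 (i hx'))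
  set D := K ⊓ C1[x] ⊓ C1[y]
  have DK : D ≤ K := inf_le_left.trans inf_le_left
  have b1 := sup_zpowers_of_prime (a1 ▸ hp) inf_le_left hy fun i => e (mem_C1'.1 i.2)
  have b2 := sup_zpowers_of_prime (a2 ▸ hp) inf_le_left hx' fun i => e (mem_C1.1 i.2)
  have c : Z[D] = Z[K] := by
    refine le_antisymm (le_inf (inf_le_left.trans DK) ?_) (le_inf (le_inf (le_inf inf_le_left
      (inf_le_right.trans (C_le_C1 hx))) (inf_le_right.trans (C_le_C1 hy))) (inf_le_right.trans (centS DK)))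
    rw [← b1]
    refine centY ?_ (by rw [C_zpowers]; exact inf_le_left.trans inf_le_right)
    rw [← b2]
    exact centY inf_le_right (by rw [C_zpowers]; exact inf_le_left.trans (inf_le_left.trans inf_le_right))
  obtain ⟨m, hm⟩ := ih D (lt_of_le_of_ne DK fun i => e (mem_C1.1 (i.ge hx).2))
    (((derS DK).trans h1).trans (centS DK)) ((cardS (derS DK)).trans h2)
  refine ⟨m + 1, ?_⟩
  rw [← relIndex_mul_relIndex _ D _ (c ▸ inf_le_left) DK, ← c, hm,
    ← relIndex_mul_relIndex D _ _ inf_le_left inf_le_left, a1, a2]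
  ring

theorem lin_odd_prime {k : Type*} [Field k] [IsAlgClosed k] {W : Type*} [AddCommGroup W] [Module k W]
    [FiniteDimensional k W] {σ : G →* End k W} (hσ : ∀ A, Fx σ A = ⊤ → A = ⊥) (hR : (#R).Prime) (oR : Odd #R)
    (r0 : (#R : k) ≠ 0) (e : Fx σ R = ⊥) : ∀ K : Subgroup G, Odd #K → R ≤ N[K] → (#R).Coprime #K →
    (#K : k) ≠ 0 → K ≤ C[R] := by
  refine lt_wf_ind fun K ih oK h1 hc k0 => by_contra fun hn => ?_
  have n0 : ∀ B ≤ K, (#B : k) ≠ 0 := fun B a i => k0 (by rw [← card_mul_relIndex a, Nat.cast_mul, i, zero_mul])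
  replace ih : ∀ B ≤ K, B ≠ K → R ≤ N[B] → B ≤ C[R] := fun B a a' b =>
    ih B (lt_of_le_of_ne a a') (odd_of_le oK a) b (coprimeS hc le_rfl a) (n0 B a)
  have sR := (cyc_of_prime hR).sol
  obtain ⟨p, hp, pK⟩ : ∃ p, p.Prime ∧ PiG {p} K := by
    by_contra i
    refine hn (le_of_syl fun p hp _ => ?_)
    obtain ⟨P, a, b⟩ := cop_syl_exists h1 hc (Or.inl sR) hp
    exact ⟨P, a, ih P a.le (fun j => i ⟨p, hp, j ▸ a.pi⟩) b⟩
  have f2 : ⁅K, R⁆ = K := by
    by_contra i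
    exact hn (cop_cent_of_comm_cent h1 hc (Or.inl sR) (ih _ (commL h1) i (comm_normr _ _)))
  have f3 : ∀ D, K ≤ N[D] → D ≤ C[R] → D ≤ C[K] := fun D a b => by
    refine comm_eq_bot'.1 (f2 ▸ three_subgroup (by rw [comm_eq_bot'.2 b, commutator_bot_left]) ?_)
    exact comm_eq_bot.2 ((commL a).trans b)
  have K0 : K ≠ ⊥ := fun i => hn (i ▸ bot_le)
  have f4 : Φ[K] ≤ C[K] := f3 _ (Phi_norm K) (ih _ (Phi_le K) (Phi_lt K0).ne (normPhi h1))
  have nab : ¬ Abel K := fun i => by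
    have a := lin_wielandt σ i k0 h1 (semireg_of_prime hR (f2 ▸ cop_abel_C_comm i h1 hc))
    rw [e, finrank_bot, mul_zero, zero_add] at a
    exact K0 (hσ K (Submodule.eq_top_of_finrank_eq (le_antisymm (Submodule.finrank_le _) (by omega))))
  have ZK : Z[K] ≠ K := fun i => nab (i.ge.trans inf_le_right)
  have ZR := ih _ inf_le_left ZK (normZ h1)
  have dZ : ⁅K, K⁆ ≤ Z[K] := le_inf (der_le K) (pK.nil.der_le_Phi.trans f4)
  have f5 : ∀ B ≤ K, B ≠ K → R ≤ N[B] → B ≤ Z[K] := fun B a b c => le_inf a ((le_inf a (ih B a b c)).trans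
    (f3 _ (norm_of_der_le (dZ.trans (le_inf inf_le_left ZR)) inf_le_left) inf_le_right))
  have fpf : ∀ y ∈ K, ∀ x ∈ R, x ≠ 1 → y * x * y⁻¹ * x⁻¹ ∈ Z[K] → y ∈ Z[K] := fun y hy x hx i j => by
    refine f5 (zpowers y ⊔ Z[K]) (sup_le (zpowers_le.2 hy) inf_le_left) (fun l => nab ?_) ?_
      (mem_sup_left (mem_zpowers y))
    · rw [← l]
      exact (abel_zpowers y).sup (abel_Z K) (cent_symm (inf_le_right.trans (centS (zpowers_le.2 hy))))
    · rw [← eq_zpowers_of_prime hR hx i, zpowers_le]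
      refine mem_N_of_cj_le ?_
      rw [cj_sup, cj_zpowers, cj_of_mem_N (normZ h1 hx)]
      refine sup_le (zpowers_le.2 ?_) le_sup_right
      rw [show x * y * x⁻¹ = (y * x * y⁻¹ * x⁻¹)⁻¹ * y by group]
      exact mul_mem (mem_sup_right (inv_mem j)) (mem_sup_left (mem_zpowers y))
  haveI := Fintype.ofFinite ↥(Z[K])
  have z0 := n0 _ (inf_le_left (b := C[K]))
  haveI : Finite (↥(Z[K]) →* kˣ) := Nat.finite_of_card_ne_zero (by rw [card_wt (abel_Z K) z0]; exact card_ne _)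
  haveI := Fintype.ofFinite (↥(Z[K]) →* kˣ)
  obtain ⟨l, l0, l1⟩ : ∃ l : ↥(Z[K]) →* kˣ, wt σ Z[K] l ≠ 0 ∧ ¬ ⁅K, K⁆ ≤ l.ker.map (Z[K]).subtype := by
    by_contra i
    push Not at i
    refine nab (abel_iff_der.2 (hσ _ (eq_top_iff.2 fun w _ c hc => ?_)))
    have : σ c * ∑ l, wt σ Z[K] l = ∑ l, wt σ Z[K] l := by
      rw [Finset.mul_sum]
      refine Finset.sum_congr rfl fun l _ => ?_
      by_cases j : wt σ Z[K] l = 0
      · rw [j, mul_zero]
      · obtain ⟨z, a, rfl⟩ := i l j hc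
        rw [show σ ((Z[K]).subtype z) * _ = _ from mul_wt z, show l z = 1 from a, Units.val_one, one_smul]
    rw [sum_wt (abel_Z K) z0, mul_one] at this
    rw [this]; rfl
  set Y := l.ker.map (Z[K]).subtype
  have YZ : Y ≤ Z[K] := map_subtype_le _
  have nK : K ≤ N[Y] := cents_norm (cent_symm (YZ.trans inf_le_right))
  have nR : R ≤ N[Y] := cents_norm (cent_symm (YZ.trans ZR))
  have f6 : K ⊓ (quo Y).pre C[K ÷ Y] ≤ Z[K] := f5 _ inf_le_left (fun i => l1 ((quo_abel_iff nK).1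
    ((le_pre_iff nK).1 (i.ge.trans inf_le_right)))) (normI h1 (norm_pre nR (normC (im_norm h1))))
  obtain ⟨m, hm⟩ := idx_Z_sq hp (K ÷ Y) (by rw [← im_der nK]; exact im_cent (dZ.trans inf_le_right)) (by
    rw [← im_der nK]
    refine Abelem.cyc_card (Abelem.im ((OmZ_abelem p K).of_le (comm_le_iff.2 fun a ha b hb =>
      mem_Om (dZ (comm_mem ha hb)) ?_)) _) hp (Cyc.of_le ?_ (im_mono dZ))
    · have c := mem_C.1 (dZ (comm_mem ha hb)).2
      have : ∀ n, a ^ n * b = (a * b * a⁻¹ * b⁻¹) ^ n * b * a ^ n := fun n => by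
        induction n with
        | zero => simp
        | succ n i =>
          have j := mem_C.1 (pow_mem (dZ (comm_mem ha hb)).2 n) a ha
          rw [pow_succ', mul_assoc, i, ← mul_assoc, ← mul_assoc, j, pow_succ]; simp only [mul_assoc, inv_mul_cancel_left]
      have i := this p
      rw [← mem_C.1 (f4 (pK.pow_mem_Phi hp ha)) b hb, mul_assoc] at i
      exact (mul_eq_right.1 i.symm)
    · obtain ⟨f⟩ := exists_equiv_im (φ := quo Y) (ψ := ⟨Z[K], l⟩) (A := Z[K]) (inf_le_left.trans nK) le_rfl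
        (by rw [quo_ker, ker_eq])
      haveI := Finite.of_equiv _ f.toEquiv
      exact Cyc.equiv (isCyclic_subgroup_units _) f.symm)
  have f7 : Z[K ÷ Y] = Z[K] ÷ Y := le_antisymm (by rw [← im_inf_pre]; exact im_mono f6) (im_Z_le K)
  rw [f7, relIndex_im (inf_le_left.trans nK) nK (by rwa [quo_ker])] at hm
  let U := LinearMap.range (wt σ Z[K] l)
  have KH : K ≤ C[Z[K]] := cent_symm inf_le_right
  have RH : R ≤ C[Z[K]] := cent_symm ZR
  have mp : ∀ h : C[Z[K]], ∀ u ∈ U, σ h u ∈ U := by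
    rintro h _ ⟨v, rfl⟩
    refine ⟨σ h v, ?_⟩
    rw [← End.mul_apply, ← End.mul_apply, (wt_comm fun z hz => ?_).eq]
    rw [Commute, SemiconjBy, ← map_mul, ← map_mul, mem_C.1 h.2 z hz]
  let τ : C[Z[K]] →* End k U :=
    { toFun := fun h => (σ h).restrict (mp h)
      map_one' := LinearMap.ext fun u => Subtype.ext (by simp)
      map_mul' := fun a b => LinearMap.ext fun u => Subtype.ext (by simp) }
  have hτ : ∀ z : C[Z[K]], ∀ hz : (z : G) ∈ Z[K], τ z = (l ⟨z, hz⟩ : k) • 1 := fun z hz =>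
    LinearMap.ext fun u => Subtype.ext (by
      obtain ⟨v, hv⟩ := u.2
      show σ z u = (l ⟨z, hz⟩ : k) • (u : W)
      rw [← hv, ← End.mul_apply, show σ z * _ = _ from mul_wt (⟨z, hz⟩ : ↥(Z[K]))]; rfl)
  haveI : Nontrivial U := Submodule.nontrivial_iff_ne_bot.2 (mt LinearMap.range_eq_bot.1 l0)
  have cR : #(R.subgroupOf C[Z[K]]) = #R := Nat.card_congr (subgroupOfEquivOfLe RH).toEquiv
  have cK : #(K.subgroupOf C[Z[K]]) = #K := Nat.card_congr (subgroupOfEquivOfLe KH).toEquiv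
  have hh := hall_higman_bound (ρ := τ) (K := K.subgroupOf _) (R := R.subgroupOf _) (Z := (Z[K]).subgroupOf _)
    (cR ▸ hR) (norm_comap h1 _) (cK ▸ k0) (cR ▸ r0) (comap_mono inf_le_left)
    (comm_le_iff.2 fun a ha b hb => dZ (comm_mem ha hb)) (fun z hz => ⟨_, hτ z hz⟩) (fun x hx h => ?_)
    (fun y hy x hx i j => fpf y hy x hx (fun o => i (Subtype.ext o)) j) (eq_bot_iff.2 fun u hu =>
      Subtype.ext (e.le fun a ha => congrArg Subtype.val (hu ⟨a, RH ha⟩ ha)))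
  · rw [relIndex_subgroupOf KH, cR, hm] at hh
    have md := (pig_of_card' hR rfl).card_modEq hR h1
    rw [le_antisymm (f5 _ inf_le_left (fun i => hn (i.ge.trans inf_le_right)) (normI h1 (normC (normG R))))
      (le_inf inf_le_left ZR), ← card_mul_relIndex (inf_le_left (a := K) (b := C[K])), hm] at md
    have m1 : p ^ (2 * m) ≡ 1 [MOD #R] := Nat.ModEq.cancel_left_of_coprime (coprimeS hc le_rfl inf_le_left)
      (by rwa [mul_one])
    have m2 : p ^ (2 * m) ≠ 1 := fun i => nab ((relIndex_eq_one.1 (hm.trans i)).trans inf_le_right)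
    have m3 : Odd (p ^ m) := (pK.odd oK K0).pow
    rw [pow_mul'] at hh m1 m2
    generalize p ^ m = s at *
    have m4 := (Nat.pow_le_pow_iff_left two_ne_zero).1 hh
    have m5 : s ≠ 1 := fun i => m2 (by rw [i, one_pow])
    obtain ⟨s, rfl⟩ := m3
    obtain ⟨r, hr⟩ := oR
    have m6 := (Nat.modEq_iff_dvd' (Nat.one_le_pow _ _ (by omega))).1 m1.symm
    rw [show (2 * s + 1) ^ 2 - 1 = (2 * s) * (2 * s + 2) by rw [Nat.sub_eq_iff_eq_add (Nat.one_le_pow _ _ (by omega))]; ring]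
      at m6
    rcases (Nat.Prime.dvd_mul hR).1 m6 with i | i <;> have := Nat.le_of_dvd (by omega) i <;> omega
  · replace hx : (x : G) ∈ K := hx
    refine f6 ⟨hx, (le_pre_iff ((zpowers_le.2 hx).trans nK)).2 ((quo_cent_iff ((zpowers_le.2 hx).trans nK) nK).2
      (comm_zpowers_le (nK hx) fun y hy => ?_)) (mem_zpowers _)⟩
    have a := dZ (comm_mem hx hy)
    refine ⟨⟨_, a⟩, Units.ext ?_, rfl⟩
    have b := hτ (x * ⟨y, KH hy⟩ * x⁻¹ * (⟨y, KH hy⟩ : C[Z[K]])⁻¹) a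
    rw [map_mul, map_mul, map_mul, (h ⟨y, KH hy⟩ hy).eq, mul_assoc (τ _), rep_mul_inv, mul_one, rep_mul_inv] at b
    exact smul_left_injective k (one_ne_zero (α := End k U)) (b.symm.trans (one_smul k _).symm)

/-- BG 3.4 -/
theorem odd_prime_sdprod_abelem_cent (_hs : Sol M) (ho : Odd #M) (h : Sdprod K R M) (hc : (#R).Coprime #K)
    (hR : (#R).Prime) (hq : q.Prime) (hV : Abelem q V) (h1 : M ≤ N[V]) (h2 : PiG {q}ᶜ M) (h3 : V ⊓ C[R] = ⊥) :
    ⁅K, R⁆ ≤ C[V] := by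
  by_cases e : R ≤ C[V]
  · rw [← inf_eq_left.2 (cent_symm e), h3, C_bot]; exact le_top
  obtain ⟨Γ, _, _, k, _, _, W, _, _, _, φ, σ, a1, a2, a3, a4, a5, a6⟩ := hV.exists_lin hq
  have hK : K ≤ φ.dom := a1 ▸ h.left.trans h1
  have hR' : R ≤ φ.dom := a1 ▸ h.right.trans h1
  have b := a6 R (h.right.trans h1)
  rw [h3, card_bot', eq_comm, Nat.pow_eq_one, or_iff_right hq.ne_one] at b
  rw [← a2, ← cent_im_iff hK hR']
  exact lin_odd_prime a3 (by rwa [card_im_inj hR' (a2 ▸ inf_bot_of_prime hR e)]) (odd_im (odd_of_le ho h.right) φ)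
    (a4 _ ((h2.of_le h.right).im φ)) (Submodule.finrank_eq_zero.1 b) _ (odd_im (odd_of_le ho h.left) φ)
    (im_norm h.norm) (cop_im hc φ) (a4 _ ((h2.of_le h.left).im φ))
/-- BG 3.5 -/
theorem frob_prime_cent_prime (_hs : Sol M) (h : Sdprod K R M) (hR : (#R).Prime) (h0 : K ⊓ C[R] = ⊥)
    (hq : q.Prime) (hV : Abelem q V) (h1 : M ≤ N[V]) (h2 : PiG {q}ᶜ K) (h3 : #(V ⊓ C[R]) = q) :
    ⁅K, K⁆ ≤ C[V] := by
  by_cases e : K ≤ C[V]
  · exact (der_le K).trans e
  obtain ⟨Γ, _, _, k, _, _, W, _, _, _, φ, σ, a1, a2, a3, a4, a5, a6⟩ := hV.exists_lin hq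
  have hK : K ≤ φ.dom := a1 ▸ h.left.trans h1
  have hR' : R ≤ φ.dom := a1 ▸ h.right.trans h1
  have s := semireg_of_prime hR h0
  have b := a6 R (h.right.trans h1)
  rw [h3] at b
  have z0 := ((s.nil' h.norm (ne_bot_of_prime hR)).im φ).Z_ne_bot (by rwa [Ne, im_eq_bot_iff hK, a2])
  obtain ⟨i, j⟩ := (lin_fix_one σ (abel_Z _) (a4 _ ((h2.im φ).of_le inf_le_left)) (normZ (im_norm h.norm))
    ((s.im h.norm hK hR').mono inf_le_left le_rfl) (cent_symm inf_le_right) (im_norm h.norm)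
    (Nat.pow_right_injective hq.two_le (b.symm.trans (pow_one q).symm))).resolve_left fun i => z0 (a3 _ i)
  have hZ : φ.pre Z[φ.im K] ≤ N[V] := a1 ▸ pre_le_dom _
  have e1 : φ.im (φ.pre Z[φ.im K]) = Z[φ.im K] := im_pre (inf_le_left (b := C[φ.im K]))
  have c := a6 _ (sup_le hZ (h.right.trans h1))
  rw [im_sup (pre_le_dom _) hR', e1, i, finrank_bot, pow_zero, card_eq_one, C_sup, ← inf_assoc] at c
  have d := frob_cent_abel (hV.abel.of_le inf_le_left) h.norm s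
    (normI (h.left.trans h1) (normC (norm_pre hK (normZ (normG _)))))
    (normI (h.right.trans h1) (normC (norm_pre hR' (normZ (im_norm h.norm)))))
    (h2.coprime' ((hV.pig hq).of_le inf_le_left)) c
  have f := card_le (le_inf (inf_le_left (b := C[φ.pre Z[φ.im K]])) (cent_symm d))
  rw [a6 _ hZ, a6 _ (h.left.trans h1), e1, Nat.pow_le_pow_iff_right hq.one_lt] at f
  rw [← a2, ← abel_im_iff hK, abel_iff_der]
  exact a3 _ (j (Submodule.eq_of_le_of_finrank_le (Fx_anti inf_le_left) f).ge)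

theorem wielandt_aux (n : ℕ) : ∀ {G : Type _} [Group G] [Finite G] {K R M : Subgroup G}, #M = n → Semireg K R →
    R ≤ N[K] → K ≤ N[M] → R ≤ N[M] → (#(K ⊔ R)).Coprime #M → Sol M →
    #(M ⊓ C[K ⊔ R]) ^ #R * #M = #(M ⊓ C[R]) ^ #R * #(M ⊓ C[K]) := by
  induction n using Nat.strong_induction_on with | _ n ih => ?_
  intro G _ _ K R M hn h0 h1 h2 h3 hc hs
  by_cases e : K ≤ C[M]
  · rw [C_sup, ← inf_assoc, inf_eq_left.2 (cent_symm e)]
  by_cases e' : R = ⊥
  · rw [e', sup_bot_eq, C_bot, inf_top_eq, card_bot', pow_one, pow_one, mul_comm]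
  have L := sup_le h2 h3
  obtain ⟨V, a, b⟩ := exists_minN (fun i => e (by rw [i, C_bot]; exact le_top)) (sup_le (normG M) L)
  have nM : M ≤ N[V] := le_sup_left.trans b.norm
  have nL : K ⊔ R ≤ N[V] := le_sup_right.trans b.norm
  rcases a.eq_or_lt with rfl | a'
  · obtain ⟨q, hq, hV⟩ := b.abelem hs
    obtain ⟨Γ, _, _, k, _, _, W, _, _, _, φ, σ, a1, a2, a3, a4, a5, a6⟩ := hV.exists_lin hq
    have hK : K ≤ φ.dom := a1 ▸ h2
    have hR : R ≤ φ.dom := a1 ▸ h3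
    have z0 := ((h0.nil' h1 e').im φ).Z_ne_bot (by rwa [Ne, im_eq_bot_iff hK, a2])
    have e1 : φ.im (φ.pre Z[φ.im K]) = Z[φ.im K] := im_pre (inf_le_left (b := C[φ.im K]))
    have c := (b.eq_bot_or (inf_le_left (b := C[φ.pre Z[φ.im K]])) (sup_le (abel_norm hV.abel inf_le_left)
      (normI L (normC (norm_pre (sup_le hK hR) (normZ (im_norm (sup_le (normG K) h1)))))))).resolve_right fun i =>
      z0 (by rw [← e1, im_eq_bot_iff (pre_le_dom _), a2]; exact cent_symm (i.ge.trans inf_le_right))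
    have d := a6 _ (a1 ▸ pre_le_dom Z[φ.im K])
    rw [c, card_bot', eq_comm, Nat.pow_eq_one, or_iff_right hq.ne_one, e1] at d
    have w := lin_wielandt σ (abel_Z _) (a4 _ ((PiG.im (π := {q}ᶜ) ((pin_compl_cop hq).2
      ((hV.pig hq).cop_prime b.ne (coprimeS hc le_sup_left le_rfl))) φ).of_le inf_le_left)) (normZ (im_norm h1))
      ((h0.im h1 hK hR).mono inf_le_left le_rfl)
    have u : ∀ A, Z[φ.im K] ≤ A → finrank k (Fx σ A) = 0 := fun A i =>
      Nat.le_zero.1 (d ▸ Submodule.finrank_mono (Fx_anti i))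
    rw [u _ le_sup_left, d, card_im_inj hR (h0.inf_ker h1 hK hR (by rwa [a2]))] at w
    rw [a6 _ L, a6 _ h2, a6 _ h3, a5, u _ (inf_le_left.trans (im_mono le_sup_left)), u _ inf_le_left, ← pow_mul,
      ← pow_mul, ← pow_add, ← pow_add]
    congr 1
    linarith
  have cV := coprimeS hc le_rfl a
  have k : ∀ A ≤ K ⊔ R, #(M ⊓ C[A]) = #(V ⊓ C[A]) * #(M ÷ V ⊓ C[A ÷ V]) := fun A i => by
    rw [← im_IC' (i.trans nL) nM (by rwa [quo_ker]) (by rw [quo_ker]; exact coprimeS cV i le_rfl)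
      (by rw [quo_ker]; exact Or.inr (hs.of_le a)), ← card_im_mul (φ := quo V) (inf_le_left.trans nM), quo_ker,
      inf_right_comm, inf_eq_right.2 a]
  have i := ih _ (hn ▸ card_lt a') rfl h0 h1 (le_sup_left.trans nL) (le_sup_right.trans nL) cV (hs.of_le a)
  have e1 := im_sup (φ := quo V) (le_sup_left.trans nL) (le_sup_right.trans nL)
  have j := ih _ (hn ▸ card_quo_lt nM a b.ne) rfl (h0.im h1 (le_sup_left.trans nL) (le_sup_right.trans nL))
    (im_norm h1) (im_norm h2) (im_norm h3) (e1 ▸ cop_im hc _) (hs.im _)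
  rw [← e1, card_im_inj (le_sup_right.trans nL) (by
    rw [quo_ker]; exact inf_bot_of_coprime (coprimeS cV le_sup_right le_rfl))] at j
  rw [k _ le_rfl, k _ le_sup_left, k _ le_sup_right, ← card_im_mul (φ := quo V) nM, quo_ker, inf_eq_right.2 a,
    mul_pow, mul_pow, mul_mul_mul_comm, i, j, mul_mul_mul_comm]

/-- Wielandt's fixed point formula for Frobenius groups -/
theorem frob_wielandt (h : Frob K R L) (h1 : L ≤ N[M]) (hc : (#L).Coprime #M) (hs : Sol M) :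
    #(M ⊓ C[L]) ^ #R * #M = #(M ⊓ C[R]) ^ #R * #(M ⊓ C[K]) := by
  rw [← h.sd.sup] at hc ⊢
  exact wielandt_aux _ rfl h.reg h.sd.norm (h.sd.left.trans h1) (h.sd.right.trans h1) hc hs
theorem frob_wielandt_cent (h : Frob K R L) (h1 : L ≤ N[M]) (hc : (#L).Coprime #M) (hs : Sol M)
    (h2 : M ⊓ C[R] = ⊥) : K ≤ C[M] := by
  have a := frob_wielandt h h1 hc hs
  rw [h2, eq_bot_iff.2 ((inf_le_inf_left M (centS h.sd.right)).trans h2.le), card_bot', one_pow, one_mul,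
    one_mul] at a
  exact cent_symm ((eq_of_card_le inf_le_left a.le).ge.trans inf_le_right)
theorem frob_wielandt_card (h : Frob K R L) (h1 : L ≤ N[M]) (hc : (#L).Coprime #M) (hs : Sol M)
    (h2 : M ⊓ C[K] = ⊥) : #M = #(M ⊓ C[R]) ^ #R := by
  have a := frob_wielandt h h1 hc hs
  rwa [h2, eq_bot_iff.2 ((inf_le_inf_left M (centS h.sd.left)).trans h2.le), card_bot', one_pow, one_mul,
    mul_one] at a

end Cfsg.Agent.BG
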