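import Cfsg.Agent.BG.S04a
import Cfsg.Agent.BG.S02
/-!
Bender–Glauberman, section 4: 4.12–4.16.
-/
set_option autoImplicit false

namespace Cfsg.Agent.BG
open Subgroup PHom
open scoped commutatorElement

variable {G : Type*} [Group G] [Finite G] {G' : Type*} [Group G'] [Finite G']
variable {A B C D E H K L M N P Q R S T U V W X Y Z : Subgroup G} {x y g : G} {π ρ : Set ℕ} {p q r m n : ℕ}
  {φ : PHom G G'}

theorem metacyc_cop_abel (hR : PiG {p} R) (ho : Odd #R) (h : Metacyc R) (hA : PiG {p}ᶜ A) (h1 : A ≤ N[R])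
    (h2 : R ≤ ⁅R, A⁆) : Abel R := by
  by_contra hn
  have hc : ¬ Cyc R := fun e => hn e.abel
  have hp := hR.prime_of_not_cyc hc
  obtain ⟨S, a1, ⟨a2, a3, a4⟩, a5⟩ := exists_maximal (P := fun S => Cyc S ∧ S ≤ R ∧ A ≤ N[S]) (A := ⁅R, R⁆)
    ⟨h.der_cyc, der_le R, normD h1⟩
  have nS : R ≤ N[S] := norm_of_der_le a1 a3
  have cS : R ≤ C[S] := h2.trans ((commS nS a4).trans (a2.der_cent le_rfl))
  have b1 : ¬ Cyc (R ÷ S) := fun e => hn (abel_of_cyc_im (φ := quo S) nS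
    (by rw [quo_ker]; exact inf_le_right.trans (cent_symm cS)) e)
  have b2 := Om_metacyc_p2Elem (h.im (φ := quo S) nS) (hR.im _) (odd_im ho _) b1
  have b3 := Om_metacyc_p2Elem h hR ho hc
  have b4 : #(Ω[p](R) ÷ S) < p ^ 2 := by
    rw [← b3.card]
    refine card_im_lt (φ := quo S) (b3.le.trans nS) ?_
    rw [quo_ker, inf_comm]
    exact (hR.of_le a3).inf_Om_ne_bot (fun e => hn (abel_iff_der.2 (eq_bot_iff.2 (e ▸ a1)))) a3
  obtain ⟨X', d, nX'⟩ := maschke hp b2.ab (im_Om_le' nS) (normOm p (im_norm h1)) (im_norm (normOm p h1)) (hA.im _)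
  obtain ⟨X, x1, x2, rfl⟩ := exists_quo_eq nS a3 (d.right.trans (Om_le _ _))
  have cX : Cyc X := odd_cyc_of_Om (hR.of_le x2) (odd_of_le ho x2) (a2.of_le
    ((quo_bot_iff (((Om_le _ _).trans x2).trans nS)).1
      (eq_bot_iff.2 (d.inf ▸ le_inf (im_mono (Om_mono x2)) (im_mono (Om_le _ _))))))
  have e := d.card
  rw [a5 X ⟨cX, x2, norm_of_im (φ := quo S) a4 (x2.trans nS) (by rwa [quo_ker]) nX'⟩ x1, quo_self, card_bot',
    mul_one, b2.card] at e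
  exact b4.ne e

theorem cyc_of_inf_bot (hR : PiG {p} R) (ho : Odd #R) (h : PnElem p 2 Ω[p](R) R) (h1 : X ≤ R) (h2 : Y ≤ R)
    (h3 : X ⊓ Y = ⊥) (h4 : Y ≠ ⊥) : Cyc X := by
  by_contra hn
  obtain ⟨E, a1, -⟩ := odd_normal_p2Elem_self (hR.of_le h1) (odd_of_le ho h1) hn
  have a2 := a1.eq_of_le h (a1.ab.le_Om (a1.le.trans h1))
  exact (hR.of_le h2).inf_Om_ne_bot h4 h2 (eq_bot_iff.2 (h3 ▸ le_inf (inf_le_right.trans (a2 ▸ a1.le)) inf_le_left))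

/-- BG 4.12 (Huppert) -/
theorem cop_metacyc_cent_sdprod (hR : PiG {p} R) (ho : Odd #R) (h : Metacyc R) (hA : PiG {p}ᶜ A) (h1 : A ≤ N[R]) :
    Abel ⁅R, A⁆ ∧ Sdprod ⁅R, A⁆ (R ⊓ C[A]) R ∧
      (¬ Abel R → ¬ A ≤ C[R] → R ⊓ C[A] ≠ ⊥ ∧ Cyc ⁅R, A⁆ ∧ Cyc (R ⊓ C[A]) ∧ ⁅R, R⁆ ≤ ⁅R, A⁆) := by
  have hc := hA.coprime' hR
  have a1 : ⁅R, A⁆ ≤ R := commL h1
  have a2 := cop_comm_comm h1 hc (Or.inr hR.sol)
  have a3 := metacyc_cop_abel (hR.of_le a1) (odd_of_le ho a1) (h.of_le a1) hA (comm_normr _ _) a2.ge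
  have a4 : Sdprod ⁅R, A⁆ (R ⊓ C[A]) R := ⟨(cop_cent_prod h1 hc (Or.inr hR.sol)).sup, eq_bot_iff.2 (by
    rw [← cop_abel_C_comm a3 (comm_normr _ _) (coprimeS hc le_rfl a1), a2]
    exact inf_le_inf_left _ inf_le_right), inf_le_left.trans (comm_norml _ _)⟩
  refine ⟨a3, a4, fun b1 b2 => ?_⟩
  have b3 := Om_metacyc_p2Elem h hR ho fun e => b1 e.abel
  have b4 : R ⊓ C[A] ≠ ⊥ := fun e => b1 (by rw [← a4.sup, e, sup_bot_eq]; exact a3)
  have b5 := cyc_of_inf_bot hR ho b3 inf_le_left a1 ((inf_comm _ _).trans a4.inf) fun e => b2 (comm_eq_bot'.1 e)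
  exact ⟨b4, cyc_of_inf_bot hR ho b3 a1 inf_le_left a4.inf b4, b5,
    der_le_of_cyc_quo a4.nl (cyc_quo_of_sup a4.nl inf_le_left (a4.sup.ge.trans (sup_comm _ _).le) b5)⟩

theorem pRank_le_of_dvd (hp : p.Prime) (h : #H ∣ p ^ n) : r[p](H) ≤ n :=
  (Nat.pow_dvd_pow_iff_le_right hp.one_lt).1 ((pow_pRank_dvd hp H).trans h)

theorem pin_relIndex_of_pig (h : ∀ q, q.Prime → q ∉ π → ∀ Q ≤ D, PiG {q} Q → Q ≤ K) : PiN π (K.relIndex D) := by
  intro q hq a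
  by_contra hn
  obtain ⟨Q, b⟩ := syl_exists hq D
  exact b.not_dvd hq (a.trans (relIndex_dvd_left (h q hq hn Q b.le b.pi) D))

omit [Finite G] in
theorem relIndex_eq_mul (h : K ⊓ D ≤ L) : K.relIndex D = K.relIndex (D ⊓ L) * L.relIndex D := by
  rw [← inf_relIndex_right K D, ← relIndex_mul_relIndex (K ⊓ D) (D ⊓ L) D (le_inf inf_le_right h) inf_le_left,
    inf_comm D L, inf_relIndex_right L, ← inf_relIndex_right K, ← inf_relIndex_right (K ⊓ D)]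
  congr 2
  exact le_antisymm (inf_le_inf_right _ inf_le_left) (le_inf (inf_le_inf_left _ inf_le_right) inf_le_right)

/-- the action on the Frattini quotient of a critical subgroup -/
theorem crit_idx (hp : p.Prime) (hH : PiG {p} H) (h1 : H ≤ R) (h2 : N[R] ≤ N[H])
    (h3 : ∀ A ≤ N[R], PiG {p}ᶜ A → A ≤ C[H] → A ≤ C[R]) (hD : D ≤ N[R]) :
    ∃ k, PiN {p} k ∧ (C[R]).relIndex D = k * (C[H ÷ Φ[H]]).relIndex (D ÷ Φ[H]) := by
  have nF : N[R] ≤ N[Φ[H]] := normPhi h2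
  refine ⟨(C[R]).relIndex (D ⊓ (quo Φ[H]).pre C[H ÷ Φ[H]]), pin_relIndex_of_pig fun q hq a Q b c => ?_, ?_⟩
  · have d := (b.trans inf_le_left).trans hD
    have e := c.ne_compl a
    refine h3 Q d e (cop_cent_Phi (d.trans h2) (e.coprime' hH) ?_)
    rw [commC]
    exact (quo_cent_iff (d.trans nF) (Phi_norm H)).1 ((le_pre_iff (d.trans nF)).1 (b.trans inf_le_right))
  · rw [← relIndex_pre (φ := quo Φ[H]) _ (hD.trans nF)]
    exact relIndex_eq_mul ((le_pre_iff ((inf_le_right.trans hD).trans nF)).2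
      (im_cent (inf_le_left.trans (centS h1))))

theorem exists_crit_rank2 (hR : PiG {p} R) (ho : Odd #R) (h : r[p](R) ≤ 2) (h0 : R ≠ ⊥) :
    ∃ H : Subgroup G, N[R] ≤ N[H] ∧ Abelem p (H ÷ Φ[H]) ∧ r[p](H ÷ Φ[H]) ≤ 2 ∧ ∀ D ≤ N[R],
      ∃ k, PiN {p} k ∧ (C[R]).relIndex D = k * (C[H ÷ Φ[H]]).relIndex (D ÷ Φ[H]) := by
  have hp := hR.prime h0
  obtain ⟨H, a1, -, a2, -, a3, a4⟩ := critical_odd hR ho h0
  have hH := hR.of_le a1
  refine ⟨H, a2, hH.abelem_quo_Phi hp, pRank_le_of_dvd hp ?_, fun D => crit_idx hp hH a1 a2 a4⟩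
  by_cases e : Abel H
  · exact (card_im_dvd H).trans (hH.card_dvd_of_le hp
      ((Abelem.card_le ⟨e, a3⟩ hp a1).trans (Nat.pow_le_pow_right hp.pos h)))
  · refine (hH.im _).card_dvd_of_lt hp ((card_quo_lt (Phi_norm H) (Phi_le H) fun f => e ?_).trans_le
      (Nat.le_of_dvd (pow_pos hp.pos _) (rank2_exp_p3group hp hH ((pRank_mono hp a1).trans h) a3)))
    exact abel_iff_der.2 (eq_bot_iff.2 (f ▸ hH.nil.der_le_Phi))

theorem prime_dvd_sq_sub_one (hp : Odd p) (h1 : 1 < p) (hq : q.Prime) (h : q ∣ p ^ 2 - 1) :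
    q < p ∧ (q ∣ (p + 1) / 2 ∨ q ∣ (p - 1) / 2) := by
  obtain ⟨b, rfl⟩ := hp
  have e1 : (2 * b + 1 + 1) / 2 = b + 1 := by omega
  have e2 : (2 * b + 1 - 1) / 2 = b := by omega
  have e3 : (2 * b + 1) ^ 2 - 1 = 2 * 2 * (b * (b + 1)) := by
    rw [show (2 * b + 1) ^ 2 = 2 * 2 * (b * (b + 1)) + 1 by ring, Nat.add_sub_cancel]
  rw [e1, e2]; rw [e3] at h
  have e4 : q ∣ b * (b + 1) := ((Nat.Prime.dvd_mul hq).1 h).elim (fun a => by
    have : q = 2 := (Nat.prime_dvd_prime_iff_eq hq Nat.prime_two).1 (((Nat.Prime.dvd_mul hq).1 a).elim id id)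
    rw [this]; exact (Nat.even_mul_succ_self b).two_dvd) id
  have e5 := ((Nat.Prime.dvd_mul hq).1 e4).symm
  refine ⟨?_, e5⟩
  rcases e5 with a | a
  · have := Nat.le_of_dvd (by omega) a; omega
  · have := Nat.le_of_dvd (by omega) a; omega

/-- BG 4.13, 4.14 -/
theorem pi_aut_rank2 (hp : p.Prime) (hR : PiG {p} R) (ho : Odd #R) (h : r[p](R) ≤ 2) (hA : A ≤ N[R]) (hq : q.Prime)
    (h1 : q ∣ (C[R]).relIndex A) (h2 : q ≠ p) :
    q ∣ p ^ 2 - 1 ∧ q < p ∧ (q ∣ (p + 1) / 2 ∨ q ∣ (p - 1) / 2) := by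
  have h0 : R ≠ ⊥ := by
    rintro rfl
    rw [C_bot, relIndex_top_left] at h1
    exact hq.one_lt.ne' (Nat.dvd_one.1 h1)
  obtain ⟨H, a1, a2, a3, a4⟩ := exists_crit_rank2 hR ho h h0
  obtain ⟨k, b1, b2⟩ := a4 A hA
  rw [b2] at h1
  have c1 := (((Nat.Prime.dvd_mul hq).1 h1).resolve_left fun e => h2 (b1.eq_prime hq e)).trans
    (idx_cent_rank2 hp a2 a3 (im_norm (hA.trans a1)))
  have c2 : q ∣ p ^ 2 - 1 := ((Nat.Prime.dvd_mul hq).1 c1).elim id fun e => by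
    rw [sq, ← Nat.mul_sub_one] at e
    have := ((Nat.Prime.dvd_mul hq).1 e).resolve_left fun f => h2 ((Nat.prime_dvd_prime_iff_eq hq hp).1 f)
    exact this.trans (by simpa using Nat.sub_dvd_pow_sub_pow p 1 2)
  exact ⟨c2, prime_dvd_sq_sub_one (hR.odd ho h0) hp.one_lt hq c2⟩

theorem p3_der (hp : p.Prime) (h2 : #S = p ^ 3) (h3 : ¬ Abel S) : #⁅S, S⁆ = p ∧ Z[S] = ⁅S, S⁆ := by
  have hS : PiG {p} S := pig_of_card_pow hp h2
  have h0 : S ≠ ⊥ := fun e => h3 (e ▸ abel_bot)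
  have nZ : S ≤ N[Z[S]] := normZ (normG S)
  have e := card_mul_relIndex (inf_le_left : Z[S] ≤ S)
  have a1 : p ^ 2 ∣ (Z[S]).relIndex S := by
    rw [← card_quo nZ]
    exact ((hS.im _).card_dvd_or hp 1).resolve_left fun f => h3 (abel_of_cyc_im (φ := quo Z[S]) nZ
      (by rw [quo_ker]; exact inf_le_right.trans inf_le_right) (cyc_of_card_dvd hp (by simpa using f)))
  obtain ⟨k, a2⟩ := (hS.of_le inf_le_left).dvd (hS.nil.Z_ne_bot h0)
  have a3 : #Z[S] ∣ p := by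
    obtain ⟨j, a3⟩ := a1
    rw [a3, h2, pow_succ p 2, mul_left_comm] at e
    exact Dvd.intro _ (Nat.eq_of_mul_eq_mul_left (pow_pos hp.pos _) e)
  have a4 : #Z[S] = p := Nat.dvd_antisymm a3 ⟨k, a2⟩
  have a5 : ⁅S, S⁆ ≤ Z[S] := der_le_of_idx_sq hp nZ (by
    rw [a4, h2, pow_succ'] at e
    exact (Nat.eq_of_mul_eq_mul_left hp.pos e).dvd)
  have a6 := (eq_bot_or_eq_of_prime (a4 ▸ hp) a5).resolve_left fun f => h3 (abel_iff_der.2 f)
  exact ⟨a6 ▸ a4, a6.symm⟩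

/-- BG 4.15: a nonabelian subgroup of order `p ^ 3` that is critical splits off -/
theorem p3_cprod (hp : p.Prime) (hR : PiG {p} R) (h1 : S ≤ R) (h2 : #S = p ^ 3) (h3 : ¬ Abel S)
    (h4 : ⁅S, R⁆ ≤ ⁅S, S⁆) : IsProd S (R ⊓ C[S]) R := by
  obtain ⟨a1, a2⟩ := p3_der hp h2 h3
  have a3 : ⁅S, S⁆ ≤ C[R] := hR.cent_of_dvd hp (normD (comm_le_l.1 (h4.trans (der_le S)))) a1.dvd
  obtain ⟨x, hx, y, hy, e⟩ : ∃ x ∈ S, ∃ y ∈ S, x * y ≠ y * x := by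
    by_contra hn; push Not at hn; exact h3 (le_C_iff.2 hn)
  have a4 : zpowers x ⊔ zpowers y = S := by
    by_contra hn
    exact e (mem_C_comm (abel_of_card_dvd_sq hp (card_dvd_of_lt_pow hp (lt_of_le_of_ne
      (sup_le (zpowers_le.2 hx) (zpowers_le.2 hy)) hn) h2.dvd)) (mem_sup_left (mem_zpowers x))
      (mem_sup_right (mem_zpowers y)))
  have a5 : ∀ x ∈ S, (C1[x]).relIndex R ≤ p := fun x hx => Nat.le_of_dvd hp.pos (a1 ▸ idx_C1_dvd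
    (cyc_of_card_dvd hp a1.dvd).abel a3 fun g hg => h4 (commC S R ▸ comm_mem hg hx))
  have a6 : (C[S]).relIndex R ≤ p * p := by
    rw [← a4, C_sup, C_zpowers, C_zpowers]
    exact relIndex_inf_le.trans (Nat.mul_le_mul (a5 x hx) (a5 y hy))
  refine isProd_of_card h1 inf_le_left ?_
  rw [← inf_assoc, inf_eq_left.2 h1, a2, a1, h2, ← card_inf_mul_relIndex C[S] R, inf_comm]
  nlinarith [Nat.mul_le_mul_left (#(R ⊓ C[S]) * p) a6]

theorem exists_pow_of_mem_zpowers (h : y ∈ zpowers x) : ∃ k : ℕ, x ^ k = y := mem_powers_iff_mem_zpowers.2 h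

theorem mem_C1_of_sq (ho : Odd (orderOf g)) (h : g ^ 2 ∈ C1[x]) : g ∈ C1[x] := by
  obtain ⟨k, e⟩ := ho
  have : g = (g ^ 2) ^ (k + 1) := by
    rw [← pow_mul, show 2 * (k + 1) = 2 * k + 1 + 1 by ring, ← e, pow_succ, pow_orderOf_eq_one, one_mul]
  rw [this]; exact pow_mem h _

omit [Finite G] in
/-- the eigenvalue computation in Blackburn's theorem -/
theorem blackburn_aux {t : G} {i k : ℕ} (hT : Abel T) (h1 : T ≤ S) (h2 : ⁅S, R⁆ ≤ T) (h3 : ⁅S, S⁆ ≤ C[S])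
    (h4 : ⁅S, S⁆ ≤ T) (hx : x ∈ S) (hy : y ∈ R) (hy' : y ∈ C[T]) (ht : t ∈ T) :
    ⁅t * x ^ i, ⁅t * x ^ i, y ^ k⁆⁆ = ⁅x, ⁅x, y⁆⁆ ^ (i * i * k) := by
  have m1 : ∀ s ∈ S, ∀ r ∈ R, ⁅s, r⁆ ∈ T := fun s a r b => h2 (commutator_mem_commutator a b)
  have m2 : ∀ s ∈ S, ∀ r ∈ S, ∀ w ∈ S, Commute ⁅s, r⁆ w := fun s a r b w c =>
    (mem_C.1 (h3 (commutator_mem_commutator a b)) w c).symm
  have cT : ∀ a ∈ T, ∀ b ∈ T, Commute a b := fun a ha b hb => mem_C_comm hT ha hb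
  have xi := S.pow_mem hx i
  have uT := m1 x hx y hy
  have zc := m2 x hx _ (h1 uT)
  -- killing `t`
  have k1 : ∀ w, ⁅x ^ i, w⁆ ∈ T → w ∈ C[T] → ⁅t * x ^ i, w⁆ = ⁅x ^ i, w⁆ := fun w a b => by
    rw [PLoc.commutatorElement_mul_left', (cT t ht _ a).eq,
      commutatorElement_eq_one_iff_mul_comm.2 (mem_C.1 b t ht)]; group
  have k2 : ∀ j : ℕ, ∃ s ∈ ⁅S, S⁆, ⁅x ^ j, y⁆ = s * ⁅x, y⁆ ^ j := fun j => by
    induction j with
    | zero => exact ⟨1, one_mem _, by simp⟩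
    | succ j ih =>
      obtain ⟨s, a, b⟩ := ih
      have wS : ⁅x ^ j, y⁆ ∈ S := h1 (m1 _ (S.pow_mem hx j) y hy)
      refine ⟨⁅x, ⁅x ^ j, y⁆⁆ * s, mul_mem (commutator_mem_commutator hx wS) a, ?_⟩
      rw [pow_succ', PLoc.commutatorElement_mul_left', pow_succ, mul_assoc _ s, ← mul_assoc s, ← b,
        commutatorElement_def x ⁅x ^ j, y⁆]; group
  obtain ⟨s, s1, s2⟩ := k2 i
  have wT := m1 _ xi y hy
  have k3 : ⁅x ^ i, y ^ k⁆ = ⁅x ^ i, y⁆ ^ k := PLoc.commutatorElement_pow_right (mem_C.1 hy' _ wT) k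
  have wkT := T.pow_mem wT k
  rw [k1 _ (m1 _ xi _ (R.pow_mem hy k)) (pow_mem hy' k), k3,
    k1 _ (h4 (commutator_mem_commutator xi (h1 wkT))) (hT wkT),
    PLoc.commutatorElement_pow_left (m2 _ hx _ (h1 wkT) _ hx),
    PLoc.commutatorElement_pow_right (m2 _ hx _ (h1 wT) _ (h1 wT)), s2, PLoc.commutatorElement_mul_right',
    commutatorElement_eq_one_iff_mul_comm.2 (mem_C.1 (h3 s1) x hx), one_mul,
    ← (m2 _ hx _ (S.pow_mem (h1 uT) i) _ (der_le S s1)).eq, mul_inv_cancel_right,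
    PLoc.commutatorElement_pow_right (zc _ (h1 uT)), ← pow_mul, ← pow_mul]
  congr 1; ring

theorem eq_or_eq_of_card (hp : p.Prime) (h : #Y = #D * p) (h1 : D ≤ X) (h2 : X ≤ Y) : X = D ∨ X = Y := by
  refine eq_or_eq_of_relIndex_prime ?_ h1 h2
  have := card_mul_relIndex (h1.trans h2)
  rw [h] at this
  rwa [Nat.eq_of_mul_eq_mul_left (card_pos D) this]

theorem blackburn_case (hp : p.Prime) (hR : PiG {p} R) (ho : Odd #R) (h2 : ⁅R, A⁆ = R) (hA : PiG {p}ᶜ A)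
    (ho' : Odd #A) (hS : Ω[p](R) = S) (eS : ∀ x ∈ S, x ^ p = 1) (cS : #S = p ^ 3) (aS : ¬ Abel S)
    (hC : Cyc (R ⊓ C[S])) : ⁅S, R⁆ ≤ ⁅S, S⁆ := by
  by_contra hn
  have nA : A ≤ N[R] := h2 ▸ comm_normr R A
  have sR : S ≤ R := hS ▸ Om_le p R
  have nS : R ≤ N[S] := hS ▸ Om_norm p R
  have nSA : A ≤ N[S] := hS ▸ normOm p nA
  obtain ⟨a1, a2⟩ := p3_der hp cS aS
  set T := ⁅S, R⁆ with hT
  have t1 : T < S := (hR.of_le sR).comm_lt hR nS fun e => aS (e ▸ abel_bot)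
  have t2 : ⁅S, S⁆ ≤ T := commS le_rfl sR
  have t3 : #T = p ^ 2 := Nat.dvd_antisymm (card_dvd_of_lt_pow hp t1 cS.dvd)
    (((hR.of_le (t1.le.trans sR)).card_dvd_or hp 1).resolve_left fun e =>
      hn (eq_of_card_le t2 (by rw [a1]; exact Nat.le_of_dvd hp.pos (by simpa using e))).ge)
  have t4 : Abel T := abel_of_card_sq hp t3
  have nT : R ≤ N[T] := comm_normr _ _
  have nTA : A ≤ N[T] := normR nSA nA
  have t5 : #S = #T * p := by rw [cS, t3, pow_succ]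
  obtain ⟨x, hx, x2⟩ := SetLike.not_le_iff_exists.1 fun e : S ≤ C[T] => hn (a2 ▸ le_inf t1.le (cent_symm e))
  have t6 : S ⊓ C[T] = T := (eq_or_eq_of_card hp t5 (le_inf t1.le t4) inf_le_left).resolve_right
    fun e => x2 (e.ge hx).2
  have t7 : T ⊔ zpowers x = S := (eq_or_eq_of_card hp t5 le_sup_left (sup_le t1.le (zpowers_le.2 hx))).resolve_left
    fun e => x2 (t4 (e ▸ mem_sup_right (mem_zpowers x)))
  set B := R ⊓ C[T]
  set C := R ⊓ C[S]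
  have nB : R ≤ N[B] := normI (normG R) (normC nT)
  have nBA : A ≤ N[B] := normI nA (normC nTA)
  have nC : R ≤ N[C] := normI (normG R) (normC nS)
  have nCA : A ≤ N[C] := normI nA (normC nSA)
  have b1 : S ⊔ B = R := by
    have e : B.relIndex R = p := by
      have := idx_cent_sq hp hR nT t3.dvd
      rw [← inf_relIndex_right, inf_comm] at this
      exact ((Nat.dvd_prime hp).1 this).resolve_left fun e => x2 (relIndex_eq_one.1 e (sR hx)).2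
    exact (eq_or_eq_of_relIndex_prime (e ▸ hp) le_sup_right (sup_le sR inf_le_left)).resolve_left
      fun e => x2 (e.le (mem_sup_left hx)).2
  have b2 : T ≤ B := le_inf (t1.le.trans sR) t4
  have b3 : C ≤ B := inf_le_inf_left _ (centS t1.le)
  have b4 : ⁅⁅S, B⁆, B⁆ = ⊥ := comm_eq_bot'.2 (centSS inf_le_right le_rfl (commS le_rfl inf_le_left))
  have b5 : Abelem p (B ÷ C) := by
    refine (abelem_im_iff (φ := quo C) (inf_le_left.trans nC)).2 ?_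
    rw [quo_ker]
    refine ⟨le_inf ((der_le B).trans inf_le_left) (comm_eq_bot.1 (three_subgroup (commC S B ▸ b4) b4)),
      fun b hb => ⟨pow_mem hb.1 p, mem_C.2 fun s hs => ?_⟩⟩
    have c : ⁅s, b⁆ ∈ T := commutator_mem_commutator hs hb.1
    rw [← commutatorElement_eq_one_iff_mul_comm, PLoc.commutatorElement_pow_right (mem_C.1 hb.2 _ c), eS _ (t1.le c)]
  obtain ⟨X', d, nX'⟩ := maschke hp b5 (im_mono b2) (im_norm nBA) (im_norm nTA) (hA.im (quo C))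
  obtain ⟨X, x3, x4, rfl⟩ := exists_quo_eq (inf_le_left.trans nC) b3 d.right
  have xR := x4.trans inf_le_left
  have nXA : A ≤ N[X] := norm_of_im (φ := quo C) nCA (xR.trans nC) (by rwa [quo_ker]) nX'
  have cX : Cyc X := odd_cyc_of_Om (hR.of_le xR) (odd_of_le ho xR) (hC.of_le
    ((quo_bot_iff (((Om_le _ _).trans xR).trans nC)).1 (eq_bot_iff.2 (d.inf ▸ le_inf (im_mono (t6 ▸ le_inf
      (hS ▸ Om_mono xR) ((Om_le _ _).trans (x4.trans inf_le_right)))) (im_mono (Om_le _ _))))))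
  have b6 : B ≤ T ⊔ X := le_of_im_le (φ := quo C) (inf_le_left.trans nC)
    ((sup_le (t1.le.trans sR) xR).trans nC) (by rw [quo_ker]; exact x3.trans le_sup_right)
    (by rw [im_sup ((t1.le.trans sR).trans nC) (xR.trans nC), d.sup])
  obtain ⟨y, rfl⟩ := cyc_iff.1 cX
  have hy := x4 (mem_zpowers y)
  have nD : R ≤ N[⁅S, S⁆] := normD nS
  have u1 : ⁅x, y⁆ ∉ ⁅S, S⁆ := fun e => hn (by
    have e2 : R ≤ S ⊔ zpowers y := b1.ge.trans (sup_le le_sup_left (b6.trans (sup_le_sup_right t1.le _)))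
    refine (commS le_rfl e2).trans (comm_sup_le' le_rfl ?_ (sR.trans nD) (xR.trans nD))
    refine (commS t7.ge le_rfl).trans (comm_sup_le ?_ (comm_zpowers_zpowers (nD (sR hx)) (nD hy.1) e)
      ((t1.le.trans sR).trans nD) (zpowers_le.2 (nD (sR hx))))
    rw [comm_eq_bot'.2 (zpowers_le.2 hy.2)]; exact bot_le)
  have u2 : ⁅x, y⁆ ∈ T := commutator_mem_commutator hx hy.1
  have z1 : ⁅x, ⁅x, y⁆⁆ ≠ 1 := fun e => u1 (a2 ▸ ⟨t1.le u2, by
    rw [← t7, C_sup, C_zpowers]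
    exact ⟨t4 u2, mem_C1'.2 (commutatorElement_eq_one_iff_mul_comm.1 e)⟩⟩)
  have z2 : ⁅x, ⁅x, y⁆⁆ ∈ ⁅S, S⁆ := commutator_mem_commutator hx (t1.le u2)
  have z3 : orderOf ⁅x, ⁅x, y⁆⁆ = p := orderOf_of_pow hp (pow_eq_one_of_card a1 z2) z1
  obtain ⟨j, z4⟩ := exists_pow_of_mem_zpowers (x3 ⟨sR (der_le S z2), (a2.ge z2).2⟩)
  have key : ∀ a ∈ A, x * a * x⁻¹ * a⁻¹ ∈ B := fun a ha => by
    obtain ⟨t, c1, _, c2, c3⟩ := (mem_sup_l (zpowers_le.2 (nT (sR hx)))).1 (t7.ge (conj_mem (nSA ha) hx))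
    obtain ⟨i, rfl⟩ := exists_pow_of_mem_zpowers c2
    obtain ⟨k, c4⟩ := exists_pow_of_mem_zpowers (conj_mem (nXA ha) (mem_zpowers y))
    have c5 := blackburn_aux (i := i) (k := k) t4 t1.le le_rfl (a2.ge.trans inf_le_right) t2 hx hy.1 hy.2 c1
    have c6 : ∀ u v : G, ⁅a * u * a⁻¹, a * v * a⁻¹⁆ = a * ⁅u, v⁆ * a⁻¹ := fun u v => by
      simp only [commutatorElement_def]; group
    rw [← c3, c4, c6, c6] at c5
    have c7 : a * ⁅x, ⁅x, y⁆⁆ * a⁻¹ = ⁅x, ⁅x, y⁆⁆ ^ k := by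
      rw [← z4, ← conj_pow, ← c4, ← pow_mul, ← pow_mul, mul_comm]
    have c8 : ¬ p ∣ k := fun e => z1 (by
      rw [← z3, orderOf_dvd_iff_pow_eq_one, ← c7] at e
      simpa using e)
    rw [c7, pow_eq_pow_iff_modEq, z3] at c5
    have c9 : 1 ≡ i * i [MOD p] := Nat.ModEq.cancel_right_of_coprime
      ((Nat.Prime.coprime_iff_not_dvd hp).2 c8) (by rwa [one_mul])
    have dx : x ∈ (quo B).dom := nB (sR hx)
    have da : a ∈ (quo B).dom := nBA ha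
    have d1 : (quo B).app a * (quo B).app x * ((quo B).app a)⁻¹ = (quo B).app x ^ i := by
      rw [← app_conj da dx, c3, app_mul (nB (b2 c1).1) (pow_mem dx i), app_pow dx,
        (mem_ker.1 (by rw [quo_ker]; exact b2 c1)).2, one_mul]
    have d2 : (quo B).app a ∈ C1[(quo B).app x] := by
      refine mem_C1_of_sq ((ho'.of_dvd_nat (orderOf_dvd ha)).of_dvd_nat (orderOf_app_dvd da)) (mem_C1.2 ?_)
      have : (quo B).app x ^ (i * i) = (quo B).app x := by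
        rw [← pow_one ((quo B).app x), ← pow_mul, one_mul, pow_eq_pow_iff_modEq]
        refine c9.symm.of_dvd (orderOf_dvd_of_pow_eq_one ?_)
        rw [← app_pow dx, eS x hx, app_one]
      rw [← mul_inv_eq_iff_eq_mul]
      calc _ = (quo B).app a * ((quo B).app a * (quo B).app x * ((quo B).app a)⁻¹) * ((quo B).app a)⁻¹ := by
            rw [sq]; group
        _ = _ := by rw [d1, ← conj_pow, d1, ← pow_mul, this]
    rw [← quo_ker B]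
    refine mem_ker.2 ⟨mul_mem (mul_mem (mul_mem dx da) (inv_mem dx)) (inv_mem da), ?_⟩
    rw [app_mul (mul_mem (mul_mem dx da) (inv_mem dx)) (inv_mem da), app_conj dx da, app_inv da, ← mem_C1.1 d2]
    group
  have f : ⁅R, A⁆ ≤ B := (commS b1.ge le_rfl).trans (comm_sup_le ((commS t7.ge le_rfl).trans (comm_sup_le
    ((commL nTA).trans b2) (comm_zpowers_le (nB (sR hx)) key) ((t1.le.trans sR).trans nB)
    (zpowers_le.2 (nB (sR hx))))) (commL nBA) (sR.trans nB) (normG B))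
  exact x2 (f (h2.ge (sR hx))).2

theorem rank2_cop_comm_cprod' (hR : PiG {p} R) (ho : Odd #R) (h1 : R ≠ ⊥) (h : r[p](R) ≤ 2) (h2 : ⁅R, A⁆ = R)
    (hA : PiG {p}ᶜ A) (ho' : Odd #A) :
    3 < p ∧ (Abel R ∨ (Ω[p](R) ⊔ (R ⊓ C[Ω[p](R)]) = R ∧ ¬ Abel Ω[p](R) ∧ #Ω[p](R) = p ^ 3 ∧
      (∀ x ∈ Ω[p](R), x ^ p = 1) ∧ Cyc (R ⊓ C[Ω[p](R)]) ∧ Ω[p](R ⊓ C[Ω[p](R)]) = ⁅Ω[p](R), Ω[p](R)⁆)) := by
  have hp := hR.prime h1
  have nA : A ≤ N[R] := h2 ▸ comm_normr R A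
  have h3 : 3 < p := by
    obtain ⟨q, hq, a⟩ := Nat.exists_prime_and_dvd (n := (C[R]).relIndex A)
      fun e => h1 (h2 ▸ comm_eq_bot'.2 (relIndex_eq_one.1 e))
    have b := a.trans (relIndex_dvd _ _)
    have c := (pi_aut_rank2 hp hR ho h nA hq a (hA q hq b)).2.1
    have d := ho'.of_dvd_nat b
    have := hq.two_le
    have : q ≠ 2 := by rintro rfl; exact absurd d (by decide)
    omega
  refine ⟨h3, ?_⟩
  have sR := Om_le p R
  rcases (hR.of_le sR).card_dvd_or hp 2 with e | e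
  · exact Or.inl (h2 ▸ (cop_metacyc_cent_sdprod hR ho (p2_Om_metacyc hp hR h3 e) hA nA).1)
  have eS := exp_Om_rank2 hR h h3
  have rS := (pRank_mono hp sR).trans h
  have cS := Nat.dvd_antisymm (rank2_exp_p3group hp (hR.of_le sR) rS eS) e
  have aS : ¬ Abel Ω[p](R) := fun a => absurd ((PnElem.le_pRank ⟨sR, ⟨a, eS⟩, cS⟩ hp).trans h) (by norm_num)
  obtain ⟨a1, a2⟩ := p3_der hp cS aS
  have a3 : Ω[p](R ⊓ C[Ω[p](R)]) = ⁅Ω[p](R), Ω[p](R)⁆ := le_antisymm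
    (a2 ▸ le_inf (Om_mono inf_le_left) ((Om_le _ _).trans inf_le_right))
    (le_Om_of_card a1 (a2 ▸ inf_le_inf_right _ sR))
  have a4 := odd_cyc_of_unique (hR.of_le inf_le_left) (odd_of_le ho inf_le_left) (a3 ▸ a1.dvd)
  exact Or.inr ⟨(p3_cprod hp hR sR cS aS (blackburn_case hp hR ho h2 hA ho' rfl eS cS aS a4)).sup,
    aS, cS, eS, a4, a3⟩

/-- BG 4.16 (Blackburn) -/
theorem rank2_cop_comm_cprod (hR : PiG {p} R) (ho : Odd #R) (h1 : R ≠ ⊥) (h : r[p](R) ≤ 2) (h2 : ⁅R, A⁆ = R)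
    (hA : PiG {p}ᶜ A) (ho' : Odd #A) :
    3 < p ∧ (Abel R ∨ ∃ S D, S ⊔ D = R ∧ D ≤ C[S] ∧ ¬ Abel S ∧ #S = p ^ 3 ∧ (∀ x ∈ S, x ^ p = 1) ∧ Cyc D ∧
      Ω[p](D) = ⁅S, S⁆) :=
  (rank2_cop_comm_cprod' hR ho h1 h h2 hA ho').imp_right (Or.imp_right fun a => ⟨_, _, a.1, inf_le_right, a.2⟩)

end Cfsg.Agent.BG
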