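import Cfsg.Agent.BG.S03a
import Cfsg.Agent.BG.S04b
/-!
Bender–Glauberman, Theorem 3.6.
-/
set_option autoImplicit false
set_option linter.unusedSectionVars false
set_option linter.unusedVariables false

namespace Cfsg.Agent.BG
open Subgroup PHom

variable {G : Type*} [Group G] [Finite G] {G' : Type*} [Group G'] [Finite G']
variable {A B C D E H K L M N P Q R S T U V W X Y Z : Subgroup G} {x y g : G} {π ρ : Set ℕ} {p q r m n : ℕ}
  {φ : PHom G G'}

theorem mem_of_sq_odd (ho : Odd (orderOf g)) (h : g ^ 2 ∈ H) : g ∈ H := by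
  obtain ⟨k, hk⟩ := ho
  have := pow_mem h (k + 1)
  rwa [← pow_mul, show 2 * (k + 1) = orderOf g + 1 by omega, pow_succ, pow_orderOf_eq_one, one_mul] at this

theorem der_comm_le_of_cyc_quo (h1 : K ≤ N[B]) (h2 : A ≤ N[B]) (h3 : A ≤ N[K]) (h : Cyc (K ÷ B)) :
    ⁅K, ⁅A, A⁆⁆ ≤ B := by
  rw [commC, ← quo_cent_iff ((der_le A).trans h2) h1, im_der (φ := quo B) h2]
  exact h.der_cent (im_norm h3)

/-- the "trace" of `v` under the cyclic group generated by `x` -/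
theorem trace_mem {v : G} (hn : 0 < n) (h : ∀ i, 0 < i → i < n → x ^ i * v * (x ^ i)⁻¹ ∈ W) :
    v⁻¹ * ((v * x) ^ n * (x ^ n)⁻¹) ∈ W := by
  induction n, hn using Nat.le_induction with
  | base => simp
  | succ n hn ih =>
    have := mul_mem (ih fun i a b => h i a (by omega)) (h n hn (by omega))
    convert this using 1
    rw [pow_succ (v * x), pow_succ x]; group

theorem bg36_final (hp : p.Prime) (hq : q.Prime) (hV : Abelem p V) (hK : Abelem q K) (hpq : q ≠ p) (nKV : K ≤ N[V])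
    (h0 : V ⊓ C[K] = ⊥) (hP : PiG {p} P) (nPV : P ≤ N[V]) (nPK : P ≤ N[K]) (nTV : T ≤ N[V]) (nTK : T ≤ N[K])
    (nTP : T ≤ N[P]) (hT : (#T).Prime) (hc : (#T).Coprime #P) (hc' : #T ≠ p) (oT : Odd #T) (oP : Odd #P)
    (h1 : P ⊓ C[T] = ⊥) (h2 : #(V ⊓ C[T]) = p) (h3 : ⁅K, P⁆ = K) : P ≤ C[V] := by
  have pV := hV.pig hp
  have pK : PiG {p}ᶜ K := (hK.pig hq).ne_compl hpq
  have cop : ∀ B ≤ K, (#B).Coprime #V := fun B hB => (pK.of_le hB).coprime' pV
  let Λ : Subgroup G → Prop := fun B => B ≤ K ∧ B.relIndex K = q ∧ V ⊓ C[B] ≠ ⊥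
  have Λcj : ∀ B, Λ B → ∀ g ∈ N[K], g ∈ N[V] → Λ (cj g B) := fun B ⟨a, b, c⟩ g x y =>
    ⟨cj_le_of_mem a x, by rw [← cj_of_mem_N x, relIndex_cj, b], by
      rwa [← cj_of_mem_N y, ← cj_C, ← cj_inf, Ne, cj_eq_bot]⟩
  have indep : ∀ B B', Λ B → Λ B' → B ≠ B' → V ⊓ C[B'] ≤ ⁅V, B⁆ := fun B B' ⟨a, b, c⟩ ⟨a', b', c'⟩ ne => by
    have e : B ⊔ B' = K := (eq_or_eq_of_relIndex_prime (b' ▸ hq) le_sup_right (sup_le a a')).resolve_left fun e =>
      (eq_or_eq_of_relIndex_prime (b ▸ hq) (sup_eq_right.1 e) a').elim (fun e => ne e.symm) fun e => by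
        rw [e, relIndex_self] at b'; exact hq.one_lt.ne b'
    have := (cop_cent_prod (normI (a.trans nKV) (normsG (centSS hK.abel a a')))
      (coprimeS (cop B a) le_rfl inf_le_left) (Or.inl (hK.abel.of_le a).sol)).sup
    rw [inf_assoc, ← C_sup, sup_comm B', e, h0, sup_bot_eq] at this
    exact this.ge.trans (commS inf_le_left le_rfl)
  have dis : ∀ B, Λ B → ∀ v ∈ ⁅V, B⁆, v ∈ C[B] → v = 1 := fun B hB v a b =>
    mem_bot.1 (cop_abel_C_comm hV.abel (hB.1.trans nKV) (cop B hB.1) ▸ mem_inf.2 ⟨a, b⟩)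
  obtain ⟨x, hx, hx1⟩ := exists_mem_ne_one (ne_bot_of_prime hT)
  have ex := eq_zpowers_of_prime hT hx hx1
  have ox : x ^ #T = 1 := pow_eq_one_of_card rfl hx
  have trC : ∀ v ∈ V, (v * x) ^ #T ∈ V ⊓ C[T] := fun v hv => by
    have a := trace_mem (W := V) (v := v) hT.pos fun i _ _ => conj_mem (pow_mem (nTV hx) i) hv
    rw [ox, inv_one, mul_one] at a
    have b : (v * x) ^ #T ∈ V := by simpa using mul_mem hv a
    refine ⟨b, ?_⟩
    have c := mem_C_comm hV.abel b hv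
    have d : Commute ((v * x) ^ #T) (v * x) := (Commute.refl _).pow_left _
    have := (Commute.inv_right c).mul_right d
    rw [inv_mul_cancel_left] at this
    rw [SetLike.mem_coe, ← C1_eq_of_prime hT hx hx1]
    exact mem_C1.2 this
  have tr : ∀ B B', Λ B → Λ B' → (∀ i, 0 < i → i < #T → B' ≠ cj (x ^ i) B) → ∀ v ∈ V ⊓ C[B],
      v⁻¹ * (v * x) ^ #T ∈ ⁅V, B'⁆ := fun B B' a b c v hv => by
    have := trace_mem (W := ⁅V, B'⁆) (v := v) (x := x) hT.pos fun i i0 i1 =>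
      indep _ _ b (Λcj B a _ (pow_mem (nTK hx) i) (pow_mem (nTV hx) i)) (c i i0 i1)
        ⟨conj_mem (pow_mem (nTV hx) i) hv.1, by rw [← cj_C]; exact mem_cj_conj.2 hv.2⟩
    rwa [ox, inv_one, mul_one] at this
  have tr1 : ∀ B, Λ B → ¬ T ≤ N[B] → ∀ v ∈ V ⊓ C[B], v⁻¹ * (v * x) ^ #T ∈ ⁅V, B⁆ := fun B a b =>
    tr B B a a fun i i0 i1 e => b (le_of_prime hT (ne_bot_of_mem (mem_inf.2 ⟨pow_mem hx i, mem_N_iff_cj.2 e.symm⟩)
      (pow_ne_one_of_lt_orderOf i0.ne' (by rwa [← card_zpowers', ex]))))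
  have gen : ∀ B, Λ B → ¬ T ≤ N[B] → ∀ v ∈ V ⊓ C[B], v ≠ 1 → zpowers ((v * x) ^ #T) = V ⊓ C[T] :=
    fun B a b v hv hv1 => eq_zpowers_of_prime (h2 ▸ hp) (trC v hv.1) fun e => hv1 (by
      have := tr1 B a b v hv
      rw [e, mul_one] at this
      exact dis B a v (by simpa using this) hv.2)
  have star : ∀ B B', Λ B → Λ B' → ¬ T ≤ N[B] → ¬ T ≤ N[B'] → ∃ z ∈ T, cj z B = B' := fun B B' a a' b b' => by
    by_contra hc
    push Not at hc
    obtain ⟨v, hv, hv1⟩ := exists_mem_ne_one a.2.2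
    obtain ⟨w, hw, hw1⟩ := exists_mem_ne_one a'.2.2
    have c := mul_mem (indep _ _ a' a (fun e => hc 1 (one_mem _) (by rw [cj_one, e])) hv)
      (tr B B' a a' (fun i _ _ e => hc _ (pow_mem hx i) e.symm) v hv)
    rw [mul_inv_cancel_left, ← zpowers_le, gen B a b v hv hv1] at c
    have := mul_mem (tr1 B' a' b' w hw) (inv_mem (c (trC w hw.1)))
    exact hw1 (dis B' a' w (by simpa using this) hw.2)
  have ePT : ⁅P, T⁆ = P := by
    have := (cop_cent_prod nTP hc (Or.inr hP.sol)).sup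
    rwa [h1, sup_bot_eq] at this
  have noT : ∀ B, Λ B → ¬ T ≤ N[B] := fun B a b => by
    have nP : ¬ P ≤ N[B] := fun c => by
      have := der_comm_le_of_cyc_quo (abel_norm hK.abel a.1) (sup_le c b) (sup_le nPK nTK)
        (cyc_quo_of_idx hq (abel_norm hK.abel a.1) a.2.1.dvd)
      have d : K ≤ B := h3.ge.trans ((commS le_rfl (ePT.ge.trans (commS le_sup_left le_sup_right))).trans this)
      have := a.2.1
      rw [relIndex_eq_one.2 d] at this; exact hq.one_lt.ne this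
    obtain ⟨y, ⟨hy, hy1⟩, hy2⟩ := SetLike.exists_of_lt
      (hP.nil.lt_norm (lt_of_le_of_ne (inf_le_left : P ⊓ N[B] ≤ P) fun e => nP (e.ge.trans inf_le_right)))
    have key : ∀ y ∈ P, y ∉ N[B] → ¬ T ≤ N[cj y B] := fun y c d e => by
      obtain ⟨k, hk, e2⟩ := cop_conj_cent nTP hc (Or.inr hP.sol) b e c
      rw [h1, mem_bot] at hk
      exact d (mem_N_iff_cj.2 (by rw [← e2, hk, cj_one]))
    have hy3 : y ∉ N[B] := fun c => hy2 ⟨hy, c⟩
    obtain ⟨z, hz, e⟩ := star _ _ (Λcj B a y (nPK hy) (nPV hy)) (Λcj B a y⁻¹ (nPK (inv_mem hy)) (nPV (inv_mem hy)))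
      (key y hy hy3) (key _ (inv_mem hy) fun c => hy3 (by simpa using c))
    have ez := cj_of_mem_N (b hz)
    have c : y * (z * y * z⁻¹) ∈ P ⊓ N[B] := ⟨mul_mem hy (conj_mem (nTP hz) hy), mem_N_iff_cj.2 (by
      rw [cj_mul, cj_mul, cj_mul, cj_of_mem_N (b (inv_mem hz)), e, cj_cj_inv])⟩
    have d : z ^ 2 ∈ N[cj y B] := mem_N_iff_cj.2 (by
      have := cj_of_mem_N (conj_mem' hy1 (inv_mem c)).2
      rw [pow_two, cj_mul, e]
      conv_rhs => rw [← this, ← ez]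
      rw [← cj_mul, ← cj_mul, ← cj_mul]
      congr 1; group)
    have z1 : z = 1 := mem_bot.1 (inf_bot_of_prime hT (key y hy hy3) ▸ mem_inf.2
      ⟨hz, mem_of_sq_odd (oT.of_dvd_nat (orderOf_dvd hz)) d⟩)
    rw [z1, one_mul, inv_one, mul_one, ← pow_two] at c
    exact hy3 (mem_of_sq_odd (oP.of_dvd_nat (orderOf_dvd hy)) c.2)
  refine cent_symm (cop_gen_cocyc hK.abel nKV (cop K le_rfl) fun B hB cB => ?_)
  by_cases c : V ⊓ C[B] = ⊥
  · rw [c]; exact bot_le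
  have a : Λ B := ⟨hB, by
    have := (hK.im (quo B)).cyc_card hq cB
    rw [card_quo (abel_norm hK.abel hB)] at this
    exact ((Nat.dvd_prime hq).1 this).resolve_left fun e => c (by
      rw [le_antisymm hB (relIndex_eq_one.1 e), h0]), c⟩
  have nP : P ≤ N[B] := by
    have pr : IsProd T ((P ⊔ T) ⊓ N[B]) (P ⊔ T) := ⟨le_sup_right, inf_le_left, fun g hg => by
      have b := Λcj B a g (sup_le nPK nTK hg) (sup_le nPV nTV hg)
      obtain ⟨z, hz, e⟩ := star _ _ a b (noT _ a) (noT _ b)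
      exact ⟨z, hz, z⁻¹ * g, mem_inf.2 ⟨mul_mem (inv_mem (le_sup_right (a := P) hz)) hg,
        mem_N_iff_cj.2 (by rw [cj_mul, ← e, cj_inv_cj])⟩, by group⟩⟩
    have pT : PiG {p}ᶜ T := pig_of_card hT rfl hc'
    have hPs : Syl p P (P ⊔ T) := (isProd_l nTP).hall hP pT
    obtain ⟨S, hS⟩ := syl_exists hp ((P ⊔ T) ⊓ N[B])
    have hS' := hS.trans' inf_le_left (by rw [pr.symm.relIndex]; exact pT.relIndex _)
    rw [← hS'.eq_of_le hPs (hPs.le_of_normal (sup_le (normG P) nTP) hS.pi hS'.le)]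
    exact hS.le.trans inf_le_right
  obtain ⟨v, ⟨hv, hv2⟩, hv1⟩ := exists_mem_ne_one ((pV.of_le inf_le_left).meet_C hP (normI nPV (normC nP)) c)
  intro w hw
  obtain ⟨k, hk⟩ := exists_pow_of_mem_zpowers ((gen B a (noT B a) v hv hv1).symm ▸ trC w hw.1)
  have b := mul_mem (tr1 B a (noT B a) w hw) (inv_mem (pow_mem (tr1 B a (noT B a) v hv) k))
  rw [Commute.mul_pow (mem_C_comm hV.abel (inv_mem hv.1) (trC v hv.1).1), hk] at b
  have := dis B a (w⁻¹ * v ^ k) (by convert b using 1; group) (mul_mem (inv_mem hw.2) (pow_mem hv.2 k))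
  rw [inv_mul_eq_one] at this
  exact this ▸ pow_mem hv2 k

theorem bg36_abel (hp : p.Prime) (hV : Abelem p V) (hK : Nil K) (pK : PiG {p}ᶜ K) (nKV : K ≤ N[V])
    (h0 : K ⊓ C[V] = ⊥) (hP : PiG {p} P) (nPK : P ≤ N[K]) (nTV : T ≤ N[V]) (nTK : T ≤ N[K]) (nTP : T ≤ N[P])
    (hT : (#T).Prime) (hc : (#T).Coprime #P) (hc' : (#T).Coprime #K) (oT : Odd #T) (oP : Odd #P) (oK : Odd #K)
    (h1 : ⁅P, T⁆ = P) (hZ : ZG (K ⊓ C[T])) (h2 : #(V ⊓ C[T]) = p) (h3 : ¬ P ≤ C[K])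
    (hm : ∀ X < K, P ≤ N[X] → T ≤ N[X] → P ≤ C[X]) : ∃ q, q.Prime ∧ q ≠ p ∧ Abelem q K ∧ ⁅K, P⁆ = K := by
  obtain ⟨q, hq, qK⟩ : ∃ q, q.Prime ∧ PiG {q} K := by
    by_contra hc
    push Not at hc
    exact h3 (cent_symm (hK.le_of_O fun q hq _ => cent_symm (hm _ (lt_of_le_of_ne (O_le _ _) fun e =>
      hc q hq (e ▸ O_pig _ _)) (normO _ nPK) (normO _ nTK))))
  have K0 : K ≠ ⊥ := fun e => h3 (by rw [e, C_bot]; exact le_top)
  have hqp : q ≠ p := qK.mem_of_ne K0 pK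
  have qP : PiG {q}ᶜ P := hP.ne_compl hqp.symm
  have qT : PiG {q}ᶜ T := (pin_compl_cop hq).2 (hc'.coprime_dvd_right (qK.dvd K0))
  obtain ⟨H, a, -, b, c, d, e⟩ := critical_odd qK oK K0
  obtain rfl : H = K := by_contra fun ne => h3 (e P nPK qP (hm H (lt_of_le_of_ne a ne) (nPK.trans b) (nTK.trans b)))
  have cPH : (#P).Coprime #H := qP.coprime' qK
  have e1 : ⁅H, P⁆ = H := by_contra fun ne => h3 (cent_symm (cop_cent_of_comm_cent nPK cPH (Or.inr hK.sol)
    (cent_symm (hm _ (lt_of_le_of_ne (commL nPK) ne) (comm_normr _ _) (normR nTK nTP)))))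
  refine ⟨q, hq, hqp, ⟨?_, d⟩, e1⟩
  have nA : P ⊔ T ≤ N[H] := sup_le nPK nTK
  have oA : Odd #(P ⊔ T) := (oP.mul oT).of_dvd_nat (card_sup_dvd_l nTP)
  have qA : PiG {q}ᶜ (P ⊔ T) := qP.sup_l qT nTP
  have hPA : P ≤ ⁅P ⊔ T, P ⊔ T⁆ := h1.ge.trans (commS le_sup_left le_sup_right)
  have nT := nTK.trans (normD le_rfl)
  have f1 : ¬ H ⊓ C[T] ≤ ⁅H, H⁆ := fun f => by
    have sd := (sdprod_sup (inf_bot_of_coprime hc.symm) nTP).im_cop (φ := quo ⁅H, H⁆) (normD nA) hc.symm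
    have := odd_prime_sdprod_abelem_cent ((hP.sol.sup_l (cyc_of_prime hT).sol nTP).im _) (odd_im oA _) sd
      (cop_im hc _) (by
        rw [card_im_inj (φ := quo _) nT (by simpa using inf_bot_of_coprime (coprimeS hc' le_rfl (der_le H)))]
        exact hT) hq ((abelem_im_iff (φ := quo ⁅H, H⁆) (der_norm H)).2 ⟨by simp, fun x hx => by simp [d x hx]⟩)
      (im_norm nA) (qA.im _) (by
        rw [← im_IC' (φ := quo _) nT (der_norm H) (by simpa using der_le H)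
          (by simpa using coprimeS hc' le_rfl (der_le H)) (Or.inl (cyc_of_prime hT).sol),
          quo_bot_iff (inf_le_left.trans (der_norm H))]
        exact f)
    rw [← im_comm (φ := quo _) (normD nPK) nT, h1, quo_cent_iff (normD nPK) (der_norm H), commC, e1] at this
    exact (hK.sol.der_lt K0).not_ge this
  have f2 : #(H ⊓ C[T]) = q := ((Nat.dvd_prime hq).1 (cyc_exp_card hq (hZ q hq _ le_rfl (qK.of_le inf_le_left))
    fun x hx => d x hx.1)).resolve_left fun e => f1 (by rw [card_eq_one.1 e]; exact bot_le)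
  have l0 : ⁅H, T⁆ ≤ H := commL nTK
  have f3 : ⁅H, T⁆ ⊓ C[T] = ⊥ := by_contra fun f => f1 (by
    have g : H ⊓ C[T] ≤ ⁅H, T⁆ := le_of_prime (f2 ▸ hq) fun e => f (le_bot_iff.1
      (e ▸ le_inf (inf_le_inf_right _ l0) inf_le_left))
    rw [← quo_bot_iff (inf_le_left.trans (der_norm H)), ← le_bot_iff,
      ← cop_abel_C_comm ((quo_abel_iff (der_norm H)).2 le_rfl) (im_norm nTK) (cop_im hc' _),
      ← im_comm (φ := quo _) (der_norm H) nT]
    exact le_inf (im_mono g) (im_cent inf_le_right))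
  have f4 : Abel ⁅H, T⁆ := by
    have sd := sdprod_sup (inf_bot_of_coprime (coprimeS hc'.symm l0 le_rfl)) (comm_normr H T)
    have := frob_prime_cent_prime ((hK.of_le l0).sol.sup_l (cyc_of_prime hT).sol sd.norm) sd hT f3 hp hV
      (sup_le (l0.trans nKV) nTV) (pK.of_le l0) h2
    exact abel_iff_der.2 (le_bot_iff.1 (h0 ▸ le_inf ((der_le _).trans l0) this))
  have f5 : ¬ H ≤ ⁅H, T⁆ := fun f => f1 ((inf_le_inf_right _ f).trans (f3.le.trans bot_le))
  have f6 : ⁅H, T⁆.relIndex H = q := by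
    refine ((Nat.dvd_prime hq).1 ?_).resolve_left fun e => f5 (relIndex_eq_one.1 e)
    rw [(cop_cent_prod nTK hc' (Or.inr hK.sol)).relIndex, ← f2]; exact relIndex_dvd _ _
  have n0 := comm_norml H T
  have f7 : ¬ P ≤ N[⁅H, T⁆] := fun f => f5 (e1.ge.trans ((commS le_rfl hPA).trans
    (der_comm_le_of_cyc_quo n0 (sup_le f (comm_normr _ _)) nA (cyc_quo_of_idx hq n0 f6.dvd))))
  obtain ⟨y, hy, hy1⟩ := SetLike.not_le_iff_exists.1 f7
  generalize ⁅H, T⁆ = B at l0 f4 f6 n0 hy1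
  have l1 : cj y B ≤ H := cj_le_of_mem l0 (nPK hy)
  have f8 : B ⊔ cj y B = H := (eq_or_eq_of_relIndex_prime (f6 ▸ hq) le_sup_left (sup_le l0 l1)).resolve_left
    fun e => hy1 (mem_N_of_cj_le (sup_eq_left.1 e))
  have f9 : B ⊓ cj y B ≤ Z[H] := le_inf (inf_le_left.trans l0)
    (f8 ▸ centY (inf_le_left.trans f4) (inf_le_right.trans (abel_cj.2 f4)))
  have nZ : H ≤ N[Z[H]] := normZ (normG H)
  have f10 : #(H ÷ Z[H]) ∣ q ^ 2 := by
    rw [card_quo nZ]
    refine (relIndex_dvd_left f9 H).trans ?_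
    rw [← relIndex_mul_relIndex _ _ _ inf_le_right l1, inf_relIndex_right, pow_two]
    refine mul_dvd_mul (f6 ▸ relIndex_dvd_of_norm l0 l1 (l1.trans n0)) ?_
    rw [← cj_of_mem_N (nPK hy), relIndex_cj, f6]
  have := der_odd_rank2_cent hq ((abelem_im_iff (φ := quo Z[H]) nZ).2 ⟨by simpa using c, fun x hx => by simp [d x hx]⟩)
    (pRank_le_of_dvd hq f10) (im_norm nA) (odd_im oA _) (qA.im _)
  rw [← im_der (φ := quo _) (normZ nA)] at this
  have := (im_mono hPA).trans this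
  rw [quo_cent_iff (normZ nPK) nZ, commC, e1] at this
  exact this.trans inf_le_right

theorem bg36_aux (hp : p.Prime) (n : ℕ) : ∀ {G : Type _} [Group G] [Finite G] {H R T : Subgroup G}, #H = n → Sol H →
    Odd #H → Odd #T → R ≤ N[H] → (#R).Coprime #H → T ≤ R → (#T).Prime → ZG (H ⊓ C[T]) → PL1 p ⁅H, R⁆ := by
  induction n using Nat.strong_induction_on with | _ n ih =>
  intro G _ _ H R T hn hs ho oT nR hc hTR hT hZ
  have IHsub : ∀ L < H, ∀ S, T ≤ S → S ≤ R → S ≤ N[L] → PL1 p ⁅L, S⁆ := fun L a S b c d =>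
    ih _ (hn ▸ card_lt a) rfl (hs.of_le a.le) (odd_of_le ho a.le) oT d (coprimeS hc c a.le) b hT
      (hZ.of_le (inf_le_inf_right _ a.le))
  by_cases eH : ⁅H, R⁆ = H
  swap
  · have := IHsub _ (lt_of_le_of_ne (commL nR) eH) R hTR le_rfl (comm_normr _ _)
    rwa [cop_comm_comm nR hc (Or.inr hs)] at this
  have cT : (#T).Coprime #H := coprimeS hc hTR le_rfl
  have sT := (cyc_of_prime hT).sol
  have IHquo : ∀ X ≤ H, X ≠ ⊥ → H ≤ N[X] → R ≤ N[X] → PL1 p (H ÷ X) := fun X a b c d => by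
    have e : #(T ÷ X) = #T := card_im_inj (φ := quo X) (hTR.trans d)
      (by simpa using inf_bot_of_coprime (coprimeS cT le_rfl a))
    have := ih _ (hn ▸ card_quo_lt c a b) rfl (hs.im _) (odd_im ho _) (e ▸ oT) (im_norm nR) (cop_im hc _)
      (im_mono hTR) (e ▸ hT) (by
        rw [← im_IC' (φ := quo X) (hTR.trans d) c (by simpa) (by simpa using coprimeS cT le_rfl a) (Or.inl sT)]
        exact hZ.im (φ := quo X) (inf_le_left.trans c))
    rwa [← im_comm (φ := quo X) c d, eH] at this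
  rw [eH]
  by_contra npl
  have o1 : O[{p}ᶜ](H) = ⊥ := by_contra fun ne => npl (pl1_of_im (φ := quo O[{p}ᶜ](H)) (O_norm _ _)
    ((O_pig _ H).of_le (by simp)) (IHquo _ (O_le _ _) ne (O_norm _ _) (normO _ nR)))
  have cV := C_O_le hs o1
  have pV := O_pig {p} H
  have lV := O_le {p} H
  have nV := O_norm {p} H
  have nRV := normO {p} nR
  have oV := O_quo_O {p} H
  have hV : Abelem p O[{p}](H) := pV.abelem_of_Phi hp (by_contra fun ne => npl (by
    have nP : H ≤ N[Φ[O[{p}](H)]] := normPhi nV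
    have lP := Phi_le O[{p}](H)
    refine pl1_of_pquo (lP.trans lV) nP (pV.of_le lP) ?_ (IHquo _ (lP.trans lV) ne nP (normPhi nRV))
    obtain ⟨W, a, b, e⟩ := exists_quo_eq nP (lP.trans lV) (O_le {p}ᶜ _)
    have : W ≤ O[{p}](H) := le_of_pig fun s hs' S c d => by
      by_cases e2 : s = p
      · subst e2
        refine le_trans ?_ lP
        rw [← quo_bot_iff ((c.trans b).trans nP)]
        exact (d.im _).eq_bot ((O_pig _ _).of_le (e ▸ im_mono c))
      · refine le_trans (le_inf (c.trans b) (cop_cent_Phi ((c.trans b).trans nV)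
          (PiN.coprime' (d.ne_compl e2) pV) ?_)) cV
        rw [← quo_cent_iff (lV.trans nP) ((c.trans b).trans nP)]
        exact centSS (O_cent_O {p} _) (im_O_le _ _) (e ▸ im_mono c)
    exact PiG.eq_bot (e ▸ PiG.im (pV.of_le this) _) (O_pig _ _)))
  generalize O[{p}](H) = V at *
  have V0 : V ≠ ⊥ := fun e => npl (pl1_of_pig (pV.of_le (le_trans (by rw [e, C_bot]; simp) cV)))
  have pF : PiG {p}ᶜ F[H ÷ V] := by
    have := ((F_nil (H ÷ V)).dprod_O {p}).sup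
    rw [O_F, oV, bot_sup_eq] at this
    exact this ▸ O_pig _ _
  obtain ⟨U, lU, hU, eU⟩ := exists_quo_eq nV lV (F_le (H ÷ V))
  have nU : ∀ X ≤ N[H], X ≤ N[V] → X ≤ N[U] := fun X a b =>
    norm_of_im (φ := quo V) b (hU.trans nV) (by simpa) (by rw [eU]; exact normF (im_norm a))
  obtain ⟨K, hK, nRK⟩ := cop_hall_exists {p}ᶜ (nU R nR nRV) (coprimeS hc le_rfl hU) (hs.of_le hU)
  have lK := hK.le.trans hU
  have nKV := lK.trans nV
  have eK : K ÷ V = F[H ÷ V] := eU ▸ hK.im_eq (φ := quo V) (hU.trans nV) (eU ▸ pF)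
  have iVK : V ⊓ K = ⊥ := pV.inf_bot hK.pi
  have nilK : Nil K := nil_of_im_inj (φ := quo V) nKV (by rw [quo_ker, inf_comm, iVK]) (eK ▸ F_nil _)
  have sU : U ≤ K ⊔ V := (quo_le_iff (hU.trans nV) nKV).1 (by rw [eK, eU])
  have pr : IsProd V (H ⊓ N[K]) H := isProd_of_l (inf_le_left.trans nV) (le_antisymm (sup_le lV inf_le_left)
    ((hK.frattini (hs.of_le hU) hU (nU H (normG H) nV)).sup.ge.trans (sup_le (sU.trans (sup_le
      (le_sup_of_le_right (le_inf lK (normG K))) le_sup_left)) le_sup_right)))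
  have cKV : (#K).Coprime #V := hK.pi.coprime' pV
  have iKV : K ⊓ C[V] = ⊥ := le_bot_iff.1 (iVK ▸ le_inf ((inf_le_inf_right _ lK).trans cV) inf_le_left)
  have K0 : K ≠ ⊥ := fun e => by
    rw [e, im_bot] at eK
    have : H ÷ V = ⊥ := by_contra fun ne => F_ne_bot (hs.im _) ne eK.symm
    exact npl (pl1_of_pig (pV.of_le ((quo_bot_iff nV).1 this)))
  have cK : V ⊓ C[K] = ⊥ := by_contra fun ne => by
    have d := cop_abel_dprod hV.abel nKV cKV
    have n1 : H ≤ N[V ⊓ C[K]] := pr.sup.ge.trans (sup_le (abel_norm hV.abel inf_le_left)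
      (normI (inf_le_left.trans nV) (normC inf_le_right)))
    have n2 : H ≤ N[⁅V, K⁆] := pr.sup.ge.trans (sup_le (comm_norml _ _) (normR (inf_le_left.trans nV) inf_le_right))
    exact npl (pl1_of_quo2 (d.left.trans lV) (d.right.trans lV) n1 n2 d.inf
      (IHquo _ (d.left.trans lV) ne n1 (normI nRV (normC nRK)))
      (IHquo _ (d.right.trans lV) (fun e => K0 (iKV ▸ (inf_eq_left.2 (comm_eq_bot'.1 e)).symm)) n2 (normR nRV nRK)))
  have iN : V ⊓ (H ⊓ N[K]) = ⊥ := by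
    rw [inf_left_comm, cop_inf_N nKV cKV, cK, inf_bot_eq]
  have mod : ∀ X ≤ H ⊓ N[K], (X ⊔ V) ⊓ (H ⊓ N[K]) = X := fun X a => by
    rw [modl_r ((a.trans inf_le_left).trans nV) a, iN, sup_bot_eq]
  have lKN : K ≤ H ⊓ N[K] := le_inf lK (normG K)
  have cK2 : H ⊓ C[K] ≤ K := by
    have : (H ⊓ C[K]) ÷ V ≤ K ÷ V := (im_IC_le _ _).trans (by rw [eK]; exact C_F_le (hs.im _))
    rw [quo_le_iff (inf_le_left.trans nV) nKV] at this
    exact (le_inf this (inf_le_inf_left _ (C_le_N K))).trans (mod K lKN).le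
  have nRN : R ≤ N[H ⊓ N[K]] := normI nR (normN nRK)
  obtain ⟨P, hP, nRP⟩ := cop_syl_exists nRN (coprimeS hc le_rfl inf_le_left) (Or.inr (hs.of_le inf_le_left)) hp
  have lP := hP.le.trans inf_le_left
  have nPK := hP.le.trans inf_le_right
  have iPK : P ⊓ K = ⊥ := hP.pi.inf_bot hK.pi
  have nPK' : ¬ P ≤ K := fun f => npl (pl1_of_normal_syl (pr.hall pV (hP.eq_bot_iff.1 (iPK ▸ (inf_eq_left.2 f).symm))) nV)
  have ncP : ¬ P ≤ C[K] := fun f => nPK' ((le_inf lP f).trans cK2)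
  have ncT : ¬ T ≤ C[K] := fun f => by
    have cy : Cyc K := (hZ.of_le (le_inf lK (cent_symm f))).cyc nilK
    have a : ⁅H ⊓ N[K], R⁆ ≤ K := (le_inf ((commL nRN).trans inf_le_left) ((commS le_sup_left le_sup_right).trans
      (cy.der_cent (sup_le inf_le_right nRK)))).trans cK2
    have b : H ≤ K ⊔ V := by
      have n : H ≤ N[K ⊔ V] := le_antisymm sU (sup_le hK.le lU) ▸ nU H (normG H) nV
      conv_lhs => rw [← eH, ← pr.sup]
      exact comm_sup_le ((commL nRV).trans le_sup_right) (a.trans le_sup_left) (lV.trans n) (inf_le_left.trans n)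
    exact nPK' ((le_inf (lP.trans b) hP.le).trans (mod K lKN).le)
  have pT : PiG {p}ᶜ T := (pin_compl_cop hp).2 (cT.coprime_dvd_right ((pV.dvd V0).trans (cardS lV)))
  have nTK := hTR.trans nRK
  have nTV := hTR.trans nRV
  have nTP := hTR.trans nRP
  have cTK := coprimeS cT le_rfl lK
  have cTP := coprimeS cT le_rfl lP
  have VT : V ⊓ C[T] ≠ ⊥ := fun f => by
    have := odd_prime_sdprod_abelem_cent (nilK.sol.sup_l sT nTK)
      (((odd_of_le ho lK).mul oT).of_dvd_nat (card_sup_dvd_l nTK)) (sdprod_sup (inf_bot_of_coprime cTK.symm) nTK)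
      cTK hT hp hV (sup_le nKV nTV) (hK.pi.sup_l pT nTK) f
    exact ncT (comm_eq_bot'.1 (le_bot_iff.1 (iKV ▸ le_inf (commL nTK) this)))
  have oVT : #(V ⊓ C[T]) = p := ((Nat.dvd_prime hp).1 ((hV.of_le inf_le_left).cyc_card hp
    (hZ p hp _ (inf_le_inf_right _ lV) (pV.of_le inf_le_left)))).resolve_left fun e => VT (card_eq_one.1 e)
  have PT : P ⊓ C[T] = ⊥ := by_contra fun f => by
    have pW : PiG {p} ((V ⊔ P) ⊓ C[T]) := (pV.sup_l hP.pi (lP.trans nV)).of_le inf_le_left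
    have cy := hZ p hp _ (inf_le_inf_right _ (sup_le lV lP)) pW
    exact pW.Om_ne_bot (fun e => f (le_bot_iff.1 (e ▸ inf_le_inf_right _ le_sup_right))) (le_bot_iff.1 (iN ▸ le_inf
      ((cy.Om_le pW (inf_le_inf_right _ le_sup_left) VT).trans inf_le_left)
      ((cy.Om_le pW (inf_le_inf_right _ le_sup_right) f).trans (inf_le_left.trans hP.le))))
  have ePT : ⁅P, T⁆ = P := by
    have := (cop_cent_prod nTP cTP (Or.inl sT)).sup
    rwa [PT, sup_bot_eq] at this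
  have hm : ∀ X < K, P ≤ N[X] → T ≤ N[X] → P ≤ C[X] := fun X a b c => by
    have lL : X ⊔ P ⊔ V ≤ H := sup_le (sup_le (a.le.trans lK) lP) lV
    have nT : T ≤ N[X ⊔ P ⊔ V] := normY (normY c nTP) nTV
    have pl := IHsub (X ⊔ P ⊔ V) (lt_of_le_of_ne lL fun e => a.not_ge (by
      have := (le_inf (lK.trans e.ge) lKN).trans (mod _ (sup_le (a.le.trans lKN) hP.le)).le
      have := (le_inf this le_rfl).trans (modl_l b a.le).le
      rwa [iPK, sup_bot_eq] at this)) T le_rfl hTR nT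
    have nL := comm_norml (X ⊔ P ⊔ V) T
    have lP' : P ≤ ⁅X ⊔ P ⊔ V, T⁆ := ePT.ge.trans (commS (le_sup_of_le_left le_sup_right) le_rfl)
    have lL' := (commL nT).trans lL
    generalize ⁅X ⊔ P ⊔ V, T⁆ = L at pl nL lP' lL'
    have o2 : O[{p}ᶜ](L) = ⊥ := PiG.eq_bot (pV.of_le ((le_inf ((O_le _ _).trans lL') (cent_symm (pV.cent (O_pig _ _)
      (normO _ (le_sup_right.trans nL)) (((O_le _ _).trans lL').trans nV)))).trans cV)) (O_pig _ _)
    have := (pl.hall_O o2).le_O lP' hP.pi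
    rw [← comm_eq_bot, ← le_bot_iff, ← (O_pig {p} L).inf_bot (hK.pi.of_le a.le)]
    exact le_inf ((commS this le_rfl).trans (commL (normO _ ((le_sup_of_le_left le_sup_left).trans nL)))) (commR b)
  obtain ⟨q, hq, hqp, a, b⟩ := bg36_abel hp hV nilK hK.pi nKV iKV hP.pi nPK nTV nTK nTP hT cTP cTK oT
    (odd_of_le ho lP) (odd_of_le ho lK) ePT (hZ.of_le (inf_le_inf_right _ lK)) oVT ncP hm
  have := bg36_final hp hq hV a hqp nKV cK hP.pi (lP.trans nV) nPK nTV nTK nTP hT cTP (pT _ hT dvd_rfl) oT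
    (odd_of_le ho lP) PT oVT b
  have : P = ⊥ := le_bot_iff.1 (iN ▸ le_inf ((le_inf lP this).trans cV) hP.le)
  exact nPK' (this ▸ bot_le)
/-- BG 3.6 -/
theorem odd_sdprod_zg_cent_prime_pl1 (hs : Sol M) (ho : Odd #M) (h : Sdprod H R M) (hc : (#R).Coprime #H)
    (h1 : T ≤ R) (hT : (#T).Prime) (hZ : ZG (H ⊓ C[T])) (hp : p.Prime) : PL1 p ⁅H, R⁆ := by
  exact bg36_aux hp _ rfl (hs.of_le h.left) (odd_of_le ho h.left) (odd_of_le ho (h1.trans h.right)) h.norm hc h1 hT hZ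

end Cfsg.Agent.BG
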