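import Cfsg.Agent.BG.S03a
/-!
Bender–Glauberman, Theorems 3.8 and 3.10.
-/
set_option autoImplicit false
set_option linter.unusedSectionVars false
set_option linter.unusedVariables false

namespace Cfsg.Agent.BG
open Subgroup PHom

variable {G : Type*} [Group G] [Finite G] {G' : Type*} [Group G'] [Finite G']
variable {A B C D E H K L M N P Q R S T U V W X Y Z : Subgroup G} {x y g : G} {π ρ : Set ℕ} {p q r m n : ℕ}
  {φ : PHom G G'}

theorem odd_prime_comm_le_F (nK : R ≤ N[K]) (oK : Odd #K) (oR : Odd #R) (hs : Sol K) (hc : (#R).Coprime #K)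
    (hR : (#R).Prime) (h2 : F[K] ⊓ C[R] = ⊥) : ⁅K, R⁆ ≤ F[K] := by
  have nF : R ≤ N[F[K]] := normF nK
  have sR := (cyc_of_prime hR).sol
  by_cases c : R ≤ C[F[K]]
  · have : K = ⊥ := by_contra fun ne => F_ne_bot hs ne (h2 ▸ (inf_eq_left.2 (cent_symm c)).symm)
    rw [this, commutator_bot_left]; exact bot_le
  rw [commC, ← quo_cent_iff nF (F_norm K)]
  refine cop_cent_F (im_norm nK) (cop_im hc _) (hs.im _) (cent_symm (F_le_of_O fun p hp => ?_))
  obtain ⟨L, l1, l2, eL⟩ := exists_quo_eq (F_norm K) (F_le K) (O_le {p} _)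
  have nL : ∀ X ≤ N[K], X ≤ N[L] := fun X a => norm_of_im (φ := quo F[K]) (normF a) (l2.trans (F_norm K))
    (by simpa) (by rw [eL]; exact normO _ (im_norm a))
  have cL := coprimeS hc le_rfl l2
  obtain ⟨P, hP, nP⟩ := cop_syl_exists (nL R nK) cL (Or.inl sR) hp
  have eP : F[K] ⊔ P = L := le_antisymm (sup_le l1 hP.le) (by
    rw [sup_comm, ← quo_le_iff (l2.trans (F_norm K)) (hP.le.trans (l2.trans (F_norm K))),
      hP.im_eq (φ := quo F[K]) (l2.trans (F_norm K)) (eL ▸ O_pig _ _)])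
  have sd := sdprod_sup (inf_bot_of_coprime cL.symm) (nL R nK)
  have eF : F[L] = F[K] := by rw [F_of_normal l2 (nL K (normG K)), inf_eq_left.2 l1]
  have pR := pig_of_card' hR rfl
  have lF : F[L ⊔ R] ≤ L := F_le_of_O fun s hs' => by
    by_cases e : s = #R
    · have := (sd.hall_r ((pin_compl_cop hR).2 cL.symm) pR).O_le
      rw [e, (eq_bot_or_eq_of_prime hR this).resolve_right fun e2 => c ((F_nil (L ⊔ R)).cent_cop
        (e2.ge.trans (O_le_F _ _)) (eF ▸ F_le_of_normal sd.left sd.nl) (coprimeS hc le_rfl (F_le K)))]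
      exact bot_le
    · exact (O_pig _ _).le_of_idx sd.nl (O_le _ _) (by rw [sd.relIndex_l]; exact pR.ne_compl (Ne.symm e))
  have eF2 : F[L ⊔ R] = F[K] := by rw [← eF, F_of_normal sd.left sd.nl, inf_eq_left.2 lF]
  have sM := (hs.of_le l2).sup_l sR sd.norm
  rw [← eL, quo_cent_iff (l2.trans (F_norm K)) nF, ← eF2]
  refine chief_stab_le_F sM (comm_le le_sup_left le_sup_right) (sup_le (comm_norml _ _) (comm_normr _ _))
    fun U V h hU => ?_
  have a := F_stab_chief sM le_rfl (normG _) (hU.trans (F_le _)) h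
  rw [eF2] at hU a
  have hUK := hU.trans (F_le K)
  obtain ⟨q, hq, hW⟩ := h.abelem (hs.of_le hUK)
  have nV := h.nV
  have nLV := sd.left.trans nV
  have nRV := sd.right.trans nV
  rw [← quo_cent_iff h.nUV (l1.trans nLV)] at a
  rw [← quo_cent_iff h.nUV ((comm_le le_sup_left le_sup_right).trans nV)]
  by_cases e : q = p
  · subst e
    refine (h.minN.le_of (normC (im_norm sd.nl)) fun e => (hW.pig hq).meet_C (hP.pi.im _)
      (im_norm ((hP.le.trans sd.left).trans h.nU)) h.minN.ne ?_).trans (centS (im_mono (commL sd.norm)))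
    rwa [← eP, im_sup (φ := quo V) (l1.trans nLV) (hP.le.trans nLV), C_sup, ← inf_assoc, inf_eq_left.2 a] at e
  have cP := coprimeS cL le_rfl hP.le
  have cV := coprimeS hc le_rfl (h.lt.le.trans hUK)
  have lPR : P ⊔ R ≤ L ⊔ R := sup_le_sup_right hP.le _
  have qR : PiG {q}ᶜ R := (pin_compl_cop hq).2 (hc.coprime_dvd_right
    (((hW.pig hq).dvd h.minN.ne).trans ((card_im_dvd U).trans (cardS hUK))))
  have b := odd_prime_sdprod_abelem_cent ((sM.of_le lPR).im _)
    ((((oK.of_dvd_nat (cardS (hP.le.trans l2))).mul oR).of_dvd_nat (card_sup_dvd_l nP)).of_dvd_nat (card_im_dvd _))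
    ((sdprod_sup (inf_bot_of_coprime cP.symm) nP).im_cop (φ := quo V) (lPR.trans nV) cP.symm) (cop_im cP _)
    (by rw [card_im_inj (φ := quo V) nRV (by simpa using inf_bot_of_coprime cV)]; exact hR) hq hW
    (im_norm (lPR.trans h.nU)) ((PiG.sup_l (hP.pi.ne_compl (Ne.symm e)) qR nP).im _) (by
      rw [← im_IC' (φ := quo V) nRV h.nUV (by simpa using h.lt.le) (by simpa using cV) (Or.inl sR),
        le_bot_iff.1 (h2 ▸ inf_le_inf_right _ hU : U ⊓ C[R] ≤ ⊥), im_bot])
  rw [← im_comm (φ := quo V) (hP.le.trans nLV) nRV] at b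
  have d : ⁅L, R⁆ ≤ F[K] ⊔ ⁅P, R⁆ := by
    conv_lhs => rw [← eP]
    exact comm_sup_le ((commL nF).trans le_sup_left) le_sup_right (normsG le_sup_left)
      (normY (hP.le.trans (l2.trans (F_norm K))) (comm_norml _ _))
  refine cent_symm ((im_mono d).trans ?_)
  rw [im_sup (φ := quo V) (l1.trans nLV) ((commL nP).trans (hP.le.trans nLV))]
  exact sup_le (cent_symm a) b
/-- BG 3.8 -/
theorem odd_sdprod_primact_comm_le_F (h : Sdprod K R M) (ho : Odd #M) (hs : Sol M) (hc : (#R).Coprime #K)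
    (h1 : Semiprime K R) (h2 : F[K] ⊓ C[R] = ⊥) : ⁅K, R⁆ ≤ F[K] := by
  by_cases h0 : R = ⊥
  · rw [h0, commutator_bot_right]; exact bot_le
  obtain ⟨T, hT, pT⟩ := exists_prime_sub' h0
  have e := h1.cent hT (ne_bot_of_prime pT)
  have cT := coprimeS hc hT le_rfl
  have sK := hs.of_le h.left
  have a := odd_prime_comm_le_F (hT.trans h.norm) (ho.of_dvd_nat (cardS h.left))
    (ho.of_dvd_nat (cardS (hT.trans h.right))) sK cT pT (by
      rw [← inf_eq_left.2 (F_le K), inf_assoc, e, ← inf_assoc, inf_eq_left.2 (F_le K), h2])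
  conv_lhs => rw [← (cop_cent_prod (hT.trans h.norm) cT (Or.inr sK)).sup, e]
  exact comm_sup_le ((commS a le_rfl).trans (commL (normF h.norm)))
    (by rw [comm_eq_bot.2 inf_le_right]; exact bot_le) (normsG a) (inf_le_left.trans (F_norm K))
/-- BG 3.10 -/
theorem frob_primact (h : Frob K R L) (hs : Sol L) (ho : Odd #L) (h1 : L ≤ N[M]) (hM : Sol M) (h2 : M ≠ ⊥)
    (hc : (#L).Coprime #M) (h3 : M ⊓ C[K] = ⊥) (h4 : Semiprime M R) :
    (#R).Prime ∧ #M = #(M ⊓ C[R]) ^ #R ∧ (Cyc (M ⊓ C[R]) → ⁅K, K⁆ ≤ C[M]) := by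
  have e := frob_wielandt_card h h1 hc hM h3
  have pR : (#R).Prime := by
    obtain ⟨T, hT, pT⟩ := exists_prime_sub' h.ne_r
    have l : K ⊔ T ≤ L := sup_le h.sd.left (hT.trans h.sd.right)
    have f : Frob K T (K ⊔ T) := ⟨sdprod_sup (le_bot_iff.1 (h.sd.inf ▸ inf_le_inf_left _ hT)) (hT.trans h.sd.norm),
      h.ne_l, ne_bot_of_prime pT, h.reg.mono le_rfl hT⟩
    have e2 := frob_wielandt_card f (l.trans h1) (coprimeS hc l le_rfl) hM h3
    rw [h4.cent hT f.ne_r, e] at e2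
    have : 2 ≤ #(M ⊓ C[R]) := one_lt_card fun e3 => h2 (card_eq_one.1 (by rw [e, e3, card_bot, one_pow]))
    rwa [Nat.pow_right_injective this e2]
  refine ⟨pR, e, fun cy => cop_cent_of_chief h1 (coprimeS hc ((der_le K).trans h.sd.left) le_rfl) hM
    fun U V c hU => ?_⟩
  obtain ⟨q, hq, hW⟩ := c.abelem (hM.of_le hU)
  have nK := h.sd.left.trans c.nV
  have nR := h.sd.right.trans c.nV
  have cV := coprimeS hc h.sd.right (c.lt.le.trans hU)
  have eC := im_IC' (φ := quo V) nR c.nUV (by simpa using c.lt.le) (by simpa using cV) (Or.inl (cyc_of_prime pR).sol)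
  have reg := h.reg.im (φ := quo V) h.sd.norm nK nR
  have cK := cop_im (coprimeS hc h.sd.left hU) (quo V)
  have eR : #(R ÷ V) = #R := card_im_inj (φ := quo V) nR (by simpa using inf_bot_of_coprime cV)
  rw [commC, ← quo_cent_iff ((der_le K).trans nK) c.nUV, im_der (φ := quo V) nK]
  rcases (Nat.dvd_prime hq).1 ((hW.of_le inf_le_left).cyc_card hq
    (eC ▸ (cy.of_le (inf_le_inf_right _ hU)).im (quo V))) with e2 | e2
  · exact (der_le _).trans (frob_cent_abel hW.abel (im_norm h.sd.norm) reg (im_norm (h.sd.left.trans c.nU))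
      (im_norm (h.sd.right.trans c.nU)) cK (card_eq_one.1 e2))
  · exact frob_prime_cent_prime (hs.im _) (h.sd.im_cop (φ := quo V) c.nV h.coprime.symm) (eR ▸ pR)
      (reg.cent le_rfl (ne_bot_of_prime (eR ▸ pR))) hq hW (im_norm c.nU)
      ((pin_compl_cop hq).2 (cK.coprime_dvd_right ((hW.pig hq).dvd c.minN.ne))) e2

end Cfsg.Agent.BG
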