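import Cfsg.Agent.BG.S04b
/-!
Bender–Glauberman, section 4: 4.17–4.20.
-/
set_option autoImplicit false

namespace Cfsg.Agent.BG
open Subgroup PHom
open scoped commutatorElement

variable {G : Type*} [Group G] [Finite G] {G' : Type*} [Group G'] [Finite G']
variable {A B C D E H K L M N P Q R S T U V W X Y Z : Subgroup G} {x y g : G} {π ρ : Set ℕ} {p q r m n : ℕ}
  {φ : PHom G G'}

theorem der_aut_rank2' (hp : p.Prime) (hR : PiG {p} R) (ho : Odd #R) (h : r[p](R) ≤ 2) (hA : A ≤ N[R])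
    (ho' : Odd #A) : PiN {p} ((C[R]).relIndex ⁅A, A⁆) := by
  by_cases h0 : R = ⊥
  · rw [h0, C_bot, relIndex_top_left]; exact pin_one _
  obtain ⟨H, a1, a2, a3, a4⟩ := exists_crit_rank2 hR ho h h0
  obtain ⟨k, b1, b2⟩ := a4 _ ((der_le A).trans hA)
  rw [b2, im_der (φ := quo Φ[H]) (hA.trans (normPhi a1))]
  exact b1.mul (der_odd_rank2 hp a2 a3 (im_norm (hA.trans a1)) (odd_im ho' _))
/-- BG 4.17 -/
theorem der_aut_rank2 (hp : p.Prime) (hR : PiG {p} R) (ho : Odd #R) (h : r[p](R) ≤ 2) (hA : A ≤ N[R]) (hs : Sol A)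
    (ho' : Odd #A) : PiN {p} ((C[R]).relIndex ⁅A, A⁆) := der_aut_rank2' hp hR ho h hA ho'

theorem der_compl_of_idx (hp : p.Prime) (h : PiN {p} (O[{p}ᶜ](H).relIndex ⁅H, H⁆)) :
    PNil p ⁅H, H⁆ ∧ ⁅H, H⁆ ≤ O2[{p}ᶜ, {p}](H) ∧ PL1 p H := by
  have nK := O_norm {p}ᶜ H
  have a1 : ⁅H, H⁆ ≤ O2[{p}ᶜ, {p}](H) := le_OM nK (der_le H) (normY (der_norm H) nK) h
  refine ⟨pnil_of inf_le_right (normI ((der_le H).trans nK) (normG _)) ((O_pig _ _).of_le inf_le_left)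
    (by rwa [inf_relIndex_right]), a1, ?_⟩
  obtain ⟨P, hP⟩ := syl_exists hp H
  refine pl1_of_syl_norm hP (O_pig _ _) (O_le _ _) nK (norm_of_der_le (a1.trans ?_) (sup_le (O_le _ _) hP.le))
  rw [← (hP.inf_norm' (O2_le _ _ _) (O2_norm _ _ _)).prod_O2.sup]
  exact sup_le_sup_left inf_le_left _

/-- the centralizer of `O_p` has `p`-power index modulo `O_{p'}` -/
theorem pin_of_cent_O (hs : Sol H) (h0 : O[{p}ᶜ](H) = ⊥) (h1 : D ≤ H) (hπ : p ∈ π)
    (h : PiN π ((C[O[{p}](H)]).relIndex D)) : PiG π D :=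
  PiG.ext (A := C[O[{p}](H)] ⊓ D) (PiN.single_mono ((O_pig {p} H).of_le
    ((le_inf (inf_le_right.trans h1) inf_le_left).trans (C_O_le hs h0))) hπ) (by rwa [inf_relIndex_right])

theorem pRank_quo_O (hp : p.Prime) (H : Subgroup G) : r[p](H ÷ O[{p}ᶜ](H)) = r[p](H) :=
  pRank_im_cop hp (O_norm _ _) (by rw [quo_ker]; exact (O_pig _ _).of_le inf_le_right)

/-- BG 4.18(c, e) -/
theorem rank2_der_compl (hp : p.Prime) (hs : Sol H) (ho : Odd #H) (h : r[p](H) ≤ 2) :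
    PNil p ⁅H, H⁆ ∧ ⁅H, H⁆ ≤ O2[{p}ᶜ, {p}](H) ∧ PL1 p H := by
  refine der_compl_of_idx hp ?_
  have nK := O_norm {p}ᶜ H
  rw [← card_quo ((der_le H).trans nK), im_der (φ := quo _) nK]
  rw [← pRank_quo_O hp] at h
  have ho' := odd_im ho (quo O[{p}ᶜ](H))
  exact pin_of_cent_O (hs.im _) (O_quo_O _ _) (der_le _) rfl (der_aut_rank2' hp (O_pig _ _)
    (odd_of_le ho' (O_le _ _)) ((pRank_mono hp (O_le _ _)).trans h) (O_norm _ _) ho')
/-- BG 4.18(a) -/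
theorem rank2_max_pdiv (hp : p.Prime) (hs : Sol H) (ho : Odd #H) (h : r[p](H) ≤ 2) (hq : q.Prime)
    (h1 : q ∣ O[{p}ᶜ](H).relIndex H) : q ≤ p := by
  have nK := O_norm {p}ᶜ H
  rw [← card_quo nK] at h1
  rw [← pRank_quo_O hp] at h
  have ho' := odd_im ho (quo O[{p}ᶜ](H))
  refine pin_of_cent_O (π := {q | q ≤ p}) (hs.im _) (O_quo_O _ _) le_rfl (le_refl p) (fun r hr a => ?_) q hq h1
  by_cases e : r = p
  · exact e.le
  · exact (pi_aut_rank2 hp (O_pig _ _) (odd_of_le ho' (O_le _ _)) ((pRank_mono hp (O_le _ _)).trans h)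
      (O_norm _ _) hr a e).2.1.le
theorem pnil_of_max_pdiv (ho : Odd #H) (h : ∀ q, q.Prime → q ∣ O[{p}ᶜ](H).relIndex H → q ≤ p)
    (h1 : p = 3 ∨ ∀ q, q.Prime → q ∣ #H → p ≤ q) : PNil p H := by
  refine pnil_of (O_le _ _) (O_norm _ _) (O_pig _ _) fun q hq a => ?_
  have b := h q hq a
  have c := a.trans (relIndex_dvd _ _)
  rcases h1 with e | e
  · have := hq.two_le
    have : q ≠ 2 := by rintro rfl; exact absurd (ho.of_dvd_nat c) (by decide)
    change q = p; omega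
  · exact le_antisymm b (e q hq c)
/-- BG 4.18(b) -/
theorem rank2_min_pnil (hp : p.Prime) (hs : Sol H) (ho : Odd #H) (h : r[p](H) ≤ 2)
    (h1 : p = 3 ∨ ∀ q, q.Prime → q ∣ #H → p ≤ q) : PNil p H :=
  pnil_of_max_pdiv ho (fun _ hq => rank2_max_pdiv hp hs ho h hq) h1

theorem MinN.cent_of_pin (h : MinN W H) (hW : PiG {p} W) (h1 : H ≤ N[D]) (h2 : D ≤ N[W])
    (h3 : PiN {p} ((C[W]).relIndex D)) : W ≤ C[D] := by
  obtain ⟨P, hP⟩ := syl_exists (hW.prime h.ne) D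
  have a := (hP.prod_idx (K := C[W] ⊓ D) inf_le_right (by rwa [inf_relIndex_right])).sup
  refine h.le_of (normC h1) fun e => hW.meet_C hP.pi (hP.le.trans h2) h.ne (eq_bot_iff.2 (e ▸ le_inf inf_le_left ?_))
  rw [← a]; exact centY inf_le_right (inf_le_left.trans (cent_symm inf_le_left))

theorem Chief.comm_le_of_pin (h : Chief V U H) (h4 : PiG {p} (U ÷ V)) (h1 : H ≤ N[D]) (h2 : D ≤ H)
    (h3 : PiN {p} ((C[U ÷ V]).relIndex (D ÷ V))) : ⁅U, D⁆ ≤ V :=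
  (quo_cent_iff h.nUV (h2.trans h.nV)).1 (h.minN.cent_of_pin h4 (im_norm h1) (im_norm (h2.trans h.nU)) h3)

omit [Finite G'] in
theorem idx_cent_im_dvd (h : D ≤ φ.dom) (S : Subgroup G) :
    (C[φ.im S]).relIndex (φ.im D) ∣ (C[S]).relIndex D := by
  rw [← relIndex_pre _ h, ← inf_relIndex_right C[S]]
  exact relIndex_dvd_left ((le_pre_iff (inf_le_right.trans h)).2 (im_cent inf_le_left)) D

/-- a chief factor is covered by a Sylow subgroup, on which the normalizer acts -/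
theorem Chief.cent_der_of_syl (hp : p.Prime) (h3 : Chief V U H) (h4 : PiG {p} (U ÷ V)) (h5 : U ≤ H)
    (hS : Syl p S U) (h : PiN {p} ((C[S]).relIndex ⁅H ⊓ N[S], H ⊓ N[S]⁆)) : ⁅U, ⁅H, H⁆⁆ ≤ V := by
  have a1 : S ÷ V = U ÷ V := hS.im_eq (φ := quo V) h3.nUV h4
  have n1 : H ⊓ N[S] ≤ N[V] := inf_le_left.trans h3.nV
  have a2 : H ÷ V = (H ⊓ N[S]) ÷ V := by
    refine le_antisymm ?_ (im_mono inf_le_left)
    rw [← ((hS.frattini hp h5 h3.nU).im (φ := quo V) h3.nV).sup, ← a1]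
    exact sup_le (im_mono (le_inf (hS.le.trans h5) (normG S))) le_rfl
  refine h3.comm_le_of_pin h4 (der_norm H) (der_le H) ?_
  rw [im_der (φ := quo V) h3.nV, a2, ← im_der (φ := quo V) n1, ← a1]
  exact h.of_dvd (idx_cent_im_dvd ((der_le _).trans n1) S)

/-- BG 4.19 -/
theorem rank2_cent_chief (hp : p.Prime) (ho : Odd #H) (hs : Sol H) (h1 : K ≤ H) (h2 : H ≤ N[K]) (h : r[p](K) ≤ 2)
    (h3 : Chief V U H) (h4 : PiG {p} (U ÷ V)) (h5 : U ≤ K) : ⁅U, ⁅H, H⁆⁆ ≤ V := by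
  obtain ⟨S, hS⟩ := syl_exists hp U
  exact h3.cent_der_of_syl hp h4 (h5.trans h1) hS (der_aut_rank2' hp hS.pi (odd_of_le ho (hS.le.trans (h5.trans h1)))
    ((pRank_mono hp (hS.le.trans h5)).trans h) inf_le_right (odd_of_le ho inf_le_left))
/-- BG 4.20(a) -/
theorem rank2_der_le_F (ho : Odd #H) (hs : Sol H) (h : r(F[H]) ≤ 2) : ⁅H, H⁆ ≤ F[H] := by
  refine chief_stab_le_F hs (der_le H) (der_norm H) fun U V a b => ?_
  obtain ⟨p, hp, c⟩ := a.abelem ((F_nil H).of_le b).sol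
  exact rank2_cent_chief hp ho hs (F_le H) (F_norm H) ((pRank_le_rank hp _).trans h) a (c.pig hp) b
/-- BG 4.20(b) -/
theorem rank2_char_syl_normal (hp : p.Prime) (ho : Odd #H) (hs : Sol H) (h : r(F[H]) ≤ 2) (hS : Syl p S H)
    (h1 : H ⊓ N[S] ≤ N[T]) (h2 : T ≤ ⁅S, S⁆) : H ≤ N[T] := by
  have a1 := rank2_der_le_F ho hs h
  have a2 : F[H] ⊔ S ≤ H := sup_le (F_le H) hS.le
  rw [← (Syl.frattini (hS.sub le_sup_right a2) hp a2 (norm_of_der_le (a1.trans le_sup_left) a2)).sup]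
  have a3 : S ≤ N[T] := (le_inf hS.le (normG S)).trans h1
  refine sup_le (sup_le ?_ a3) h1
  rw [← ((F_nil H).dprod_O {p}).sup]
  refine sup_le (le_trans ?_ a3) (cents_norm (cent_symm ((F_nil H).cent (h2.trans ((derS hS.le).trans a1)) (O_le _ _)
    (hS.pi.of_le (h2.trans (der_le S))) (O_pig _ _))))
  rw [O_F]; exact hS.O_le
theorem rank2_min_p'core_hall (hp : p.Prime) (ho : Odd #H) (hs : Sol H) (h : r(F[H]) ≤ 2)
    (h1 : ∀ q, q.Prime → q ∣ #H → p ≤ q) : PNil p H := by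
  have a1 := rank2_der_le_F ho hs h
  have nF := F_norm H
  set K := OM {p}ᶜ F[H] H
  have k1 : K ≤ H := OM_le (F_le H) nF
  have nK : H ≤ N[K] := normOM nF (normG H)
  have k2 : PiN {p} (K.relIndex H) := by
    have := (((quo_abel_iff nF).2 a1).nil.hall_O {p}ᶜ).idx
    rwa [compl_compl, ← relIndex_pre (φ := quo F[H]) _ nF] at this
  have k3 : PNil p K := rank2_min_pnil hp (hs.of_le k1) (odd_of_le ho k1) (by
    rw [← pRank_of_idx hp (le_OM_self _ _ _) ((pin_compl hp).1 (OM_idx _ _ _))]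
    exact (pRank_le_rank hp _).trans h) (Or.inr fun q hq a => h1 q hq (a.trans (cardS k1)))
  refine pnil_of ((O_le _ _).trans k1) (normO _ nK) (O_pig _ _) ?_
  rw [← relIndex_mul_relIndex _ K H (O_le _ _) k1]
  exact pin_mul.2 ⟨by simpa using k3.idx, k2⟩
/-- BG 4.20(c) -/
theorem rank2_ge_hall (ho : Odd #H) (hs : Sol H) (h : r(F[H]) ≤ 2) (m : ℕ) :
    Hall {q | m ≤ q} O[{q | m ≤ q}](H) H := by
  induction H using lt_wf_ind with
  | h H ih =>
  by_cases e : PiG {q | m ≤ q} H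
  · rw [O_eq_self e]; exact hall_self e
  have h0 : #H ≠ 1 := fun f => e (by rw [PiG, f]; exact pin_one _)
  have hp := Nat.minFac_prime h0
  have a1 := rank2_min_p'core_hall hp ho hs h fun q hq a => Nat.minFac_le_of_dvd hq.two_le a
  have a2 : O[{(#H).minFac}ᶜ](H) < H := lt_of_le_of_ne (O_le _ _) fun f =>
    (pin_compl hp).1 (O_pig _ H) (by rw [f]; exact Nat.minFac_dvd _)
  have a3 := ih _ a2 (odd_of_le ho a2.le) (hs.of_le a2.le)
    ((rank_mono (F_le_of_normal a2.le (O_norm _ _))).trans h)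
  refine (a3.trans' a2.le (PiN.single_mono (by simpa using a1.idx) fun f => e fun q hq a => ?_)).hall_O
    (normO _ (O_norm _ _))
  exact le_trans f (Nat.minFac_le_of_dvd hq.two_le a)
theorem rank2_max_pcore_syl (hp : p.Prime) (ho : Odd #H) (hs : Sol H) (h : r(F[H]) ≤ 2)
    (h1 : ∀ q, q.Prime → q ∣ #H → q ≤ p) : Syl p O[{p}](H) H := by
  have e : ∀ q, q.Prime → q ∣ #H → (q ∈ {q | p ≤ q} ↔ q ∈ ({p} : Set ℕ)) := fun q hq a =>
    ⟨fun b => le_antisymm (h1 q hq a) b, fun b => Eq.ge b⟩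
  rw [← O_congr e]; exact (rank2_ge_hall ho hs h p).congr e

end Cfsg.Agent.BG
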