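import Cfsg.Agent.BG.S04c
/-!
Bender–Glauberman, section 5: narrow `p`-groups.
-/
set_option autoImplicit false

namespace Cfsg.Agent.BG
open Subgroup PHom
open scoped commutatorElement

variable {G : Type*} [Group G] [Finite G] {G' : Type*} [Group G'] [Finite G']
variable {A B C D E H K L M N P Q R S T U V W X Y Z : Subgroup G} {x y g : G} {π ρ : Set ℕ} {p q r m n : ℕ}
  {φ : PHom G G'}

omit [Finite G] in
/-- narrow `p`-groups, in the form of BG 5.3 -/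
def Narrow (p : ℕ) (R : Subgroup G) : Prop := 2 < r[p](R) → ∃ E, PnElem p 2 E R ∧ PMax p E R
theorem narrow_of_rank (h : r[p](R) ≤ 2) : Narrow p R := fun h1 => absurd h (by omega)
theorem Narrow.im (h : Narrow p R) (hp : p.Prime) (h1 : R ≤ φ.dom) (h2 : R ⊓ φ.ker = ⊥) : Narrow p (φ.im R) := by
  intro a
  rw [pRank_im_inj hp h1 h2] at a
  obtain ⟨E, b1, b2⟩ := h a
  have c := b1.le.trans h1
  refine ⟨φ.im E, ⟨im_mono b1.le, b1.ab.im φ, ?_⟩, pmax_of (im_mono b1.le) (b1.ab.im φ) fun y d1 d2 d3 => ?_⟩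
  · rw [card_im_inj c (eq_bot_iff.2 (h2 ▸ inf_le_inf_right _ b1.le)), b1.card]
  · obtain ⟨x, e1, e2, rfl⟩ := mem_im.1 d1
    refine app_mem_im (b2.mem e1 ?_ ?_) e2
    · rw [← zpowers_le, ← im_zpowers e2, cent_im_iff (zpowers_le.2 e2) c] at d2
      exact zpowers_le.1 (comm_eq_bot.1 (eq_bot_iff.2 (h2 ▸ le_inf (comm_le (zpowers_le.2 e1) b1.le) d2)))
    · rw [← mem_bot, ← h2]
      exact ⟨pow_mem e1 p, mem_ker.2 ⟨pow_mem e2 p, by rwa [app_pow e2]⟩⟩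
theorem narrow_equiv (hp : p.Prime) {R' : Subgroup G'} (e : R ≃* R') (h : Narrow p R) : Narrow p R' := by
  let φ : PHom G G' := ⟨R, R'.subtype.comp e.toMonoidHom⟩
  have a1 : φ.im R = R' := by
    ext y
    rw [mem_im' (φ := φ) le_rfl]
    constructor
    · rintro ⟨x, a, rfl⟩; rw [app_eq (φ := φ) a]; exact (e ⟨x, a⟩).2
    · intro a; exact ⟨e.symm ⟨y, a⟩, (e.symm ⟨y, a⟩).2, by rw [app_coe (φ := φ)]; simp [φ]⟩
  rw [← a1]
  refine h.im hp le_rfl (eq_bot_iff.2 fun x hx => ?_)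
  have := (mem_ker.1 hx.2).2
  rw [app_eq (φ := φ) hx.1] at this
  simpa [φ] using this
theorem narrow_cj (hp : p.Prime) : Narrow p (cj g R) ↔ Narrow p R :=
  ⟨narrow_equiv hp (cjEquiv g R).symm, narrow_equiv hp (cjEquiv g R)⟩

theorem card_inf_C_sq (hp : p.Prime) (hB : PiG {p} B) (h2 : B ≤ N[E]) (h3 : #E ∣ p ^ 2) : #B ∣ #(B ⊓ C[E]) * p := by
  rw [← card_inf_mul_relIndex C[E] B, inf_comm]
  exact Nat.mul_dvd_mul_left _ (idx_cent_sq hp hB h2 h3)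

/-- BG 5.1(b) -/
theorem normal_p2Elem_scn3 (hR : PiG {p} R) (ho : Odd #R) (h : 2 < r[p](R)) (hE : PnElem p 2 E R) (h1 : R ≤ N[E]) :
    ∃ B, SCN B R ∧ 3 ≤ r[p](B) ∧ E ≤ B := by
  have hp := hR.prime_of_pRank h
  obtain ⟨A, a1, a2⟩ := rank3_normal_abelem hR ho h
  have a3 : Abelem p (E ⊔ (A ⊓ C[E])) := hE.ab.sup (a1.ab.of_le inf_le_left) (cent_symm inf_le_right)
  obtain ⟨B, b1, b2⟩ := hR.nil.exists_scn (sup_le hE.le (inf_le_left.trans a1.le)) (normY h1 (normI a2 (normC h1)))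
    a3.abel
  refine ⟨B, b2, ?_, le_sup_left.trans b1⟩
  by_contra hn
  have c1 : #(E ⊔ (A ⊓ C[E])) ≤ #E :=
    hE.card ▸ (a3.card_le hp b1).trans (Nat.pow_le_pow_right hp.pos (by omega))
  have c2 : A ⊓ C[E] ≤ E := (eq_of_card_le le_sup_left c1).ge.trans' le_sup_right
  have c3 := card_inf_C_sq hp (a1.pig hp) (a1.le.trans h1) hE.card.dvd
  rw [a1.card, pow_succ, Nat.mul_dvd_mul_iff_right hp.pos] at c3
  have c4 := eq_of_card_le c2 (hE.card ▸ Nat.le_of_dvd (card_pos _) c3)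
  have c5 : A ≤ E := (le_inf le_rfl (centSS a1.abel le_rfl (c4 ▸ inf_le_left))).trans c2
  exact not_pow_succ_dvd hp (hE.card ▸ a1.card ▸ cardS c5)

theorem p2max_not_normal (hR : PiG {p} R) (ho : Odd #R) (h : 2 < r[p](R)) (hE : PnElem p 2 E R) (h1 : PMax p E R) :
    ¬ R ≤ N[E] := fun a => by
  have hp := hR.prime_of_pRank h
  obtain ⟨B, b1, b2, b3⟩ := normal_p2Elem_scn3 hR ho h hE a
  have := pRank_mono hp (le_inf b1.le (centSS b1.abel le_rfl b3))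
  rw [h1.pRank_C hp, hE.pRank_eq hp] at this
  omega

theorem comm_Om_Z2_le (hR : PiG {p} R) (ho : Odd #R) : ⁅Ω[p](Z2 R), R⁆ ≤ Ω[p](Z[R]) := by
  refine comm_le_iff.2 fun w hw r hr => ?_
  have a := Om_le _ _ hw
  have b := (mem_Z2.1 a).2 r hr
  refine mem_Om ⟨der_le R (comm_mem (Z2_le R a) hr), b⟩ ?_
  have c : Commute ⁅w, r⁆ w := (mem_C.1 b w (Z2_le R a)).symm
  have := PLoc.commutatorElement_pow_left c p
  rw [exp_Om_odd_nil23 (hR.of_le (Z2_le R)) (odd_of_le ho (Z2_le R)) (Or.inl (Z2_cls2 R)) w hw,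
    commutatorElement_one_left] at this
  exact this.symm

theorem not_cyc_of_pRank (hp : p.Prime) (h : 1 < r[p](R)) : ¬ Cyc R := fun e => absurd (e.pRank_le hp) (by omega)

/-- BG 5.2 -/
theorem Om_Z2_p2max (hR : PiG {p} R) (ho : Odd #R) (h : 2 < r[p](R)) (hE : PnElem p 2 E R) (h1 : PMax p E R) :
    ¬ E ≤ C[Ω[p](Z2 R)] ∧ #Ω[p](Z[R]) = p ∧ PnElem p 2 Ω[p](Z2 R) R ∧ (C[Ω[p](Z2 R)]).relIndex R = p := by
  have hp := hR.prime_of_pRank h
  have nE := p2max_not_normal hR ho h hE h1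
  have a1 : Ω[p](Z[R]) < E := lt_of_le_of_ne h1.OmZ_le fun e => nE (e ▸ normOmZ p (normG R))
  have a2 : #Ω[p](Z[R]) = p := card_sub_of_sq hp hE.card a1 (hR.OmZ_ne_bot (ne_bot_of_pRank hp h))
  obtain ⟨w1, w2⟩ := Om_odd_Z2 hR ho (not_cyc_of_pRank hp (by omega))
  have w3 := comm_Om_Z2_le hR ho
  set W := Ω[p](Z2 R)
  have wR : W ≤ R := (Om_le _ _).trans (Z2_le R)
  have a3 : W ⊓ C[E] ≤ E := fun x hx => h1.mem (wR hx.1) hx.2 (w2 x hx.1)
  have a4 : W ⊓ C[E] = Ω[p](Z[R]) := (eq_or_eq_of_card hp (by rw [hE.card, a2, sq])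
    (le_inf (Om_mono (Z_le_Z2 R)) ((OmZ_cent p R).trans (centS hE.le))) a3).resolve_right fun e =>
      nE (comm_le_l.1 ((commS (e ▸ inf_le_left) le_rfl).trans (w3.trans a1.le)))
  have a5 : #W ∣ p ^ 2 := by
    have := card_inf_C_sq hp (hR.of_le wR) (comm_le_r.1 ((commS le_rfl hE.le).trans (w3.trans a1.le))) hE.card.dvd
    rwa [a4, a2, ← sq] at this
  have a6 : #W = p ^ 2 := Nat.dvd_antisymm a5 (((hR.of_le wR).card_dvd_or hp 1).resolve_left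
    fun e => w1 (cyc_of_card_dvd hp (by simpa using e)))
  have a7 : ¬ E ≤ C[W] := fun e => w1 ((cyc_of_card_dvd hp a2.dvd).of_le (a4 ▸ le_inf le_rfl (cent_symm e)))
  exact ⟨a7, a2, ⟨wR, ⟨abel_of_card_sq hp a6, w2⟩, a6⟩, ((Nat.dvd_prime hp).1
    (idx_cent_sq hp hR (normOm p (normZ2 (normG R))) a5)).resolve_left
    fun e => a7 (hE.le.trans (relIndex_eq_one.1 e))⟩

theorem exists_p2max_of_cent (hR : PiG {p} R) (h : 2 < r[p](R)) (hS : #S = p) (h1 : S ≤ R)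
    (h2 : r[p](R ⊓ C[S]) ≤ 2) : ∃ Z ≤ Z[R], PnElem p 2 (S ⊔ Z) R ∧ PMax p (S ⊔ Z) R := by
  have hp := hR.prime_of_pRank h
  obtain ⟨Z, z1, z2⟩ := (hR.of_le inf_le_left).exists_prime_sub (hR.nil.Z_ne_bot (ne_bot_of_pRank hp h))
  have z3 := z1.trans inf_le_right
  have a1 := (pnElem_two hp hS z2 (z3.trans (centS h1)) fun e => by
    rw [inf_eq_left.2 (cent_symm (e ▸ z3))] at h2; omega).mono (sup_le h1 (z1.trans inf_le_left))
  exact ⟨Z, z1, a1, pmax_of_pRank_C a1 hp ((pRank_mono hp (inf_le_inf_left _ (centS le_sup_left))).trans h2)⟩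

/-- BG 5.3(d) -/
theorem narrow_cent_dprod (hR : PiG {p} R) (ho : Odd #R) (h : 2 < r[p](R)) (hn : Narrow p R) (hS : #S = p)
    (h1 : S ≤ R) (h2 : r[p](R ⊓ C[S]) ≤ 2) :
    Cyc (R ⊓ C[Ω[p](Z2 R)] ⊓ C[S]) ∧ S ⊓ ⁅R, R⁆ = ⊥ ∧ S ⊓ C[Ω[p](Z2 R)] = ⊥ ∧
      Dprod S (R ⊓ C[Ω[p](Z2 R)] ⊓ C[S]) (R ⊓ C[S]) := by
  have hp := hR.prime_of_pRank h
  obtain ⟨Z, z1, z2, z3⟩ := exists_p2max_of_cent hR h hS h1 h2
  obtain ⟨a1, -, a2, a3⟩ := Om_Z2_p2max hR ho h z2 z3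
  set W := Ω[p](Z2 R)
  have a4 : ¬ S ≤ C[W] := fun e => a1 (sup_le e (centSS inf_le_right z1 a2.le))
  have a5 := inf_bot_of_prime (hS ▸ hp) a4
  have nW : R ≤ N[C[W]] := normC (normOm p (normZ2 (normG R)))
  have nT : R ≤ N[R ⊓ C[W]] := normI (normG R) nW
  have a6 : (R ⊓ C[W]) ⊔ S = R := (eq_or_eq_of_relIndex_prime (D := R ⊓ C[W])
    (by rwa [inf_comm, inf_relIndex_right, a3]) le_sup_left (sup_le inf_le_left h1)).resolve_left
      fun e => a4 ((e ▸ le_sup_right : S ≤ R ⊓ C[W]).trans inf_le_right)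
  have aS := (cyc_of_prime (hS ▸ hp : (#S).Prime)).abel
  have a7 : Dprod S (R ⊓ C[W] ⊓ C[S]) (R ⊓ C[S]) :=
    ⟨((isProd_of_l (h1.trans nT) a6).symm.modl aS).sup,
      eq_bot_iff.2 (a5 ▸ inf_le_inf_left _ (inf_le_left.trans inf_le_right)), inf_le_right⟩
  refine ⟨odd_pgroup_rank1_cyc (hR.of_le (inf_le_left.trans inf_le_left))
    (odd_of_le ho (inf_le_left.trans inf_le_left)) ?_,
    eq_bot_iff.2 (a5 ▸ inf_le_inf_left _ (der_le_of_cyc_quo nW (cyc_quo_of_idx hp nW a3.dvd))), a5, a7⟩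
  rw [a7.pRank hp, (pnElem_one hp hS h1).pRank_eq hp] at h2; omega
/-- BG 5.4 -/
theorem narrow_iff_cent (hR : PiG {p} R) (ho : Odd #R) (h : 2 < r[p](R)) :
    Narrow p R ↔ ∃ S ≤ R, #S = p ∧ r[p](R ⊓ C[S]) ≤ 2 := by
  have hp := hR.prime_of_pRank h
  constructor
  · intro hn
    obtain ⟨E, a1, a2⟩ := hn h
    obtain ⟨-, a3, -⟩ := Om_Z2_p2max hR ho h a1 a2
    obtain ⟨S, b1, b2, b3⟩ := a1.ab.exists_card hp (A := Ω[p](Z[R])) fun e =>
      not_pow_succ_dvd (n := 1) hp (by rw [← a1.card, pow_one, ← a3]; exact cardS e)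
    refine ⟨S, b1.trans a1.le, b2, ?_⟩
    have b4 : Ω[p](Z[R]) ⊔ S = E := (eq_or_eq_of_card hp (by rw [a1.card, a3, sq]) le_sup_left
      (sup_le a2.OmZ_le b1)).resolve_left fun e => b3 (e ▸ le_sup_right)
    have b5 : R ⊓ C[S] ≤ R ⊓ C[E] := le_inf inf_le_left
      (b4 ▸ centY (inf_le_left.trans (cent_symm (OmZ_cent p R))) inf_le_right)
    exact (pRank_mono hp b5).trans (by rw [a2.pRank_C hp, a1.pRank_eq hp])
  · rintro ⟨S, a1, a2, a3⟩ -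
    obtain ⟨Z, -, b⟩ := exists_p2max_of_cent hR h a2 a1 a3
    exact ⟨_, b⟩
theorem narrow_iff_structure (hR : PiG {p} R) (ho : Odd #R) (h : 2 < r[p](R)) :
    Narrow p R ↔ ∃ S ≤ R, #S = p ∧ ∃ D, Cyc D ∧ Dprod S D (R ⊓ C[S]) := by
  have hp := hR.prime_of_pRank h
  constructor
  · intro hn
    obtain ⟨S, a1, a2, a3⟩ := (narrow_iff_cent hR ho h).1 hn
    obtain ⟨b1, -, -, b2⟩ := narrow_cent_dprod hR ho h hn a2 a1 a3
    exact ⟨S, a1, a2, _, b1, b2⟩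
  · rintro ⟨S, a1, a2, D, a3, a4⟩
    refine (narrow_iff_cent hR ho h).2 ⟨S, a1, a2, ?_⟩
    rw [a4.pRank hp, (pnElem_one hp a2 a1).pRank_eq hp]
    have := a3.pRank_le hp; omega
omit [Finite G] in
theorem map_C_subtype (A : Subgroup R) : (C[A]).map R.subtype = R ⊓ C[A.map R.subtype] := by
  refine le_antisymm (le_inf (map_subtype_le _) (cent_map le_rfl _)) fun x hx => ⟨⟨x, hx.1⟩, ?_, rfl⟩
  exact mem_C.2 fun a ha => Subtype.ext (mem_C.1 hx.2 _ (mem_map_of_mem _ ha))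
theorem narrow_iff (hp : p.Prime) (hR : PiG {p} R) (ho : Odd #R) : Narrow p R ↔ IsNarrow p R := by
  have hf := R.subtype_injective
  rw [IsNarrow, prankle_iff hp]
  rcases le_or_gt r[p](R) 2 with h | h
  · exact ⟨fun _ => Or.inl h, fun _ => narrow_of_rank h⟩
  rw [narrow_iff_structure hR ho h, or_iff_right (by omega)]
  constructor
  · rintro ⟨S, a1, a2, D, a3, a4⟩
    obtain ⟨S, rfl⟩ := exists_lift a1
    obtain ⟨D, rfl⟩ := exists_lift (a4.right.trans inf_le_left)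
    refine ⟨S, D, by rwa [card_map_inj hf] at a2, (cyc_map_inj hf).1 a3, ?_,
      le_C_iff.1 (cent_symm ((cent_map_inj hf).1 a4.cent)), ?_⟩
    · exact map_injective hf (by rw [map_inf _ _ _ hf, a4.inf, Subgroup.map_bot])
    · exact map_injective hf (by rw [Subgroup.map_sup, a4.sup, map_C_subtype])
  · rintro ⟨S, D, a1, a2, a3, a4, a5⟩
    exact ⟨S.map R.subtype, map_subtype_le _, by rwa [card_map_inj hf], D.map R.subtype, (cyc_map_inj hf).2 a2,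
      by rw [← Subgroup.map_sup, a5, map_C_subtype], by rw [← map_inf _ _ _ hf, a3, Subgroup.map_bot],
      cent_map (cent_symm (le_C_iff.2 a4)) _⟩

theorem idx_C1_le (h2 : ∀ g ∈ R, g * x * g⁻¹ * x⁻¹ ∈ K) : (C1[x]).relIndex R ≤ #K := by
  refine Nat.card_le_card_of_injective (fun q : R ⧸ (C1[x]).subgroupOf R =>
    (⟨q.out * x * (q.out : G)⁻¹ * x⁻¹, h2 _ q.out.2⟩ : K)) fun a b e => ?_
  rw [← a.out_eq, ← b.out_eq]
  refine QuotientGroup.eq.2 (mem_C1.2 ?_)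
  have e2 : (a.out : G) * x * (a.out : G)⁻¹ = b.out * x * (b.out : G)⁻¹ := mul_right_cancel (congrArg Subtype.val e)
  change (a.out : G)⁻¹ * b.out * x = x * ((a.out : G)⁻¹ * b.out)
  calc _ = (a.out : G)⁻¹ * (b.out * x * (b.out : G)⁻¹) * b.out := by group
    _ = _ := by rw [← e2]; group

/-- in a narrow group of rank at least three a critical subgroup is uniserial -/
theorem narrow_crit (hR : PiG {p} R) (ho : Odd #R) (hn : Narrow p R) (h : 2 < r[p](R)) :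
    ∃ H ≤ R, N[R] ≤ N[H] ∧ (∀ A ≤ N[R], PiG {p}ᶜ A → A ≤ C[H] → A ≤ C[R]) ∧
      ∀ L ≤ H, ⁅L, R⁆ ≤ L → ⁅L, R⁆.relIndex L ∣ p := by
  have hp := hR.prime_of_pRank h
  obtain ⟨H, a1, -, a2, a3, a4, a5⟩ := critical_odd hR ho (ne_bot_of_pRank hp h)
  obtain ⟨S, s1, s2, s3⟩ := (narrow_iff_cent hR ho h).1 hn
  obtain ⟨c1, -, -, c2⟩ := narrow_cent_dprod hR ho h hn s2 s1 s3
  have aS := abelem_of_card hp s2
  have c3 := c2.abel aS.abel c1.abel
  have nH := (normG R).trans a2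
  have b1 : ¬ S ≤ H := fun e => by
    have d1 : Abelem p (S ⊔ Z[H]) := aS.sup ⟨abel_Z H, fun x hx => a4 x hx.1⟩ (cent_symm (inf_le_right.trans (centS e)))
    have d2 : S ⊔ Z[H] ≤ R ⊓ C[S] := le_inf (sup_le s1 (inf_le_left.trans a1)) (centSS d1.abel le_rfl le_sup_left)
    have d3 : R ≤ N[S ⊔ Z[H]] := norm_of_comm_le (A := S ⊔ Z[H])
      (((commS (sup_le e inf_le_left) le_rfl).trans a3).trans le_sup_right) le_rfl
    rcases (d1.pig hp).card_dvd_or hp 1 with f | f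
    · rw [inf_eq_left.2 (centSS (cent_symm (hR.cent_of_dvd hp d3 (by simpa using f))) le_rfl le_sup_left)] at s3
      omega
    · obtain ⟨B, g1, g2, g3⟩ := normal_p2Elem_scn3 hR ho h ⟨d2.trans inf_le_left, d1, le_antisymm
        ((d1.card_le hp d2).trans (Nat.pow_le_pow_right hp.pos s3)) (Nat.le_of_dvd (card_pos _) f)⟩ d3
      have := pRank_mono hp (le_inf g1.le (centSS g1.abel le_rfl (le_sup_left.trans g3)))
      omega
  have b2 : #(H ⊓ C[S]) ∣ p := by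
    have d1 : H ⊓ C[S] < Ω[p](R ⊓ C[S]) := lt_of_le_of_ne (fun x hx => mem_Om ⟨a1 hx.1, hx.2⟩ (a4 x hx.1))
      fun e => b1 ((aS.le_Om c2.left).trans (e.ge.trans inf_le_left))
    simpa using card_dvd_of_lt_pow (n := 1) hp d1 (by rw [c3.card_Om hp]; exact pow_dvd_pow p s3)
  refine ⟨H, a1, a2, a5, fun L l1 l2 => ?_⟩
  obtain ⟨v, v1, v2⟩ := exists_mem_ne_one (ne_bot_of_prime (s2 ▸ hp : (#S).Prime))
  have e1 := idx_C1_le (R := L) (x := v) (K := ⁅L, R⁆) fun g hg => comm_mem hg (s1 v1)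
  have e2 := card_inf_mul_relIndex C1[v] L
  have e3 := card_mul_relIndex l2
  have e4 : #(C1[v] ⊓ L) ≤ p := by
    rw [C1_eq_of_prime (s2 ▸ hp) v1 v2, inf_comm]
    exact (card_le (inf_le_inf_right _ l1)).trans (Nat.le_of_dvd hp.pos b2)
  rw [← card_quo (comm_norml _ _), ← pow_one p]
  refine ((hR.of_le (l1.trans a1)).im _).card_dvd_of_le hp ?_
  rw [card_quo (comm_norml _ _), pow_one]
  refine Nat.le_of_mul_le_mul_left ?_ (card_pos ⁅L, R⁆)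
  rw [e3, ← e2, mul_comm _ p]; exact Nat.mul_le_mul e4 e1

theorem cent_of_series (hR : PiG {p} R) (hQ : PiG {p}ᶜ Q) (h1 : H ≤ R) (h2 : N[R] ≤ N[H])
    (h : ∀ L ≤ H, N[R] ≤ N[L] → ⁅L, Q⁆ ≤ ⁅L, R⁆) : Q ≤ C[H] := by
  suffices k : ∀ L, L ≤ H → N[R] ≤ N[L] → L ≤ C[Q] from cent_symm (k H le_rfl h2)
  intro L
  induction L using lt_wf_ind with
  | h L ih =>
  intro a1 a2
  by_cases h0 : L = ⊥
  · rw [h0]; exact bot_le
  have b := (hR.of_le (a1.trans h1)).comm_lt hR ((normG R).trans a2) h0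
  exact cop_stable (hQ.coprime' (hR.of_le (b.le.trans (a1.trans h1)))) (h L a1 a2)
    (ih _ b (b.le.trans a1) (normR a2 le_rfl))

theorem der_aut_narrow (hp : p.Prime) (hR : PiG {p} R) (ho : Odd #R) (hn : Narrow p R) (hA : A ≤ N[R])
    (ho' : Odd #A) : PiN {p} ((C[R]).relIndex ⁅A, A⁆) := by
  rcases le_or_gt r[p](R) 2 with h | h
  · exact der_aut_rank2' hp hR ho h hA ho'
  obtain ⟨H, a1, a2, a3, a4⟩ := narrow_crit hR ho hn h
  refine pin_relIndex_of_pig fun q hq b Q c d => ?_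
  have e := (c.trans (der_le A)).trans hA
  refine a3 Q e (d.ne_compl b) (cent_of_series hR (d.ne_compl b) a1 a2 fun L l1 l2 => ?_)
  have nM : N[R] ≤ N[⁅L, R⁆] := normR l2 le_rfl
  have f := (cyc_quo_of_idx hp (comm_norml L R) (a4 L l1 (commL ((normG R).trans l2)))).der_cent
    (im_norm (φ := quo ⁅L, R⁆) (hA.trans l2))
  rw [← im_der (φ := quo ⁅L, R⁆) (hA.trans nM)] at f
  exact (quo_cent_iff (comm_norml _ _) (e.trans nM)).1 (cent_symm ((im_mono c).trans f))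

theorem OM_of_der (hp : p.Prime) (h1 : A ≤ N[K]) (h : PiN {p} (K.relIndex ⁅A, A⁆)) :
    PiN {p}ᶜ ((OM {p} K A).relIndex A) ∧ ⁅A, A⁆ ≤ OM {p} K A := by
  have a1 : ⁅A, A⁆ ≤ OM {p} K A := le_OM h1 (der_le A) (normY (der_norm A) h1) h
  refine ⟨?_, a1⟩
  obtain ⟨P, hP⟩ := syl_exists hp (A ÷ K)
  have a2 := im_mono (φ := quo K) a1
  rw [OM_quo, im_der (φ := quo K) h1] at a2
  rw [OM, relIndex_pre (φ := quo K) _ h1]
  exact (hP.hall_O (norm_of_der_le (a2.trans hP.O_le) hP.le)).idx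

/-- BG 5.5(a) -/
theorem aut_narrow (hp : p.Prime) (hR : PiG {p} R) (ho : Odd #R) (hn : Narrow p R) (hA : A ≤ N[R]) (hs : Sol A)
    (ho' : Odd #A) :
    PiN {p}ᶜ ((OM {p} (A ⊓ C[R]) A).relIndex A) ∧ ⁅A, A⁆ ≤ OM {p} (A ⊓ C[R]) A := by
  refine OM_of_der hp (normI (normG A) (normC hA)) ?_
  rw [← inf_relIndex_right, inf_right_comm, inf_eq_right.2 (der_le A), inf_comm, inf_relIndex_right]
  exact der_aut_narrow hp hR ho hn hA ho'
theorem aut_narrow_rank3' (hp : p.Prime) (hR : PiG {p} R) (ho : Odd #R) (hn : Narrow p R) (h : 2 < r[p](R))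
    (hx : x ∈ N[R]) (h1 : PiE {p}ᶜ x) : x ^ (p - 1) ∈ C[R] := by
  obtain ⟨H, a1, a2, a3, a4⟩ := narrow_crit hR ho hn h
  have d := pig_zpowers.2 (h1.pow (p - 1))
  have e := zpowers_le.2 (pow_mem hx (p - 1))
  refine zpowers_le.1 (a3 _ e d (cent_of_series hR d a1 a2 fun L l1 l2 => ?_))
  have nM : N[R] ≤ N[⁅L, R⁆] := normR l2 le_rfl
  refine (quo_cent_iff (comm_norml _ _) (e.trans nM)).1 (cent_symm ?_)
  rw [im_zpowers (φ := quo ⁅L, R⁆) (nM (pow_mem hx _)), zpowers_le, app_pow (φ := quo ⁅L, R⁆) (nM hx)]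
  have f := app_mem_N (φ := quo ⁅L, R⁆) (l2 hx) (nM hx)
  rcases (Nat.dvd_prime hp).1 (a4 L l1 (commL ((normG R).trans l2))) with g | g
  · rw [(quo_bot_iff (comm_norml _ _)).2 (relIndex_eq_one.1 g), C_bot]; trivial
  · rw [← card_quo (comm_norml _ _)] at g
    obtain ⟨k, e⟩ := idx_cent_prime hp g le_rfl
    rw [e, pow_mul]; exact pow_mem (pow_relIndex_mem (normC le_rfl) f) k
/-- BG 5.5(b) -/
theorem aut_narrow_rank3 (hp : p.Prime) (hR : PiG {p} R) (ho : Odd #R) (hn : Narrow p R) (h : 2 < r[p](R))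
    (hx : x ∈ N[R]) (ho' : Odd (orderOf x)) (h1 : PiE {p}ᶜ x) : x ^ (p - 1) ∈ C[R] :=
  aut_narrow_rank3' hp hR ho hn h hx h1
/-- BG 5.6(a, c) -/
theorem narrow_der_compl_max_pdiv (hp : p.Prime) (ho : Odd #H) (hs : Sol H) (hS : Syl p S H) (hn : Narrow p S)
    (h : 2 < r[p](S) → PL1 p H) :
    PNil p ⁅H, H⁆ ∧ (∀ q, q.Prime → q ∣ O[{p}ᶜ](H).relIndex H → q ≤ p) ∧ ⁅H, H⁆ ≤ O2[{p}ᶜ, {p}](H) ∧ PL1 p H := by
  rcases le_or_gt r[p](S) 2 with e | e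
  · rw [Syl.pRank hS hp] at e
    obtain ⟨a1, a2, a3⟩ := rank2_der_compl hp hs ho e
    exact ⟨a1, fun q hq => rank2_max_pdiv hp hs ho e hq, a2, a3⟩
  have nK := O_norm {p}ᶜ H
  have i : S ⊓ (quo O[{p}ᶜ](H)).ker = ⊥ := by rw [quo_ker]; exact hS.pi.inf_bot (O_pig _ _)
  have b1 := hn.im hp (hS.le.trans nK) i
  rw [← pRank_im_inj hp (hS.le.trans nK) i] at e
  have b2 := (h (by rwa [pRank_im_inj hp (hS.le.trans nK) i] at e)).syl_quo.eq_O' (hS.im nK)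
  rw [b2] at b1 e
  have ho' := odd_im ho (quo O[{p}ᶜ](H))
  have oO := odd_of_le ho' (O_le {p} _)
  obtain ⟨a1, a2, a3⟩ := der_compl_of_idx (H := H) hp (by
    rw [← card_quo ((der_le H).trans nK), im_der (φ := quo _) nK]
    exact pin_of_cent_O (hs.im _) (O_quo_O _ _) (der_le _) rfl
      (der_aut_narrow hp (O_pig _ _) oO b1 (O_norm _ _) ho'))
  refine ⟨a1, fun q hq c => ?_, a2, a3⟩
  rw [← card_quo nK] at c
  by_cases f : q = p
  · exact f.le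
  obtain ⟨x, x1, x2⟩ := cauchy hq c
  have x3 : PiE {p}ᶜ x := by rw [PiE, x2]; exact (pin_prime hq).2 f
  have x4 := aut_narrow_rank3' hp (O_pig _ _) oO b1 e (O_norm _ _ x1) x3
  have x5 := ((O_pig _ _).elt (C_O_le (hs.im _) (O_quo_O _ _) ⟨pow_mem x1 _, x4⟩)).eq_one (x3.pow _)
  have := Nat.le_of_dvd (by have := hp.two_le; omega) (x2 ▸ orderOf_dvd_of_pow_eq_one x5)
  omega
/-- BG 5.7 -/
theorem narrow_der_le_F (hp : p.Prime) (ho : Odd #H) (hs : Sol H) (hE : Abelem p E) (h1 : E ≤ F[H])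
    (h2 : r(F[H] ⊓ C[E]) ≤ 2) : ⁅H, H⁆ ≤ F[H] := by
  refine chief_stab_le_F hs (der_le H) (der_norm H) fun U V a b => ?_
  obtain ⟨q, hq, c⟩ := a.abelem ((F_nil H).of_le b).sol
  have nF := F_nil H
  by_cases e : q = p
  swap
  · refine rank2_cent_chief hq ho hs (F_le H) (F_norm H) ?_ a (c.pig hq) b
    rw [← nF.pRank_O hq (π := {q}) rfl]
    exact (pRank_mono hq (le_inf (O_le _ _) (nF.cent (O_le _ _) h1 (O_pig _ _)
      ((hE.pig hp).ne_compl (Ne.symm e))))).trans ((pRank_le_rank hq _).trans h2)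
  subst e
  set R := O[{q}](F[H])
  have hR : PiG {q} R := O_pig _ _
  have rH : R ≤ H := (O_le _ _).trans (F_le H)
  have hn : Narrow q R := fun f => by
    obtain ⟨A, a1, a2⟩ := exists_pmax (nF.le_O h1 (hE.pig hp)) hE
    refine ⟨A, a2.ab.pnElem' hp a2.le (le_antisymm ((pRank_mono hp (le_inf (a2.le.trans (O_le _ _))
      (centSS a2.ab.abel le_rfl a1))).trans ((pRank_le_rank hq _).trans h2)) ?_), a2⟩
    by_contra g
    have a3 := eq_of_card_le a2.OmZ_le (by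
      rw [a2.ab.card_eq hp]
      exact (Nat.pow_le_pow_right hp.pos (show r[q](A) ≤ 1 by omega)).trans ((pow_one q).le.trans (Nat.le_of_dvd (card_pos _)
        ((hR.of_le (OmZ_le _ _)).dvd (hR.OmZ_ne_bot (ne_bot_of_pRank hp f))))))
    have a4 := a2.pRank_C hp
    rw [inf_eq_left.2 (cent_symm (a3 ▸ OmZ_cent q R))] at a4
    exact g ((le_of_lt f).trans a4.le)
  obtain ⟨S, hS⟩ := syl_exists hp U
  exact a.cent_der_of_syl hp (c.pig hp) (b.trans (F_le H)) hS ((der_aut_narrow hp hR (odd_of_le ho rH) hn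
    (inf_le_left.trans (normO _ (F_norm H))) (odd_of_le ho inf_le_left)).of_dvd
    (relIndex_dvd_left (centS (nF.le_O (hS.le.trans b) hS.pi)) _))

end Cfsg.Agent.BG
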