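import Cfsg.Agent.BG.MSO
import Cfsg.Agent.BG.S06
import Cfsg.Agent.BG.AppA
import Cfsg.Agent.Core.Subnormal
/-!
Bender–Glauberman, section 7: the transitivity theorem.
-/
set_option autoImplicit false

namespace Cfsg.Agent.BG
open Subgroup PHom

variable {G : Type*} [Group G] [Finite G] [hG : MSO G]
variable {A A₀ B D E E₁ E₂ E₃ H K L M Mstar P Q R S T U V W X Y Z : Subgroup G} {x y g : G} {π ρ : Set ℕ}
  {p q r m n : ℕ}

omit [Finite G] in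
theorem pig_piOf (A : Subgroup G) : PiG (piOf A) A := pin_self _
omit [Finite G] in
theorem PiG.piOf_compl (h : PiG {q} Q) (hq : ¬ q ∣ #A) : PiG (piOf A)ᶜ Q := h.single_mono hq
omit [Finite G] in
theorem PiG.cop_piOf (h : PiG (piOf A)ᶜ Y) : (#A).Coprime #Y := (pig_piOf A).coprime h
theorem PiG.mem_piOf_iff (h : PiG {p} A) (h0 : A ≠ ⊥) (hq : q.Prime) : q ∈ piOf A ↔ q = p :=
  ⟨fun e => h.eq_prime hq e, fun e => e ▸ h.dvd h0⟩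
theorem PiG.O_piOf_compl (h : PiG {p} A) (h0 : A ≠ ⊥) (X : Subgroup G) : O[(piOf A)ᶜ](X) = O[{p}ᶜ](X) :=
  O_congr fun _ hq _ => not_congr (h.mem_piOf_iff h0 hq)
theorem PiG.piOf_compl_iff (h : PiG {p} A) (h0 : A ≠ ⊥) : PiG (piOf A)ᶜ Y ↔ PiG {p}ᶜ Y :=
  ⟨fun a => a.mono' fun _ hq _ b c => b ((h.mem_piOf_iff h0 hq).2 c),
    fun a => a.mono' fun _ hq _ b c => b ((h.mem_piOf_iff h0 hq).1 c)⟩
theorem O_primesNotDvd (A X : Subgroup G) : O[primesNotDvd #A](X) = O[(piOf A)ᶜ](X) :=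
  O_congr fun _ hq _ => ⟨fun a => a.2, fun a => ⟨hq, a⟩⟩
theorem normedC_iff : NormedC A ↔ TransitivityHypothesis A := by
  refine ⟨fun h => ⟨h.ne_bot, h.ne_top, fun X a b => ?_⟩, fun h => ⟨h.1, h.2.1, fun X Y a b c d e => ?_⟩⟩
  · rw [O_primesNotDvd]
    exact le_antisymm (sSup_le fun Y c => h.le X Y a b c.1 (fun q hq e => (c.2.1 q hq e).2) c.2.2)
      (le_sSup ⟨O_le _ _, fun q hq e => ⟨hq, O_pig _ _ q hq e⟩, b.trans (O_norm _ _)⟩)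
  · rw [← O_primesNotDvd, ← h.2.2 X a b]
    exact le_sSup ⟨c, fun q hq e => ⟨hq, d q hq e⟩, e⟩
theorem Nil.subIn (h : Nil P) (h1 : A ≤ P) : Comp.SubIn A P := Core.subIn_of_isNilpotent h h1
omit [Finite G] in
theorem MaxN.eq_bot (h : MaxN A q ⊥) (h1 : PiG {q} R) (h2 : A ≤ N[R]) : R = ⊥ := h.max R h1 h2 bot_le

include hG

theorem NormedC.le_OC (hA : NormedC A) (h1 : Y ≤ C[A]) (h2 : PiG (piOf A)ᶜ Y) : Y ≤ O[(piOf A)ᶜ](C[A]) :=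
  (le_inf (hA.le N[A] Y (N_ne_top hA.ne_bot hA.ne_top) (normG A) (h1.trans (C_le_N A)) h2
    (cents_norm (cent_symm h1))) h1).trans (O_inf_le _ (C_le_N A))

theorem NormedC.step (hA : NormedC A) (hq : q.Prime) (hqA : ¬ q ∣ #A) (h1 : A ≤ H) (h2 : H ≠ ⊤)
    (hQ : MaxN A q Q) (hR : MaxN A q R) :
    ∃ k ∈ O[(piOf A)ᶜ](C[A]), ∃ S, MaxN A q S ∧ cj k (Q ⊓ H) ≤ S ∧ R ⊓ H ≤ S := by
  set L := O[(piOf A)ᶜ](H)
  have nL : A ≤ N[L] := h1.trans (O_norm _ _)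
  have cL : (#A).Coprime #L := (O_pig _ _).cop_piOf
  have sL : Sol A ∨ Sol L := Or.inl (mso_sol hA.ne_top)
  have key : ∀ Q, MaxN A q Q → ∃ P, Syl q P L ∧ A ≤ N[P] ∧ Q ⊓ H ≤ P := fun Q hQ =>
    cop_syl_superset nL cL sL hq (hA.le H _ h2 h1 inf_le_right ((hQ.pi.of_le inf_le_left).piOf_compl hqA)
      (normI hQ.norm (normsG h1))) (hQ.pi.of_le inf_le_left) (normI hQ.norm (normsG h1))
  obtain ⟨Q', a1, a2, a3⟩ := key Q hQ
  obtain ⟨R', b1, b2, b3⟩ := key R hR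
  obtain ⟨c, hc, e⟩ := cop_syl_conj nL cL sL hq a1 b1 a2 b2
  obtain ⟨S, c1, c2⟩ := exists_maxN b1.pi b2
  exact ⟨c, hA.le_OC inf_le_right ((O_pig _ _).of_le inf_le_left) hc, S, c2,
    ((cj_mono c a3).trans e.le).trans c1, b3.trans c1⟩

theorem NormedC.meet (hA : NormedC A) (hq : q.Prime) (hqA : ¬ q ∣ #A) (n : ℕ) : ∀ Q R, MaxN A q Q → MaxN A q R →
    Q ⊓ R ≠ ⊥ → Nat.card G - #(Q ⊓ R) ≤ n → ∃ k ∈ O[(piOf A)ᶜ](C[A]), cj k Q = R := by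
  induction n using Nat.strong_induction_on with
  | h n ih =>
  intro Q R hQ hR h0 hn
  by_cases e1 : Q ≤ R
  · exact ⟨1, one_mem _, by rw [cj_one, hQ.max R hR.pi hR.norm e1]⟩
  by_cases e2 : R ≤ Q
  · exact ⟨1, one_mem _, by rw [cj_one, hR.max Q hQ.pi hQ.norm e2]⟩
  obtain ⟨k, hk, S, hS, a1, a2⟩ := hA.step hq hqA (H := N[Q ⊓ R]) (normI hQ.norm hR.norm)
    ((hQ.pi.of_le inf_le_left).N_ne_top h0) hQ hR
  have b1 : #(Q ⊓ R) < #(cj k Q ⊓ S) := by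
    refine (card_lt (hQ.pi.nil.lt_norm (inf_lt_left.2 e1))).trans_le ?_
    rw [← card_cj k]; exact card_le (le_inf (cj_mono _ inf_le_left) a1)
  have b2 : #(Q ⊓ R) < #(S ⊓ R) :=
    (card_lt (hR.pi.nil.lt_norm (inf_lt_right.2 e2))).trans_le (card_le (le_inf a2 inf_le_left))
  have key : ∀ X : Subgroup G, #(Q ⊓ R) < #X → X ≠ ⊥ ∧ Nat.card G - #X < n := fun X h => ⟨fun e => by
    rw [e, card_bot'] at h; have := card_pos (Q ⊓ R); omega, by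
    have := card_le (le_top : X ≤ ⊤); rw [card_top] at this; omega⟩
  obtain ⟨k1, c1, d1⟩ := ih _ (key _ b1).2 _ _ (hQ.cj_norm (C_le_N A (O_le _ _ hk))) hS (key _ b1).1 le_rfl
  obtain ⟨k2, c2, d2⟩ := ih _ (key _ b2).2 _ _ hS hR (key _ b2).1 le_rfl
  exact ⟨k2 * k1 * k, mul_mem (mul_mem c2 c1) hk, by rw [cj_mul, cj_mul, d1, d2]⟩

/-- BG 7.1 -/
theorem normed_constrained_meet_trans (hA : NormedC A) (hq : q.Prime) (hqA : ¬ q ∣ #A) (h1 : A ≤ H) (h2 : H ≠ ⊤)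
    (hQ : MaxN A q Q) (hR : MaxN A q R) (h3 : Q ⊓ H ≠ ⊥) (h4 : R ⊓ H ≠ ⊥) :
    ∃ k ∈ O[(piOf A)ᶜ](C[A]), cj k Q = R := by
  obtain ⟨k, hk, S, hS, a1, a2⟩ := hA.step hq hqA h1 h2 hQ hR
  obtain ⟨k1, c1, d1⟩ := hA.meet hq hqA _ _ _ (hQ.cj_norm (C_le_N A (O_le _ _ hk))) hS
    (fun e => h3 (cj_eq_bot.1 (eq_bot_iff.2 (e ▸ le_inf (cj_mono _ inf_le_left) a1)))) le_rfl
  obtain ⟨k2, c2, d2⟩ := hA.meet hq hqA _ _ _ hS hR (fun e => h4 (eq_bot_iff.2 (e ▸ le_inf a2 inf_le_left))) le_rfl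
  exact ⟨k2 * k1 * k, mul_mem (mul_mem c2 c1) hk, by rw [cj_mul, cj_mul, d1, d2]⟩

omit hG in
theorem PnElem.exists_noncyc_cent (hp : p.Prime) (hB : PnElem p 3 B H) (hQ : PiG {p}ᶜ Q) (h : B ≤ N[Q])
    (h0 : Q ≠ ⊥) : ∃ D ≤ B, ¬ Cyc D ∧ Q ⊓ C[D] ≠ ⊥ := by
  by_contra hn
  push Not at hn
  refine h0 (eq_bot_iff.2 (cop_gen_cocyc hB.abel h ((hB.pig hp).coprime hQ) fun D a b => (hn D a fun c => ?_).le))
  have c1 := (hB.ab.of_le a).cyc_card hp c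
  have c2 := (hB.ab.im (quo D)).cyc_card hp b
  rw [card_quo (abel_norm hB.abel a)] at c2
  have c3 := Nat.le_of_dvd (mul_pos hp.pos hp.pos) (mul_dvd_mul c1 c2)
  rw [card_mul_relIndex a, hB.card, ← pow_two] at c3
  exact absurd ((Nat.pow_le_pow_iff_right hp.one_lt).1 c3) (by omega)

/-- BG 7.2 -/
theorem normed_constrained_rank3_trans (hA : NormedC A) (hq : q.Prime) (hqA : ¬ q ∣ #A) (h : 3 ≤ r(Z[A])) :
    TransN O[(piOf A)ᶜ](C[A]) A q := fun Q R hQ hR => by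
  by_cases e1 : Q = ⊥
  · subst e1; exact ⟨1, one_mem _, by rw [cj_one, hQ.eq_bot hR.pi hR.norm]⟩
  by_cases e2 : R = ⊥
  · subst e2; exact absurd (hR.eq_bot hQ.pi hQ.norm) e1
  obtain ⟨p, hp, B, hB⟩ := exists_pnElem_rank h
  have BA : B ≤ A := hB.le.trans inf_le_left
  have pq : q ≠ p := fun e => hqA (e ▸ hB.self.dvd.trans (cardS BA))
  obtain ⟨D, a1, a2, a3⟩ := hB.exists_noncyc_cent hp (hQ.pi.ne_compl pq) (BA.trans hQ.norm) e1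
  obtain ⟨z, b1, b2, b3⟩ := cop_exists_cent1 (hB.abel.of_le a1) a2 ((a1.trans BA).trans hR.norm)
    (((hB.pig hp).of_le a1).coprime (hR.pi.ne_compl pq)) e2
  exact normed_constrained_meet_trans hA hq hqA (le_C1_iff.2 (hB.le (a1 b1)).2) (C1_ne_top b2) hQ hR
    (fun e => a3 (eq_bot_iff.2 (e ▸ inf_le_inf_left _ (C_le_C1 b1)))) b3

/-- BG 7.3 -/
theorem normed_constrained_rank2_trans (hA : NormedC A) (hq : q.Prime) (hqA : ¬ q ∣ #A) (h1 : q ∣ #C[A])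
    (h : 2 ≤ r(Z[A])) : TransN O[(piOf A)ᶜ](C[A]) A q := by
  obtain ⟨p, hp, B, hB⟩ := exists_pnElem_rank h
  have BA : B ≤ A := hB.le.trans inf_le_left
  have pq : q ≠ p := fun e => hqA (e ▸ hB.self.dvd.trans (cardS BA))
  obtain ⟨X, a1, a2⟩ := exists_prime_sub hq h1
  have X0 : X ≠ ⊥ := ne_bot_of_prime (a2 ▸ hq)
  obtain ⟨S, a3, hS⟩ := exists_maxN (pig_of_card' hq a2) (cents_norm (cent_symm a1))
  have key : ∀ Q, MaxN A q Q → ∃ k ∈ O[(piOf A)ᶜ](C[A]), cj k Q = S := fun Q hQ => by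
    have e1 : Q ≠ ⊥ := fun e => X0 ((e ▸ hQ).eq_bot (pig_of_card' hq a2) (cents_norm (cent_symm a1)))
    obtain ⟨z, b1, b2, b3⟩ := cop_exists_cent1 hB.abel (hB.not_cyc hp) (BA.trans hQ.norm)
      ((hB.pig hp).coprime (hQ.pi.ne_compl pq)) e1
    exact normed_constrained_meet_trans hA hq hqA (le_C1_iff.2 (hB.le b1).2) (C1_ne_top b2) hQ hS b3
      (fun e => X0 (eq_bot_iff.2 (e ▸ le_inf a3 (a1.trans (C_le_C1 (BA b1))))))
  intro Q R hQ hR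
  obtain ⟨k, b1, b2⟩ := key Q hQ
  obtain ⟨l, c1, c2⟩ := key R hR
  exact ⟨l⁻¹ * k, mul_mem (inv_mem c1) b1, by rw [cj_mul, b2, ← c2, cj_inv_cj]⟩

omit hG in
theorem TransN.prod (h : TransN K P q) (hQ : MaxN P q Q) (h1 : K ≤ M) (h2 : M ≤ N[P]) : IsProd K (M ⊓ N[Q]) M :=
  ⟨h1, inf_le_left, fun g hg => by
    obtain ⟨k, a, b⟩ := h Q _ hQ (hQ.cj_norm (h2 hg))
    exact ⟨k, a, k⁻¹ * g, ⟨M.mul_mem (M.inv_mem (h1 a)) hg, mem_N_iff_cj.2 (by rw [cj_mul, ← b, cj_inv_cj])⟩,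
      by group⟩⟩

theorem NormedC.C_eq (hA : NormedC A) (h1 : A ≤ P) : O[(piOf A)ᶜ](C[A]) ⊓ C[P] = O[(piOf A)ᶜ](C[P]) :=
  le_antisymm (O_inf_le _ (centS h1)) (le_inf (hA.le_OC ((O_le _ _).trans (centS h1)) (O_pig _ _)) (O_le _ _))

theorem NormedC.super_step (hA : NormedC A) (hq : q.Prime) (hqA : ¬ q ∣ #A) (h1 : A ≤ B) (h2 : B ≤ P)
    (h2' : P ≤ N[B]) (h3 : PiG (piOf A) P) (h4 : P ≠ ⊤) (h : TransN O[(piOf A)ᶜ](C[B]) B q) :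
    TransN O[(piOf A)ᶜ](C[P]) P q ∧ ∀ Q, MaxN P q Q → MaxN B q Q := by
  set K := O[(piOf A)ᶜ](C[B])
  have pK : PiG (piOf A)ᶜ K := O_pig _ _
  have nK : P ≤ N[K] := normO _ (normC h2')
  have B0 : B ≠ ⊥ := fun e => hA.ne_bot (eq_bot_iff.2 (e ▸ h1))
  have MB : K ⊔ P ≤ N[B] := sup_le (cents_norm (O_le _ _)) h2'
  have a1 : ∃ Q, MaxN B q Q ∧ P ≤ N[Q] := by
    obtain ⟨Q, -, hQ⟩ := exists_maxN (A := B) (pig_bot {q}) (norm_bot _)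
    have sM : Sol (K ⊔ P) := (sol_N B0 (ne_top_of_le_ne_top h4 h2)).of_le MB
    have b := h.prod hQ le_sup_left MB
    obtain ⟨H, hH⟩ := hall_exists (piOf A) (sM.of_le (inf_le_left : (K ⊔ P) ⊓ N[Q] ≤ _))
    have c : Hall (piOf A) H (K ⊔ P) := hH.trans' inf_le_left (by
      rw [b.symm.relIndex]; exact pK.relIndex _)
    obtain ⟨g, hg, d⟩ := c.sub_cj sM le_sup_right h3
    exact ⟨_, hQ.cj_norm (MB hg), d.trans (norm_cj.2 (hH.le.trans inf_le_right))⟩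
  have a2 : ∀ Q, MaxN P q Q → MaxN B q Q := fun Q hQ => by
    by_cases e : Q = ⊥
    · obtain ⟨R, b1, b2⟩ := a1
      subst e
      rw [← hQ.eq_bot b1.pi b2]; exact b1
    refine ⟨hQ.pi, h2.trans hQ.norm, fun R b1 b2 b3 => ?_⟩
    set L := O[(piOf A)ᶜ](N[Q])
    have key : ∀ Y, PiG {q} Y → Y ≤ N[Q] → B ≤ N[Y] → Y ≤ L := fun Y c1 c2 c3 =>
      hA.le _ _ (hQ.pi.N_ne_top e) ((h1.trans h2).trans hQ.norm) c2 (c1.piOf_compl hqA) (h1.trans c3)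
    obtain ⟨S, c1, c2, c3⟩ := cop_syl_superset (hQ.norm.trans (O_norm _ _)) (h3.coprime (O_pig _ _))
      (Or.inl (mso_sol h4)) hq (key Q hQ.pi (normG Q) (h2.trans hQ.norm)) hQ.pi hQ.norm
    rw [hQ.max S c1.pi c2 c3] at c1
    refine (b1.nil.eq_of_norm b3 (c1.max (b1.of_le inf_le_left) ?_ (le_inf b3 (normG Q))).le).symm
    exact key _ (b1.of_le inf_le_left) inf_le_right (normI b2 (normN (h2.trans hQ.norm)))
  refine ⟨fun Q R hQ hR => ?_, a2⟩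
  obtain ⟨k, b1, rfl⟩ := h Q R (a2 Q hQ) (a2 R hR)
  obtain ⟨c, b2, b3⟩ := cop_conj_cent nK (h3.coprime pK) (Or.inl (mso_sol h4)) hQ.norm hR.norm b1
  exact ⟨c, O_inf_le _ (centS h2) b2, b3⟩

/-- BG 7.4 -/
theorem normed_trans_superset (hA : NormedC A) (hq : q.Prime) (hqA : ¬ q ∣ #A)
    (h2 : Comp.SubIn A P) (h3 : PiG (piOf A) P) (h4 : P ≠ ⊤) (h : TransN O[(piOf A)ᶜ](C[A]) A q) :
    O[(piOf A)ᶜ](C[A]) ⊓ C[P] = O[(piOf A)ᶜ](C[P]) ∧ TransN O[(piOf A)ᶜ](C[P]) P q ∧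
      (∀ Q, MaxN P q Q → MaxN A q Q) ∧
      ∀ Q, MaxN P q Q → P ⊓ ⁅N[P], N[P]⁆ ≤ ⁅N[Q], N[Q]⁆ ∧ IsProd O[(piOf A)ᶜ](C[P]) (N[P] ⊓ N[Q]) N[P] := by
  have key : ∀ B P, Comp.SubIn B P → A ≤ B → PiG (piOf A) P → P ≠ ⊤ → TransN O[(piOf A)ᶜ](C[B]) B q →
      TransN O[(piOf A)ᶜ](C[P]) P q ∧ ∀ Q, MaxN P q Q → MaxN B q Q := fun B P hs => by
    induction hs with
    | refl => exact fun _ _ _ a => ⟨a, fun _ b => b⟩
    | step a b c ih =>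
      intro d e f i
      have j := hA.super_step hq hqA d a b (e.of_le c.le) (ne_top_of_le_ne_top f c.le) i
      have k := ih (d.trans a) e f j.1
      exact ⟨k.1, fun Q hQ => j.2 Q (k.2 Q hQ)⟩
  obtain ⟨a, b⟩ := key A P h2 le_rfl h3 h4 h
  refine ⟨hA.C_eq h2.le, a, b, fun Q hQ => ?_⟩
  have c := a.prod hQ ((O_le _ _).trans (C_le_N P)) le_rfl
  refine ⟨?_, c⟩
  rw [prod_focal_cop c (normO _ (normC le_rfl)) (le_inf (normG P) hQ.norm) (h3.coprime (O_pig _ _))]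
  exact inf_le_right.trans (derS inf_le_right)

/-- BG 7.5, via the Thompson–Bender lemma -/
theorem normedC_of (hA : PiG {p} A) (h0 : A ≠ ⊥) (h : ∀ x ∈ C[A], x ^ p = 1 → x ∈ A) : NormedC A := by
  have hp := hA.prime h0
  haveI := Fact.mk hp
  refine ⟨h0, hA.ne_top, fun X Y a b c d e => ?_⟩
  rw [hA.O_piOf_compl h0, ← pPrimeCore_map hp, Comp.Opp_eq]
  exact Comp.thompson_bender (prime_ne_two (hA.dvd h0)) (Comp.PLay_eq_bot_of_solvable (mso_sol a)) b c (hA.pg hp)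
    ((pin_compl_cop hp).1 ((hA.piOf_compl_iff h0).1 d)) e fun x _ i j => h x i j

/-- BG 7.5(a) -/
theorem pmax_normed_constrained (hp : p.Prime) (h0 : A ≠ ⊥) (hA : PMax p A ⊤) : NormedC A :=
  normedC_of (hA.ab.pig hp) h0 fun _ a b => hA.mem (mem_top _) a b

omit hG in
theorem SCN.syl_C (hA : SCN A P) (hP : Syl p P H) : Syl p A (H ⊓ C[A]) := by
  have a := hP.inf_norm (K := H ⊓ C[A]) inf_le_left (normI (normsG hP.le) (normC hA.norm))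
  rwa [← inf_assoc, inf_eq_left.2 hP.le, hA.cent] at a

omit hG in
theorem SCN.le_of_cent (hA : SCN A P) (hP : Syl p P H) (h1 : X ≤ H) (h2 : X ≤ C[A]) (h3 : PiG {p} X) : X ≤ A :=
  (hA.syl_C hP).le_of_norm h3 (le_inf h1 h2) (cents_norm h2)

/-- BG 7.5(b) -/
theorem scn_normed_constrained (hp : p.Prime) (hP : Syl p P ⊤) (hA : SCN A P) (h : A ≠ ⊥) : NormedC A :=
  normedC_of (hP.pi.of_le hA.le) h fun x a b =>
    hA.le_of_cent hP le_top (zpowers_le.2 a) (pig_zpowers.2 (pie_of_pow hp b)) (mem_zpowers x)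

/-- BG 7.6, Thompson's transitivity theorem -/
theorem thompson_transitivity (hp : p.Prime) (hP : Syl p P ⊤) (hA : SCN A P) (h : 3 ≤ r[p](A)) (hq : q.Prime)
    (h1 : q ≠ p) : TransN O[{p}ᶜ](C[A]) A q := by
  have h0 : A ≠ ⊥ := ne_bot_of_pRank hp (n := 2) h
  have pA := hP.pi.of_le hA.le
  rw [← pA.O_piOf_compl h0]
  refine normed_constrained_rank3_trans (scn_normed_constrained hp hP hA h0) hq
    (fun e => h1 (pA.eq_prime hq e)) ?_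
  rw [inf_eq_left.2 hA.abel]; exact h.trans (pRank_le_rank hp A)

end Cfsg.Agent.BG
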