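import Cfsg.Agent.BG.S07
import Cfsg.Agent.BG.AppB
import Cfsg.Agent.BG.S04a
/-!
Bender–Glauberman, section 8: the Fitting subgroup of a maximal subgroup.
-/
set_option autoImplicit false

namespace Cfsg.Agent.BG
open Subgroup PHom

variable {G : Type*} [Group G] [Finite G] [hG : MSO G]
variable {A A₀ B D E E₁ E₂ E₃ H K L M Mstar P Q R S T U V W X Y Z : Subgroup G} {x y g : G} {π ρ : Set ℕ}
  {p q r m n : ℕ}

theorem O_eq_bot_of_F (hs : Sol H) (h : PiG πᶜ F[H]) : O[π](H) = ⊥ := by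
  by_contra hn
  exact F_ne_bot (hs.of_le (O_le _ _)) hn (by rw [F_O]; exact O_eq_bot h)

theorem le_O_of_forall (h1 : Y ≤ H) (h : ∀ q, q.Prime → q ∉ π → Y ≤ O[{q}ᶜ](H)) : Y ≤ O[π](H) := by
  set K := H ⊓ ⨅ (q : ℕ) (_ : q.Prime ∧ q ∉ π), O[{q}ᶜ](H)
  refine (le_inf h1 (le_iInf₂ fun q hq => h q hq.1 hq.2)).trans (le_O (A := K) inf_le_left
    (normI (normG H) (norm_iInf fun q => norm_iInf fun _ => O_norm _ _)) fun q hq hd => ?_)
  by_contra hn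
  exact (O_pig {q}ᶜ H).of_le (inf_le_right.trans (iInf₂_le q ⟨hq, hn⟩)) q hq hd rfl

/-- a `p'`-subgroup normalized by a Sylow `p`-subgroup of a solvable group lies in `O_{p'}` -/
theorem le_O_of_syl_norm (hs : Sol H) (hP : Syl p P H) (h1 : K ≤ H) (h2 : PiG {p}ᶜ K) (h3 : P ≤ N[K]) :
    K ≤ O[{p}ᶜ](H) := by
  set D := O[{p}ᶜ](H)
  have nD : H ≤ N[D] := O_norm _ _
  have a : K ÷ D ≤ C[O[{p}](H ÷ D)] := cent_symm ((O_pig _ _).cent (h2.im _) ((hP.im nD).O_le.trans (im_norm h3))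
    ((im_mono h1).trans (O_norm _ _)))
  have b := (le_inf (im_mono h1) a).trans (C_O_le (hs.im _) (O_quo_O _ _))
  exact (quo_bot_iff (h1.trans nD)).1 (((O_pig _ _).of_le b).eq_bot (h2.im _))

theorem O_local_le (hs : Sol X) (hZ : PiG {q} Z) (h1 : Z ≤ X) (h2 : X ⊓ C[Z] ≤ M) (h3 : Y ≤ O[{q}ᶜ](M))
    (h4 : Y ≤ X) (h5 : Y ≤ C[Z]) : Y ≤ O[{q}ᶜ](X) :=
  ((le_inf h3 (le_inf h4 h5)).trans (O_inf_le _ h2)).trans (p'core_cent_pgroup hZ h1 hs)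

include hG

theorem not_inU_bot : ¬ InU (⊥ : Subgroup G) := fun ⟨M, h⟩ =>
  h.max.1 (top_le_iff.1 (N_bot (G := G) ▸ h.N_le))
theorem InU.ne_bot (h : InU X) : X ≠ ⊥ := fun e => not_inU_bot (e ▸ h)

/-- invariant `q`-subgroups are trivial when the transitive group is trivial -/
theorem NormedC.eq_bot_of_F (hA : NormedC A) (hM : IsCoatom M) (h1 : A ≤ F[M]) (h2 : PiG (piOf A) F[M])
    (h3 : O[(piOf A)ᶜ](C[A]) = ⊥) (h4 : 3 ≤ r(Z[A])) (hY : PiG (piOf A)ᶜ Y) (h5 : A ≤ N[Y]) : Y = ⊥ := by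
  by_contra h0
  obtain ⟨q, hq, hd⟩ := exists_prime_dvd h0
  have qA : ¬ q ∣ #A := hY q hq hd
  obtain ⟨S, a1, a2⟩ := cop_syl_exists h5 hY.cop_piOf (Or.inl (mso_sol hA.ne_top)) hq
  have t := normed_constrained_rank3_trans hA hq qA h4
  have u : ∀ Q R, MaxN A q Q → MaxN A q R → Q = R := fun Q R a b => by
    obtain ⟨k, c, d⟩ := t Q R a b
    rw [h3, mem_bot] at c; rw [← d, c, cj_one]
  have s := (normed_trans_superset hA hq qA ((F_nil M).subIn h1) h2 (F_nil M).sol.ne_top t).2.2.1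
  obtain ⟨Q, -, hQ⟩ := exists_maxN (A := F[M]) (pig_bot {q}) (norm_bot _)
  have nQ : M ≤ N[Q] := fun g hg => mem_N_iff_cj.2 (u _ _ (s _ (hQ.cj_norm (F_norm M hg))) (s _ hQ))
  have b : Q = ⊥ := (h2.of_le ((le_O (le_of_coatom_norm hM nQ hQ.pi.ne_top) nQ hQ.pi).trans (O_le_F q M))).eq_bot
    (hQ.pi.piOf_compl qA)
  exact Syl.ne_bot' a1 hq hd ((b ▸ s Q hQ).eq_bot a1.pi a2)

/-- a `p`-subgroup of `M` containing `A` and maximal among those lying in a second maximal subgroup -/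
theorem exists_syl_other (hM : IsCoatom M) (hp : p.Prime) (hA : PiG {p} A) (h0 : A ≠ ⊥) (h1 : A ≤ M)
    (h2 : ¬ UMax A M) (hN : ∀ P, Syl p P M → A ≤ P → N[P] ≤ M) : ∃ R H, A ≤ R ∧ R ≤ M ∧ IsCoatom H ∧ H ≠ M ∧
    N[R] ≤ M ∧ Syl p R H ∧ ∀ S, PiG {p} S → R ≤ S → S ≤ M → S ≤ H → S = R := by
  obtain ⟨R, a, ⟨b, c, H, d, e, f⟩, m⟩ := exists_maximal
    (P := fun R => PiG {p} R ∧ R ≤ M ∧ ∃ H, IsCoatom H ∧ R ≤ H ∧ H ≠ M) (A := A)
    ⟨hA, h1, exists_coatom_ne (ne_top_of_le hM h1) h2⟩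
  have nR : N[R] ≤ M := by
    obtain ⟨S, i, j⟩ := syl_superset hp (le_inf c (normG R)) b
    by_cases k : S = R
    · exact hN R (Syl.of_norm (k ▸ i) hp) a
    obtain ⟨L, u, v⟩ := exists_coatom (b.N_ne_top fun z => h0 (eq_bot_iff.2 (z ▸ a)))
    by_contra hn
    exact k (m S ⟨i.pi, i.le.trans inf_le_left, L, u, (i.le.trans inf_le_right).trans v, fun z => hn (z ▸ v)⟩ j)
  have m' : ∀ S, PiG {p} S → R ≤ S → S ≤ M → S ≤ H → S = R := fun S i j k l => m S ⟨i, k, H, d, l, f⟩ j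
  refine ⟨R, H, a, c, d, f, nR, ?_, m'⟩
  obtain ⟨S, i, j⟩ := syl_superset hp (le_inf e (normG R)) b
  exact Syl.of_norm (m' S i.pi j ((i.le.trans inf_le_right).trans nR) (i.le.trans inf_le_left) ▸ i) hp

theorem N_ZPuig (hM : IsCoatom M) (hp : p.Prime) (hP : Syl p P M) (h0 : P ≠ ⊥) (h : O[{p}ᶜ](M) = ⊥) :
    N[Z[Puig P]] = M :=
  coatom_N hM ((inf_le_left.trans (Puig_le P)).trans hP.le) (ZPuig_normal hp (mso_odd _) (coatom_sol hM) hP h)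
    (ZPuig_ne_bot hP.pi h0)
theorem N_syl_le_of_O (hM : IsCoatom M) (hp : p.Prime) (hP : Syl p P M) (h0 : P ≠ ⊥) (h : O[{p}ᶜ](M) = ⊥) :
    N[P] ≤ M := N_ZPuig hM hp hP h0 h ▸ normZPuig le_rfl

/-- BG 8.1(a) -/
theorem non_pcore_F_uniqueness (hM : IsCoatom M) (hp : p.Prime) (h : ¬ PiG {p} F[M]) (hA : PMax p A₀ F[M])
    (h1 : 3 ≤ r[p](A₀)) : InU (F[M] ⊓ C[A₀]) := by
  set A := F[M] ⊓ C[A₀] with hAd
  have AF : A ≤ F[M] := inf_le_left
  have AM : A ≤ M := AF.trans (F_le M)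
  have A0A : A₀ ≤ A := le_inf hA.le hA.ab.abel
  have sM := coatom_sol hM
  have ZA : Z[F[M]] ≤ A := inf_le_inf_left _ (centS hA.le)
  have pF : p ∣ #F[M] := (dvd_of_pRank hp (n := 2) h1).trans (cardS hA.le)
  have hZ : ∀ q, q.Prime → q ∣ #F[M] → ∃ Z, PiG {q} Z ∧ Z ≠ ⊥ ∧ Z ≤ A ∧ C[Z] ≤ M ∧ Z ≤ O[{q}](M) ∧ M ≤ N[Z] :=
    fun q hq hd => by
    have a : O[{q}](M) ⊓ C[F[M]] ≠ ⊥ := (F_nil M).meet_C (O_le_F q M) ((F_le M).trans (O_norm _ _))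
      (by rw [← O_F]; exact (F_nil M).O_ne_bot hq hd rfl)
    have b : M ≤ N[O[{q}](M) ⊓ C[F[M]]] := normI (O_norm _ _) (normC (F_norm M))
    refine ⟨_, (O_pig _ _).of_le inf_le_left, a, (inf_le_inf_right _ (O_le_F q M)).trans ZA, ?_, inf_le_left, b⟩
    exact (C_le_N _).trans (coatom_N hM (inf_le_left.trans (O_le _ _)) b a).le
  have piA : ∀ q, q.Prime → q ∣ #F[M] → q ∣ #A := fun q hq hd => by
    obtain ⟨Z, a, b, c, -⟩ := hZ q hq hd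
    exact (a.dvd b).trans (cardS c)
  have pF' : PiG (piOf A) F[M] := piA
  have f1 : ∀ X, X ≠ ⊤ → A ≤ X → ∀ q, q.Prime → q ∣ #F[M] → ∀ Y ≤ X, Y ≤ O[{q}ᶜ](M) → Y ≤ O[{q}ᶜ](X) :=
    fun X hX hAX q hq hd Y i j => by
      obtain ⟨Z, a, b, c, d, e, -⟩ := hZ q hq hd
      exact O_local_le (mso_sol hX) a (c.trans hAX) (inf_le_right.trans d) j i (centSS (O_cent_O' {q} M) j e)
  have f2 : ∀ Y ≤ C[A], PiG (piOf A)ᶜ Y → Y = ⊥ := fun Y a b => by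
    obtain ⟨Z, -, -, c, d, -⟩ := hZ p hp pF
    have YM : Y ≤ M := (a.trans (centS c)).trans d
    have e := cop_self_cent (F_nil M) (YM.trans (F_norm M)) (b.coprime' pF') AF (cent_symm a)
      (inf_le_inf_left _ (centS A0A))
    exact (pF'.of_le ((le_inf YM e).trans (C_F_le sM))).eq_bot b
  have f3 : ∀ q, q.Prime → ∃ r, r.Prime ∧ r ∣ #F[M] ∧ r ≠ q := fun q hq => by
    by_cases e : q = p
    · by_contra hn
      push Not at hn
      exact h fun r a b => e ▸ hn r a b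
    · exact ⟨p, hp, pF, Ne.symm e⟩
  have OO : ∀ r q : ℕ, r ≠ q → O[{r}](M) ≤ O[{q}ᶜ](M) := fun r q e => O_mono (by
    intro s hs; rw [Set.mem_singleton_iff.1 hs]; exact e) M
  have A0 : A ≠ ⊥ := fun e => ne_bot_of_pRank hp (n := 2) h1 (eq_bot_iff.2 (e ▸ A0A))
  have hN : NormedC A := ⟨A0, ne_top_of_le hM AM, fun X Y hX hAX hY pY nY => le_O_of_forall hY fun q hq hd => by
    have hd' : q ∣ #F[M] := (not_not.1 hd).trans (cardS AF)
    obtain ⟨r, hr, rd, rq⟩ := f3 q hq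
    obtain ⟨R, a, b, c, d, e, f⟩ := hZ r hr rd
    have pY' : PiG (piOf A)ᶜ (Y ⊓ C[R]) := pY.of_le inf_le_left
    have YR : Y ⊓ C[R] = ⊥ := f2 _ (comm_eq_bot'.1 (eq_bot_iff.2 ((le_inf
      ((commS AF le_rfl).trans (commL ((inf_le_right.trans d).trans (F_norm M))))
      (commR (normI nY (normC (AM.trans f))))).trans (pF'.inf_bot pY').le))) pY'
    have i := (cop_cent_prod (c.trans nY) (coprimeS pY.cop_piOf c le_rfl) (Or.inl a.sol)).sup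
    rw [YR, sup_bot_eq] at i
    rw [← i]
    exact (commS hY (f1 X hX hAX q hq hd' R (c.trans hAX) (e.trans (OO r q rq)))).trans (commR (O_norm _ _))⟩
  have hT : ∀ Y, PiG (piOf A)ᶜ Y → A ≤ N[Y] → Y = ⊥ := fun Y a b => hN.eq_bot_of_F hM AF pF'
    (f2 _ (O_le _ _) (O_pig _ _)) (h1.trans ((pRank_mono hp (le_inf A0A (cent_symm inf_le_right))).trans
      (pRank_le_rank hp _))) a b
  refine ⟨M, umax_of hN.ne_top fun H hH AH => ?_⟩
  have sH := coatom_sol hH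
  obtain ⟨Z, a, b, c, d, e, -⟩ := hZ p hp pF
  have g1 : ∀ q, q.Prime → q ≠ p → O[{q}](H) ≤ C[Z] := fun q hq qp => by
    by_cases hd : q ∣ #F[M]
    · exact centSS (O_cent_O {q} H) le_rfl (f1 H hH.1 AH q hq hd Z (c.trans AH) (e.trans (OO p q qp.symm)))
    · rw [hT _ ((O_pig _ _).piOf_compl fun i => hd (i.trans (cardS AF))) (AH.trans (O_norm _ _))]
      exact bot_le
  have g2 : O[{p}ᶜ](H) ≤ M := by
    refine (cent_symm (cop_cent_F ((c.trans AH).trans (O_norm _ _)) (a.coprime (O_pig _ _)) (sH.of_le (O_le _ _))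
      (cent_symm ((F_nil _).le_of_O fun q hq hd => ?_)))).trans d
    rw [O_F]
    exact (O_le_of_normal _ (O_le _ _) (O_norm _ _)).trans (g1 q hq (((O_pig _ _).of_le (F_le _)) q hq hd))
  have g3 : O[{p}](H) ≠ ⊥ := fun i => by
    have j : Z ≤ F[H] := (le_inf (c.trans AH) (cent_symm (F_le_of_O fun q hq => by
      by_cases qp : q = p
      · rw [qp, i]; exact bot_le
      · exact g1 q hq qp))).trans (C_F_le sH)
    exact b (eq_bot_iff.2 (((F_nil H).le_O j a).trans (by rw [O_F, i])))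
  obtain ⟨r, hr, rd, rp⟩ := f3 p hp
  obtain ⟨R, a', b', c', d', e', -⟩ := hZ r hr rd
  have RO : R ≤ O[{p}ᶜ](M) := e'.trans (OO r p rp)
  have DM : O[{p}](H) ≤ M := (centSS (O_cent_O {p} H) le_rfl (f1 H hH.1 AH p hp pF R (c'.trans AH) RO)).trans d'
  have CD : C[O[{p}](H)] ≤ H := (C_le_N _).trans (coatom_N hH (O_le _ _) (O_norm _ _) g3).le
  have g4 : O[{p}ᶜ](H) ≤ O[{p}ᶜ](M) :=
    O_local_le sM (O_pig _ _) DM (inf_le_right.trans CD) le_rfl g2 (O_cent_O' _ _)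
  have g5 : O[{p}ᶜ](F[M]) ≤ A := le_inf (O_le _ _) (centSS (O_cent_O' {p} F[M]) le_rfl
    ((F_nil M).le_O hA.le (hA.ab.pig hp)))
  have g6 : O[{p}ᶜ](M) ≤ H := (cent_symm (cop_cent_F (DM.trans (O_norm _ _)) ((O_pig _ _).coprime (O_pig _ _))
    (sM.of_le (O_le _ _)) (by
      rw [F_O]
      exact centSS (O_cent_O {p} H) le_rfl (f1 H hH.1 AH p hp pF _ (g5.trans AH) (O_F_le _ _))))).trans CD
  have g7 := le_antisymm g4 (f1 H hH.1 AH p hp pF _ g6 le_rfl)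
  have g8 : O[{p}ᶜ](M) ≠ ⊥ := fun i => b' (eq_bot_iff.2 (i ▸ RO))
  rw [← coatom_N hH (O_le {p}ᶜ _) (O_norm _ _) (g7 ▸ g8), g7, coatom_N hM (O_le _ _) (O_norm _ _) g8]

/-- BG 8.1(b) -/
theorem scn_F_uniqueness (hM : IsCoatom M) (hp : p.Prime) (h : PiG {p} F[M]) (hP : Syl p P M)
    (h1 : 3 ≤ r[p](F[M])) : Syl p P ⊤ ∧ ∀ A, SCN A P → 3 ≤ r[p](A) → A ≤ F[M] ∧ InU A := by
  have sM := coatom_sol hM
  have O0 : O[{p}ᶜ](M) = ⊥ := O_eq_bot_of_F sM h.compl_compl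
  have FP : F[M] ≤ P := hP.le_of_norm' h (F_le M) (hP.le.trans (F_norm M))
  have F0 := F_coatom_ne_bot hM
  have hP' : Syl p P ⊤ := Syl.of_norm (hP.sub (le_inf le_top (normG P)) (inf_le_right.trans
    (N_syl_le_of_O hM hp hP (fun e => F0 (eq_bot_iff.2 (e ▸ FP))) O0))) hp
  refine ⟨hP', fun A hA h3 => ?_⟩
  have AF : A ≤ F[M] := (odd_p_abel_constrained hp (mso_odd _) sM hP hA.abel hA.le hA.norm).trans (by
    rw [O2_eq_O O0]; exact O_le_F p M)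
  have A0 := ne_bot_of_pRank hp (n := 2) h3
  have pA := hP.pi.of_le hA.le
  have AM := hA.le.trans hP.le
  have CM : C[A] ≤ M := ((centS ((le_inf (inf_le_left.trans FP) (inf_le_right.trans (centS AF))).trans
    hA.cent.le)).trans (C_le_N Z[F[M]])).trans (coatom_N hM (inf_le_left.trans (F_le M)) (normZ (F_norm M))
      ((F_nil M).Z_ne_bot F0)).le
  have hT : ∀ Y, PiG {p}ᶜ Y → A ≤ N[Y] → Y = ⊥ := fun Y a b =>
    (scn_normed_constrained hp hP' hA A0).eq_bot_of_F hM AF (h.single_mono (pA.dvd A0)) (by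
      rw [pA.O_piOf_compl A0, ← inf_eq_right.2 CM, eq_bot_iff, ← O0]
      exact p'core_cent_pgroup pA AM sM)
      (h3.trans ((pRank_mono hp (le_inf le_rfl hA.abel)).trans (pRank_le_rank hp _)))
      ((pA.piOf_compl_iff A0).2 a) b
  refine ⟨AF, M, by_contra fun hn => ?_⟩
  obtain ⟨R, H, a, b, c, d, e, f, g⟩ := exists_syl_other hM hp pA A0 AM hn fun S i j =>
    N_syl_le_of_O hM hp i (fun e => A0 (eq_bot_iff.2 (e ▸ j))) O0
  have R0 : R ≠ ⊥ := fun e => A0 (eq_bot_iff.2 (e ▸ a))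
  have k := N_ZPuig c hp f R0 (hT _ (O_pig _ _) ((a.trans f.le).trans (O_norm _ _)))
  obtain ⟨S, i, j⟩ := syl_superset hp (le_inf b (normG R)) f.pi
  have l : Syl p R M := Syl.of_norm (g S i.pi j (i.le.trans inf_le_left)
    (k ▸ normZPuig (i.le.trans inf_le_right)) ▸ i) hp
  exact d (k.symm.trans (N_ZPuig hM hp l R0 O0))

/-- BG 8.1 -/
theorem F_uniqueness (hM : IsCoatom M) (hp : p.Prime) (h : 3 ≤ r[p](F[M])) :
    ∃ A, PnElem p 3 A F[M] ∧ InU (F[M] ⊓ C[A]) := by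
  have t : ∀ A, F[M] ⊓ C[A] ≠ ⊤ := fun A => ne_top_of_le hM (inf_le_left.trans (F_le M))
  by_cases e : PiG {p} F[M]
  · obtain ⟨P, hP⟩ := syl_exists hp M
    obtain ⟨A, a, b⟩ := rank3_scn3 hP.pi (mso_odd _) (h.trans (pRank_mono hp
      (hP.le_of_norm' e (F_le M) (hP.le.trans (F_norm M)))))
    obtain ⟨c, d⟩ := (scn_F_uniqueness hM hp e hP h).2 A a b
    obtain ⟨E, hE⟩ := exists_pnElem hp b
    exact ⟨E, hE.mono c, d.mono (le_inf c (a.abel.trans (centS hE.le))) (t E)⟩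
  · obtain ⟨E, hE⟩ := exists_pnElem hp h
    obtain ⟨A, a, b⟩ := exists_pmax hE.le hE.ab
    exact ⟨E, hE, (non_pcore_F_uniqueness hM hp e b ((hE.sub a).le_pRank hp)).mono
      (inf_le_inf_left _ (centS a)) (t E)⟩

end Cfsg.Agent.BG
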