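import Cfsg.Agent.BG.S08
import Cfsg.Agent.BG.S05
/-!
Bender–Glauberman, section 9: the uniqueness theorem.
-/
set_option autoImplicit false

namespace Cfsg.Agent.BG
open Subgroup PHom

variable {G : Type*} [Group G] [Finite G] [hG : MSO G]
variable {A A₀ B D E E₁ E₂ E₃ H K L M Mstar P Q R S T U V W X Y Z : Subgroup G} {x y g : G} {π ρ : Set ℕ}
  {p q r m n : ℕ}

theorem exists_max_prime_dvd (h0 : n ≠ 0) (h1 : n ≠ 1) : ∃ q, q.Prime ∧ q ∣ n ∧ ∀ r, r.Prime → r ∣ n → r ≤ q := by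
  have h : n.primeFactors.Nonempty := Nat.nonempty_primeFactors.2 (by omega)
  have a := Nat.mem_primeFactors.1 (n.primeFactors.max'_mem h)
  exact ⟨_, a.1, a.2.1, fun r hr hd => Finset.le_max' _ _ (Nat.mem_primeFactors.2 ⟨hr, hd, h0⟩)⟩

omit [Finite G] in
theorem umax_self (hM : IsCoatom M) : UMax M M := ⟨hM, le_rfl, fun _ hL h => coatom_eq' hM hL h⟩

theorem rank_cent_sq (hp : p.Prime) (hA : PiG {p} A) (hD : PnElem p 2 D H) (h : A ≤ N[D]) (h3 : 3 ≤ r[p](A)) :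
    2 ≤ r(A ⊓ C[D]) := by
  have := pRank_le_succ hp (normI (normG A) (normC h)) (by
    rw [inf_relIndex_left]; exact idx_cent_sq hp hA h hD.card.dvd)
  exact le_trans (by omega) (pRank_le_rank hp _)

include hG
/-- BG 9.1(b) -/
theorem noncyc_normed_sub_uniqueness (hM : IsCoatom M) (hp : p.Prime) (hB : Abelem p B) (h1 : B ≤ M) (h2 : ¬ Cyc B)
    (h : ∀ K, PiG {p}ᶜ K → B ≤ N[K] → K ≤ M) : InU B := by
  refine ⟨M, by_contra fun hn => ?_⟩
  have B0 : B ≠ ⊥ := fun e => h2 (e ▸ cyc_bot)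
  obtain ⟨R, H, a, b, c, d, e, f, -⟩ := exists_syl_other hM hp (hB.pig hp) B0 h1 hn fun P i j => by
    by_cases k : O[{p}ᶜ](M) = ⊥
    · exact N_syl_le_of_O hM hp i (fun e => B0 (eq_bot_iff.2 (e ▸ j))) k
    intro g hg
    have l : P ≤ N[cj g O[{p}ᶜ](M)] := by
      rw [← cj_of_mem_N hg]; exact norm_cj.2 (i.le.trans (O_norm _ _))
    rw [← coatom_N hM (O_le {p}ᶜ _) (O_norm _ _) k]
    exact mem_N_of_cj_le (le_O_of_syl_norm (coatom_sol hM) i (h _ ((O_pig _ _).cj g) (j.trans l))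
      ((O_pig _ _).cj g) l)
  have OM : O[{p}ᶜ](H) ≤ M := h _ (O_pig _ _) ((a.trans f.le).trans (O_norm _ _))
  have FL : F[H] ≤ O[{p}ᶜ](H) ⊔ R := F_le_of_O fun q _ => by
    by_cases qp : q = p
    · rw [qp]; exact f.O_le.trans le_sup_right
    · exact (O_mono (by intro s hs; rw [Set.mem_singleton_iff.1 hs]; exact qp) H).trans le_sup_left
  have LM := sup_le OM b
  have LH := sup_le (O_le {p}ᶜ H) f.le
  by_cases k : r(F[H]) ≤ 2
  · have l := (Syl.frattini (f.sub le_sup_right LH) hp LH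
      (norm_of_der_le ((rank2_der_le_F (mso_odd _) (coatom_sol c) k).trans FL) LH)).sup
    exact d (coatom_eq' c hM (l ▸ sup_le LM (inf_le_right.trans e))).symm
  · obtain ⟨q, hq, i⟩ := exists_rank F[H]
    obtain ⟨A, -, j⟩ := F_uniqueness c hq (by omega)
    exact d (j.eq hM c (inf_le_left.trans (FL.trans LM)) (inf_le_left.trans (F_le H)))
/-- BG 9.1(a) -/
theorem noncyc_cent1_sub_uniqueness (hM : IsCoatom M) (hp : p.Prime) (hB : Abelem p B) (h1 : B ≤ M) (h2 : ¬ Cyc B)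
    (h : ∀ b ∈ B, b ≠ 1 → C1[b] ≤ M) : InU B :=
  noncyc_normed_sub_uniqueness hM hp hB h1 h2 fun _ a b => cop_gen_cent1 hB.abel h2 b ((hB.pig hp).coprime a)
    fun x i j => inf_le_right.trans (h x i j)
/-- BG 9.2 -/
theorem cent_uniq_uniqueness (hL : InU L) (h1 : K ≤ C[L]) (h2 : 2 ≤ r(K)) : InU K := by
  obtain ⟨p, hp, B, hB⟩ := exists_pnElem_rank h2
  obtain ⟨M, hM⟩ := hL
  have a : ∀ b ∈ B, b ≠ 1 → C1[b] ≤ M := fun b i j => hM.le_of (le_C1_iff.2 (h1 (hB.le i))) (C1_ne_top j)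
  obtain ⟨b, i, j⟩ := exists_mem_ne_one (hB.ne_bot hp)
  exact (noncyc_cent1_sub_uniqueness hM.max hp hB.ab ((hB.abel.trans (C_le_C1 i)).trans (a b i j))
    (hB.not_cyc hp) a).mono hB.le fun e => C_ne_top hM.inU.ne_bot (top_le_iff.1 (e ▸ h1))
/-- BG 9.3 -/
theorem any_cent_rank3_uniqueness (hp : p.Prime) (hA : Abel A) (h1 : PiG {p} A) (h2 : 3 ≤ r[p](A)) (h3 : InU A)
    (hB : PiG {p} B) (h4 : ¬ Cyc B) (h5 : 3 ≤ r[p](C[B])) : InU B := by
  obtain ⟨E, hE⟩ := exists_pnElem hp h5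
  obtain ⟨P, hP, a⟩ := syl_superset (M := ⊤) hp le_top (hB.sup_l (hE.pig hp) (cents_norm hE.le))
  obtain ⟨g, -, b⟩ := hP.cj_sub hp le_top h1
  obtain ⟨D, hD, c⟩ := odd_normal_p2Elem_self hP.pi (mso_odd _) fun e => h4 (e.of_le (le_sup_left.trans a))
  have d : InU (cj g A ⊓ C[D]) := cent_uniq_uniqueness (h3.cj g) (inf_le_left.trans (abel_cj.2 hA))
    (rank_cent_sq hp (h1.cj g) hD (b.trans c) (by rwa [pRank_cj hp]))
  have e : InU D := cent_uniq_uniqueness d (cent_symm inf_le_right) (hD.self.le_rank hp)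
  have f : InU (E ⊓ C[D]) := cent_uniq_uniqueness e inf_le_right
    (rank_cent_sq hp (hE.pig hp) hD ((le_sup_right.trans a).trans c) (hE.self.le_pRank hp))
  refine cent_uniq_uniqueness f (cent_symm (inf_le_left.trans hE.le)) (le_trans ?_ (pRank_le_rank hp B))
  by_contra k
  exact h4 (odd_pgroup_rank1_cyc hB (mso_odd _) (by omega))
theorem rank3_uniqueness_of (hp : p.Prime) (hA : Abel A) (h1 : PiG {p} A) (h2 : 3 ≤ r[p](A)) (h3 : InU A)
    (h4 : K ≠ ⊤) (h5 : 3 ≤ r[p](K)) : InU K := by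
  obtain ⟨E, hE⟩ := exists_pnElem hp h5
  exact (any_cent_rank3_uniqueness hp hA h1 h2 h3 (hE.pig hp) (hE.not_cyc hp)
    ((hE.sub hE.abel).le_pRank hp)).mono hE.le h4
/-- BG 9.4 -/
theorem any_rank3_F_uniqueness (hM : IsCoatom M) (hp : p.Prime) (h : 3 ≤ r[p](F[M])) (hP : PiG {p} P)
    (h1 : 3 ≤ r[p](P)) : InU P := by
  obtain ⟨A, a, b⟩ := F_uniqueness hM hp h
  exact rank3_uniqueness_of hp a.abel (a.pig hp) (a.self.le_pRank hp)
    (cent_uniq_uniqueness b (cent_symm inf_le_right) (le_trans (by omega) (a.self.le_rank hp))) hP.ne_top h1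
/-- BG 9.5 -/
theorem scn3_uniqueness (hp : p.Prime) (hP : Syl p P ⊤) (hA : SCN A P) (h : 3 ≤ r[p](A)) : InU A := by
  by_contra hU
  have pA := hP.pi.of_le hA.le
  have A0 := ne_bot_of_pRank hp (n := 2) h
  have cA := hA.abel
  have r2 : ∀ M : Subgroup G, IsCoatom M → r[p](F[M]) ≤ 2 := fun M hM => by
    by_contra hn; exact hU (any_rank3_F_uniqueness hM hp (by omega) pA h)
  have big : ∀ M : Subgroup G, IsCoatom M → ¬ r(F[M]) ≤ 2 → ∃ q, q.Prime ∧ q ≠ p ∧ UMax O[{q}](M) M :=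
    fun M hM hn => by
    obtain ⟨q, hq, i⟩ := exists_rank F[M]
    refine ⟨q, hq, fun e => hn (i ▸ e ▸ r2 M hM), (any_rank3_F_uniqueness hM hq (by omega) (O_pig _ _) ?_).umax hM
      (O_le _ _)⟩
    rw [← O_F, (F_nil M).pRank_O hq (Set.mem_singleton q)]; omega
  have nP : ∀ M : Subgroup G, IsCoatom M → C[A] ≤ M → N[P] ≤ M := fun M hM hC => by
    obtain ⟨q, hq, qp, hQ⟩ : ∃ q, q.Prime ∧ q ≠ p ∧ ∀ Q, PiG {q} Q → O[{q}](M) ≤ Q → N[Q] ≤ M := by
      by_cases k : r(F[M]) ≤ 2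
      · obtain ⟨q, hq, i, j⟩ := exists_max_prime_dvd (card_ne M) (one_lt_card (coatom_ne_bot hM)).ne'
        have s := rank2_max_pcore_syl hq (mso_odd _) (coatom_sol hM) k j
        have t := coatom_N hM (O_le _ _) (O_norm _ _) (s.ne_bot' hq i)
        have u : Syl q O[{q}](M) ⊤ := Syl.of_norm (by rwa [t, top_inf_eq]) hq
        refine ⟨q, hq, fun e => ?_, fun Q a b => by rw [u.max a le_top b, t]⟩
        subst e
        have := (h.trans (pRank_mono hq le_top)).trans ((u.pRank hq).ge.trans ((pRank_mono hq (O_le_F q M)).trans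
          ((pRank_le_rank hq _).trans k)))
        omega
      · obtain ⟨q, hq, i, j⟩ := big M hM k
        exact ⟨q, hq, i, fun Q a b => j.le_of (b.trans (normG Q)) (a.N_ne_top fun e =>
          j.inU.ne_bot (eq_bot_iff.2 (e ▸ b)))⟩
    have nR : ∀ R, A ≤ R → R ≤ P → R ≤ M → N[R] ≤ M := fun R a b c => by
      obtain ⟨Q, i, j⟩ := exists_maxN (O_pig {q} M) (c.trans (O_norm _ _))
      have pR := hP.pi.of_le b
      have t := ((normed_trans_superset (scn_normed_constrained hp hP hA A0) hq (fun e => qp (pA.eq_prime hq e))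
        (pR.nil.subIn a) (pR.single_mono (pA.dvd A0)) pR.ne_top (by
          rw [pA.O_piOf_compl A0]; exact thompson_transitivity hp hP hA h hq qp)).2.2.2 Q j).2.sup
      rw [← t]
      exact sup_le ((O_le _ _).trans ((centS a).trans hC)) (inf_le_right.trans (hQ Q j.pi i))
    exact nR P hA.le le_rfl (hA.norm.trans (nR A le_rfl hA.le (cA.trans hC)))
  have P0 : ⁅P, N[P]⁆ ≠ ⊥ := fun e => by
    have a := burnside hp hP (inf_le_right.trans (comm_eq_bot'.1 e))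
    rcases mso_normal (O_norm {p}ᶜ (⊤ : Subgroup G)) with b | b
    · exact PiG.ne_top (p := p) (by simpa using a.eq_bot_iff.1 b) rfl
    · exact A0 (pA.eq_bot ((b ▸ O_pig {p}ᶜ ⊤).of_le le_top))
  have P0P : ⁅P, N[P]⁆ ≤ P := commL le_rfl
  have eA := cA.Om_abelem p
  have ex : ∀ M : Subgroup G, IsCoatom M → C[A] ≤ M → ∀ B ≤ Ω[p](A), ¬ Cyc B →
      ∃ x ∈ B, ¬ C1[x] ≤ M ∧ ∃ L, IsCoatom L ∧ C1[x] ≤ L ∧ C[A] ≤ L := fun M hM hC B a b => by
    have c := a.trans (Om_le p A)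
    by_contra hn
    refine hU ((noncyc_cent1_sub_uniqueness hM hp (eA.of_le a) (c.trans (cA.trans hC)) b fun x i j => ?_).mono c
      pA.ne_top)
    by_contra k
    obtain ⟨L, u, v⟩ := exists_coatom_C1 j
    exact hn ⟨x, i, k, L, u, v, (C_le_C1 (c i)).trans v⟩
  have uq : ∀ M : Subgroup G, IsCoatom M → C[A] ≤ M → UMax N[⁅P, N[P]⁆] M := fun M hM hC => by
    have DM : O[{p}ᶜ](F[M]) ≤ M := (O_le _ _).trans (F_le M)
    have nD : M ≤ N[O[{p}ᶜ](F[M])] := normO _ (F_norm M)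
    have cD : O[{p}ᶜ](F[M]) ≤ C[⁅P, N[P]⁆] := cop_gen_cocyc eA.abel (((Om_le p A).trans (cA.trans hC)).trans nD)
      ((eA.pig hp).coprime (O_pig _ _)) fun B a b => by
      obtain ⟨x, i, j, L, hL, k, l⟩ := ex M hM hC B a fun c => by
        have := pRank_le_add (φ := quo B) hp (abel_norm eA.abel a)
        rw [quo_ker, pRank_Om hp, inf_eq_right.2 a] at this
        have := b.pRank_le hp
        have := c.pRank_le hp
        omega
      have KH : O[{p}ᶜ](F[M]) ⊓ L ≤ M ⊓ L := inf_le_inf_right _ DM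
      have nK : M ⊓ L ≤ N[O[{p}ᶜ](F[M]) ⊓ L] := normI (inf_le_left.trans nD) (normsG inf_le_right)
      have sH : Sol (M ⊓ L) := sol_of_le hM inf_le_left
      refine (inf_le_inf_left _ ((C_le_C1 i).trans k)).trans (cent_symm (cop_cent_of_chief nK
        ((hP.pi.of_le P0P).coprime ((O_pig _ _).of_le inf_le_left)) (sH.of_le KH) fun U V c d => ?_))
      obtain ⟨q, hq, e⟩ := c.abelem (sH.of_le (d.trans KH))
      have nL := le_inf (nP M hM hC) (nP L hL l)
      refine (commS le_rfl (commS ((normG P).trans nL) nL)).trans (rank2_cent_chief hq (mso_odd _) sH KH nK ?_ c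
        (e.pig hq) d)
      by_contra hn
      obtain ⟨E, hE⟩ := exists_pnElem (n := 3) hq (not_le.1 hn)
      exact j ((any_rank3_F_uniqueness hM hq ((hE.mono (inf_le_left.trans (O_le _ _))).le_pRank hq) (hE.pig hq)
        (hE.self.le_pRank hq)).eq hM hL (hE.le.trans (inf_le_left.trans DM)) (hE.le.trans inf_le_right) ▸ k)
    by_cases k : r(F[M]) ≤ 2
    · have PM := (normG P).trans (nP M hM hC)
      have s := hP.sub PM le_top
      have LM := sup_le DM PM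
      have l := (Syl.frattini (s.sub le_sup_right LM) hp LM (norm_of_der_le ((rank2_der_le_F (mso_odd _)
        (coatom_sol hM) k).trans (((F_nil M).dprod_O {p}).symm.sup.ge.trans (sup_le_sup_left
          ((O_F p M).le.trans s.O_le) _))) LM)).sup
      rw [coatom_N hM (P0P.trans PM) (l.ge.trans (sup_le (sup_le (cents_norm cD) (comm_norml _ _))
        (inf_le_right.trans (comm_normr _ _)))) P0]
      exact umax_self hM
    · obtain ⟨q, hq, i, j⟩ := big M hM k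
      refine j.mono' (le_trans ?_ (cents_norm cD)) ((hP.pi.of_le P0P).N_ne_top P0)
      rw [← O_F]
      exact O_mono (by intro s hs; rw [Set.mem_singleton_iff.1 hs]; exact i) _
  obtain ⟨M, hM, hC⟩ := exists_coatom_C A0
  obtain ⟨x, -, j, L, hL, k, l⟩ := ex M hM hC _ le_rfl fun c => by
    have := c.pRank_le hp
    rw [pRank_Om hp] at this; omega
  exact j ((uq M hM hC).eq (uq L hL l) ▸ k)
/-- BG 9.6 -/
theorem rank3_uniqueness (h1 : K ≠ ⊤) (h : 3 ≤ r(K)) : InU K := by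
  obtain ⟨p, hp, i⟩ := exists_rank K
  obtain ⟨P, hP⟩ := syl_exists hp (⊤ : Subgroup G)
  obtain ⟨A, a, b⟩ := rank3_scn3 hP.pi (mso_odd _) (by
    rw [hP.pRank hp]; exact (i ▸ h).trans (pRank_mono hp le_top))
  exact rank3_uniqueness_of hp a.abel (hP.pi.of_le a.le) b (scn3_uniqueness hp hP a b) h1 (i ▸ h)
theorem cent_rank3_uniqueness (h1 : 2 ≤ r(K)) (h : 3 ≤ r(C[K])) : InU K :=
  cent_uniq_uniqueness (rank3_uniqueness (C_ne_top (ne_bot_of_rank (n := 1) h1)) h) (le_CC K) h1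
theorem nonmax_p2Elem_uniqueness (hp : p.Prime) (hA : PnElem p 2 A B) (h : ¬ PMax p A ⊤) : InU A := by
  refine cent_rank3_uniqueness (hA.self.le_rank hp) (le_trans ?_ (pRank_le_rank hp _))
  by_contra k
  exact h (pmax_of_pRank_C hA.top hp (by rw [top_inf_eq]; omega))

end Cfsg.Agent.BG
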