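import Cfsg.Agent.BG.S09
/-!
Bender–Glauberman, section 10: 10.1–10.5.
-/
set_option autoImplicit false
set_option linter.unusedSectionVars false

namespace Cfsg.Agent.BG
open Subgroup PHom

variable {G : Type*} [Group G] [Finite G] [hG : MSO G]
variable {A A₀ B D E E₁ E₂ E₃ H K L M Mstar P Q R S T U V W X Y Z : Subgroup G} {x y g : G} {π ρ : Set ℕ}
  {p q r m n : ℕ}

include hG
theorem alpha_sub_sigma (hM : IsCoatom M) : α[M] ⊆ σ[M] := by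
  intro p h
  have hp := alpha_prime h
  obtain ⟨P, hP⟩ := syl_exists hp M
  have h3 : 3 ≤ r(P) := by rw [hP.rank hp]; exact alpha_rank h
  exact sigma_of hM hp hP ((rank3_uniqueness hP.pi.ne_top h3).umax hM hP.le).N_le
theorem beta_sub_sigma (hM : IsCoatom M) : β[M] ⊆ σ[M] := (beta_sub_alpha M).trans (alpha_sub_sigma hM)
theorem Malpha_le_Msigma (hM : IsCoatom M) : Mα[M] ≤ Mσ[M] := O_mono (alpha_sub_sigma hM) M
theorem Mbeta_le_Msigma (hM : IsCoatom M) : Mβ[M] ≤ Mσ[M] := O_mono (beta_sub_sigma hM) M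
theorem sigma'_rank_le (hM : IsCoatom M) (hp : p.Prime) (h : p ∉ σ[M]) : r[p](M) ≤ 2 :=
  rank_le_of_not_alpha hp fun h2 => h (alpha_sub_sigma hM h2)
theorem ideal_iff (hp : p.Prime) (hP : Syl p P (⊤ : Subgroup G)) : IsIdealPrime p G ↔ ¬ Narrow p P := by
  have key : ∀ S : Subgroup G, Syl p S ⊤ → (¬ Narrow p S ↔ ¬ r[p]((⊤ : Subgroup G)) ≤ 2 ∧
      ∀ A ≤ S, IsElementaryAbelian p A → #A = p ^ 2 → ∃ B ≤ S, IsElementaryAbelian p B ∧ A < B) := fun S hS => by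
    unfold Narrow
    rw [hS.pRank hp, Classical.not_imp, not_le]
    refine and_congr_right fun _ => ⟨fun h A a b c => ?_, fun h ⟨E, a, b⟩ => ?_⟩
    · by_contra hc
      refine h ⟨A, ⟨a, abelem_iff.2 b, c⟩, a, abelem_iff.2 b, fun B x y z => ?_⟩
      by_contra hne
      exact hc ⟨B, x, abelem_iff.1 y, lt_of_le_of_ne z (Ne.symm hne)⟩
    · obtain ⟨B, x, y, z⟩ := h E a.le (abelem_iff.1 a.ab) a.card
      exact z.ne' (b.max B x (abelem_iff.2 y) z.le)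
  constructor
  · rintro ⟨-, a, b⟩
    obtain ⟨S, rfl⟩ := hP.exists_sylow_top hp
    exact (key _ hP).2 ⟨fun h => a ((prankle_top hp).2 h), b S⟩
  · intro h
    refine ⟨hp, fun a => ((key _ hP).1 h).1 ((prankle_top hp).1 a), fun S => ?_⟩
    obtain ⟨g, -, e⟩ := hP.conj hp (syl_top hp S)
    exact ((key _ (syl_top hp S)).1 (by rw [← e, narrow_cj hp]; exact h)).2
theorem beta_iff (hM : IsCoatom M) (hp : p.Prime) (hP : Syl p P M) : p ∈ β[M] ↔ ¬ Narrow p P := by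
  constructor
  · intro h
    exact (ideal_iff hp (sigma_syl_top (beta_sub_sigma hM h) hP)).1 h.2
  · intro h
    have ha : p ∈ α[M] := mem_alpha.2 ⟨hp, by
      rw [← hP.pRank hp]; by_contra hc; exact h (narrow_of_rank (not_lt.1 hc))⟩
    exact ⟨ha, (ideal_iff hp (sigma_syl_top (alpha_sub_sigma hM ha) hP)).2 h⟩
theorem mem_beta_of (hM : IsCoatom M) (h1 : p ∈ σ[M]) (h2 : IsIdealPrime p G) : p ∈ β[M] := by
  obtain ⟨P, hP⟩ := syl_exists h1.1 M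
  exact (beta_iff hM h1.1 hP).2 ((ideal_iff h1.1 (sigma_syl_top h1 hP)).1 h2)
theorem not_ideal_of_rank (hp : p.Prime) (h : r[p]((⊤ : Subgroup G)) ≤ 2) : ¬ IsIdealPrime p G :=
  fun h2 => h2.2.1 ((prankle_top hp).2 h)
/-- BG 10.1(d) -/
theorem sigma_syl_trans (h : p ∈ σ[M]) (hX : Syl p X M) (h1 : cj g X ≤ M) : g ∈ M := by
  have h2 : Syl p (cj g X) M := hX.of_card h1 (card_cj g X)
  obtain ⟨m, hm, e⟩ := h2.conj h.1 hX
  have h3 := norm_sigma_syl h hX (mem_N_iff_cj.2 (by rw [cj_mul]; exact e : cj (m * g) X = X))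
  simpa using mul_mem (inv_mem hm) h3
theorem sigma_conj_trans (hM : IsCoatom M) (h : p ∈ σ[M]) (hX : PiG {p} X) {M₁ M₂ : Subgroup G} (a₁ : Cjg M M₁)
    (a₂ : Cjg M M₂) (h1 : X ≤ M₁) (h2 : X ≤ M₂) : ∃ c ∈ C[X], cj c M₁ = M₂ := by
  have hp := h.1
  have hσ : ∀ {L}, Cjg M L → p ∈ σ[L] := fun ⟨g, e⟩ => e ▸ (sigma_cj g M).symm ▸ h
  induction X using gt_wf_ind generalizing M₁ M₂ with | _ X ih =>
  by_cases h0 : X = ⊥
  · obtain ⟨g, e⟩ := a₁.symm.trans a₂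
    exact ⟨g, by rw [h0, C_bot]; trivial, e⟩
  have syl : ∀ {L₁ L₂}, Cjg M L₁ → Cjg M L₂ → Syl p X L₁ → X ≤ L₂ → L₂ = L₁ := fun b₁ b₂ hS hl => by
    obtain ⟨g, rfl⟩ := b₁.symm.trans b₂
    simpa using cj_of_mem (inv_mem (sigma_syl_trans (hσ b₁) hS (le_cj_iff.1 hl)))
  have big : ∀ {L}, ¬ Syl p X L → X ≤ L → ∃ P, Syl p P (L ⊓ N[X]) ∧ X < P := fun hS hl => by
    obtain ⟨P, a, b⟩ := syl_superset hp (le_inf hl (normG X)) hX
    exact ⟨P, a, lt_of_le_of_ne b fun e => hS (Syl.of_norm (e ▸ a) hp)⟩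
  by_cases s1 : Syl p X M₁
  · exact ⟨1, one_mem _, by rw [cj_one, syl a₁ a₂ s1 h2]⟩
  by_cases s2 : Syl p X M₂
  · exact ⟨1, one_mem _, by rw [cj_one, syl a₂ a₁ s2 h1]⟩
  obtain ⟨P₁, b₁, c₁⟩ := big s1 h1
  obtain ⟨P₂, b₂, c₂⟩ := big s2 h2
  obtain ⟨P, hP, hP1⟩ := syl_superset hp (b₁.le.trans inf_le_right) b₁.pi
  obtain ⟨t, ht, hP2⟩ := hP.cj_sub hp (b₂.le.trans inf_le_right) b₂.pi
  obtain ⟨S, hS⟩ := syl_exists hp M
  obtain ⟨u, -, hu⟩ := (sigma_syl_top h hS).sub_cj hp le_top hP.pi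
  have a₃ := cjg_cj u M
  have h3 : P ≤ cj u M := hu.trans (cj_mono u hS.le)
  generalize cj u M = M₃ at a₃ h3
  have hXP := c₁.trans_le hP1
  obtain ⟨d₁, hd₁, e₁⟩ := ih P₁ c₁ b₁.pi a₁ a₃ (b₁.le.trans inf_le_left) (hP1.trans h3)
  have c₂' : X < cj t P₂ := by rw [← cj_of_mem_N ht, cj_lt_cj]; exact c₂
  obtain ⟨d₂, hd₂, e₂⟩ := ih _ c₂' (b₂.pi.cj t) (cjg_cj_right.2 a₂) a₃ (cj_mono t (b₂.le.trans inf_le_left))
    (hP2.trans h3)
  have key : ∀ s ∈ N[X], ∃ c ∈ C[X], cj c M₃ = cj s M₃ := fun s hs => by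
    by_cases hr : 3 ≤ r[p](N[X])
    · have hU := (rank3_uniqueness hP.pi.ne_top (by rwa [hP.rank hp])).umax (a₃.coatom hM) h3
      exact ⟨1, one_mem _, by rw [cj_one, cj_of_mem (hU.le_of hP.le (hX.N_ne_top h0) hs)]⟩
    have pl := (rank2_der_compl hp (sol_N h0 hX.ne_top) (mso_odd _) (by omega)).2.2
    obtain ⟨a, ha, b, hb, rfl⟩ := (pl.frattini hp hP).ex s hs
    obtain ⟨c, hc, e⟩ := ih P hXP hP.pi a₃ (cjg_cj_right.2 a₃) h3 (cj_of_mem_N hb.2 ▸ cj_mono b h3)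
    have hac : a ∈ C[X] := cent_symm (hX.cent (O_pig _ _) ((normG X).trans (O_norm _ _)) (O_le _ _)) ha
    exact ⟨a * c, mul_mem hac (centS hXP.le hc), by rw [cj_mul, cj_mul, e]⟩
  obtain ⟨d₃, hd₃, e₃⟩ := key t⁻¹ (inv_mem ht)
  refine ⟨t⁻¹ * d₂⁻¹ * t * d₃ * d₁, mul_mem (mul_mem ?_ hd₃) (centS c₁.le hd₁), ?_⟩
  · exact conj_mem' (normC le_rfl ht) (inv_mem (centS c₂'.le hd₂))
  · rw [cj_mul, cj_mul, cj_mul, cj_mul, e₁, e₃, cj_cj_inv, ← e₂, cj_inv_cj, cj_inv_cj]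
/-- BG 10.1(a) -/
theorem sigma_group_trans (hM : IsCoatom M) (h : p ∈ σ[M]) (hX : PiG {p} X) (h1 : X ≤ M) (h2 : cj g X ≤ M) :
    ∃ c ∈ C[X], ∃ m ∈ M, g = m * c := by
  obtain ⟨c, hc, e⟩ := sigma_conj_trans hM h hX (cjg_cj g⁻¹ M) (cjg_refl M) (cj_le_iff.1 h2) h1
  refine ⟨c, hc, g * c⁻¹, ?_, by group⟩
  have := mem_of_cj_eq hM (by rw [cj_mul]; exact e : cj (c * g⁻¹) M = M)
  simpa using inv_mem this
/-- BG 10.1(b) -/
theorem sigma_group_trans' (hM : IsCoatom M) (h : p ∈ σ[M]) (hX : PiG {p} X) (h1 : X ≤ M) (h2 : X ≤ cj g M) :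
    ∃ c ∈ C[X], cj c M = cj g M := by
  exact sigma_conj_trans hM h hX (cjg_refl M) (cjg_cj g M) h1 h2
/-- BG 10.1(c) -/
theorem sigma_N_prod (hM : IsCoatom M) (h : p ∈ σ[M]) (hX : PiG {p} X) (h1 : X ≤ M) :
    IsProd C[X] (M ⊓ N[X]) N[X] := by
  refine IsProd.symm ⟨inf_le_right, C_le_N X, fun g hg => ?_⟩
  obtain ⟨c, hc, m, hm, e⟩ := sigma_group_trans hM h hX h1 ((cj_of_mem_N hg).symm ▸ h1)
  refine ⟨m, ⟨hm, ?_⟩, c, hc, e⟩
  have := mul_mem hg (inv_mem (C_le_N X hc))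
  rwa [e, mul_inv_cancel_right] at this
/-- BG 10.1(e) -/
theorem cent_uniq_sigma (hM : IsCoatom M) (h : p ∈ σ[M]) (hX : PiG {p} X) (h1 : X ≤ M) (h2 : C[X] ≤ M) :
    N[X] ≤ M ∧ ∀ g, X ≤ cj g M → g ∈ M := by
  refine ⟨(sigma_N_prod hM h hX h1).sup ▸ sup_le h2 inf_le_left, fun g hg => ?_⟩
  obtain ⟨c, hc, e⟩ := sigma_group_trans' hM h hX h1 hg
  exact mem_of_cj_eq hM (by rw [← e, cj_of_mem (h2 hc)])
theorem sigma_syl_le_der (hM : IsCoatom M) (h : p ∈ σ[M]) (hP : Syl p P M) : P ≤ ⁅M, M⁆ := by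
  have := focal_le (K := ⁅M, M⁆) h.1 (sigma_syl_top h hP) fun x hx g _ hg => by
    obtain ⟨c, hc, m, hm, rfl⟩ := sigma_group_trans (g := g) hM h (pig_zpowers.2 (hP.pi.elt hx))
      (zpowers_le.2 (hP.le hx)) (by rw [cj_zpowers]; exact zpowers_le.2 (hP.le hg))
    rw [C_zpowers, mem_C1] at hc
    have := comm_mem (inv_mem (hP.le hx)) hm
    convert this using 1
    rw [mul_assoc m c x, hc]; group
  rwa [mso_der, inf_top_eq] at this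
/-- BG 10.4(a) -/
theorem der_quo_sigma' (hM : IsCoatom M) : PiN σ[M]ᶜ (⁅M, M⁆.relIndex M) := by
  intro p hp hd h
  obtain ⟨P, hP⟩ := syl_exists hp M
  exact hP.not_dvd hp (hd.trans (relIndex_dvd_left (sigma_syl_le_der hM h hP) M))
theorem Malpha_quo_der_le_F (hM : IsCoatom M) : ⁅M, M⁆ ÷ Mα[M] ≤ F[M ÷ Mα[M]] := by
  have hN : M ≤ N[Mα[M]] := O_norm _ _
  rw [im_der (φ := quo _) hN]
  refine rank2_der_le_F (mso_odd_im _ _) ((coatom_sol hM).im _) (rank_le_iff.2 fun p hp => ?_)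
  by_cases h : p ∈ α[M]
  · rw [← (F_nil _).pRank_O hp h, le_bot_iff.1 ((O_F_le _ _).trans (O_quo_O _ _).le),
      pRank_eq_zero hp (pig_bot _)]
    omega
  · refine (pRank_mono hp (F_le _)).trans ?_
    rw [pRank_im_cop (φ := quo _) hp hN (PiG.of_le ((O_pig _ M).compl_single' h) (by simp))]
    exact rank_le_of_not_alpha hp h
theorem sigma_hall_top (h : π ⊆ σ[M]) (hH : Hall π H M) : Hall π H ⊤ := by
  refine hH.trans' le_top fun p hp hd hπ => ?_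
  obtain ⟨P, hP⟩ := syl_exists hp M
  exact (sigma_syl_top (h hπ) hP).not_dvd hp (hd.trans (relIndex_dvd_left hP.le _))
/-- BG 10.2(a) -/
theorem Malpha_hall (hM : IsCoatom M) : Hall α[M] Mα[M] M := by
  obtain ⟨H, hH⟩ := hall_exists α[M] (coatom_sol hM)
  have hN : M ≤ N[Mα[M]] := O_norm _ _
  have h1 : H ≤ ⁅M, M⁆ :=
    PiG.le_of_idx (hH.pi.mono (alpha_sub_sigma hM)) (der_norm M) hH.le (der_quo_sigma' hM)
  have h2 : H ÷ Mα[M] ≤ F[M ÷ Mα[M]] := (im_mono h1).trans (Malpha_quo_der_le_F hM)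
  have h3 := ((F_nil _).le_O h2 (hH.pi.im _)).trans (O_F_le _ _)
  rw [O_quo_O, le_bot_iff, quo_bot_iff (hH.le.trans hN)] at h3
  rwa [← le_antisymm h3 hH.O_le]
theorem Malpha_hall_top (hM : IsCoatom M) : Hall α[M] Mα[M] ⊤ := by
  exact sigma_hall_top (alpha_sub_sigma hM) (Malpha_hall hM)
/-- BG 10.2(b) -/
theorem Msigma_hall (hM : IsCoatom M) : Hall σ[M] Mσ[M] M := by
  obtain ⟨H, hH⟩ := hall_exists σ[M] (coatom_sol hM)
  have hN : M ≤ N[Mα[M]] := O_norm _ _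
  have h1 : H ≤ ⁅M, M⁆ := hH.pi.le_of_idx (der_norm M) hH.le (der_quo_sigma' hM)
  have h2 : Mα[M] ≤ H := (Malpha_le_Msigma hM).trans hH.O_le
  have h3 : Hall σ[M] (H ÷ Mα[M]) (⁅M, M⁆ ÷ Mα[M]) :=
    (hH.sub h1 (der_le M)).im (φ := quo _) ((der_le M).trans hN)
  have h4 := ((F_nil _).of_le (Malpha_quo_der_le_F hM)).hall_norm h3
  exact hH.hall_O (norm_of_im (φ := quo Mα[M]) hN (hH.le.trans hN) (by simpa using h2)
    (h3.norm_char h4 (im_norm (der_norm M))))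
theorem Msigma_hall_top (hM : IsCoatom M) : Hall σ[M] Mσ[M] ⊤ := by
  exact sigma_hall_top subset_rfl (Msigma_hall hM)
/-- BG 10.2(c) -/
theorem Msigma_le_der (hM : IsCoatom M) : Mσ[M] ≤ ⁅M, M⁆ :=
  (O_pig _ _).le_of_idx (der_norm M) (O_le _ _) (der_quo_sigma' hM)
/-- BG 10.2(d) -/
theorem Malpha_quo_rank2 (hM : IsCoatom M) : r(M ÷ Mα[M]) ≤ 2 := by
  have hN : M ≤ N[Mα[M]] := O_norm _ _
  refine rank_le_iff.2 fun p hp => ?_
  by_cases h : p ∈ α[M]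
  · have : PiG α[M]ᶜ (M ÷ Mα[M]) := by
      unfold PiG; rw [card_quo hN]; exact (Malpha_hall hM).idx
    rw [pRank_eq_zero hp (this.compl_single h)]; omega
  · rw [pRank_im_cop (φ := quo _) hp hN (PiG.of_le ((O_pig _ M).compl_single' h) (by simp))]
    exact rank_le_of_not_alpha hp h
theorem Malpha_quo_nil (hM : IsCoatom M) : Nil (⁅M, M⁆ ÷ Mα[M]) := by
  exact (F_nil _).of_le (Malpha_quo_der_le_F hM)
/-- BG 10.2(e) -/
theorem Msigma_ne_bot (hM : IsCoatom M) : Mσ[M] ≠ ⊥ := by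
  intro h0
  have hr : r(M) ≤ 2 := rank_le_iff.2 fun p hp => sigma'_rank_le hM hp fun h =>
    (Msigma_hall hM).ne_bot hp h (sigma_dvd h) h0
  have h1 : 1 < #M := one_lt_card (coatom_ne_bot hM)
  have hne : (#M).primeFactors.Nonempty := Nat.nonempty_primeFactors.2 h1
  have hq := Nat.mem_primeFactors.1 (Finset.max'_mem _ hne)
  have hS := rank2_max_pcore_syl hq.1 (mso_odd M) (coatom_sol hM) ((rank_mono (F_le M)).trans hr)
    fun q a b => Finset.le_max' _ q (Nat.mem_primeFactors.2 ⟨a, b, card_ne M⟩)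
  have h2 := sigma_of hM hq.1 hS (coatom_N hM (O_le _ _) (O_norm _ _) (hS.ne_bot' hq.1 hq.2.1)).le
  exact (Msigma_hall hM).ne_bot hq.1 h2 hq.2.1 h0
theorem N_Msigma (hM : IsCoatom M) : N[Mσ[M]] = M := coatom_N hM (O_le _ _) (O_norm _ _) (Msigma_ne_bot hM)
theorem le_Msigma (hM : IsCoatom M) (h1 : X ≤ M) (h2 : PiG σ[M] X) : X ≤ Mσ[M] := (Msigma_hall hM).le_O h1 h2
theorem mem_Msigma (hM : IsCoatom M) (h1 : x ∈ M) (h2 : PiE σ[M] x) : x ∈ Mσ[M] :=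
  (Msigma_hall hM).mem_of_normal (O_norm _ _) h2 h1
theorem le_Malpha (hM : IsCoatom M) (h1 : X ≤ M) (h2 : PiG α[M] X) : X ≤ Mα[M] := (Malpha_hall hM).le_O h1 h2
/-- BG 10.3 -/
theorem cent_alpha'_uniq (hM : IsCoatom M) (h1 : X ≤ M) (h2 : PiG α[M]ᶜ X) (h : 2 ≤ r(Mα[M] ⊓ C[X])) :
    InU (M ⊓ C[X]) := by
  obtain ⟨p, hp, B, hB⟩ := exists_pnElem_rank h
  have hB1 : B ≤ Mα[M] := hB.le.trans inf_le_left
  have hB2 : B ≤ C[X] := hB.le.trans inf_le_right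
  have ha : p ∈ α[M] := (hB.pig hp).mem_of_ne (hB.ne_bot hp) ((O_pig _ _).of_le hB1)
  have ne : M ⊓ C[X] ≠ ⊤ := ne_top_of_le hM inf_le_left
  by_cases h3 : 3 ≤ r(C[B])
  · exact (cent_rank3_uniqueness (hB.rank_eq hp).ge h3).mono (le_inf (hB1.trans (O_le _ _)) hB2) ne
  have hc : (#X).Coprime #Mα[M] := h2.coprime' (O_pig _ _)
  obtain ⟨P, hP, nP, hBP⟩ := cop_syl_superset (h1.trans (O_norm _ _)) hc (Or.inl (sol_of_le hM h1)) hp hB1 (hB.pig hp)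
    (cents_norm (cent_symm hB2))
  have h4 : PMax p B P := pmax_of_pRank_C (hB.sub hBP) hp
    ((pRank_le_rank hp _).trans ((rank_mono inf_le_right).trans (by omega)))
  have h5 : X ≤ C[P] := cop_odd_faithful_cent_abelem hP.pi (mso_odd _) nP (coprimeS hc le_rfl hP.le) hBP hB.ab
    (by rw [h4.Om_eq]; exact cent_symm hB2)
  have h6 : 3 ≤ r(P) := by rw [((Malpha_hall hM).syl ha hP).rank hp]; exact alpha_rank ha
  exact (rank3_uniqueness hP.pi.ne_top h6).mono (le_inf (hP.le.trans (O_le _ _)) (cent_symm h5)) ne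
/-- BG 10.4(b) -/
theorem cent1_sigma'_zg (hM : IsCoatom M) (hp : p.Prime) (h : p ∉ σ[M]) (hP : Syl p P M) (h1 : P ≠ ⊥) :
    ∃ x ∈ Ω[p](Z[P]), x ≠ 1 ∧ ¬ UMax C1[x] M ∧ ZG (Mα[M] ⊓ C1[x]) := by
  have : ∃ x ∈ Ω[p](Z[P]), x ≠ 1 ∧ ¬ UMax C1[x] M := by
    by_contra hc
    push Not at hc
    refine not_N_le_of_sigma' hM hp h hP fun u hu => ?_
    obtain ⟨x, hx, hx1⟩ := exists_mem_ne_one (hP.pi.OmZ_ne_bot h1)
    have h2 := hc _ (conj_mem (normOmZ p le_rfl hu) hx) (by simpa using hx1)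
    rw [← cj_C1] at h2
    exact mem_of_cj_eq hM (h2.eq ((hc x hx hx1).cj u))
  obtain ⟨x, hx, hx1, h2⟩ := this
  refine ⟨x, hx, hx1, h2, odd_rank1_zg (mso_odd _) (not_lt.1 fun h3 => h2 ?_)⟩
  have hxP := OmZ_le p P hx
  rw [← C_zpowers] at h3 ⊢
  have h4 := cent_alpha'_uniq hM (zpowers_le.2 (hP.le hxP)) (pig_zpowers.2
    ((hP.pi.elt hxP).single_mono (π := α[M]ᶜ) fun ha => h (alpha_sub_sigma hM ha))) h3
  exact (h4.umax hM inf_le_left).mono' inf_le_right (C_ne_top (by simpa using hx1))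
/-- BG 10.4(c) -/
theorem sigma'_rank2_max (hM : IsCoatom M) (hp : p.Prime) (h : p ∉ σ[M]) (h1 : r[p](M) = 2) (hA : PnElem p 2 A M) :
    PMax p A ⊤ := by
  by_contra hc
  obtain ⟨P, hP, hAP⟩ := syl_superset hp hA.le (hA.pig hp)
  exact not_N_le_of_sigma' hM hp h hP
    (((nonmax_p2Elem_uniqueness hp hA hc).umax hM hA.le).mono hAP hP.le).N_le
theorem sigma'_rank2_beta' (hM : IsCoatom M) (hp : p.Prime) (h : p ∉ σ[M]) (h1 : r[p](M) = 2) :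
    ¬ IsIdealPrime p G := by
  obtain ⟨A, hA⟩ := exists_pnElem hp h1.ge
  obtain ⟨P, hP, hAP⟩ := syl_superset hp le_top (hA.pig hp)
  rw [ideal_iff hp hP, not_not]
  exact fun _ => ⟨A, hA.sub hAP, (sigma'_rank2_max hM hp h h1 hA).sub hAP le_top⟩
/-- BG 10.5 -/
theorem sigma'_norm_rank2 (hM : IsCoatom M) (hp : p.Prime) (h : p ∉ σ[M]) (hX : PiG {p} X) (h1 : N[X] ≤ M) :
    r[p](M) = 2 := by
  obtain ⟨P, hP, hXP⟩ := syl_superset hp ((normG X).trans h1) hX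
  by_contra hc
  have h2 := sigma'_rank_le hM hp h
  have h3 := odd_pgroup_rank1_cyc hP.pi (mso_odd _) (by rw [hP.pRank hp]; omega)
  exact not_N_le_of_sigma' hM hp h hP ((h3.norm_sub hXP le_rfl).trans h1)
theorem sigma'_p1_le_p2Elem (hM : IsCoatom M) (hp : p.Prime) (h : p ∉ σ[M]) (hX : #X = p) (h1 : N[X] ≤ M) :
    ∃ A, PnElem p 2 A M ∧ X ≤ A := by
  have pX := pig_of_card' hp hX
  have hX' : (#X).Prime := hX ▸ hp
  obtain ⟨P, hP, hXP⟩ := syl_superset hp ((normG X).trans h1) pX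
  have h0 : P ≠ ⊥ := fun e => ne_bot_of_prime hX' (le_bot_iff.1 (e ▸ hXP))
  have h2 : ¬ Ω[p](Z[P]) ≤ X := fun h2 => not_N_le_of_sigma' hM hp h hP (by
    have := normOmZ p (le_refl N[P])
    rw [(eq_bot_or_eq_of_prime hX' h2).resolve_left (hP.pi.OmZ_ne_bot h0)] at this
    exact this.trans h1)
  obtain ⟨Y, a, b, c⟩ := (OmZ_abelem p P).exists_card hp h2
  exact ⟨X ⊔ Y, (pnElem_two hp hX b (a.trans ((OmZ_cent p P).trans (centS hXP))) fun e => c e.ge).sub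
    (sup_le (hXP.trans hP.le) (a.trans ((OmZ_le p P).trans hP.le))), le_sup_left⟩

end Cfsg.Agent.BG
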