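import Cfsg.Agent.BG.S10a
import Cfsg.Agent.BG.S03b
/-!
Bender–Glauberman, section 10: 10.6–10.9.
-/
set_option autoImplicit false
set_option linter.unusedSectionVars false

namespace Cfsg.Agent.BG
open Subgroup PHom

variable {G : Type*} [Group G] [Finite G] [hG : MSO G]
variable {A A₀ B D E E₁ E₂ E₃ H K L M Mstar P Q R S T U V W X Y Z : Subgroup G} {x y g : G} {π ρ : Set ℕ}
  {p q r m n : ℕ}

include hG
/-- BG 10.6 -/
theorem mso_pl1 (hp : p.Prime) (h : H ≠ ⊤) : PL1 p H := by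
  obtain ⟨M, hM, hH⟩ := exists_coatom h
  refine PL1.of_le ?_ hH
  have hs := coatom_sol hM
  by_cases ha : p ∈ α[M]
  swap
  · exact (rank2_der_compl hp hs (mso_odd M) (rank_le_of_not_alpha hp ha)).2.2
  obtain ⟨K, hK⟩ := hall_exists α[M]ᶜ hs
  have sd := (Malpha_hall hM).sdprod (O_norm _ _) hK
  have hc : (#K).Coprime #Mα[M] := hK.pi.coprime' (O_pig _ _)
  have h1 := (cop_der_sdprod sd hc (hs.of_le (O_le _ _)) ((Malpha_le_Msigma hM).trans (Msigma_le_der hM))).1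
  obtain ⟨q, hq, hd⟩ := Nat.exists_prime_and_dvd
    (fun e => (hs.der_lt (coatom_ne_bot hM)).not_ge (relIndex_eq_one.1 e))
  have hσ : q ∉ σ[M] := der_quo_sigma' hM q hq hd
  obtain ⟨Q, hQ⟩ := syl_exists hq K
  have hQM := hK.syl (fun h => hσ (alpha_sub_sigma hM h)) hQ
  obtain ⟨x, hx, hx1, -, hZ⟩ := cent1_sigma'_zg hM hq hσ hQM (hQM.ne_bot' hq (hd.trans (relIndex_dvd _ _)))
  have h2 := odd_sdprod_zg_cent_prime_pl1 hs (mso_odd M) sd hc (zpowers_le.2 (hQ.le (OmZ_le q Q hx)))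
    (by rw [card_zpowers_of_pow hq ((OmZ_abelem q Q).pow x hx) hx1]; exact hq) (by rwa [C_zpowers]) hp
  rw [h1] at h2
  exact pl1_of_normal h2 (O_le _ _) (O_norm _ _) ((Malpha_hall hM).idx.compl_single ha)
/-- BG 10.7(a) -/
theorem mso_syl_der (hp : p.Prime) (hP : Syl p P ⊤) : P ≤ ⁅N[P], N[P]⁆ := by
  by_cases h0 : P = ⊥
  · rw [h0]; exact bot_le
  obtain ⟨M, hM, h⟩ := exists_coatom (hP.pi.N_ne_top h0)
  have hS := hP.sub ((normG P).trans h) le_top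
  exact ((mso_pl1 hp hM.1).syl_le_der hp hS (sigma_syl_le_der hM (sigma_of_top hM hp hP h) hS)).trans
    (derS inf_le_right)
theorem mso_syl_sdprod_comm (hp : p.Prime) (hP : Syl p P ⊤) (h : Sdprod P V N[P]) : ⁅P, V⁆ = P := by
  exact (cop_der_sdprod h (h.relIndex_l ▸ (hP.sub (normG P) le_top).coprime.symm) hP.pi.sol (mso_syl_der hp hP)).1
omit hG in
theorem Z_eq_der_of_cube (hp : p.Prime) (h : #S = p ^ 3) (h1 : ¬ Abel S) : Z[S] = ⁅S, S⁆ ∧ #Z[S] = p := by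
  have hS := pig_of_card_pow hp h
  have hn : S ≤ N[Z[S]] := normZ (normG S)
  have h2 : ¬ Z[S].relIndex S ∣ p := fun hd =>
    h1 (abel_of_cyc_im (φ := quo Z[S]) hn (by simp) (cyc_quo_of_idx hp hn hd))
  have h3 := card_mul_relIndex (inf_le_left : Z[S] ≤ S)
  have h0 : S ≠ ⊥ := fun e => h1 (e ▸ abel_bot)
  obtain ⟨k, hk⟩ := (hS.of_le inf_le_left).dvd (hS.nil.Z_ne_bot h0)
  obtain ⟨j, hj, e⟩ := (Nat.dvd_prime_pow hp).1 (show Z[S].relIndex S ∣ p ^ 2 from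
    ⟨k, Nat.eq_of_mul_eq_mul_left hp.pos (by rw [← pow_succ', ← h, ← h3, hk]; ring)⟩)
  have hj2 : j = 2 := by
    by_contra hc
    exact h2 (e ▸ (pow_dvd_pow p (by omega)).trans (pow_one p).dvd)
  have h4 : #Z[S] = p := Nat.eq_of_mul_eq_mul_right (pow_pos hp.pos 2) (by rw [← pow_succ', ← h, ← h3, e, hj2])
  exact ⟨((eq_bot_or_eq_of_prime (h4 ▸ hp) (der_le_of_idx_sq hp hn (by rw [e, hj2]))).resolve_left
    fun e => h1 (abel_iff_der.2 e)).symm, h4⟩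
/-- BG 10.7(b) -/
theorem mso_rank2_syl_cprod (hp : p.Prime) (hP : Syl p P ⊤) (h : r[p](P) ≤ 2) (h1 : ¬ Abel P) :
    ∃ S D, S ⊔ D = P ∧ D ≤ C[S] ∧ ¬ Abel S ∧ #S = p ^ 3 ∧ (∀ x ∈ S, x ^ p = 1) ∧ Cyc D ∧ Ω[p](D) = Z[S] := by
  have hS := hP.sub (normG P) le_top
  obtain ⟨V, hV⟩ := hS.exists_sdprod le_rfl
  obtain ⟨S, D, a, b, c, d, e, f, g⟩ := (rank2_cop_comm_cprod hP.pi (mso_odd P) (fun e => h1 (e ▸ abel_bot)) h
    (mso_syl_sdprod_comm hp hP hV) (hV.hall_compl hS).pi (mso_odd V)).2.resolve_left h1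
  exact ⟨S, D, a, b, c, d, e, f, by rw [g, (Z_eq_der_of_cube hp d c).1]⟩
/-- BG 10.7(c) -/
theorem mso_sub_syl_trans (hp : p.Prime) (hP : Syl p P ⊤) (h1 : Q ≤ P) (h2 : cj x Q ≤ P) :
    ∃ c ∈ C[Q], ∃ y ∈ N[P], x = y * c := by
  by_cases h0 : P = ⊥
  · exact ⟨x, by rw [le_bot_iff.1 (h1.trans h0.le), C_bot]; trivial, 1, one_mem _, (one_mul x).symm⟩
  obtain ⟨M, hM, h⟩ := exists_coatom (hP.pi.N_ne_top h0)
  have hS := hP.sub ((normG P).trans h) le_top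
  obtain ⟨c, hc, m, hm, rfl⟩ := sigma_group_trans hM (sigma_of_top hM hp hP h) (hP.pi.of_le h1) (h1.trans hS.le)
    (h2.trans hS.le)
  rw [cj_mul, cj_of_mem_C hc] at h2
  obtain ⟨d, hd, u, hu, rfl⟩ := (mso_pl1 hp hM.1).syl_trans hp hS h1 hm h2
  exact ⟨d * c, mul_mem hd.2 hc, u, hu.2, mul_assoc _ _ _⟩
/-- BG 10.7(d) -/
theorem mso_subnorm_syl (hp : p.Prime) (hP : Syl p P ⊤) (h1 : Q ≤ P) : Syl p (P ⊓ N[Q]) N[Q] := by
  obtain ⟨S, hS, h2⟩ := syl_superset hp (normG Q) (hP.pi.of_le h1)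
  obtain ⟨x, -, h3⟩ := hP.cj_sub hp le_top hS.pi
  obtain ⟨c, hc, y, hy, rfl⟩ := mso_sub_syl_trans hp hP h1 ((cj_mono x h2).trans h3)
  refine hS.of_card_le inf_le_right (hP.pi.of_le inf_le_left) ?_
  rw [← card_cj c]
  refine card_le (le_inf ?_ (cj_le_of_mem hS.le (normG _ (C_le_N Q hc))))
  rwa [cj_mul, ← cj_of_mem_N hy, cj_le_cj] at h3
/-- BG 10.7(e) -/
theorem mso_syl_normal (hp : p.Prime) (hP : Syl p P ⊤) (hR : PiG {p} R) (h1 : Q ≤ P) (h2 : Q ≤ R) (h3 : N[P] ≤ N[Q]) :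
    N[R] ≤ N[Q] := by
  have key : ∀ x, cj x Q ≤ P → x ∈ N[Q] := fun x hx => by
    obtain ⟨c, hc, y, hy, rfl⟩ := mso_sub_syl_trans hp hP h1 hx
    exact mul_mem (h3 hy) (C_le_N Q hc)
  obtain ⟨x, -, h4⟩ := hP.cj_sub hp le_top hR
  intro y hy
  have a := key x ((cj_mono x h2).trans h4)
  have b := key (x * y) (by rw [cj_mul]; exact (cj_mono x (cj_le_of_mem h2 hy)).trans h4)
  simpa using mul_mem (inv_mem a) b
/-- BG 10.8(c) -/
theorem beta_max_pdiv (hM : IsCoatom M) (hp : p.Prime) (h : p ∉ β[M]) :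
    PNil p ⁅M, M⁆ ∧ PNil p Mσ[M] ∧ ∀ q, q.Prime → q ∣ O[{p}ᶜ](M).relIndex M → q ≤ p := by
  obtain ⟨P, hP⟩ := syl_exists hp M
  obtain ⟨a, b, -⟩ := narrow_der_compl_max_pdiv hp (mso_odd M) (coatom_sol hM) hP
    (not_not.1 fun hn => h ((beta_iff hM hp hP).2 hn)) fun _ => mso_pl1 hp hM.1
  exact ⟨a, a.of_le (Msigma_le_der hM), b⟩
omit hG in
theorem hall_O_of_pnil (h : ∀ p, p.Prime → p ∣ #H → p ∉ π → PNil p H) : Hall π O[π](H) H := by
  let L := H ⊓ ⨅ p : {p : ℕ // p.Prime ∧ p ∣ #H ∧ p ∉ π}, O[{p.1}ᶜ](H)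
  refine Hall.hall_O (H := L) ⟨inf_le_left, fun p hp hd => ?_, fun p hp hd hπ => ?_⟩
    (normI (normG H) (norm_iInf fun _ => O_norm _ _))
  · by_contra hc
    exact O_pig {p}ᶜ H p hp (hd.trans (cardS (inf_le_right.trans
      (iInf_le_of_le ⟨p, hp, hd.trans (cardS inf_le_left), hc⟩ le_rfl)))) rfl
  · obtain ⟨P, hP⟩ := syl_exists hp H
    refine hP.not_dvd hp (hd.trans (relIndex_dvd_left (le_inf hP.le (le_iInf fun q => ?_)) H))
    exact (h q.1 q.2.1 q.2.2.1 q.2.2.2).le_O hP.le (hP.pi.ne_compl fun e => q.2.2.2 (e ▸ hπ))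
omit hG in
theorem nil_of_pnil (h : ∀ p, p.Prime → p ∣ #H → PNil p H) : Nil H :=
  nil_of_syl fun p _ _ => ⟨_, hall_O_of_pnil fun q a b _ => h q a b, O_norm _ _⟩
/-- BG 10.8(a) -/
theorem Mbeta_hall (hM : IsCoatom M) : Hall β[M] Mβ[M] M := by
  have h1 : Hall β[M] O[β[M]](⁅M, M⁆) ⁅M, M⁆ := hall_O_of_pnil fun p hp _ h => (beta_max_pdiv hM hp h).1
  exact (h1.trans' (der_le M) ((der_quo_sigma' hM).mono
    (Set.compl_subset_compl.2 (beta_sub_sigma hM)))).hall_O (normO _ (der_norm M))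
theorem Mbeta_hall_top (hM : IsCoatom M) : Hall β[M] Mβ[M] ⊤ := by
  exact sigma_hall_top (beta_sub_sigma hM) (Mbeta_hall hM)
theorem le_Mbeta (hM : IsCoatom M) (h1 : X ≤ M) (h2 : PiG β[M] X) : X ≤ Mβ[M] := (Mbeta_hall hM).le_O h1 h2
theorem Mbeta_le_der (hM : IsCoatom M) : Mβ[M] ≤ ⁅M, M⁆ := (Mbeta_le_Msigma hM).trans (Msigma_le_der hM)
/-- BG 10.8(b) -/
theorem Mbeta_quo_nil (hM : IsCoatom M) : Nil (⁅M, M⁆ ÷ Mβ[M]) := by
  have hN : ⁅M, M⁆ ≤ N[Mβ[M]] := (der_le M).trans (O_norm _ _)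
  refine nil_of_pnil fun p hp hd => (beta_max_pdiv hM hp ?_).1.im (φ := quo _) hN
  rw [card_quo hN] at hd
  exact ((Mbeta_hall hM).sub (Mbeta_le_der hM) (der_le M)).idx p hp hd
theorem beta'_der_nil (hM : IsCoatom M) (h : PiG β[M]ᶜ H) (h1 : H ≤ ⁅M, M⁆) : Nil H := by
  exact nil_of_pnil fun p hp hd => (beta_max_pdiv hM hp (h p hp hd)).1.of_le h1
theorem Mbeta_frattini (hM : IsCoatom M) (hq : q.Prime) (hX : Syl q X ⁅M, M⁆) : IsProd Mβ[M] (M ⊓ N[X]) M := by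
  have hN : M ≤ N[Mβ[M]] := O_norm _ _
  have hXM := hX.le.trans (der_le M)
  have h1 := hX.im (φ := quo Mβ[M]) ((der_le M).trans hN)
  have h2 := norm_sup_ker (φ := quo Mβ[M]) hN (hXM.trans hN)
    (h1.norm_char ((Mbeta_quo_nil hM).hall_norm h1) (im_norm (der_norm M)))
  rw [quo_ker] at h2
  have h3 := Syl.frattini (hX.sub le_sup_left (sup_le hX.le (Mbeta_le_der hM))) hq (sup_le hXM (O_le _ _)) h2
  refine isProd_of_l (inf_le_left.trans hN) (le_antisymm (sup_le (O_le _ _) inf_le_left) (h3.sup.ge.trans ?_))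
  exact sup_le (sup_le (le_sup_of_le_right (le_inf hXM (normG X))) le_sup_left) le_sup_right
/-- BG 10.9(a) -/
theorem beta'_cent_syl (hM : IsCoatom M) (hp : p.Prime) (hq : q.Prime) (h1 : p ∉ β[M]) (h2 : q ∉ β[M])
    (hX : PiG {q} X) (h : (p ≠ q ∧ X ≤ ⁅M, M⁆) ∨ (p < q ∧ X ≤ M)) :
    (∃ P, Syl p P Mσ[M] ∧ X ≤ C[P]) ∧ (p ∈ α[M] → InU (M ⊓ C[X])) ∧
      (Syl q X ⁅M, M⁆ → ∃ P, Syl p P ⁅M, M⁆ ∧ P ≤ ⁅M ⊓ N[X], M ⊓ N[X]⁆) := by
  have hXM : X ≤ M := h.elim (fun h => h.2.trans (der_le M)) (·.2)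
  have hpq : q ≠ p := h.elim (fun h => h.1.symm) (·.1.ne')
  have hL : X ⊔ ⁅M, M⁆ ≤ M := sup_le hXM (der_le M)
  obtain ⟨W, hW, hXW⟩ := hall_superset (π := {p, q}) (sol_of_le hM hL) le_sup_left (hX.single_mono (by simp))
  have hW' := hW.inf_norm' le_sup_right (hL.trans (der_norm M))
  have nil : Nil (W ⊓ ⁅M, M⁆) := beta'_der_nil hM (hW'.pi.mono (by rintro r (rfl | rfl) <;> assumption)) inf_le_right
  have hP : Syl p O[{p}](W ⊓ ⁅M, M⁆) ⁅M, M⁆ := hW'.syl (by simp) (nil.hall_O _)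
  have nP : X ≤ N[O[{p}](W ⊓ ⁅M, M⁆)] := normO _ (normI (normsG hXW) (hXM.trans (der_norm M)))
  have cP : X ≤ C[O[{p}](W ⊓ ⁅M, M⁆)] := by
    rcases h with h | h
    · exact cent_symm (nil.cent (O_le _ _) (le_inf hXW h.2) (O_pig _ _) (hX.ne_compl hpq))
    · have h3 : X ≤ O[{p}ᶜ](M) := hX.le_of_idx (O_norm _ _) hXM fun r hr hd e =>
        h.1.not_ge (e ▸ (beta_max_pdiv hM hp h1).2.2 r hr hd)
      rw [← comm_eq_bot, ← le_bot_iff, ← O_inf_O {p} (W ⊓ ⁅M, M⁆) M]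
      exact le_inf (commR nP) ((commS h3 (hP.le.trans (der_le M))).trans (commL (O_norm _ _)))
  generalize O[{p}](W ⊓ ⁅M, M⁆) = P at hP nP cP
  have hP' := hP.inf_norm' (Msigma_le_der hM) ((der_le M).trans (O_norm _ _))
  refine ⟨⟨_, hP', cP.trans (centS inf_le_left)⟩, fun ha => ?_, fun hS => ⟨P, hP, ?_⟩⟩
  · refine (rank3_uniqueness hP'.pi.ne_top ?_).mono (le_inf (inf_le_right.trans (O_le _ _))
      (inf_le_left.trans (cent_symm cP))) (ne_top_of_le hM inf_le_left)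
    rw [((Msigma_hall hM).syl (alpha_sub_sigma hM ha) hP').rank hp]; exact alpha_rank ha
  · have := prod_focal_cop (Mbeta_frattini hM hq hS) (O_norm _ _)
      (le_inf (hP.le.trans (der_le M)) (cents_norm (cent_symm cP)))
      (PiN.coprime' (π := β[M]) (hP.pi.single_mono h1) (O_pig _ _))
    rw [inf_eq_left.2 hP.le] at this
    exact this.le.trans inf_le_right
/-- BG 10.9(b) -/
theorem nonuniq_norm_syl_prod (hM : IsCoatom M) (hH : IsCoatom H) (h : H ≠ M) (hp : p.Prime) (hS : Syl p S ⊤)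
    (h1 : N[S] ≤ H ⊓ M) : IsProd Mβ[M] (H ⊓ M) M ∧ α[M] = β[M] := by
  have hσ := sigma_of_top hM hp hS (h1.trans inf_le_right)
  have hS' : Syl p S M := hS.sub ((normG S).trans (h1.trans inf_le_right)) le_top
  have ha : p ∉ α[M] := fun ha => h ((rank3_uniqueness hS.pi.ne_top (by rw [hS'.rank hp]; exact alpha_rank ha)).eq
    hM hH hS'.le ((normG S).trans (h1.trans inf_le_left)))
  have h2 := sigma_syl_le_der hM hσ hS'
  refine ⟨(Mbeta_frattini hM hp (hS'.sub h2 (der_le M))).mono le_rfl (inf_le_right.trans h1) (O_le _ _) inf_le_right,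
    Set.Subset.antisymm (fun q hq => ?_) (beta_sub_alpha M)⟩
  by_contra hb
  exact h (((beta'_cent_syl hM hq.1 hp hb (fun hb => ha hb.1) hS.pi (Or.inl ⟨fun e => ha (e ▸ hq), h2⟩)).2.1 hq).eq
    hM hH inf_le_left (inf_le_right.trans ((C_le_N S).trans (h1.trans inf_le_left))))

end Cfsg.Agent.BG
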