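import Cfsg.Agent.BG.S10b
/-!
Bender–Glauberman, section 10: 10.10–10.14.
-/
set_option autoImplicit false
set_option linter.unusedSectionVars false
set_option linter.unusedVariables false

namespace Cfsg.Agent.BG
open Subgroup PHom

variable {G : Type*} [Group G] [Finite G] [hG : MSO G]
variable {A A₀ B D E E₁ E₂ E₃ H K L M Mstar P Q R S T U V W X Y Z : Subgroup G} {x y g : G} {π ρ : Set ℕ}
  {p q r m n : ℕ}

include hG
/-- BG 10.10 -/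
theorem max_normed_p2Elem_signaliser (hp : p.Prime) (hq : q.Prime) (h : p ≠ q) (hA : PnElem p 2 A B) (h1 : PMax p A ⊤)
    (hQ : MaxN A q Q) (h2 : q ∣ #C[A]) :
    ∃ P, Syl p P ⊤ ∧ A ≤ P ∧ IsProd O[{p}ᶜ](C[P]) (N[P] ⊓ N[Q]) N[P] ∧ P ≤ ⁅N[Q], N[Q]⁆ ∧
      (Narrow q Q → P ≤ C[Q]) := by
  have pA := hA.pig hp
  have h0 := hA.ne_bot hp
  have hN := pmax_normed_constrained hp h0 h1
  have hqA : ¬ q ∣ #A := fun hd => h (pA.eq_prime hq hd).symm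
  have tr := normed_constrained_rank2_trans hN hq hqA h2 (by rw [inf_eq_left.2 hA.abel, hA.rank_eq hp])
  have sup : ∀ P, Syl p P ⊤ → A ≤ P → _ := fun P hP hAP =>
    normed_trans_superset hN hq hqA (hP.pi.nil.subIn hAP) (hP.pi.single_mono (pA.dvd h0)) hP.pi.ne_top tr
  obtain ⟨P₀, hP₀, hAP⟩ := syl_superset hp le_top pA
  obtain ⟨Q₀, -, hQ₀⟩ := exists_maxN (pig_bot {q}) (norm_bot P₀)
  obtain ⟨k, hk, rfl⟩ := tr _ _ ((sup P₀ hP₀ hAP).2.2.1 _ hQ₀) hQ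
  have hP := hP₀.cj_top k
  have hAP' : A ≤ cj k P₀ := cj_of_mem_C (O_le _ _ hk) ▸ cj_mono k hAP
  obtain ⟨a, b⟩ := (sup _ hP hAP').2.2.2 _ (hQ₀.cj k)
  rw [inf_eq_left.2 (mso_syl_der hp hP)] at a
  rw [pA.O_piOf_compl h0] at b
  refine ⟨_, hP, hAP', b, a, fun hn => ?_⟩
  generalize cj k Q₀ = Q at *
  by_cases hQ0 : Q = ⊥
  · rw [hQ0, C_bot]; exact le_top
  have c := (aut_narrow hq hQ.pi (mso_odd _) hn le_rfl (sol_N hQ0 hQ.pi.ne_top) (mso_odd _)).2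
  have n : N[Q] ≤ N[N[Q] ⊓ C[Q]] := normI (normG _) (normC le_rfl)
  exact (hP.pi.le_of_idx ((OM_le inf_le_left n).trans n) (a.trans c) ((OM_idx _ _ _).ne_compl h.symm)).trans
    inf_le_right
/-- BG 10.11(a) -/
theorem sigma'_not_uniq (hM : IsCoatom M) (h1 : K ≤ M) (h2 : PiG σ[M]ᶜ K) : ¬ InU K := by
  intro hU
  have hU := hU.umax hM h1
  obtain ⟨E, hE, hKE⟩ := hall_superset (coatom_sol hM) h1 h2
  have h0 : E ≠ ⊥ := fun e => hM.1 (top_le_iff.1 (by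
    have := hU.N_le; rwa [le_bot_iff.1 (hKE.trans e.le), N_bot] at this))
  have hr : r(E) ≤ 2 := rank_le_iff.2 fun p hp => by
    by_cases h : p ∈ σ[M]
    · rw [pRank_eq_zero hp (hE.pi.compl_single h)]; omega
    · exact (pRank_mono hp hE.le).trans (sigma'_rank_le hM hp h)
  have hne : (#E).primeFactors.Nonempty := Nat.nonempty_primeFactors.2 (one_lt_card h0)
  have hq := Nat.mem_primeFactors.1 (Finset.max'_mem _ hne)
  have hS := rank2_max_pcore_syl hq.1 (mso_odd E) (sol_of_le hM hE.le) ((rank_mono (F_le E)).trans hr)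
    fun q a b => Finset.le_max' _ q (Nat.mem_primeFactors.2 ⟨a, b, card_ne E⟩)
  have hσ := hE.pi _ hq.1 hq.2.1
  exact not_N_le_of_sigma' hM hq.1 hσ (hE.syl hσ hS)
    (hU.le_of (hKE.trans (O_norm _ _)) (hS.pi.N_ne_top (hS.ne_bot' hq.1 hq.2.1)))
/-- BG 10.11(b) -/
theorem sub'cent_sigma_rank1 (hM : IsCoatom M) (h1 : K ≤ M) (h2 : PiG σ[M]ᶜ K) : r(K ⊓ C[Mσ[M]]) ≤ 1 := by
  by_contra hc
  obtain ⟨p, hp, A, hA⟩ := exists_pnElem_rank (not_le.1 hc)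
  have hAK : A ≤ K := hA.le.trans inf_le_left
  have cA : Mσ[M] ≤ C[A] := cent_symm (hA.le.trans inf_le_right)
  have nU := sigma'_not_uniq hM (hAK.trans h1) (h2.of_le hAK)
  have hσ : p ∉ σ[M] := (hA.pig hp).mem_of_ne (hA.ne_bot hp) (h2.of_le hAK)
  have hmax : PMax p A ⊤ := not_not.1 fun h => nU (nonmax_p2Elem_uniqueness hp hA h)
  have hr : r(C[A]) ≤ 2 := not_lt.1 fun h => nU (cent_rank3_uniqueness (hA.rank_eq hp).ge h)
  obtain ⟨q, hq, hd⟩ := exists_prime_dvd (Msigma_ne_bot hM)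
  have hqσ : q ∈ σ[M] := O_pig _ _ q hq hd
  obtain ⟨Q, hQ⟩ := syl_exists hq Mσ[M]
  have hQM := (Msigma_hall hM).syl hqσ hQ
  have hQ' : MaxN A q Q := ⟨hQ.pi, cents_norm (cent_symm (hQ.le.trans cA)), fun R a _ c =>
    (sigma_syl_top hqσ hQM).max a le_top c⟩
  obtain ⟨P, hP, hAP, -, a, -⟩ := max_normed_p2Elem_signaliser hp hq (fun e => hσ (e ▸ hqσ)) hA hmax hQ'
    (hd.trans (cardS cA))
  have hrM : r(M) ≤ 2 := rank_le_iff.2 fun r hr' => by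
    by_cases h : r ∈ σ[M]
    · rw [← (Msigma_hall hM).pRank hr' h]
      exact (pRank_le_rank hr' _).trans ((rank_mono cA).trans hr)
    · exact sigma'_rank_le hM hr' h
  have hPF : P ≤ F[M] := (a.trans (derS (norm_sigma_syl hqσ hQM))).trans
    (rank2_der_le_F (mso_odd M) (coatom_sol hM) ((rank_mono (F_le M)).trans hrM))
  have hPF' := hP.sub hPF le_top
  have hn := hPF'.norm_char ((F_nil M).hall_norm hPF') (F_norm M)
  exact hσ (sigma_of_top hM hp hP (coatom_N hM (hPF.trans (F_le M)) hn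
    fun e => hA.ne_bot hp (le_bot_iff.1 (hAP.trans e.le))).le)
/-- BG 10.11(c) -/
theorem sub'cent_sigma_cyc (hM : IsCoatom M) (h1 : K ≤ M) (h2 : PiG σ[M]ᶜ K) :
    Cyc (K ⊓ C[Mσ[M]] ⊓ ⁅M, M⁆) ∧ M ≤ N[K ⊓ C[Mσ[M]] ⊓ ⁅M, M⁆] := by
  have hZM : O[σ[M]ᶜ](F[M]) ≤ M := (O_le _ _).trans (F_le M)
  have nZ : M ≤ N[O[σ[M]ᶜ](F[M])] := normO _ (F_norm M)
  have h3 := sub'cent_sigma_rank1 hM hZM (O_pig _ _)
  rw [inf_eq_left.2 ((O_F_le _ _).trans (O_cent_O' _ _))] at h3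
  have hZ := (odd_rank1_zg (mso_odd _) h3).cyc ((F_nil M).of_le (O_le _ _))
  have h4 : K ⊓ C[Mσ[M]] ⊓ ⁅M, M⁆ ≤ C[F[M]] := by
    rw [← ((F_nil M).dprod_O σ[M]).sup]
    exact centY (inf_le_left.trans (inf_le_right.trans (centS (O_F_le _ _)))) (inf_le_right.trans (hZ.der_cent nZ))
  have h5 := (F_nil M).le_O ((le_inf (inf_le_right.trans (der_le M)) h4).trans (C_F_le (coatom_sol hM)))
    (h2.of_le (inf_le_left.trans inf_le_left))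
  exact ⟨hZ.of_le h5, hZ.norm_sub h5 nZ⟩
/-- BG 10.11(d) -/
theorem comm_sigma'_p1_cyc (hM : IsCoatom M) (h1 : K ≤ M) (h2 : PiG σ[M]ᶜ K) (hp : p.Prime) (h3 : p ∉ σ[M])
    (hP : #P = p) (h4 : P ≤ M ⊓ N[K]) (h5 : Mσ[M] ⊓ C[P] = ⊥) (h6 : PiG {p}ᶜ K) (h7 : Abel K) :
    ⁅K, P⁆ ≤ C[Mσ[M]] ∧ Cyc ⁅K, P⁆ ∧ M ≤ N[⁅K, P⁆] := by
  have hPM : P ≤ M := h4.trans inf_le_left
  have nK : P ≤ N[K] := h4.trans inf_le_right
  have hK0 : ⁅K, P⁆ ≤ K := commL nK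
  have pP := pig_of_card' hp hP
  have n0 : ⁅K, P⁆ ≤ N[Mσ[M]] := (hK0.trans h1).trans (O_norm _ _)
  have hL : Mσ[M] ⊔ ⁅K, P⁆ ≤ M := sup_le (O_le _ _) (hK0.trans h1)
  have c1 := cop_mul_cent (hPM.trans (O_norm _ _)) (comm_normr K P) (isProd_l n0)
    (pP.coprime (h6.of_le (inf_le_right.trans hK0))) (Or.inl pP.sol)
  rw [h5, cop_abel_C_comm h7 nK (pP.coprime h6)] at c1
  have nil := prime_frob_nil (sol_of_le hM hL) (normY (hPM.trans (O_norm _ _)) (comm_normr K P)) (hP ▸ hp)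
    (by rw [← c1.sup, bot_sup_eq])
  have c2 := cent_symm (nil.cent le_sup_left le_sup_right (O_pig _ _) (h2.of_le hK0))
  obtain ⟨a, b⟩ := sub'cent_sigma_cyc hM h1 h2
  have h8 := le_inf (le_inf hK0 c2) (commS h1 hPM)
  exact ⟨c2, a.of_le h8, a.norm_sub h8 b⟩
/-- BG 10.12 -/
theorem sigma_disjoint (hM : IsCoatom M) (hH : IsCoatom H) (h : ¬ Cjg M H) :
    Mα[M] ⊓ Mσ[H] = ⊥ ∧ (∀ p ∈ α[M], p ∉ σ[H]) ∧ (Nil Mσ[M] → Mσ[M] ⊓ Mσ[H] = ⊥ ∧ ∀ p ∈ σ[M], p ∉ σ[H]) := by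
  have key : ∀ p ∈ σ[M], p ∈ σ[H] → p ∉ α[M] ∧ ¬ Nil Mσ[M] := fun p h1 h2 => by
    have hp := h1.1
    obtain ⟨S, hS⟩ := syl_exists hp M
    obtain ⟨T, hT⟩ := syl_exists hp H
    obtain ⟨g, -, rfl⟩ := (sigma_syl_top h1 hS).conj hp (sigma_syl_top h2 hT)
    have ne : H ≠ cj g M := fun e => h ⟨g, e.symm⟩
    refine ⟨fun ha => ne ((rank3_uniqueness hT.pi.ne_top ?_).eq (coatom_cj' hM g) hH (cj_mono g hS.le) hT.le),
      fun hn => ne (coatom_eq' (coatom_cj' hM g) hH (le_trans ?_ (norm_sigma_syl h2 hT)))⟩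
    · rw [rank_cj, hS.rank hp]; exact alpha_rank ha
    · have hS' := hS.sub (le_Msigma hM hS.le (hS.pi.single_mono h1)) (O_le _ _)
      exact norm_cj.2 (hS'.norm_char (hn.hall_norm hS') (O_norm _ _))
  have h1 : ∀ p ∈ α[M], p ∉ σ[H] := fun p a b => (key p (alpha_sub_sigma hM a) b).1 a
  refine ⟨(O_pig _ _).inf_bot ((O_pig _ _).mono fun p a b => h1 p b a), h1, fun hn => ?_⟩
  have h2 : ∀ p ∈ σ[M], p ∉ σ[H] := fun p a b => (key p a b).2 hn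
  exact ⟨(O_pig _ _).inf_bot ((O_pig _ _).mono fun p a b => h2 p b a), h2⟩
theorem p2max_syl_cent (hp : p.Prime) (hA : PnElem p 2 A B) (h1 : PMax p A ⊤) (hS : Syl p S ⊤) (h2 : A ≤ S)
    (h3 : ¬ Abel S) : ∃ Y, Cyc Y ∧ Ω[p](Z[S]) ≤ Y ∧ A ⊔ Y = S ⊓ C[A] := by
  have hm := h1.sub h2 le_top
  by_cases hr : r[p](S) ≤ 2
  · obtain ⟨T, D, a, b, c, d, e, f, g⟩ := mso_rank2_syl_cprod hp hS hr h3
    have pr : IsProd T D S := isProd_of_l (cents_norm b) a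
    have h4 : ∀ x ∈ S, x ^ p = 1 → x ∈ T := fun x hx hxp => by
      obtain ⟨t, ht, y, hy, rfl⟩ := pr.ex x hx
      rw [Commute.mul_pow (mem_C_comm b hy ht).symm, e t ht, one_mul] at hxp
      exact mul_mem ht (g ▸ mem_Om hy hxp : y ∈ Z[T]).1
    have hAT : A ≤ T := fun x hx => h4 x (h2 hx) (hA.ab.pow x hx)
    refine ⟨D, f, fun x hx => Om_le p D (g ▸ ⟨h4 x (OmZ_le p S hx) ((OmZ_abelem p S).pow x hx),
      centS pr.left (OmZ_cent p S hx)⟩), ?_⟩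
    rw [← (pr.modr (b.trans (centS hAT))).sup]
    congr 1
    exact le_antisymm (le_inf hAT hA.abel) fun x hx => h1.mem trivial hx.2 (e x hx.1)
  · rw [not_le] at hr
    have hZ := (Om_Z2_p2max hS.pi (mso_odd S) hr (hA.sub h2) hm).2.1
    obtain ⟨X, a, b, c⟩ := hA.ab.exists_card hp (A := Ω[p](Z[S])) fun h => by
      have := cardS h; rw [hA.card, hZ] at this
      exact not_pow_succ_dvd (n := 1) hp (by simpa using this)
    have e : X ⊔ Ω[p](Z[S]) = A := (pnElem_two hp b hZ ((OmZ_cent p S).trans (centS (a.trans h2)))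
      fun e => c e.le).eq_of_le hA (sup_le a hm.OmZ_le)
    have e2 : S ⊓ C[X] = S ⊓ C[A] := by
      rw [← e, C_sup, inf_comm C[X], ← inf_assoc, inf_eq_left.2 (cent_symm (OmZ_cent p S))]
    obtain ⟨f, -, -, g⟩ := narrow_cent_dprod hS.pi (mso_odd S) hr (fun _ => ⟨A, hA.sub h2, hm⟩) b (a.trans h2)
      (by rw [e2, hm.pRank_C hp, hA.pRank_eq hp])
    rw [e2] at g
    refine ⟨_, f, le_inf (le_inf (OmZ_le p S) ((OmZ_cent p S).trans (centS ((Om_le _ _).trans (Z2_le S)))))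
      ((OmZ_cent p S).trans (centS (a.trans h2))), le_antisymm (sup_le (le_inf h2 hA.abel) g.right) ?_⟩
    rw [← g.sup]; exact sup_le_sup_right a _
/-- BG 10.13 -/
theorem basic_p2max_structure (hp : p.Prime) (hA : PnElem p 2 A B) (h1 : PMax p A ⊤) (hP : PiG {p} P) (h2 : A ≤ P)
    (h3 : ¬ Abel P) :
    (#Ω[p](Z[P]) = p ∧ Ω[p](Z[P]) ≤ A) ∧
      (∃ Z, Cyc Z ∧ Ω[p](Z[P]) ≤ Z ∧ ∀ X ≤ A, #X = p → X ≠ Ω[p](Z[P]) → Dprod X Z (P ⊓ C[A])) ∧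
      ∀ X ≤ A, ∀ Y ≤ A, #X = p → #Y = p → X ≠ Ω[p](Z[P]) → Y ≠ Ω[p](Z[P]) → ∃ g ∈ P ⊓ N[A], cj g X = Y := by
  obtain ⟨S, hS, hPS⟩ := syl_superset hp le_top hP
  obtain ⟨Y, hY, h4, h5⟩ := p2max_syl_cent hp hA h1 hS (h2.trans hPS) fun h => h3 (h.of_le hPS)
  have hm := h1.sub h2 le_top
  have cY : Y ≤ C[A] := le_sup_right.trans (h5.le.trans inf_le_right)
  have nc : ¬ P ≤ C[A] := fun h => h3 ((hA.abel.sup hY.abel (cent_symm cY)).of_le (h5 ▸ le_inf hPS h))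
  have h0 : P ≠ ⊥ := fun e => h3 (e ▸ abel_bot)
  have hZ : #Ω[p](Z[P]) = p := card_sub_of_sq hp hA.card (lt_of_le_of_ne hm.OmZ_le fun e =>
    nc (cent_symm (e ▸ OmZ_cent p P))) (hP.OmZ_ne_bot h0)
  have hZS : Ω[p](Z[S]) = Ω[p](Z[P]) := (eq_bot_or_eq_of_prime (hZ.symm ▸ hp) ((OmZ_abelem p S).le_Om (le_inf
    ((h1.sub (h2.trans hPS) le_top).OmZ_le.trans h2) ((OmZ_cent p S).trans (centS hPS))))).resolve_left
    (hS.pi.OmZ_ne_bot fun e => h0 (le_bot_iff.1 (hPS.trans e.le)))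
  rw [hZS] at h4
  have cZ : P ≤ C[Ω[p](Z[P])] := cent_symm (OmZ_cent p P)
  have hZP := OmZ_le p P
  have hZA := hm.OmZ_le
  have h6 := hm.Om_eq
  generalize Ω[p](Z[P]) = Z at *
  have e : ∀ X ≤ A, #X = p → X ≠ Z → X ⊔ Z = A := fun X a b c =>
    (pnElem_two hp b hZ (cent_symm ((a.trans h2).trans cZ)) c).eq_of_le hA (sup_le a hZA)
  refine ⟨⟨hZ, hZA⟩, ⟨Y ⊓ P, hY.of_le inf_le_left, le_inf h4 hZP, fun X a b c => ⟨?_, ?_, ?_⟩⟩,
    fun X a Y' a' b b' c c' => ?_⟩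
  · have := modl_l (cents_norm cY) h2
    rw [h5, inf_right_comm, inf_eq_right.2 hPS] at this
    rw [this, ← e X a b c, sup_assoc, sup_eq_right.2 (le_inf h4 hZP)]
  · exact inf_bot_of_prime (b ▸ hp) fun h => c (hY.eq_of_card (h.trans inf_le_left) h4 (b.trans hZ.symm))
  · exact inf_le_left.trans (cY.trans (centS a))
  obtain ⟨g, ⟨hg, hg1⟩, hg2⟩ := SetLike.exists_of_lt
    (hP.nil.lt_norm (lt_of_le_of_ne (inf_le_left : P ⊓ C[A] ≤ P) fun e => nc (e.ge.trans inf_le_right)))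
  have hg3 : g ∈ N[A] := h6 ▸ normOm p le_rfl hg1
  have nZ : P ≤ N[Z] := cents_norm cZ
  have hc : ⁅P ⊓ N[A], A⁆ ≤ Z := by
    rw [← quo_cent_iff (inf_le_left.trans nZ) (h2.trans nZ)]
    refine ((hP.of_le inf_le_left).im _).cent_of_prime hp ?_ (im_norm inf_le_right)
    have := card_mul_relIndex hZA
    rw [hZ, hA.card, pow_two] at this
    rw [card_quo (h2.trans nZ), Nat.eq_of_mul_eq_mul_left hp.pos this]
  obtain ⟨x, hx, hx1⟩ := exists_mem_ne_one (ne_bot_of_prime (b ▸ hp))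
  have ex := eq_zpowers_of_prime (b ▸ hp) hx hx1
  have hw := hc (comm_mem (show g ∈ P ⊓ N[A] from ⟨hg, hg3⟩) (a hx))
  have hw1 : g * x * g⁻¹ * x⁻¹ ≠ 1 := fun e1 => hg2 ⟨hg, by
    rw [← e X a b c, C_sup, ← ex, C_zpowers]
    exact ⟨mem_C1.2 (by rw [mul_inv_eq_one, mul_inv_eq_iff_eq_mul] at e1; exact e1), cZ hg⟩⟩
  obtain ⟨y, hy, z, hz, e1⟩ := (mem_sup_l (cents_norm (cent_symm ((a'.trans h2).trans cZ)))).1
    ((e Y' a' b' c').symm ▸ a hx)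
  have hy1 : y ≠ 1 := fun e2 => c ((eq_bot_or_eq_of_prime (hZ.symm ▸ hp)
    (ex ▸ zpowers_le.2 (by rw [e1, e2, one_mul]; exact hz))).resolve_left (ne_bot_of_prime (b ▸ hp)))
  obtain ⟨k, hk⟩ := mem_powers_iff_mem_zpowers.2
    (eq_zpowers_of_prime (hZ.symm ▸ hp) hw hw1 ▸ inv_mem hz : z⁻¹ ∈ zpowers (g * x * g⁻¹ * x⁻¹))
  have key : ∀ k : ℕ, g ^ k * x * (g ^ k)⁻¹ = (g * x * g⁻¹ * x⁻¹) ^ k * x := fun k => by
    induction k with
    | zero => simp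
    | succ k ih =>
      have := mem_C_comm cZ hg (pow_mem hw k)
      calc g ^ (k + 1) * x * (g ^ (k + 1))⁻¹ = g * (g ^ k * x * (g ^ k)⁻¹) * g⁻¹ := by group
        _ = (g * (g * x * g⁻¹ * x⁻¹) ^ k) * x * g⁻¹ := by rw [ih]; group
        _ = _ := by rw [this, pow_succ]; group
  refine ⟨g ^ k, pow_mem (mem_inf.2 ⟨hg, hg3⟩) k, ?_⟩
  simp only at hk
  rw [← ex, cj_zpowers, key, hk, ← mem_C_comm cZ (h2 (a hx)) (inv_mem hz), e1, mul_inv_cancel_right]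
  exact eq_zpowers_of_prime (b' ▸ hp) hy hy1
/-- BG 10.14(a) -/
theorem beta_not_narrow (h : IsIdealPrime p G) (hA : PnElem p 2 A B) : ¬ PMax p A ⊤ := by
  obtain ⟨P, hP, hAP⟩ := syl_superset h.1 le_top (hA.pig h.1)
  exact fun h2 => (ideal_iff h.1 hP).1 h fun _ => ⟨A, hA.sub hAP, h2.sub hAP le_top⟩
theorem beta_not_narrow' (h : IsIdealPrime p G) (hP : Syl p P ⊤) (hA : PnElem p 2 A B) : ¬ PMax p A P := by
  exact fun h2 => (ideal_iff h.1 hP).1 h fun _ => ⟨A, hA.sub h2.le, h2⟩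
/-- BG 10.14(b) -/
theorem beta_noncyc_uniq (h : IsIdealPrime p G) (hR : PiG {p} R) (h1 : 2 ≤ r[p](R)) : InU R := by
  obtain ⟨A, hA⟩ := exists_pnElem h.1 h1
  exact (nonmax_p2Elem_uniqueness h.1 hA (beta_not_narrow h hA)).mono hA.le hR.ne_top
/-- BG 10.14(c) -/
theorem beta_subnorm_uniq (h : IsIdealPrime p G) (hP : Syl p P ⊤) (h1 : X ≤ P) : InU (P ⊓ N[X]) := by
  have hQ := hP.pi.of_le (inf_le_left : P ⊓ N[X] ≤ P)
  refine beta_noncyc_uniq h hQ (not_lt.1 fun hc => ?_)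
  have h2 := odd_pgroup_rank1_cyc hQ (mso_odd _) (by omega)
  have h3 := hP.pi.nil.eq_of_norm inf_le_left
    (le_inf inf_le_left (h2.norm_sub (le_inf h1 (normG X)) inf_le_right))
  rw [h3] at hc
  exact (ideal_iff h.1 hP).1 h (narrow_of_rank hc.le)
/-- BG 10.14(d) -/
theorem beta_norm_le (hM : IsCoatom M) (h1 : Y ≤ M) (h2 : PiG β[M] Y) (h3 : Y ≠ ⊥) : N[Y] ≤ M := by
  obtain ⟨q, hq, hd⟩ := exists_prime_dvd (F_ne_bot (sol_of_le hM h1) h3)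
  have hb := h2 q hq (hd.trans (cardS (F_le Y)))
  have h0 : O[{q}](Y) ≠ ⊥ := O_F q Y ▸ (F_nil Y).O_ne_bot hq hd rfl
  obtain ⟨P, hP, hXP⟩ := syl_superset hq ((O_le {q} Y).trans h1) (O_pig _ _)
  have hU := (beta_subnorm_uniq hb.2 (sigma_syl_top (beta_sub_sigma hM hb) hP) hXP).umax hM (inf_le_left.trans hP.le)
  exact (normO _ le_rfl).trans (hU.le_of inf_le_right ((O_pig _ _).N_ne_top h0))

end Cfsg.Agent.BG
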