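import Cfsg.Agent.BG.S10c
import Cfsg.Agent.BG.S03c
/-!
Bender–Glauberman, section 11: exceptional maximal subgroups.
-/
set_option autoImplicit false
set_option linter.unusedSectionVars false
set_option linter.unusedVariables false

namespace Cfsg.Agent.BG
open Subgroup PHom

variable {G : Type*} [Group G] [Finite G] [hG : MSO G]
variable {A A₀ B D E E₁ E₂ E₃ H K L M Mstar P Q R S T U V W X Y Z : Subgroup G} {x y g : G} {π ρ : Set ℕ}
  {p q r m n : ℕ}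

omit [Finite G] hG in
/-- Hypothesis 11.1 -/
structure Exceptional (p : ℕ) (M A₀ A : Subgroup G) : Prop where
  max : IsCoatom M
  prime : p.Prime
  sigma' : p ∉ σ[M]
  elem : PnElem p 2 A M
  le : A₀ ≤ A
  card : #A₀ = p
  norm : N[A₀] ≤ M
include hG
theorem Exceptional.pA (h : Exceptional p M A₀ A) : PiG {p} A := h.elem.pig h.prime
theorem Exceptional.rank (h : Exceptional p M A₀ A) : r[p](M) = 2 :=
  sigma'_norm_rank2 h.max h.prime h.sigma' (pig_of_card' h.prime h.card) h.norm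
theorem Exceptional.pmax (h : Exceptional p M A₀ A) : PMax p A ⊤ :=
  sigma'_rank2_max h.max h.prime h.sigma' h.rank h.elem
theorem Exceptional.C_le (h : Exceptional p M A₀ A) : C[A] ≤ M := (centS h.le).trans ((C_le_N _).trans h.norm)
theorem Exceptional.cop (h : Exceptional p M A₀ A) (hP : PiG {p} P) : (#P).Coprime #Mσ[M] :=
  PiN.coprime' (π := σ[M]) (hP.single_mono h.sigma') (O_pig _ _)
theorem Exceptional.exists_N (h : Exceptional p M A₀ A) (hP : Syl p P M) : ∃ g ∈ N[P], g ∉ M :=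
  SetLike.not_le_iff_exists.1 (not_N_le_of_sigma' h.max h.prime h.sigma' hP)
theorem mem_of_sq_mem (h : g ^ 2 ∈ H) : g ∈ H := by
  obtain ⟨k, hk⟩ := mso_odd_orderOf g
  have := pow_mem h (k + 1)
  rwa [← pow_mul, show 2 * (k + 1) = orderOf g + 1 by omega, pow_succ, pow_orderOf_eq_one, one_mul] at this
/-- BG 11.1 -/
theorem exceptional_TI_sigma (h : Exceptional p M A₀ A) (hg : g ∉ M) (h1 : A ≤ cj g M) (hq : q.Prime)
    (hQ : Syl q Q Mσ[M]) (h2 : A ≤ N[Q]) (hR : Syl q R (cj g Mσ[M])) (h3 : A ≤ N[R]) :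
    Q ⊓ R = ⊥ ∧ ∀ X ≤ A, #X = p → Q ⊓ C[X] = ⊥ ∨ R ⊓ C[X] = ⊥ := by
  by_cases h0 : Q = ⊥
  · subst h0; exact ⟨bot_inf_eq _, fun _ _ _ => Or.inl (bot_inf_eq _)⟩
  have hσ : q ∈ σ[M] := hQ.pi.mem_of_ne h0 ((O_pig _ _).of_le hQ.le)
  have hQ' := (Msigma_hall_top h.max).syl hσ hQ
  have hR' := ((Msigma_hall_top h.max).cj_top g).syl hσ hR
  have A0 := h.elem.ne_bot h.prime
  have key : ∀ X : Subgroup G, X ≠ ⊥ → Sol X → A ≤ N[X] → Q ⊓ N[X] = ⊥ ∨ R ⊓ N[X] = ⊥ := fun X a b c => by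
    by_contra hc
    push Not at hc
    obtain ⟨k, hk, rfl⟩ := normed_constrained_meet_trans (pmax_normed_constrained h.prime A0 h.pmax) hq
      (fun hd => h.sigma' (h.pA.eq_prime hq hd ▸ hσ)) c (b.N_ne_top a) ⟨hQ.pi, h2, fun S x _ z => hQ'.max x le_top z⟩
      ⟨hR.pi, h3, fun S x _ z => hR'.max x le_top z⟩ hc.1 hc.2
    have := sigma_syl_trans hσ (((Msigma_hall h.max).syl hσ hQ).cj_mem (h.C_le (O_le _ _ hk)))
      (le_cj_iff.1 (hR.le.trans (cj_mono g (O_le _ _))))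
    exact hg (by simpa using this)
  refine ⟨by_contra fun hc => ?_, fun X a b => ?_⟩
  · rcases key _ hc (hQ.pi.of_le inf_le_left).sol (normI h2 h3) with e | e
    · exact hc (le_bot_iff.1 (e ▸ le_inf inf_le_left (normG _)))
    · exact hc (le_bot_iff.1 (e ▸ le_inf inf_le_right (normG _)))
  · exact (key X (ne_bot_of_prime (b ▸ h.prime)) (h.pA.of_le a).sol (abel_norm h.elem.abel a)).imp
      (fun e => le_bot_iff.1 ((inf_le_inf_left _ (C_le_N X)).trans e.le))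
      fun e => le_bot_iff.1 ((inf_le_inf_left _ (C_le_N X)).trans e.le)
/-- BG 11.2 -/
theorem exceptional_TI_Msigma (h : Exceptional p M A₀ A) (hg : g ∉ M) (h1 : A ≤ cj g M) :
    Mσ[M] ⊓ cj g M = ⊥ ∧ Mσ[M] ⊓ C[cj g A₀] = ⊥ := by
  suffices h2 : Mσ[M] ⊓ cj g M = ⊥ from ⟨h2, le_bot_iff.1 (h2 ▸ inf_le_inf_left _
    (by rw [← cj_C]; exact cj_mono g ((C_le_N _).trans h.norm)))⟩
  by_contra hc
  obtain ⟨q, hq, hd⟩ := exists_prime_dvd hc
  have hs := Or.inl (b := False) h.pA.sol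
  have n1 : A ≤ N[Mσ[M]] := h.elem.le.trans (O_norm _ _)
  have n2 : A ≤ N[cj g Mσ[M]] := h1.trans (norm_cj.2 (O_norm _ _))
  have l2 : Mσ[M] ⊓ cj g M ≤ cj g Mσ[M] := by
    rw [cj_Msigma]
    exact le_Msigma (coatom_cj' h.max g) inf_le_right (by rw [sigma_cj]; exact (O_pig _ _).of_le inf_le_left)
  obtain ⟨S, hS, nS⟩ := cop_syl_exists (normI n1 (normsG h1)) (coprimeS (h.cop h.pA) le_rfl inf_le_left)
    (Or.inl h.pA.sol) hq
  obtain ⟨Q, a, b, c⟩ := cop_syl_superset n1 (h.cop h.pA) (Or.inl h.pA.sol) hq (hS.le.trans inf_le_left) hS.pi nS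
  obtain ⟨R, a', b', c'⟩ := cop_syl_superset n2 (by rw [card_cj]; exact h.cop h.pA) (Or.inl h.pA.sol) hq
    (hS.le.trans l2) hS.pi nS
  exact hS.ne_bot' hq hd (le_bot_iff.1 ((exceptional_TI_sigma h hg h1 hq a b a' b').1 ▸ le_inf c c'))
/-- BG 11.3 -/
theorem exceptional_sigma_nil (h : Exceptional p M A₀ A) : Nil Mσ[M] := by
  obtain ⟨P, hP, hAP⟩ := syl_superset h.prime h.elem.le h.pA
  obtain ⟨g, hg, hgM⟩ := h.exists_N hP
  exact prime_frob_nil (sol_of_le h.max (O_le _ _)) (((cj_le_of_mem (h.le.trans hAP) hg).trans hP.le).trans (O_norm _ _))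
    (by rw [card_cj, h.card]; exact h.prime)
    (exceptional_TI_Msigma h hgM (hAP.trans (cj_of_mem_N hg ▸ cj_mono g hP.le))).2
/-- BG 11.4 -/
theorem exceptional_sigma_uniq (h : Exceptional p M A₀ A) (hH : IsCoatom H) (h1 : A ≤ H) (h2 : Mσ[H] ⊓ Mσ[M] ≠ ⊥) :
    H = M := by
  rw [inf_comm] at h2
  obtain ⟨g, rfl⟩ : Cjg M H := by_contra fun hc =>
    h2 ((sigma_disjoint h.max hH hc).2.2 (exceptional_sigma_nil h)).1
  exact cj_of_mem (by_contra fun hg => h2 (le_bot_iff.1 ((exceptional_TI_Msigma h hg h1).1 ▸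
    inf_le_inf_left _ (O_le _ _))))
/-- BG 11.5 -/
theorem exceptional_syl_abel (h : Exceptional p M A₀ A) (hP : Syl p P M) : Abel P := by
  have hp := h.prime
  obtain ⟨k, hk, hAP⟩ := hP.sub_cj hp h.elem.le h.pA
  rw [← abel_cj (g := k)]
  replace hP := hP.cj_mem hk
  generalize cj k P = P at hP hAP
  by_contra hc
  obtain ⟨⟨hZ, hZA⟩, -, tr⟩ := basic_p2max_structure hp h.elem h.pmax hP.pi hAP hc
  obtain ⟨g, hg, hgM⟩ := h.exists_N hP
  obtain ⟨q, hq, hd⟩ := exists_prime_dvd (Msigma_ne_bot h.max)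
  obtain ⟨Q, hQ, nQ⟩ := cop_syl_exists (hP.le.trans (O_norm _ _)) (h.cop hP.pi) (Or.inl hP.pi.sol) hq
  have nQ' : P ≤ N[cj g Q] := cj_of_mem_N hg ▸ norm_cj.2 nQ
  have pQ : PiG {p}ᶜ Q := PiG.of_le ((O_pig _ _).compl_single' h.sigma') hQ.le
  have h0 := hQ.ne_bot' hq hd
  obtain ⟨X, a, b, c⟩ := cop_exists_cent_elem hp h.elem (hAP.trans nQ) pQ h0
  obtain ⟨Y, a', b', c'⟩ := cop_exists_cent_elem hp h.elem (hAP.trans nQ') (pQ.cj g) (by simpa using h0)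
  have reg := (exceptional_TI_sigma h hgM (hAP.trans (cj_of_mem_N hg ▸ cj_mono g hP.le)) hq hQ (hAP.trans nQ)
    (hQ.cj g) (hAP.trans nQ')).2
  have e : cj g Q ⊓ C[Ω[p](Z[P])] = cj g (Q ⊓ C[Ω[p](Z[P])]) := by
    rw [cj_inf, cj_C, cj_of_mem_N (normOmZ p le_rfl hg)]
  have e1 : Q ⊓ C[Ω[p](Z[P])] = ⊥ := (reg _ hZA hZ).elim id fun h => by rwa [e, cj_eq_bot] at h
  obtain ⟨y, hy, rfl⟩ := tr X a Y a' b b' (fun e2 => c (e2 ▸ e1)) fun e2 => c' (by rw [e2, e, e1, cj_bot])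
  have := (reg _ a' b').resolve_right c'
  rw [← cj_of_mem_N (nQ hy.1), ← cj_C, ← cj_inf, cj_eq_bot] at this
  exact c this
/-- BG 11.6 -/
theorem exceptional_structure (h : Exceptional p M A₀ A) :
    (∀ P, Syl p P M → A ≤ P → Ω[p](P) = A) ∧ Mσ[M] ⊓ C[A] = ⊥ ∧
      ∃ X ≤ A, ∃ Y ≤ A, #X = p ∧ #Y = p ∧ X ≠ Y ∧ Mσ[M] ⊓ C[X] = ⊥ ∧ Mσ[M] ⊓ C[Y] = ⊥ := by
  have hp := h.prime
  have h1 : ∀ P, Syl p P M → A ≤ P → Ω[p](P) = A := fun P a b =>
    (exceptional_syl_abel h a).Om_eq hp (h.elem.sub b) (by rw [a.pRank hp, h.rank])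
  obtain ⟨P, hP, hAP⟩ := syl_superset hp h.elem.le h.pA
  obtain ⟨g, hg, hgM⟩ := h.exists_N hP
  have key : ∀ g ∈ N[P], g ∉ M → cj g A₀ ≤ A ∧ Mσ[M] ⊓ C[cj g A₀] = ⊥ := fun g a b =>
    ⟨cj_le_of_mem h.le (h1 P hP hAP ▸ normOm p le_rfl a),
      (exceptional_TI_Msigma h b (hAP.trans (cj_of_mem_N a ▸ cj_mono g hP.le))).2⟩
  obtain ⟨a, b⟩ := key g hg hgM
  obtain ⟨a', b'⟩ := key _ (pow_mem hg 2) fun e => hgM (mem_of_sq_mem e)
  refine ⟨h1, le_bot_iff.1 (b ▸ inf_le_inf_left _ (centS a)), _, a, _, a', by rw [card_cj, h.card],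
    by rw [card_cj, h.card], fun e => hgM (h.norm (mem_N_iff_cj.2 ?_)), b, b'⟩
  rw [pow_two, cj_mul, cj_eq_cj] at e
  exact e.symm
/-- BG 11.7 -/
theorem exceptional_mul_sigma_normal (h : Exceptional p M A₀ A) : M ≤ N[Mσ[M] ⊔ A] := by
  have hp := h.prime
  have hM := h.max
  obtain ⟨h1, -, X, a, Y, a', b, b', c, d, d'⟩ := exceptional_structure h
  obtain ⟨P, hP, hAP⟩ := syl_superset hp h.elem.le h.pA
  obtain ⟨E, hE, hPE⟩ := hall_superset (π := σ[M]ᶜ) (coatom_sol hM) hP.le (hP.pi.single_mono h.sigma')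
  have sd := (Msigma_hall hM).sdprod (O_norm _ _) hE
  suffices hn : E ≤ N[A] from sd.sup.ge.trans (sup_le (normsG le_sup_left) (normY sd.norm hn))
  have hr : r(E) ≤ 2 := rank_le_iff.2 fun p hp => by
    by_cases h : p ∈ σ[M]
    · rw [pRank_eq_zero hp (hE.pi.compl_single h)]; omega
    · exact (pRank_mono hp hE.le).trans (sigma'_rank_le hM hp h)
  have hK := rank2_ge_hall (mso_odd E) (sol_of_le hM hE.le) ((rank_mono (F_le E)).trans hr) (p + 1)
  have hL := rank2_ge_hall (mso_odd E) (sol_of_le hM hE.le) ((rank_mono (F_le E)).trans hr) p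
  have hKL : O[{q | p + 1 ≤ q}](E) ≤ O[{q | p ≤ q}](E) := O_mono (fun q (h : p + 1 ≤ q) => (by omega : p ≤ q)) E
  have hPL := hL.le_O hPE (hP.pi.single_mono (le_refl p))
  have nK := O_norm {q | p + 1 ≤ q} E
  have nL := O_norm {q | p ≤ q} E
  generalize O[{q | p + 1 ≤ q}](E) = K at *
  generalize O[{q | p ≤ q}](E) = L at *
  have hPL' : Syl p P L := hP.sub hPL (hL.le.trans hE.le)
  have pr : IsProd P K L := hPL'.prod_idx hKL fun q hq hd => by
    have x : ¬ p + 1 ≤ q := (hK.sub hKL hL.le).idx q hq hd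
    have y : p ≤ q := hL.pi q hq (hd.trans (relIndex_dvd _ _))
    exact (by omega : q = p)
  have cK : K ≤ C[A] := le_of_syl fun q hq hd => by
    have hpq : p + 1 ≤ q := hK.pi q hq hd
    have hσ : q ∉ σ[M] := hE.pi q hq (hd.trans (cardS hK.le))
    have cop : (#A).Coprime #K := h.pA.coprime (hK.pi.compl_single' (by simp))
    obtain ⟨Q, hQ, nQ⟩ := cop_syl_exists ((hAP.trans hPE).trans nK) cop (Or.inl h.pA.sol) hq
    have hQM : Syl q Q M := hE.syl hσ (hK.syl hpq hQ)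
    have cop' := coprimeS cop le_rfl hQ.le
    refine ⟨Q, hQ, cent_symm (by_contra fun nc => ?_)⟩
    by_cases h0 : Q ⊓ C[A] = ⊥
    · have nZ : A ≤ N[Z[Q]] := normZ nQ
      have e1 := (cop_abel_dprod (abel_Z Q) nZ (coprimeS cop' le_rfl inf_le_left)).sup
      rw [inf_right_comm, h0, bot_inf_eq, bot_sup_eq] at e1
      have e2 : X ⊔ Y = A := (pnElem_two hp b b' (centSS h.elem.abel a' a) c).eq_of_le h.elem (sup_le a a')
      have key : ∀ X ≤ A, #X = p → Mσ[M] ⊓ C[X] = ⊥ → M ≤ N[⁅Z[Q], X⁆] := fun X x y z =>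
        (comm_sigma'_p1_cyc hM (inf_le_left.trans hQM.le) (PiG.of_le (hQ.pi.single_mono hσ) inf_le_left) hp h.sigma' y
          (le_inf (x.trans h.elem.le) (x.trans nZ)) z (PiG.of_le (hQ.pi.ne_compl (by omega)) inf_le_left)
          (abel_Z Q)).2.2
      have n1 := normY (key X a b d) (key Y a' b' d')
      have e3 : ⁅Z[Q], X⁆ ⊔ ⁅Z[Q], Y⁆ = Z[Q] := by
        refine le_antisymm (sup_le (commL (a.trans nZ)) (commL (a'.trans nZ))) ?_
        conv_lhs => rw [← e1, ← e2]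
        exact comm_sup_le' le_sup_left le_sup_right ((a.trans h.elem.le).trans n1) ((a'.trans h.elem.le).trans n1)
      rw [e3] at n1
      exact not_N_le_of_sigma' hM hq hσ hQM ((normZ le_rfl).trans (coatom_N hM (inf_le_left.trans hQM.le) n1
        (hQ.pi.nil.Z_ne_bot (hQ.ne_bot' hq hd))).le)
    have r1 : ¬ r[q](Q) ≤ 1 := fun r1 => nc ((odd_pgroup_rank1_cyc hQ.pi (mso_odd _) r1).cop_cent hQ.pi nQ cop' h0)
    have r2 := sigma'_rank_le hM hq hσ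
    obtain ⟨B, hB⟩ := exists_pnElem hq (not_le.1 r1)
    rw [hQM.pRank hq] at r1
    have hB' := sigma'_rank2_max hM hq hσ (by omega) (hB.mono hQM.le)
    obtain ⟨R, hQR, hR⟩ := exists_maxN hQ.pi nQ
    obtain ⟨S, -, x, -, -, y⟩ := max_normed_p2Elem_signaliser hp hq (by omega) h.elem h.pmax hR
      (((hQ.pi.of_le inf_le_left).dvd h0).trans (cardS inf_le_right))
    exact nc (centSS (y fun _ => ⟨B, hB.mono hQR, hB'.sub (hB.le.trans hQR) le_top⟩) x hQR)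
  have h2 : A ≤ O[{p}](L) := le_O (hAP.trans hPL)
    (pr.sup.ge.trans (sup_le (abel_norm (exceptional_syl_abel h hP) hAP) (cents_norm cK))) h.pA
  have h3 : Ω[p](O[{p}](L)) = A := le_antisymm ((Om_mono hPL'.O_le).trans (h1 P hP hAP).le) (h.elem.ab.le_Om h2)
  exact h3 ▸ normOm p (normO _ nL)

end Cfsg.Agent.BG
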