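import Cfsg.Agent.BG.S11
/-!
Bender–Glauberman, section 12: 12.1–12.6.
-/
set_option autoImplicit false

namespace Cfsg.Agent.BG
open Subgroup PHom

variable {G : Type*} [Group G] [Finite G] [hG : MSO G]
variable {A A₀ B D E E₁ E₂ E₃ H K L M Mstar P Q R S T U V W X Y Z : Subgroup G} {x y g : G} {π ρ : Set ℕ}
  {p q r m n : ℕ}

omit [Finite G] hG in
/-- a complement `E` of `M_σ` with Hall subgroups for `τ₁, τ₂, τ₃` -/
structure SigmaCompl (M E E₁ E₂ E₃ : Subgroup G) : Prop where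
  hE : Hall σ[M]ᶜ E M
  h1 : Hall τ1[M] E₁ E
  h2 : Hall τ2[M] E₂ E
  h3 : Hall τ3[M] E₃ E
  prod : IsProd E₂ E₁ (E₂ ⊔ E₁)
omit hG in
theorem tau1_prime (h : p ∈ τ1[M]) : p.Prime := (mem_tau1.1 h).1
omit hG in
theorem tau2_prime (h : p ∈ τ2[M]) : p.Prime := (mem_tau2.1 h).1
omit hG in
theorem tau3_prime (h : p ∈ τ3[M]) : p.Prime := (mem_tau3.1 h).1
omit hG in
theorem tau1_dvd (h : p ∈ τ1[M]) : p ∣ #M := dvd_of_pRank (tau1_prime h) (n := 0) (by rw [tau1_rank h]; omega)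
omit hG in
theorem tau2_dvd (h : p ∈ τ2[M]) : p ∣ #M := dvd_of_pRank (tau2_prime h) (n := 0) (by rw [tau2_rank h]; omega)
omit hG in
theorem tau3_dvd (h : p ∈ τ3[M]) : p ∣ #M := dvd_of_pRank (tau3_prime h) (n := 0) (by rw [tau3_rank h]; omega)
omit hG in
theorem PiG.tau1_sigma' (h : PiG τ1[M] X) : PiG σ[M]ᶜ X := h.mono' fun _ _ _ a => BG.tau1_sigma' a
omit hG in
theorem PiG.tau2_sigma' (h : PiG τ2[M] X) : PiG σ[M]ᶜ X := h.mono' fun _ _ _ a => BG.tau2_sigma' a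
omit hG in
theorem PiG.tau3_sigma' (h : PiG τ3[M] X) : PiG σ[M]ᶜ X := h.mono' fun _ _ _ a => BG.tau3_sigma' a
omit hG in
theorem Hall.cop_Msigma (hE : Hall σ[M]ᶜ E M) (h : X ≤ E) : (#X).Coprime #Mσ[M] :=
  (hE.pi.of_le h).coprime' (O_pig _ _)
omit hG in
theorem Hall.norm_Msigma (hE : Hall σ[M]ᶜ E M) (h : X ≤ E) : X ≤ N[Mσ[M]] := h.trans (hE.le.trans (O_norm _ _))
omit hG in
theorem Hall.not_sigma (hE : Hall σ[M]ᶜ E M) (hp : p.Prime) (h : p ∣ #E) : p ∉ σ[M] := hE.pi p hp h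
omit hG in
theorem Hall.syl_compl (hE : Hall σ[M]ᶜ E M) (h : p ∉ σ[M]) (hP : Syl p P E) : Syl p P M := hE.syl h hP
include hG
theorem partition_pi (hM : IsCoatom M) (hp : p.Prime) (h : p ∣ #M) : p ∈ σ[M] ∨ p ∈ τ1[M] ∨ p ∈ τ2[M] ∨ p ∈ τ3[M] := by
  by_cases h1 : p ∈ σ[M]
  · exact Or.inl h1
  have a := sigma'_rank_le hM hp h1
  have b := (pRank_pos_iff hp).2 h
  rw [mem_tau1, mem_tau2, mem_tau3]
  by_cases c : r[p](M) = 2
  · exact Or.inr (Or.inr (Or.inl ⟨hp, h1, c⟩))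
  by_cases d : p ∣ #⁅M, M⁆
  · exact Or.inr (Or.inr (Or.inr ⟨hp, h1, by omega, d⟩))
  · exact Or.inr (Or.inl ⟨hp, h1, by omega, d⟩)
theorem partition_pi_compl (hM : IsCoatom M) (hE : Hall σ[M]ᶜ E M) (hp : p.Prime) (h : p ∣ #E) :
    p ∈ τ1[M] ∨ p ∈ τ2[M] ∨ p ∈ τ3[M] :=
  (partition_pi hM hp (h.trans (cardS hE.le))).resolve_left (hE.pi p hp h)
theorem ex_sigma_compl (hM : IsCoatom M) (h1 : X ≤ M) (h2 : PiG σ[M]ᶜ X) : ∃ E, Hall σ[M]ᶜ E M ∧ X ≤ E :=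
  hall_superset (coatom_sol hM) h1 h2
theorem sdprod_sigma (hM : IsCoatom M) (hE : Hall σ[M]ᶜ E M) : Sdprod Mσ[M] E M :=
  (Msigma_hall hM).sdprod (O_norm _ _) hE
theorem hall_of_compl_sigma (hM : IsCoatom M) (hE : IsComplIn E Mσ[M] M) : Hall σ[M]ᶜ E M :=
  (Msigma_hall hM).compl_hall (compl_symm hE)
theorem pRank_compl (hE : Hall σ[M]ᶜ E M) (hp : p.Prime) (h : p ∉ σ[M]) : r[p](E) = r[p](M) := hE.pRank hp h
theorem dvd_der_compl_iff (hM : IsCoatom M) (hE : Hall σ[M]ᶜ E M) (hp : p.Prime) (h : p ∉ σ[M]) :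
    p ∣ #⁅E, E⁆ ↔ p ∣ #⁅M, M⁆ := by
  refine ⟨fun a => a.trans (cardS (derS hE.le)), fun a => ?_⟩
  have h1 := (sdprod_sigma hM hE).prod.der_le (O_norm _ _)
  have h2 := (a.trans (cardS h1)).trans (card_sup_dvd_r ((der_le E).trans (hE.norm_Msigma le_rfl)))
  exact ((Nat.Prime.dvd_mul hp).1 h2).resolve_right fun b => h (O_pig _ _ p hp b)
theorem ex_tau13_compl (hM : IsCoatom M) (hE : Hall σ[M]ᶜ E M) : ∃ E₁ E₃, Hall τ1[M] E₁ E ∧ Hall τ3[M] E₃ E := by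
  obtain ⟨E₁, a⟩ := hall_exists τ1[M] (sol_of_le hM hE.le)
  obtain ⟨E₃, b⟩ := hall_exists τ3[M] (sol_of_le hM hE.le)
  exact ⟨_, _, a, b⟩
theorem ex_tau2_compl (hM : IsCoatom M) (hE : Hall σ[M]ᶜ E M) (h1 : Hall τ1[M] E₁ E) (h3 : Hall τ3[M] E₃ E) :
    ∃ E₂, SigmaCompl M E E₁ E₂ E₃ := by
  have sE := sol_of_le hM hE.le
  obtain ⟨L, a, b⟩ := hall_superset (π := τ1[M] ∪ τ2[M]) sE h1.le (h1.pi.mono' fun _ _ _ c => Or.inl c)
  obtain ⟨E₂, c⟩ := hall_exists τ2[M] (sE.of_le a.le)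
  have d : Hall τ2[M]ᶜ E₁ L := (h1.sub b a.le).congr fun q hq e =>
    ⟨tau1_not_tau2, fun f => (a.pi q hq e).resolve_right f⟩
  have e := c.prod d
  exact ⟨E₂, hE, h1, c.trans a Set.subset_union_right, h3, e.sup ▸ e⟩
theorem ex_sigmaCompl (hM : IsCoatom M) (hE : Hall σ[M]ᶜ E M) : ∃ E₁ E₂ E₃, SigmaCompl M E E₁ E₂ E₃ := by
  obtain ⟨E₁, E₃, a, b⟩ := ex_tau13_compl hM hE
  obtain ⟨E₂, c⟩ := ex_tau2_compl hM hE a b
  exact ⟨_, _, _, c⟩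
theorem ex_tau2Elem (hE : Hall σ[M]ᶜ E M) (h : p ∈ τ2[M]) : ∃ A, PnElem p 2 A E :=
  exists_pnElem (tau2_prime h) (by rw [pRank_compl hE (tau2_prime h) (tau2_sigma' h), tau2_rank h])
theorem PiG.sigma'_beta' (hM : IsCoatom M) (h : PiG σ[M]ᶜ X) : PiG β[M]ᶜ X :=
  h.mono' fun _ _ _ a b => a (beta_sub_sigma hM b)
theorem PiG.sigma'_alpha' (hM : IsCoatom M) (h : PiG σ[M]ᶜ X) : PiG α[M]ᶜ X :=
  h.mono' fun _ _ _ a b => a (alpha_sub_sigma hM b)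
/-- BG 12.1(a) -/
theorem der_sigma_compl_nil (hM : IsCoatom M) (hE : Hall σ[M]ᶜ E M) : Nil ⁅E, E⁆ :=
  beta'_der_nil hM ((hE.pi.of_le (der_le E)).sigma'_beta' hM) (derS hE.le)
/-- BG 12.1(g) -/
theorem tau2_not_beta (hM : IsCoatom M) (h : p ∈ τ2[M]) :
    ¬ IsIdealPrime p G ∧ ∀ A, PnElem p 2 A M → PMax p A ⊤ :=
  ⟨sigma'_rank2_beta' hM (tau2_prime h) (tau2_sigma' h) (tau2_rank h),
    fun _ a => sigma'_rank2_max hM (tau2_prime h) (tau2_sigma' h) (tau2_rank h) a⟩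
theorem zg_of_rank1 (h1 : X ≤ M) (h : ∀ p, p.Prime → p ∣ #X → r[p](M) = 1) : ZG X :=
  odd_rank1_zg (mso_odd _) (rank_le_iff.2 fun p hp => by
    by_cases a : p ∣ #X
    · exact (pRank_mono hp h1).trans (h p hp a).le
    · rw [pRank_eq_zero hp ((pin_compl hp).2 a)]; omega)
theorem tau1_inf_der (h2 : PiG τ1[M] X) : X ⊓ ⁅M, M⁆ = ⊥ := by
  by_contra a
  obtain ⟨p, hp, b⟩ := exists_prime_dvd a
  exact (mem_tau1.1 (h2 p hp (b.trans (cardS inf_le_left)))).2.2.2 (b.trans (cardS inf_le_right))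
theorem tau1_cyc (hM : IsCoatom M) (h1 : X ≤ M) (h2 : PiG τ1[M] X) : Cyc X := by
  have a : Abel X := abel_iff_der.2 (le_bot_iff.1 ((le_inf (der_le X) (derS h1)).trans (tau1_inf_der h2).le))
  exact (zg_of_rank1 h1 fun p hp b => tau1_rank (h2 p hp b)).cyc a.nil
theorem tau3_not_dvd_idx (h : p ∈ τ3[M]) : ¬ p ∣ ⁅M, M⁆.relIndex M := by
  have hp := tau3_prime h
  obtain ⟨P, hP⟩ := syl_exists hp M
  exact cyc_syl_der_idx hp hP (odd_pgroup_rank1_cyc hP.pi (mso_odd _) (by rw [Syl.pRank hP hp, tau3_rank h]))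
    (mem_tau3.1 h).2.2.2
theorem tau3_le_der (h1 : X ≤ M) (h2 : PiG τ3[M] X) : X ≤ ⁅M, M⁆ :=
  h2.le_of_idx (der_norm M) h1 fun p hp a b => tau3_not_dvd_idx b a
theorem tau3_cyc (hM : IsCoatom M) (h1 : X ≤ M) (h2 : PiG τ3[M] X) : Cyc X :=
  (zg_of_rank1 h1 fun p hp b => tau3_rank (h2 p hp b)).cyc
    (beta'_der_nil hM (h2.tau3_sigma'.sigma'_beta' hM) (tau3_le_der h1 h2))
theorem tau3_le_der_compl (hM : IsCoatom M) (hE : Hall σ[M]ᶜ E M) (h1 : X ≤ E) (h2 : PiG τ3[M] X) : X ≤ ⁅E, E⁆ := by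
  have a := prod_focal_cop (sdprod_sigma hM hE).prod (O_norm _ _) h1 (hE.cop_Msigma h1)
  rw [inf_eq_left.2 (tau3_le_der (h1.trans hE.le) h2)] at a
  exact a.le.trans inf_le_right
theorem tau3_norm (hM : IsCoatom M) (hE : Hall σ[M]ᶜ E M) (h : Hall τ3[M] E₃ E) : E ≤ N[E₃] := by
  have a := (der_sigma_compl_nil hM hE).hall_eq (h.sub (tau3_le_der_compl hM hE h.le h.pi) (der_le E))
  rw [a]; exact normO _ (der_norm E)
theorem SigmaCompl.hall21 (hM : IsCoatom M) (h : SigmaCompl M E E₁ E₂ E₃) : Hall τ3[M]ᶜ (E₂ ⊔ E₁) E := by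
  have l : E₂ ⊔ E₁ ≤ E := sup_le h.h2.le h.h1.le
  refine ⟨l, h.prod.pig (h.h2.pi.mono' fun _ _ _ a b => tau3_not_tau2 b a)
    (h.h1.pi.mono' fun _ _ _ a => tau1_not_tau3 a), fun q hq a => ?_⟩
  have b := h.h1.idx q hq (a.trans (relIndex_dvd_left le_sup_right E))
  have c := h.h2.idx q hq (a.trans (relIndex_dvd_left le_sup_left E))
  have d := partition_pi_compl hM h.hE hq (a.trans (relIndex_dvd _ _))
  simp only [Set.mem_compl_iff, not_not] at *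
  tauto
theorem SigmaCompl.sd21 (hM : IsCoatom M) (h : SigmaCompl M E E₁ E₂ E₃) : Sdprod E₂ E₁ (E₂ ⊔ E₁) := by
  have l : E₂ ⊔ E₁ ≤ E := sup_le h.h2.le h.h1.le
  have nD := (der_sigma_compl_nil hM h.hE).of_le (derS l)
  have h2 : Hall τ2[M] E₂ (E₂ ⊔ E₁) := h.h2.sub le_sup_left l
  have a : PiG τ2[M] ⁅E₂ ⊔ E₁, E₂ ⊔ E₁⁆ := fun q hq b => by
    have c := (h.hall21 hM).pi q hq (b.trans (cardS (der_le _)))
    rcases partition_pi_compl hM h.hE hq (b.trans (cardS ((der_le _).trans l))) with d | d | d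
    · exact absurd (b.trans (cardS (derS (l.trans h.hE.le)))) (mem_tau1.1 d).2.2.2
    · exact d
    · exact absurd d c
  have b := h2.le_of_norm' a (der_le _) (le_sup_left.trans (der_norm _))
  exact sdprod_sup (h.h2.pi.inf_bot (h.h1.pi.mono' fun _ _ _ c => tau1_not_tau2 c))
    (le_sup_right.trans (norm_of_der_le b le_sup_left))
theorem SigmaCompl.sd3_21 (hM : IsCoatom M) (h : SigmaCompl M E E₁ E₂ E₃) : Sdprod E₃ (E₂ ⊔ E₁) E :=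
  h.h3.sdprod (tau3_norm hM h.hE h.h3) (h.hall21 hM)
theorem SigmaCompl.sd32 (hM : IsCoatom M) (h : SigmaCompl M E E₁ E₂ E₃) : Sdprod E₃ E₂ (E₃ ⊔ E₂) :=
  sdprod_sup (h.h3.pi.inf_bot (h.h2.pi.mono' fun _ _ _ c d => tau3_not_tau2 d c))
    (h.h2.le.trans (tau3_norm hM h.hE h.h3))
theorem SigmaCompl.pig32 (hM : IsCoatom M) (h : SigmaCompl M E E₁ E₂ E₃) : PiG τ1[M]ᶜ (E₃ ⊔ E₂) :=
  (h.sd32 hM).prod.pig (h.h3.pi.mono' fun _ _ _ a b => tau1_not_tau3 b a)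
    (h.h2.pi.mono' fun _ _ _ a b => tau1_not_tau2 b a)
theorem SigmaCompl.sd32_1 (hM : IsCoatom M) (h : SigmaCompl M E E₁ E₂ E₃) : Sdprod (E₃ ⊔ E₂) E₁ E :=
  ⟨by rw [sup_assoc]; exact (h.sd3_21 hM).sup, (h.pig32 hM).inf_bot' h.h1.pi,
    normY (h.h1.le.trans (tau3_norm hM h.hE h.h3)) (h.sd21 hM).norm⟩
theorem SigmaCompl.hall32 (hM : IsCoatom M) (h : SigmaCompl M E E₁ E₂ E₃) : Hall τ1[M]ᶜ (E₃ ⊔ E₂) E :=
  (h.sd32_1 hM).hall_compl' h.h1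
theorem SigmaCompl.cyc1 (hM : IsCoatom M) (h : SigmaCompl M E E₁ E₂ E₃) : Cyc E₁ :=
  tau1_cyc hM (h.h1.le.trans h.hE.le) h.h1.pi
theorem SigmaCompl.cyc3 (hM : IsCoatom M) (h : SigmaCompl M E E₁ E₂ E₃) : Cyc E₃ :=
  tau3_cyc hM (h.h3.le.trans h.hE.le) h.h3.pi
theorem tau3_cent_compl (hM : IsCoatom M) (hE : Hall σ[M]ᶜ E M) (h : Hall τ3[M] E₃ E) : E₃ ⊓ C[E] = ⊥ := by
  obtain ⟨K, hK⟩ := h.exists_sdprod (tau3_norm hM hE h)
  have c3 := tau3_cyc hM (h.le.trans hE.le) h.pi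
  have a := (cop_der_sdprod hK ((hK.hall_compl h).pi.coprime' h.pi) c3.sol (tau3_le_der_compl hM hE h.le h.pi)).2
  rw [abel_iff_der.1 c3.abel] at a
  exact le_bot_iff.1 ((inf_le_inf_left _ (centS hK.right)).trans a)
theorem compl_ne_bot (hM : IsCoatom M) (hE : Hall σ[M]ᶜ E M) : E ≠ ⊥ := fun e => by
  have a := (sdprod_sigma hM hE).sup
  rw [e, sup_bot_eq] at a
  exact ((coatom_sol hM).der_lt (coatom_ne_bot hM)).not_ge (a.ge.trans (Msigma_le_der hM))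
/-- BG 12.1(b–f) -/
theorem sigma_compl_context (hM : IsCoatom M) (h : SigmaCompl M E E₁ E₂ E₃) :
    (E₃ ≤ ⁅E, E⁆ ∧ E ≤ N[E₃]) ∧ (E₂ = ⊥ → E₁ ≠ ⊥) ∧ (Cyc E₁ ∧ Cyc E₃) ∧
      (Sdprod E₂ E₁ (E₂ ⊔ E₁) ∧ Sdprod E₃ (E₂ ⊔ E₁) E ∧ Sdprod E₃ E₂ (E₃ ⊔ E₂) ∧ Sdprod (E₃ ⊔ E₂) E₁ E) ∧
      E₃ ⊓ C[E] = ⊥ := by
  have l := tau3_le_der_compl hM h.hE h.h3.le h.h3.pi
  refine ⟨⟨l, tau3_norm hM h.hE h.h3⟩, fun a b => ?_, ⟨h.cyc1 hM, h.cyc3 hM⟩,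
    ⟨h.sd21 hM, h.sd3_21 hM, h.sd32 hM, h.sd32_1 hM⟩, tau3_cent_compl hM h.hE h.h3⟩
  have c := (h.sd3_21 hM).sup
  rw [a, b, sup_bot_eq, sup_bot_eq] at c
  exact ((sol_of_le hM h.hE.le).der_lt (compl_ne_bot hM h.hE)).not_ge (c.ge.trans l)
/-- BG 12.2(a) -/
theorem prime_class_norm (hM : IsCoatom M) (hp : p.Prime) (hX : PiG {p} X) (h : N[X] ≤ M) : p ∈ σ[M] ∨ p ∈ τ2[M] := by
  by_cases a : p ∈ σ[M]
  · exact Or.inl a
  · exact Or.inr (mem_tau2.2 ⟨hp, a, sigma'_norm_rank2 hM hp a hX h⟩)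
/-- BG 12.2(b) -/
theorem norm_not_cjg (hM : IsCoatom M) (hH : IsCoatom H) (hX : PiG {p} X) (h1 : X ≤ M) (h2 : N[X] ≤ H)
    (h : (p ∈ σ[M] ∧ M ≠ H) ∨ p ∈ τ1[M] ∨ p ∈ τ3[M]) : ¬ Cjg M H := by
  intro hc
  rcases h with ⟨a, b⟩ | h
  · obtain ⟨c, d, e⟩ := sigma_conj_trans hM a hX hc (cjg_refl M) ((normG X).trans h2) h1
    rw [cj_of_mem (h2 (C_le_N X d))] at e
    exact b e.symm
  obtain ⟨g, rfl⟩ := hc
  have hp : p.Prime := h.elim tau1_prime tau3_prime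
  have := prime_class_norm hH hp hX h2
  rw [sigma_cj, tau2_cj] at this
  rcases this with a | a
  · exact h.elim tau1_sigma' tau3_sigma' a
  · exact h.elim tau1_not_tau2 tau3_not_tau2 a
omit hG in
theorem comm_le_of_nil_quo (h : Nil (D ÷ K)) (h0 : D ≤ N[K]) (hA : A ≤ D) (hB : B ≤ D) (h1 : PiG π A)
    (h2 : PiG πᶜ B) : ⁅A, B⁆ ≤ K :=
  (quo_cent_iff (hA.trans h0) (hB.trans h0)).1 (h.cent (im_mono hA) (im_mono hB) (h1.im _) (h2.im _))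
omit hG in
theorem le_of_sup_pi (h : A ≤ N[K]) (hA : PiG π A) (h1 : X ≤ K ⊔ A) (h2 : PiG πᶜ X) : X ≤ K := by
  refine h2.le_of_idx (sup_le (normG K) h) h1 ?_
  rw [relIndex_sup_l h]; exact (hA.relIndex K).compl_compl
theorem cent_sigma_core (hM : IsCoatom M) (hH : IsCoatom H) (h : H ≠ M) (hp : p.Prime)
    (hA : PnElem p 2 A M) (h1 : A₀ ≤ A) (h2 : #A₀ = p) (h3 : N[A₀] ≤ H) (k1 : K ≤ Mσ[M]) (k2 : K ≤ H)
    (k3 : A ≤ N[K]) (k4 : PiG {p}ᶜ K) : A ≤ C[K] := by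
  have pA := hA.pig hp
  have hAH : A ≤ H := (abel_norm hA.abel h1).trans h3
  have l : ⁅K, A⁆ ≤ K := commL k3
  rw [← comm_eq_bot', eq_bot_iff]
  by_cases a : p ∈ σ[H]
  · have b : ¬ Cjg M H := by
      by_cases c : p ∈ σ[M]
      · exact norm_not_cjg hM hH (pA.of_le h1) (h1.trans hA.le) h3 (Or.inl ⟨c, h.symm⟩)
      · rintro ⟨g, rfl⟩; rw [sigma_cj] at a; exact c a
    have c : A ≤ Mσ[H] := le_Msigma hH hAH (pA.single_mono a)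
    have d : ⁅K, A⁆ ≤ Mσ[H] := (commS le_rfl c).trans (commR (k2.trans (O_norm _ _)))
    have e : ⁅A, ⁅K, A⁆⁆ ≤ Mα[H] := comm_le_of_nil_quo (Malpha_quo_nil hH) ((der_le H).trans (O_norm _ _))
      (c.trans (Msigma_le_der hH)) (d.trans (Msigma_le_der hH)) pA (k4.of_le l)
    rw [commC, cop_comm_comm k3 (pA.coprime k4) (Or.inl pA.sol)] at e
    exact (le_inf e (l.trans k1)).trans (sigma_disjoint hH hM (not_cjg_symm b)).1.le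
  · have ex : Exceptional p H A₀ A := ⟨hH, hp, a, hA.sub hAH, h1, h2, h3⟩
    have b : ⁅K, A⁆ ≤ Mσ[H] ⊔ A :=
      (commS le_rfl le_sup_right).trans (commR (k2.trans (exceptional_mul_sigma_normal ex)))
    have c : ⁅K, A⁆ ≤ Mσ[H] := le_of_sup_pi (hAH.trans (O_norm _ _)) pA b (k4.of_le l)
    by_contra d
    exact h (exceptional_sigma_uniq ex hM hA.le fun e => d ((le_inf (l.trans k1) c).trans e.le)).symm
/-- BG 12.3 -/
theorem nonuniq_p2Elem_cent_sigma (hM : IsCoatom M) (hH : IsCoatom H) (h : H ≠ M) (hp : p.Prime)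
    (hA : PnElem p 2 A M) (h1 : A₀ ≤ A) (h2 : #A₀ = p) (h3 : N[A₀] ≤ H) :
    (p ∉ σ[M] → A ≤ C[Mσ[M] ⊓ H]) ∧ (p ∉ α[M] → A ≤ C[Mα[M] ⊓ H]) := by
  have hAH : A ≤ N[H] := normsG ((abel_norm hA.abel h1).trans h3)
  exact ⟨fun a => cent_sigma_core hM hH h hp hA h1 h2 h3 inf_le_left inf_le_right
      (normI (hA.le.trans (O_norm _ _)) hAH) (PiG.of_le ((O_pig _ _).compl_single' a) inf_le_left),
    fun a => cent_sigma_core hM hH h hp hA h1 h2 h3 (inf_le_left.trans (Malpha_le_Msigma hM)) inf_le_right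
      (normI (hA.le.trans (O_norm _ _)) hAH) (PiG.of_le ((O_pig _ _).compl_single' a) inf_le_left)⟩
omit hG in
theorem nil_of_quo_bot (h : Nil (D ÷ K)) (h0 : K = ⊥) : Nil D := by
  subst h0
  exact nil_of_im_inj (φ := quo ⊥) (norm_bot D) (by simp) h
theorem Malpha_eq_bot (hM : IsCoatom M) (h : r(Mα[M]) ≤ 2) : Mα[M] = ⊥ := by
  by_contra a
  obtain ⟨q, hq, b⟩ := exists_prime_dvd a
  have c := O_pig _ _ q hq b
  have d := alpha_rank c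
  rw [← (Malpha_hall hM).pRank hq c] at d
  have := pRank_le_rank hq Mα[M]
  omega
theorem Msigma_nil_of_Malpha (hM : IsCoatom M) (h : Mα[M] = ⊥) : Nil Mσ[M] :=
  (nil_of_quo_bot (Malpha_quo_nil hM) h).of_le (Msigma_le_der hM)
theorem sigma_syl_le (hM : IsCoatom M) (h : p ∈ σ[M]) (hP : Syl p P M) : Syl p P Mσ[M] :=
  hP.sub (le_Msigma hM hP.le (hP.pi.single_mono h)) (O_le _ _)
theorem nil_sigma_norm (hM : IsCoatom M) (hn : Nil Mσ[M]) (h : p ∈ σ[M]) (hP : Syl p P M) : M ≤ N[P] := by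
  rw [hn.hall_eq (sigma_syl_le hM h hP)]; exact normO _ (O_norm _ _)
theorem umax_of_rank3 (hM : IsCoatom M) (h1 : X ≤ M) (h : 3 ≤ r(X)) : UMax X M :=
  (rank3_uniqueness (ne_top_of_le hM h1) h).umax hM h1
theorem p2Elem_nonuniq (hM : IsCoatom M) (hp : p.Prime) (hA : PnElem p 2 A M)
    (h : ∀ X ≤ A, #X = p → ¬ UMax N[X] M) : p ∈ σ[M] ∧ Mα[M] = ⊥ ∧ Nil Mσ[M] ∧ C[A] ≤ M := by
  have pA := hA.pig hp
  have hN : ∀ X ≤ A, #X = p → N[X] ≠ ⊤ := fun X a b =>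
    (pig_of_card' hp b).N_ne_top (ne_bot_of_prime (b ▸ hp))
  have hr : ∀ X ≤ A, #X = p → r(M ⊓ C[X]) ≤ 2 := fun X a b => by
    by_contra c
    exact h X a b ((umax_of_rank3 hM inf_le_left (by omega)).mono' (inf_le_right.trans (C_le_N X)) (hN X a b))
  have key : ∀ K, K ≤ M → M ≤ N[K] → PiG {p}ᶜ K → (∀ H X, IsCoatom H → H ≠ M → X ≤ A → #X = p → N[X] ≤ H →
      A ≤ C[K ⊓ H]) → K ≤ C[A] := fun K k1 k2 k3 k4 =>
    cop_gen_cent_elem hp (n := 0) hA (hA.le.trans k2) k3 fun X a b => by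
      obtain ⟨H, c, d, e⟩ := exists_coatom_ne (hN X a b) (h X a b)
      exact (inf_le_inf_left _ ((C_le_N X).trans d)).trans (cent_symm (k4 H X c e a b d))
  have h1 : p ∈ σ[M] := by
    by_contra a
    have b := key _ (O_le _ _) (O_norm _ _) ((O_pig _ _).compl_single' a) fun H X c d e f g =>
      (nonuniq_p2Elem_cent_sigma hM c d hp hA e f g).1 a
    have c := sub'cent_sigma_rank1 hM hA.le (pA.single_mono (π := σ[M]ᶜ) a)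
    rw [inf_eq_left.2 (cent_symm b), hA.rank_eq hp] at c
    omega
  obtain ⟨P, hP, hAP⟩ := syl_superset hp hA.le pA
  obtain ⟨X, x1, x2⟩ := pA.exists_prime_sub (hA.ne_bot hp)
  have h2 : PMax p A P := pmax_of_pRank_C (hA.sub hAP) hp
    ((pRank_le_rank hp _).trans ((rank_mono (inf_le_inf hP.le (centS x1))).trans (hr X x1 x2)))
  have P0 : P ≠ ⊥ := fun e => hA.ne_bot hp (le_bot_iff.1 (e ▸ hAP))
  have Z0 := hP.pi.OmZ_ne_bot P0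
  obtain ⟨Y, y1, y2⟩ := ((OmZ_abelem p P).pig hp).exists_prime_sub Z0
  have h3 : p ∉ α[M] := fun a => by
    have b := alpha_rank a
    have c := (rank_mono (le_inf hP.le (cent_symm (y1.trans (OmZ_cent p P))))).trans (hr Y (y1.trans h2.OmZ_le) y2)
    rw [Syl.rank hP hp] at c
    omega
  have h4 := key _ (O_le _ _) (O_norm _ _) ((O_pig _ _).compl_single' h3) fun H X c d e f g =>
    (nonuniq_p2Elem_cent_sigma hM c d hp hA e f g).2 h3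
  have h5 := Malpha_eq_bot hM ((rank_mono (le_inf (O_le _ _) (h4.trans (centS x1)))).trans (hr X x1 x2))
  have h6 := Msigma_nil_of_Malpha hM h5
  refine ⟨h1, h5, h6, (centS h2.OmZ_le).trans ((C_le_N _).trans (coatom_N hM ((OmZ_le p P).trans hP.le)
    (normOmZ p (nil_sigma_norm hM h6 h1 hP)) Z0).le)⟩
/-- BG 12.4 -/
theorem p2Elem_coatom (hM : IsCoatom M) (hp : p.Prime) (hA : PnElem p 2 A M) :
    C[A] ≤ M ∧ ((∀ X ≤ A, #X = p → ¬ UMax N[X] M) → p ∈ σ[M] ∧ Mα[M] = ⊥ ∧ Nil Mσ[M]) := by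
  refine ⟨?_, fun h => ?_⟩
  · by_cases h : ∀ X ≤ A, #X = p → ¬ UMax N[X] M
    · exact (p2Elem_nonuniq hM hp hA h).2.2.2
    · push Not at h
      obtain ⟨X, a, -, b⟩ := h
      exact (centS a).trans ((C_le_N X).trans b.le)
  · obtain ⟨a, b, c, -⟩ := p2Elem_nonuniq hM hp hA h
    exact ⟨a, b, c⟩
theorem cent_p2Elem_le (hM : IsCoatom M) (hp : p.Prime) (hA : PnElem p 2 A M) : C[A] ≤ M := (p2Elem_coatom hM hp hA).1
theorem tau2_exceptional (hM : IsCoatom M) (h : p ∈ τ2[M]) (hA : PnElem p 2 A M) :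
    ∃ A₀, Exceptional p M A₀ A ∧ UMax N[A₀] M := by
  by_contra a
  refine tau2_sigma' h ((p2Elem_coatom hM (tau2_prime h) hA).2 fun X b c d => a ⟨X, ?_, d⟩).1
  exact ⟨hM, tau2_prime h, tau2_sigma' h, hA, b, c, d.le⟩
theorem ex_tau2Elem' (h : p ∈ τ2[M]) : ∃ A, PnElem p 2 A M := exists_pnElem (tau2_prime h) (tau2_rank h).ge
/-- BG 12.5(a) -/
theorem tau2_Msigma_nil (hM : IsCoatom M) (h : p ∈ τ2[M]) : Nil Mσ[M] := by
  obtain ⟨A, hA⟩ := ex_tau2Elem' h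
  obtain ⟨A₀, a, -⟩ := tau2_exceptional hM h hA
  exact exceptional_sigma_nil a
theorem tau2_syl_abel (hM : IsCoatom M) (h : p ∈ τ2[M]) (hP : Syl p P M) : Abel P := by
  obtain ⟨A, hA⟩ := ex_tau2Elem' h
  obtain ⟨A₀, a, -⟩ := tau2_exceptional hM h hA
  exact exceptional_syl_abel a hP
theorem tau2_pig_abel (hM : IsCoatom M) (h : p ∈ τ2[M]) (hP : PiG {p} P) (h1 : P ≤ M) : Abel P := by
  obtain ⟨S, a, b⟩ := syl_superset (tau2_prime h) h1 hP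
  exact (tau2_syl_abel hM h a).of_le b
theorem tau2_pmax (hM : IsCoatom M) (h : p ∈ τ2[M]) (hA : PnElem p 2 A M) : PMax p A ⊤ := (tau2_not_beta hM h).2 A hA
theorem tau2_inf_cent (hM : IsCoatom M) (h : p ∈ τ2[M]) (hA : PnElem p 2 A M) : Mσ[M] ⊓ C[A] = ⊥ := by
  obtain ⟨A₀, a, -⟩ := tau2_exceptional hM h hA
  exact (exceptional_structure a).2.1
theorem tau2_inf_coatom (hM : IsCoatom M) (h : p ∈ τ2[M]) (hA : PnElem p 2 A M) (hH : IsCoatom H) (h1 : A ≤ H)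
    (h2 : H ≠ M) : Mσ[M] ⊓ H = ⊥ := by
  have hp := tau2_prime h
  by_cases a : ∀ X ≤ A, #X = p → ¬ UMax N[X] H
  · obtain ⟨b, -, c⟩ := (p2Elem_coatom hH hp (hA.sub h1)).2 a
    have d : ¬ Cjg H M := by rintro ⟨g, rfl⟩; rw [tau2_cj] at h; exact tau2_sigma' h b
    have e : A ≤ Mσ[H] := le_Msigma hH h1 ((hA.pig hp).single_mono b)
    have f : ⁅Mσ[M] ⊓ H, A⁆ ≤ Mσ[H] ⊓ Mσ[M] := le_inf
      ((commS inf_le_right e).trans (commR (O_norm _ _)))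
      ((commS inf_le_left le_rfl).trans (commL (hA.le.trans (O_norm _ _))))
    rw [((sigma_disjoint hH hM d).2.2 c).1, le_bot_iff, comm_eq_bot] at f
    exact le_bot_iff.1 ((le_inf inf_le_left f).trans (tau2_inf_cent hM h hA).le)
  · push Not at a
    obtain ⟨X, a, b, c⟩ := a
    exact le_bot_iff.1 ((le_inf inf_le_left (cent_symm
      ((nonuniq_p2Elem_cent_sigma hM hH h2 hp hA a b c.le).1 (tau2_sigma' h)))).trans (tau2_inf_cent hM h hA).le)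
/-- BG 12.5(b–f) -/
theorem tau2_context (hM : IsCoatom M) (h : p ∈ τ2[M]) (hA : PnElem p 2 A M) :
    (∀ P, Syl p P M → Abel P ∧ (A ≤ P → Ω[p](P) = A ∧ ¬ N[P] ≤ M)) ∧ M ≤ N[Mσ[M] ⊔ A] ∧ Mσ[M] ⊓ C[A] = ⊥ ∧
      (∀ H, IsCoatom H → A ≤ H → H ≠ M → Mσ[M] ⊓ H = ⊥) ∧ ∃ X ≤ A, #X = p ∧ Mσ[M] ⊓ C[X] = ⊥ := by
  obtain ⟨A₀, a, -⟩ := tau2_exceptional hM h hA
  obtain ⟨b, c, X, d, -, -, e, -, -, f, -⟩ := exceptional_structure a
  exact ⟨fun P hP => ⟨exceptional_syl_abel a hP, fun g => ⟨b P hP g, not_N_le_of_sigma' hM a.prime a.sigma' hP⟩⟩,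
    exceptional_mul_sigma_normal a, c, fun H => tau2_inf_coatom hM h hA, X, d, e, f⟩
theorem tau2_norm (hM : IsCoatom M) (hE : Hall σ[M]ᶜ E M) (h : p ∈ τ2[M]) (hA : PnElem p 2 A E) : E ≤ N[A] := by
  have a := normI (normsG (le_refl E)) (hE.le.trans (tau2_context hM h (hA.mono hE.le)).2.1)
  rwa [inf_comm, modr_l (hE.norm_Msigma hA.le) hA.le, (sdprod_sigma hM hE).inf, bot_sup_eq] at a
theorem tau2_Om_eq (hM : IsCoatom M) (h : p ∈ τ2[M]) (hA : PnElem p 2 A M) (hP : PiG {p} P) (h1 : P ≤ M)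
    (h2 : A ≤ P) : Ω[p](P) = A :=
  (tau2_pig_abel hM h hP h1).Om_eq (tau2_prime h) (hA.sub h2) ((pRank_mono (tau2_prime h) h1).trans (tau2_rank h).le)
theorem tau2_p1_le (hM : IsCoatom M) (hE : Hall σ[M]ᶜ E M) (h : p ∈ τ2[M]) (hA : PnElem p 2 A E) (h1 : X ≤ E)
    (h2 : #X = p) : X ≤ A := by
  have hp := tau2_prime h
  have a := (hA.pig hp).sup_l (pig_of_card' hp h2) (h1.trans (tau2_norm hM hE h hA))
  rw [← tau2_Om_eq hM h (hA.mono hE.le) a ((sup_le hA.le h1).trans hE.le) le_sup_left]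
  exact le_Om_of_card h2 le_sup_right
theorem tau2_p2Elem_eq (hM : IsCoatom M) (hE : Hall σ[M]ᶜ E M) (h : p ∈ τ2[M]) (hA : PnElem p 2 A E)
    (hB : PnElem p 2 B E) : B = A :=
  hB.eq_of_le hA (hB.ab.le_of_card (tau2_prime h) fun X a b => tau2_p1_le hM hE h hA (a.trans hB.le) b)
theorem tau2_inf_N (hM : IsCoatom M) (hE : Hall σ[M]ᶜ E M) (h : p ∈ τ2[M]) (hA : PnElem p 2 A E) :
    M ⊓ N[A] = E := by
  have a := ((sdprod_sigma hM hE).modr (tau2_norm hM hE h hA)).sup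
  rw [cop_inf_N (hE.norm_Msigma hA.le) (hE.cop_Msigma hA.le), tau2_inf_cent hM h (hA.mono hE.le), bot_sup_eq] at a
  exact a.symm
theorem tau2_C_le (hM : IsCoatom M) (hE : Hall σ[M]ᶜ E M) (h : p ∈ τ2[M]) (hA : PnElem p 2 A E) : C[A] ≤ E :=
  (le_inf (cent_p2Elem_le hM (tau2_prime h) (hA.mono hE.le)) (C_le_N A)).trans (tau2_inf_N hM hE h hA).le
theorem tau2_not_N_le (hM : IsCoatom M) (h : p ∈ τ2[M]) (hA : PnElem p 2 A M) : ¬ N[A] ≤ M := fun a => by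
  have hp := tau2_prime h
  obtain ⟨P, hP, b⟩ := syl_superset hp hA.le (hA.pig hp)
  refine not_N_le_of_sigma' hM hp (tau2_sigma' h) hP (le_trans ?_ a)
  rw [← tau2_Om_eq hM h hA hP.pi hP.le b]; exact normOm p le_rfl
theorem tau2_cent_umax (hM : IsCoatom M) (h : p ∈ τ2[M]) (hA : PnElem p 2 A M) (h0 : X ≠ ⊥) (h1 : A ≤ C[X])
    (h2 : Mσ[M] ⊓ C[X] ≠ ⊥) : UMax C[X] M :=
  umax_of (C_ne_top h0) fun L a b => by
    by_contra c
    exact h2 (le_bot_iff.1 ((inf_le_inf_left _ b).trans (tau2_inf_coatom hM h hA a (h1.trans b) c).le))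
/-- BG 12.6(a, b, c, f) -/
theorem tau2_compl_context (hM : IsCoatom M) (hE : Hall σ[M]ᶜ E M) (h : p ∈ τ2[M]) (hA : PnElem p 2 A E) :
    (E ≤ N[A] ∧ ∀ X ≤ E, #X = p → X ≤ A) ∧ (C[A] ≤ E ∧ M ⊓ N[A] = E ∧ ¬ N[A] ≤ M) ∧
      (∀ X ≤ E, #X = p → Mσ[M] ⊓ C[X] ≠ ⊥ → UMax C[X] M) ∧
      ∀ H, IsCoatom H → ¬ Cjg M H → Mσ[M] ⊓ Mσ[H] = ⊥ ∧ ∀ q ∈ σ[M], q ∉ σ[H] :=
  ⟨⟨tau2_norm hM hE h hA, fun _ => tau2_p1_le hM hE h hA⟩,
    ⟨tau2_C_le hM hE h hA, tau2_inf_N hM hE h hA, tau2_not_N_le hM h (hA.mono hE.le)⟩,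
    fun X a b c => tau2_cent_umax hM h (hA.mono hE.le) (ne_bot_of_prime (b ▸ tau2_prime h))
      (hA.abel.trans (centS (tau2_p1_le hM hE h hA a b))) c,
    fun H a b => (sigma_disjoint hM a b).2.2 (tau2_Msigma_nil hM h)⟩
theorem tau13_cent_reg (hM : IsCoatom M) (h : p ∈ τ2[M]) (hA : PnElem p 2 A M) (hq : q ∈ τ1[M] ∨ q ∈ τ3[M])
    (hX : PiG {q} X) (h0 : X ≠ ⊥) (h1 : X ≤ M) (h2 : A ≤ C[X]) : Mσ[M] ⊓ C[X] = ⊥ := by
  by_contra a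
  have b := tau2_cent_umax hM h hA h0 h2 a
  exact norm_not_cjg hM hM hX h1 b.N_le' (Or.inr hq) (cjg_refl M)
theorem tau2_cent_tau3 (hM : IsCoatom M) (hE : Hall σ[M]ᶜ E M) (h : p ∈ τ2[M]) (hA : PnElem p 2 A E) (h1 : X ≤ E)
    (h2 : PiG τ3[M] X) : A ≤ C[X] := by
  have hp := tau2_prime h
  have nA := tau2_norm hM hE h hA
  have l := tau3_le_der_compl hM hE h1 h2
  have a := der_odd_rank2 hp hA.ab (hA.pRank_eq hp).le nA (mso_odd _)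
  refine cent_symm (PiG.le_of_idx (h2.compl_single' fun b => tau3_not_tau2 b h) (M := ⁅E, E⁆)
    (normC ((der_le E).trans nA)) l a.compl_compl)
/-- BG 12.6(d, e) -/
theorem tau2_regular (hM : IsCoatom M) (hE : SigmaCompl M E E₁ E₂ E₃) (h : p ∈ τ2[M]) (hA : PnElem p 2 A E) :
    Semireg Mσ[M] E₃ ∧ Semireg Mσ[M] (E₁ ⊓ C[A]) ∧ A ≤ C[E₃] := by
  have a := tau2_cent_tau3 hM hE.hE h hA hE.h3.le hE.h3.pi
  refine ⟨semireg_of_prime_sub fun X b c => ?_, semireg_of_prime_sub fun X b c => ?_, a⟩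
  · exact tau13_cent_reg hM h (hA.mono hE.hE.le) (Or.inr (hE.h3.pi.mem_of_card c b rfl)) (pig_of_card' c rfl)
      (ne_bot_of_prime c) (b.trans (hE.h3.le.trans hE.hE.le)) (a.trans (centS b))
  · have b' := b.trans inf_le_left
    exact tau13_cent_reg hM h (hA.mono hE.hE.le) (Or.inl (hE.h1.pi.mem_of_card c b' rfl)) (pig_of_card' c rfl)
      (ne_bot_of_prime c) (b'.trans (hE.h1.le.trans hE.hE.le)) (cent_symm (b.trans inf_le_right))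

end Cfsg.Agent.BG
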