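import Cfsg.Agent.BG.S12a
/-!
Bender–Glauberman, section 12: 12.7–12.12.
-/
set_option autoImplicit false

namespace Cfsg.Agent.BG
open Subgroup PHom

variable {G : Type*} [Group G] [Finite G] [hG : MSO G]
variable {A A₀ B D E E₁ E₂ E₃ H K L M Mstar P Q R S T U V W X Y Z : Subgroup G} {x y g : G} {π ρ : Set ℕ}
  {p q r m n : ℕ}

omit hG in
theorem gaschutz (hK : Abel K) (h : Sdprod K D U) (h1 : U ≤ M) (h2 : M ≤ N[K]) (hc : (#K).Coprime (U.relIndex M)) :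
    ∃ H, Sdprod K H M := by
  have l := h.left.trans h1
  have := normal_subgroupOf h2
  have := Core.isMulCommutative_subgroupOf hK.comm M
  obtain ⟨T, hT⟩ := Core.gaschuetz_exists (K.subgroupOf M) (U.subgroupOf M)
    (by rw [Core.card_subgroupOf_of_le l]; exact hc)
    (D.subgroupOf _) (by rw [← rst_im, ← rst_im, ← im_inf' l (by simp), h.inf, im_bot])
    (by rw [← rst_im, ← rst_im, ← im_sup l (h.right.trans h1), h.sup, rst_im])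
  exact ⟨T.map M.subtype,
    by rw [← map_subgroupOf_eq_of_le l, ← Subgroup.map_sup, hT.sup_eq_top, map_subtype_top],
    by rw [← map_subgroupOf_eq_of_le l, ← map_inf _ _ _ (subtype_injective _),
        disjoint_iff.1 hT.disjoint, Subgroup.map_bot], (map_subtype_le _).trans h2⟩
omit hG in
theorem syl_abel_of (hp : p.Prime) (hS : Syl p S H) (h : Abel S) (hP : PiG {p} P) (h1 : P ≤ H) : Abel P := by
  obtain ⟨g, -, a⟩ := hS.cj_sub hp h1 hP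
  exact abel_cj.1 (h.of_le a)
include hG
theorem tau2_cent_tau2 (hM : IsCoatom M) (hE : Hall σ[M]ᶜ E M) (h : p ∈ τ2[M]) (hA : PnElem p 2 A E)
    (hq : q ∈ τ2[M]) (hB : PnElem q 2 B E) : A ≤ C[B] := by
  by_cases e : q = p
  · subst e; rw [tau2_p2Elem_eq hM hE h hA hB]; exact hA.abel
  · exact (hA.pig (tau2_prime h)).cent ((hB.pig (tau2_prime hq)).ne_compl e) (hA.le.trans (tau2_norm hM hE hq hB))
      (hB.le.trans (tau2_norm hM hE h hA))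
theorem nonabel_tau2_eq (hM : IsCoatom M) (h : p ∈ τ2[M]) (hP : PiG {p} P) (h1 : ¬ Abel P) (hq : q ∈ τ2[M]) :
    q = p := by
  by_contra e
  have hp := tau2_prime h
  have hq' := tau2_prime hq
  obtain ⟨E, hE⟩ := hall_exists σ[M]ᶜ (coatom_sol hM)
  obtain ⟨A, hA⟩ := ex_tau2Elem hE h
  obtain ⟨B, hB⟩ := ex_tau2Elem hE hq
  have c := tau2_cent_tau2 hM hE h hA hq hB
  obtain ⟨Q, a, b⟩ := exists_maxN (hB.pig hq') (cents_norm c)
  obtain ⟨R, d, -, -, -, f⟩ := max_normed_p2Elem_signaliser hp hq' (Ne.symm e) hA (tau2_pmax hM h (hA.mono hE.le)) b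
    ((hB.sub (cent_symm c)).dvd)
  have g := (f fun _ => ⟨B, hB.sub a, (tau2_pmax hM hq (hB.mono hE.le)).sub a le_top⟩).trans (centS a)
  exact h1 (syl_abel_of hp d (tau2_pig_abel hM h d.pi (g.trans (cent_p2Elem_le hM hq' (hB.mono hE.le)))) hP le_top)
theorem norm_cent_Msigma (hM : IsCoatom M) (hE : Hall σ[M]ᶜ E M) (h : E ≤ N[X]) : M ≤ N[X ⊓ C[Mσ[M]]] := by
  conv_lhs => rw [← (sdprod_sigma hM hE).sup]
  exact sup_le (cents_norm (cent_symm inf_le_right)) (normI h (normC (hE.norm_Msigma le_rfl)))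
theorem O_coatom_class (hM : IsCoatom M) (hq : q.Prime) (h : O[{q}](M) ≠ ⊥) : q ∈ σ[M] ∨ q ∈ τ2[M] :=
  prime_class_norm hM hq (O_pig _ _) (coatom_N hM (O_le _ _) (O_norm _ _) h).le
theorem O_sigma'_cent (h : q ∉ σ[M]) : O[{q}](M) ≤ C[Mσ[M]] :=
  (O_mono (by simpa using h) M).trans (O_cent_O' _ _)
/-- BG 12.7 -/
theorem nonabel_tau2 (hM : IsCoatom M) (hE : Hall σ[M]ᶜ E M) (h : p ∈ τ2[M]) (hA : PnElem p 2 A E)
    (hP : PiG {p} P) (h1 : ¬ Abel P) :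
    τ2[M] = {p} ∧ (#(A ⊓ C[Mσ[M]]) = p ∧ Dprod Mσ[M] (A ⊓ C[Mσ[M]]) F[M]) ∧
      (∀ X ≤ E, #X = p → X ≠ A ⊓ C[Mσ[M]] → Mσ[M] ⊓ C[X] = ⊥ ∧ ¬ C[X] ≤ M) ∧
      ∃ E₀, Sdprod (A ⊓ C[Mσ[M]]) E₀ E ∧ ∀ x ∈ Mσ[M], x ≠ 1 → PiG τ1[M] (E₀ ⊓ C1[x]) := by
  have hp := tau2_prime h
  have pA := hA.pig hp
  have hAM := hA.mono hE.le
  have t2 : ∀ q ∈ τ2[M], q = p := fun q => nonabel_tau2_eq hM h hP h1
  obtain ⟨⟨nA, dA⟩, ⟨cA, -, -⟩, uq, -⟩ := tau2_compl_context hM hE h hA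
  obtain ⟨R, hR, hAR⟩ := syl_superset hp hA.le pA
  have hRM := hE.syl (tau2_sigma' h) hR
  have aR := tau2_syl_abel hM h hRM
  obtain ⟨S, hS, hRS⟩ := syl_superset hp le_top hR.pi
  have aS : ¬ Abel S := fun a => h1 (syl_abel_of hp hS a hP le_top)
  have eR : S ⊓ C[A] = R :=
    hR.max (hS.pi.of_le inf_le_left) (inf_le_right.trans cA) (le_inf hRS (aR.trans (centS hAR)))
  obtain ⟨⟨z1, z2⟩, ⟨Z, z3, z4, z5⟩, z6⟩ := basic_p2max_structure hp hA (tau2_pmax hM h hAM) hS.pi (hAR.trans hRS) aS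
  have p' : PiG {p}ᶜ Mσ[M] := (O_pig _ _).compl_single' (tau2_sigma' h)
  have nAM := hE.norm_Msigma hA.le
  obtain ⟨A₀, a1, a2, a3⟩ := cop_exists_cent_elem hp (n := 0) hA nAM p' (Msigma_ne_bot hM)
  have u0 := uq A₀ (a1.trans hA.le) a2 a3
  have z7 : ¬ C[Ω[p](Z[S])] ≤ M := fun a => aS (tau2_pig_abel hM h hS.pi ((cent_symm (OmZ_cent p S)).trans a))
  have z8 : A₀ ≠ Ω[p](Z[S]) := fun e => z7 (e ▸ u0.le)
  have hc : ∀ X ≤ A, #X = p → X ≠ A₀ → ¬ C[X] ≤ M := fun X b1 b2 b3 b4 => by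
    have b5 : X ≠ Ω[p](Z[S]) := fun e => z7 (e ▸ b4)
    obtain ⟨g, ⟨g1, g2⟩, g3⟩ := z6 A₀ a1 X b1 a2 b2 z8 b5
    have g4 := u0.cj g
    rw [cj_C, g3] at g4
    have g5 := mem_of_cj_eq hM (g4.uniq M hM b4).symm
    have g6 := tau2_pig_abel hM h (hS.pi.of_le inf_le_left : PiG {p} (S ⊓ M)) inf_le_right
    exact b3 (g3.symm.trans (cj_of_mem_C (centS (a1.trans (le_inf (hAR.trans hRS) hAM.le)) (g6 ⟨g1, g5⟩))))
  have hr : ∀ X ≤ A, #X = p → X ≠ A₀ → Mσ[M] ⊓ C[X] = ⊥ := fun X b1 b2 b3 => by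
    by_contra b4; exact hc X b1 b2 b3 (uq X (b1.trans hA.le) b2 b4).le
  have c0 : Mσ[M] ≤ C[A₀] := cop_gen_cent_elem hp (n := 0) hA nAM p' fun X b1 b2 => by
    by_cases e : X = A₀
    · rw [e]; exact inf_le_right
    · rw [hr X b1 b2 e]; exact bot_le
  have e0 : A ⊓ C[Mσ[M]] = A₀ := by
    have l : A₀ ≤ A ⊓ C[Mσ[M]] := le_inf a1 (cent_symm c0)
    have lt : A ⊓ C[Mσ[M]] < A := lt_of_le_of_ne inf_le_left fun e => Msigma_ne_bot hM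
      (le_bot_iff.1 ((le_inf le_rfl (cent_symm (e.ge.trans inf_le_right))).trans (tau2_inf_cent hM h hAM).le))
    have := card_sub_of_sq hp hA.card lt fun e => ne_bot_of_prime (a2 ▸ hp) (le_bot_iff.1 (l.trans e.le))
    exact (eq_of_card_le l (by omega)).symm
  have n0 : M ≤ N[A₀] := e0 ▸ norm_cent_Msigma hM hE nA
  have p0 := pA.of_le a1
  have l0 : A₀ ≤ M := a1.trans hAM.le
  have d0 := z5 A₀ a1 a2 z8
  rw [eR] at d0
  rw [e0]
  refine ⟨Set.eq_singleton_iff_unique_mem.2 ⟨h, t2⟩, ⟨a2, le_antisymm ?_ (F_le_of_O fun q hq => ?_),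
    p'.inf_bot' p0, cent_symm c0⟩, fun X b1 b2 b3 => ⟨hr X (dA X b1 b2) b2 b3, hc X (dA X b1 b2) b2 b3⟩, ?_⟩
  · exact sup_le (le_F (O_le _ _) (O_norm _ _) (tau2_Msigma_nil hM h)) (le_F l0 n0 p0.nil)
  · by_cases b : O[{q}](M) = ⊥
    · rw [b]; exact bot_le
    rcases O_coatom_class hM hq b with c | c
    · exact (O_mono (by simpa using c) M).trans le_sup_left
    obtain rfl := t2 q c
    have d1 := (d0.modl (le_O l0 n0 p0)).sup
    rw [inf_eq_right.2 hRM.O_le] at d1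
    have d2 : Z ⊓ O[{q}](M) = ⊥ := by
      by_contra d
      have d3 := z3.Om_le (hR.pi.of_le d0.right) inf_le_left d
      rw [← z3.eq_Om hp z4 z1] at d3
      have d4 := (le_inf z2 (d3.trans (inf_le_right.trans (O_sigma'_cent (tau2_sigma' h))))).trans e0.le
      exact z8 (eq_of_card_le d4 (by omega)).symm
    rw [← d1, d2, sup_bot_eq]; exact le_sup_right
  obtain ⟨E₀, hE₀⟩ := gaschutz (hA.abel.of_le a1) d0.sd hR.le (hE.le.trans n0) (p0.coprime hR.idx)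
  refine ⟨E₀, hE₀, fun x x1 x2 q hq x3 => ?_⟩
  obtain ⟨X, x4, x5⟩ := exists_prime_sub hq x3
  have x6 : X ≤ E := x4.trans (inf_le_left.trans hE₀.right)
  have x7 : Mσ[M] ⊓ C[X] ≠ ⊥ := ne_bot_of_mem ⟨x1, le_C1_iff.1 (x4.trans inf_le_right)⟩ x2
  have x8 := ne_bot_of_prime (x5 ▸ hq : (#X).Prime)
  rcases partition_pi_compl hM hE hq (x5 ▸ cardS x6) with b | b | b
  · exact b
  · obtain rfl := t2 q b
    refine absurd (hr X (dA X x6 x5) x5 fun e => x8 ?_) x7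
    exact le_bot_iff.1 ((le_inf e.le (x4.trans inf_le_left)).trans hE₀.inf.le)
  · exact absurd (tau13_cent_reg hM h hAM (Or.inr b) (pig_of_card' hq x5) x8 (x6.trans hE.le)
      (tau2_cent_tau3 hM hE h hA x6 (pig_of_card hq x5 b))) x7
theorem sigma'_rank (hM : IsCoatom M) (h1 : K ≤ M) (h2 : PiG σ[M]ᶜ K) : r(K) ≤ 2 :=
  rank_le_iff.2 fun p hp => by
    by_cases a : p ∣ #K
    · exact (pRank_mono hp h1).trans (sigma'_rank_le hM hp (h2 p hp a))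
    · rw [pRank_eq_zero hp ((pin_compl hp).2 a)]; omega
theorem F_norm_tau2Elem (hM : IsCoatom M) (hE : Hall σ[M]ᶜ E M) (h : p ∈ τ2[M]) (hA : PnElem p 2 A E)
    (hS : Syl p S ⊤) (h1 : A ≤ S) (h2 : Abel S) : F[N[A]] ≤ C[A] := by
  have hp := tau2_prime h
  have c : S ≤ C[A] := h2.trans (centS h1)
  refine F_le_of_O fun q hq => ?_
  by_cases e : q = p
  · subst e; exact (hS.sub (c.trans (C_le_N A)) le_top).O_le.trans c
  · exact cent_symm ((hA.pig hp).cent ((O_pig _ _).ne_compl e) ((normG A).trans (O_norm _ _)) (O_le _ _))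
/-- BG 12.8(c) -/
theorem cent_norm_tau2Elem (hM : IsCoatom M) (hE : Hall σ[M]ᶜ E M) (h : p ∈ τ2[M]) (hA : PnElem p 2 A E)
    (hS : Syl p S ⊤) (h1 : A ≤ S) (h2 : Abel S) :
    S ≤ ⁅N[S], N[S]⁆ ∧ ⁅N[S], N[S]⁆ ≤ F[E] ∧ F[E] ≤ C[S] ∧ C[S] ≤ E := by
  have hp := tau2_prime h
  have cA := tau2_C_le hM hE h hA
  have cS : C[S] ≤ E := (centS h1).trans cA
  have lS : S ≤ E := h2.trans cS
  have a := mso_syl_der hp hS
  have b : N[S] ≤ N[A] := by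
    rw [← tau2_Om_eq hM h (hA.mono hE.le) hS.pi (lS.trans hE.le) h1]; exact normOm p le_rfl
  have c := (F_norm_tau2Elem hM hE h hA hS h1 h2).trans cA
  have d := rank2_der_le_F (mso_odd _) (sol_N (hA.ne_bot hp) (hA.pig hp).ne_top)
    ((rank_mono c).trans (sigma'_rank hM hE.le hE.pi))
  have e : ⁅N[S], N[S]⁆ ≤ F[E] := (derS b).trans (d.trans (F_le_F (tau2_norm hM hE h hA) c))
  refine ⟨a, e, F_le_of_O fun q hq => ?_, cS⟩
  by_cases f : q = p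
  · subst f; exact (hS.sub lS le_top).O_le.trans h2
  · exact cent_symm ((F_nil E).cent (a.trans e) (O_le_F q E) hS.pi ((O_pig _ _).ne_compl f))
/-- BG 12.10(a) -/
theorem sigma'_nil_abel (hM : IsCoatom M) (h1 : K ≤ M) (h2 : PiG σ[M]ᶜ K) (h3 : Nil K) : Abel K := by
  refine h3.abel_of_O fun p hp a => ?_
  have l := (O_le {p} K).trans h1
  rcases partition_pi hM hp (a.trans (cardS h1)) with b | b | b | b
  · exact absurd b (h2 p hp a)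
  · exact (tau1_cyc hM l ((O_pig _ _).single_mono b)).abel
  · exact tau2_pig_abel hM b (O_pig _ _) l
  · exact (tau3_cyc hM l ((O_pig _ _).single_mono b)).abel
/-- BG 12.10(b) -/
theorem der_compl_abel (hM : IsCoatom M) (hE : Hall σ[M]ᶜ E M) : Abel ⁅E, E⁆ :=
  sigma'_nil_abel hM ((der_le E).trans hE.le) (hE.pi.of_le (der_le E)) (der_sigma_compl_nil hM hE)
theorem F_compl_abel (hM : IsCoatom M) (hE : Hall σ[M]ᶜ E M) : Abel F[E] :=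
  sigma'_nil_abel hM ((F_le E).trans hE.le) (hE.pi.of_le (F_le E)) (F_nil E)
/-- with abelian Sylow `q`-subgroups, `O_q(E)` is a Sylow `q`-subgroup of `G` -/
theorem tau2_abel_O (hM : IsCoatom M) (hE : Hall σ[M]ᶜ E M) (h : q ∈ τ2[M]) (h1 : ∀ P : Subgroup G, PiG {q} P → Abel P) :
    Syl q O[{q}](E) ⊤ := by
  obtain ⟨B, hB⟩ := ex_tau2Elem hE h
  obtain ⟨S, hS, a⟩ := syl_superset (tau2_prime h) le_top (hB.pig (tau2_prime h))
  obtain ⟨b, c, -, d⟩ := cent_norm_tau2Elem hM hE h hB hS a (h1 S hS.pi)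
  rwa [← O_F, ← (F_nil E).hall_eq (hS.sub (b.trans c) le_top)]
theorem tau2_le_F (hM : IsCoatom M) (hE : Hall σ[M]ᶜ E M) (h : ∀ q ∈ τ2[M], ∀ P : Subgroup G, PiG {q} P → Abel P)
    (h1 : X ≤ E) (h2 : PiG τ2[M] X) : X ≤ F[E] :=
  le_of_pig fun q hq P a b => by
    by_cases c : P = ⊥
    · rw [c]; exact bot_le
    have d := b.mem_of_ne c (h2.of_le a)
    exact (((tau2_abel_O hM hE d (h q d)).sub (O_le _ _) le_top).le_O (a.trans h1) b).trans (O_le_F q E)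
theorem tau2_pig_abel' (hM : IsCoatom M) (h1 : X ≤ M) (h2 : PiG τ2[M] X) : Abel X := by
  by_cases a : ∀ q ∈ τ2[M], ∀ P : Subgroup G, PiG {q} P → Abel P
  · obtain ⟨E, hE, b⟩ := ex_sigma_compl hM h1 h2.tau2_sigma'
    exact (F_compl_abel hM hE).of_le (tau2_le_F hM hE a b h2)
  · push Not at a
    obtain ⟨p, a, P, b, c⟩ := a
    exact tau2_pig_abel hM a (h2.mono' fun q _ _ d => nonabel_tau2_eq hM a b c d) h1
theorem tau2_compl_abel (hM : IsCoatom M) (hE : Hall σ[M]ᶜ E M) (h : Hall τ2[M] E₂ E) : Abel E₂ :=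
  tau2_pig_abel' hM (h.le.trans hE.le) h.pi
theorem tau2_all_abel (hM : IsCoatom M) (h : p ∈ τ2[M]) (hS : Syl p S ⊤) (h2 : Abel S) :
    ∀ q ∈ τ2[M], ∀ P : Subgroup G, PiG {q} P → Abel P := fun q a P b => by
  by_contra c
  obtain rfl := nonabel_tau2_eq hM a b c h
  exact c (syl_abel_of (tau2_prime h) hS h2 b le_top)
omit [Finite G] hG in
theorem comm_sup_cent_r (h : B ≤ C[X]) (hA : A ≤ N[B]) : ⁅X, A ⊔ B⁆ = ⁅X, A⁆ := by
  refine le_antisymm (comm_le_iff.2 fun x hx y hy => ?_) (commS le_rfl le_sup_left)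
  obtain ⟨a, ha, b, hb, rfl⟩ := (mem_sup_r hA).1 hy
  have e : b * x⁻¹ = x⁻¹ * b := mem_C_comm h hb (inv_mem hx)
  have : x * (a * b) * x⁻¹ * (a * b)⁻¹ = x * a * x⁻¹ * a⁻¹ := by
    calc _ = x * a * (b * x⁻¹) * b⁻¹ * a⁻¹ := by group
      _ = _ := by rw [e]; group
  rw [this]; exact comm_mem hx ha
omit [Finite G] hG in
theorem norm_of_der_cent (h1 : H ≤ N[K]) (h2 : ⁅H, H⁆ ≤ C[K]) (h3 : X ≤ H) : H ≤ N[K ⊓ C[X]] ∧ H ≤ N[⁅K, X⁆] := by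
  have a : H ≤ N[X ⊔ H ⊓ C[K]] := norm_of_der_le (le_sup_of_le_right (le_inf (der_le H) h2)) (sup_le h3 inf_le_left)
  constructor
  · have b : K ⊓ C[X ⊔ H ⊓ C[K]] = K ⊓ C[X] := le_antisymm (inf_le_inf_left _ (centS le_sup_left))
      (le_inf inf_le_left (centY inf_le_right (cent_symm (inf_le_right.trans (centS inf_le_left)))))
    rw [← b]; exact normI h1 (normC a)
  · rw [← comm_sup_cent_r (B := H ⊓ C[K]) inf_le_right (normI (normsG h3) (normC (h3.trans h1)))]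
    exact normR h1 a
/-- BG 12.8(a, b, d, e, f) -/
theorem abel_tau2 (hM : IsCoatom M) (hE : SigmaCompl M E E₁ E₂ E₃) (h : p ∈ τ2[M]) (hA : PnElem p 2 A E)
    (hS : Syl p S ⊤) (h1 : A ≤ S) (h2 : Abel S) :
    E ≤ N[E₂] ∧ Hall τ2[M] E₂ ⊤ ∧
      (N[A] = N[S] ∧ N[S] = N[E₂] ∧ N[E₂] = N[E₃ ⊔ E₂] ∧ N[E₃ ⊔ E₂] = N[F[E]]) ∧
      (∀ X ≤ E₁, (#X).Prime → Mσ[M] ⊓ C[X] = ⊥ → X ≤ C[E]) ∧
      ∀ X ≤ N[S], N[S] ≤ N[S ⊓ C[X]] ∧ N[S] ≤ N[⁅S, X⁆] := by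
  have hp := tau2_prime h
  have ab := tau2_all_abel hM h hS h2
  obtain ⟨c1, c2, c3, c4⟩ := cent_norm_tau2Elem hM hE.hE h hA hS h1 h2
  have lS : S ≤ E := h2.trans c4
  have l2 := tau2_le_F hM hE.hE ab hE.h2.le hE.h2.pi
  have f2 := hE.h2.sub l2 (F_le E)
  have n2 : E ≤ N[E₂] := f2.norm_char ((F_nil E).hall_norm f2) (F_norm E)
  have n3 := tau3_norm hM hE.hE hE.h3
  have l3 := le_F hE.h3.le n3 (hE.cyc3 hM).nil
  have f32 := (hE.hall32 hM).sub (sup_le l3 l2) (F_le E)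
  have S2 : S ≤ E₂ := hE.h2.le_of_normal n2 (hS.pi.single_mono h) lS
  have a2 := tau2_compl_abel hM hE.hE hE.h2
  have cA := tau2_C_le hM hE.hE h hA
  have i1 : N[S] ≤ N[A] := by
    rw [← tau2_Om_eq hM h (hA.mono hE.hE.le) hS.pi (lS.trans hE.hE.le) h1]; exact normOm p le_rfl
  have i2 : N[E₂] ≤ N[S] := (hS.sub S2 le_top).norm_char (abel_norm a2 S2) le_rfl
  have i3 : N[E₃ ⊔ E₂] ≤ N[E₂] := (hE.h2.sub le_sup_right (sup_le hE.h3.le hE.h2.le)).norm_char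
    ((sup_le hE.h3.le hE.h2.le).trans n2) le_rfl
  have i4 : N[F[E]] ≤ N[E₃ ⊔ E₂] := f32.norm_char ((F_nil E).hall_norm f32) le_rfl
  have i5 : N[A] ≤ N[F[E]] := by
    have : F[E] = F[N[A]] := le_antisymm
      ((F_le_F cA (c3.trans (centS h1))).trans (F_le_of_normal (C_le_N A) (normC le_rfl)))
      (F_le_F (tau2_norm hM hE.hE h hA) ((F_norm_tau2Elem hM hE.hE h hA hS h1 h2).trans cA))
    rw [this]; exact F_norm _
  have aF := F_compl_abel hM hE.hE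
  refine ⟨n2, ⟨le_top, hE.h2.pi, fun q hq a b => ?_⟩, ⟨le_antisymm (i5.trans (i4.trans (i3.trans i2))) i1,
    le_antisymm (i1.trans (i5.trans (i4.trans i3))) i2, le_antisymm (i2.trans (i1.trans (i5.trans i4))) i3,
    le_antisymm (i3.trans (i2.trans (i1.trans i5))) i4⟩, fun X a b c => ?_,
    fun X a => norm_of_der_cent le_rfl (c2.trans c3) a⟩
  · have c := tau2_abel_O hM hE.hE b (ab q b)
    exact c.not_dvd hq (a.trans (relIndex_dvd_left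
      (hE.h2.le_of_normal n2 ((O_pig _ _).single_mono b) (O_le _ _)) ⊤))
  have lK : E₃ ⊔ E₂ ≤ E := sup_le hE.h3.le hE.h2.le
  have lX := a.trans hE.h1.le
  have t1 := hE.h1.pi.mem_of_card b a rfl
  obtain ⟨-, -, d⟩ := comm_sigma'_p1_cyc hM (lK.trans hE.hE.le) (hE.hE.pi.of_le lK) b (tau1_sigma' t1) rfl
    (le_inf (lX.trans hE.hE.le) (lX.trans (normY n3 n2))) c ((hE.pig32 hM).compl_single t1) (aF.of_le (sup_le l3 l2))
  have e : ⁅E₃ ⊔ E₂, X⁆ = ⊥ := by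
    by_contra e
    have f := (norm_of_der_cent (i1.trans (i5.trans i4)) (c2.trans (aF.trans (centS (sup_le l3 l2))))
      (lX.trans (n2.trans i2))).2
    rw [coatom_N hM ((comm_le lK lX).trans hE.hE.le) d e] at f
    exact not_N_le_of_sigma' hM hp (tau2_sigma' h) (hS.sub (lS.trans hE.hE.le) le_top) f
  rw [← (hE.sd32_1 hM).sup]
  exact centY (comm_eq_bot'.1 e) (a.trans (hE.cyc1 hM).abel)
theorem ex_sigmaCompl_tau1 (hM : IsCoatom M) (hE : Hall σ[M]ᶜ E M) (h1 : X ≤ E) (h2 : PiG τ1[M] X) :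
    ∃ E₁ E₂ E₃, SigmaCompl M E E₁ E₂ E₃ ∧ X ≤ E₁ := by
  obtain ⟨E₁, a, b⟩ := hall_superset (sol_of_le hM hE.le) h1 h2
  obtain ⟨E₃, c⟩ := hall_exists τ3[M] (sol_of_le hM hE.le)
  obtain ⟨E₂, d⟩ := ex_tau2_compl hM hE a c
  exact ⟨_, _, _, d, b⟩
theorem rank1_p1_conj (hp : p.Prime) (h : r[p](M) ≤ 1) (h1 : X ≤ M) (h2 : Y ≤ M) (hX : #X = p) (hY : #Y = p) :
    ∃ g ∈ M, cj g X = Y := by
  obtain ⟨P, hP, a⟩ := syl_superset hp h2 (pig_of_card' hp hY)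
  obtain ⟨g, b, c⟩ := hP.cj_sub hp h1 (pig_of_card' hp hX)
  exact ⟨g, b, (odd_pgroup_rank1_cyc hP.pi (mso_odd _) (by rwa [Syl.pRank hP hp])).eq_of_card c a (by simp [hX, hY])⟩
/-- BG 12.9 -/
theorem tau1_act_tau2 (hM : IsCoatom M) (hE : Hall σ[M]ᶜ E M) (h : p ∈ τ2[M]) (hA : PnElem p 2 A E)
    (hq : q ∈ τ1[M]) (hQ : #Q = q) (h1 : Q ≤ E) (h2 : Mσ[M] ⊓ C[Q] = ⊥) (h3 : ⁅A, Q⁆ ≠ ⊥) :
    (#⁅A, Q⁆ = p ∧ A ⊓ C[Mσ[M]] = ⁅A, Q⁆ ∧ M ≤ N[⁅A, Q⁆]) ∧ ¬ Cjg (A ⊓ C[Q]) ⁅A, Q⁆ ∧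
      (#(A ⊓ C[Q]) = p ∧ ¬ C[A ⊓ C[Q]] ≤ M) := by
  have hp := tau2_prime h
  have hq' := tau1_prime hq
  have pA := hA.pig hp
  have qQ := pig_of_card' hq' hQ
  have ne : p ≠ q := fun e => tau1_not_tau2 hq (e ▸ h)
  have nA := h1.trans (tau2_norm hM hE h hA)
  obtain ⟨a1, a2, a3⟩ := comm_sigma'_p1_cyc hM (hA.le.trans hE.le) (hE.pi.of_le hA.le) hq' (tau1_sigma' hq) hQ
    (le_inf (h1.trans hE.le) nA) h2 (pA.ne_compl ne) hA.abel
  have d := cop_abel_dprod hA.abel nA (qQ.coprime (pA.ne_compl ne))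
  have c1 : #⁅A, Q⁆ = p :=
    card_sub_of_sq hp hA.card (lt_of_le_of_ne d.right fun e => hA.not_cyc hp (e ▸ a2)) h3
  have c2 : #(A ⊓ C[Q]) = p := by
    have := d.card
    rw [c1, hA.card, pow_two] at this
    exact Nat.eq_of_mul_eq_mul_right hp.pos this
  obtain ⟨S, hS, lS⟩ := syl_superset hp le_top pA
  have aS : ¬ Abel S := fun a => by
    obtain ⟨E₁, E₂, E₃, b, c⟩ := ex_sigmaCompl_tau1 hM hE h1 (qQ.single_mono hq)
    exact h3 (comm_eq_bot'.2 (((abel_tau2 hM b h hA hS lS a).2.2.2.1 Q c (hQ ▸ hq') h2).trans (centS hA.le)))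
  obtain ⟨-, ⟨b1, -⟩, b2, -⟩ := nonabel_tau2 hM hE h hA hS.pi aS
  have e : A ⊓ C[Mσ[M]] = ⁅A, Q⁆ := (eq_of_card_le (le_inf d.right a1) (by omega)).symm
  have ne2 : ¬ ⁅A, Q⁆ ≤ C[Q] := fun f => h3 (le_bot_iff.1 ((le_inf (le_inf d.right f) le_rfl).trans d.inf.le))
  refine ⟨⟨c1, e, a3⟩, ?_, c2, (b2 _ (inf_le_left.trans hA.le) c2 fun f => ne2 ?_).2⟩
  · rintro ⟨g, f⟩
    have g1 : cj g Q ≤ C[⁅A, Q⁆] := by rw [← f]; exact cent_cj.2 (cent_symm inf_le_right)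
    have g2 := coatom_N hM (d.right.trans (hA.le.trans hE.le)) a3 h3
    obtain ⟨k, k1, k2⟩ := rank1_p1_conj hq' (tau1_rank hq).le (g1.trans ((C_le_N _).trans g2.le)) (h1.trans hE.le)
      (by simp [hQ]) hQ
    have g3 := cj_le_of_mem g1 (normC a3 k1)
    rw [k2] at g3
    exact ne2 (cent_symm g3)
  · rw [← e, ← f]; exact inf_le_right
theorem tau2Elem_le (hM : IsCoatom M) (hE : Hall σ[M]ᶜ E M) (h : p ∈ τ2[M]) (hA : PnElem p 2 A E)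
    (h2 : Hall τ2[M] E₂ E) : A ≤ E₂ :=
  h2.le_of_norm' ((hA.pig (tau2_prime h)).single_mono h) hA.le (h2.le.trans (tau2_norm hM hE h hA))
/-- BG 12.10(c) -/
theorem tau1_cent_tau2Elem_factor (hM : IsCoatom M) (hE : Hall σ[M]ᶜ E M) (h : p ∈ τ2[M]) (hA : PnElem p 2 A E) :
    PiN τ1[M] ((C[A]).relIndex E) := by
  obtain ⟨E₁, E₂, E₃, a⟩ := ex_sigmaCompl hM hE
  have b : E₃ ⊔ E₂ ≤ C[A] := sup_le (cent_symm (tau2_regular hM a h hA).2.2)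
    ((tau2_compl_abel hM hE a.h2).trans (centS (tau2Elem_le hM hE h hA a.h2)))
  have c := relIndex_dvd_left b E
  rw [(a.sd32_1 hM).relIndex_l] at c
  exact a.h1.pi.of_dvd c
/-- BG 12.10(d) -/
theorem norm_noncyc_sigma (hM : IsCoatom M) (h : p ∈ σ[M]) (hP : PiG {p} P) (h1 : P ≤ M) (h2 : ¬ Cyc P) :
    N[P] ≤ M := by
  obtain ⟨A, hA, -⟩ := odd_normal_p2Elem_self hP (mso_odd _) h2
  exact (cent_uniq_sigma hM h hP h1 ((centS hA.le).trans (cent_p2Elem_le hM (sigma_prime h) (hA.mono h1)))).1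
/-- BG 12.10(e) -/
theorem cent1_nreg_sigma_uniq (hM : IsCoatom M) (hx : x ∈ M) (h1 : x ≠ 1) (h2 : PiE τ2[M] x)
    (h3 : Mσ[M] ⊓ C1[x] ≠ ⊥) : UMax C1[x] M := by
  have a := pig_zpowers.2 h2
  have x0 : zpowers x ≠ ⊥ := by simpa using h1
  obtain ⟨E, hE, b⟩ := ex_sigma_compl hM (zpowers_le.2 hx) a.tau2_sigma'
  obtain ⟨E₂, c, d⟩ := hall_superset (sol_of_le hM hE.le) b a
  obtain ⟨p, hp, e⟩ := exists_prime_dvd x0
  obtain ⟨A, hA⟩ := ex_tau2Elem hE (a p hp e)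
  rw [← C_zpowers] at h3 ⊢
  exact tau2_cent_umax hM (a p hp e) (hA.mono hE.le) x0
    (centSS (tau2_compl_abel hM hE c) (tau2Elem_le hM hE (a p hp e) hA c) d) h3
theorem sigma_of_norm_tau2Elem (hp : p.Prime) (hA : PnElem p 2 A B) (hH : IsCoatom H) (h1 : N[A] ≤ H) : p ∈ σ[H] :=
  (prime_class_norm hH hp (hA.pig hp) h1).resolve_right fun a =>
    tau2_not_N_le hH a (hA.sub ((normG A).trans h1)) h1
theorem tau2_not_beta' (hM : IsCoatom M) (h : p ∈ τ2[M]) : p ∉ β[H] := fun a =>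
  (tau2_not_beta hM h).1 (mem_beta.1 a).2
theorem cent_of_beta' (hH : IsCoatom H) (hA : PiG {p} A) (h : p ∉ β[H]) (hQ : PiG {p}ᶜ Q) (h1 : A ≤ ⁅H, H⁆)
    (h2 : Q ≤ ⁅H, H⁆) (h3 : Q ≤ N[A]) : Q ≤ C[A] := by
  have a := comm_le_of_nil_quo (Mbeta_quo_nil hH) ((der_le H).trans (O_norm _ _)) h1 h2 hA hQ
  exact comm_eq_bot'.1 (le_bot_iff.1 ((le_inf (commL h3) a).trans
    (hA.inf_bot ((O_pig _ _).compl_single' h)).le))
omit hG in
theorem Syl.not_le_of_dvd (hQ : Syl q Q E) (hq : q.Prime) (h : q ∣ K.relIndex E) : ¬ Q ≤ K := fun a =>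
  hQ.not_dvd hq (h.trans (relIndex_dvd_left a E))
theorem norm_tau2Elem_tau12 (hM : IsCoatom M) (hE : Hall σ[M]ᶜ E M) (h : p ∈ τ2[M]) (hA : PnElem p 2 A E)
    (hH : IsCoatom H) (h1 : N[A] ≤ H) : PiN (τ1[H] ∪ τ2[H]) ((C[A]).relIndex E) := fun q hq a => by
  have hp := tau2_prime h
  have s := sigma_of_norm_tau2Elem hp hA hH h1
  have nA := tau2_norm hM hE h hA
  obtain ⟨Q, hQ⟩ := syl_exists hq E
  have l := hQ.le.trans (nA.trans h1)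
  have ne : q ≠ p := fun e => tau1_not_tau2 (tau1_cent_tau2Elem_factor hM hE h hA q hq a) (e ▸ h)
  have k : ¬ Q ≤ ⁅H, H⁆ := fun b => hQ.not_le_of_dvd hq a (cent_of_beta' hH (hA.pig hp) (tau2_not_beta' hM h)
    (hQ.pi.ne_compl ne) ((le_Msigma hH ((normG A).trans h1) ((hA.pig hp).single_mono s)).trans (Msigma_le_der hH)) b
    (hQ.le.trans nA))
  rcases partition_pi hH hq (a.trans ((relIndex_dvd _ _).trans (cardS (nA.trans h1)))) with b | b | b | b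
  · exact absurd ((le_Msigma hH l (hQ.pi.single_mono b)).trans (Msigma_le_der hH)) k
  · exact Or.inl b
  · exact Or.inr b
  · exact absurd (tau3_le_der l (hQ.pi.single_mono b)) k
/-- BG 12.11 -/
theorem primes_norm_tau2Elem (hM : IsCoatom M) (hE : Hall σ[M]ᶜ E M) (h : p ∈ τ2[M]) (hA : PnElem p 2 A E)
    (hH : IsCoatom H) (h1 : N[A] ≤ H) :
    (∀ q ∈ τ2[M], q ∈ σ[H] ∧ q ∉ β[H]) ∧ PiN (τ1[H] ∪ τ2[H]) ((C[A]).relIndex E) ∧
      ∀ q, q.Prime → q ∣ (C[A]).relIndex E → q ∣ #(E ⊓ C[A]) →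
        q ∈ τ2[H] ∧ (∃ P, Syl p P ⊤ ∧ P ≤ H ∧ H ≤ N[P]) ∧ ∃ Q, Syl q Q ⊤ ∧ Q ≤ H ∧ Abel Q := by
  have hp := tau2_prime h
  have pA := hA.pig hp
  have s := sigma_of_norm_tau2Elem hp hA hH h1
  have nA := tau2_norm hM hE h hA
  have cA := tau2_C_le hM hE h hA
  refine ⟨fun q a => ⟨?_, tau2_not_beta' hM a⟩, norm_tau2Elem_tau12 hM hE h hA hH h1, fun q hq a b => ?_⟩
  · by_cases e : q = p
    · exact e ▸ s
    have hq := tau2_prime a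
    obtain ⟨B, hB⟩ := ex_tau2Elem hE a
    obtain ⟨E₁, E₂, E₃, c⟩ := ex_sigmaCompl hM hE
    obtain ⟨S, hS, d⟩ := syl_superset hp le_top pA
    obtain ⟨T, hT, f⟩ := syl_superset hq le_top (hB.pig hq)
    have aS : Abel S := by_contra fun g => e (nonabel_tau2_eq hM h hS.pi g a)
    obtain ⟨-, -, ⟨i1, i2, -⟩, -⟩ := abel_tau2 hM c h hA hS d aS
    obtain ⟨-, -, ⟨j1, j2, -⟩, -⟩ := abel_tau2 hM c a hB hT f (tau2_all_abel hM h hS aS q a T hT.pi)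
    exact sigma_of_norm_tau2Elem hq hB hH (by rwa [j1, j2, ← i2, ← i1])
  obtain ⟨Q, hQ⟩ := syl_exists hq E
  have t1 := tau1_cent_tau2Elem_factor hM hE h hA q hq a
  have cQ := tau1_cyc hM (hQ.le.trans hE.le) (hQ.pi.single_mono t1)
  have q0 : Syl q (Q ⊓ C[A]) C[A] := hQ.inf_norm' cA (normC nA)
  rw [inf_eq_right.2 cA] at b
  have q1 := q0.ne_bot' hq b
  obtain ⟨L, hL, l1⟩ := exists_coatom_N q1 q0.pi.ne_top
  have l2 : A ≤ L := (cent_symm inf_le_right).trans ((C_le_N _).trans l1)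
  have l3 : N[A] ≤ L := by
    rw [← (Syl.frattini q0 hq (C_le_N A) (normC le_rfl)).sup]
    exact sup_le (cent_p2Elem_le hL hp (hA.sub l2)) (inf_le_right.trans l1)
  have l4 : q ∈ τ2[L] := by
    rcases norm_tau2Elem_tau12 hM hE h hA hL l3 q hq a with c | c
    · exact (prime_class_norm hL hq q0.pi l1).resolve_left (tau1_sigma' c)
    · exact c
  have t2 : q ∈ τ2[H] := by
    by_cases c : Cjg L H
    · obtain ⟨g, rfl⟩ := c; rwa [tau2_cj]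
    · exact absurd s (((sigma_disjoint hL hH c).2.2 (tau2_Msigma_nil hL l4)).2 p
        (sigma_of_norm_tau2Elem hp hA hL l3))
  obtain ⟨P, hP⟩ := syl_exists hp H
  refine ⟨t2, ⟨P, sigma_syl_top s hP, hP.le, nil_sigma_norm hH (tau2_Msigma_nil hH t2) s hP⟩, ?_⟩
  obtain ⟨E', hE', e1⟩ := ex_sigma_compl hH (hQ.le.trans (nA.trans h1)) (hQ.pi.single_mono (tau2_sigma' t2))
  obtain ⟨B, hB⟩ := ex_tau2Elem hE' t2
  obtain ⟨T, hT, f⟩ := syl_superset hq le_top (hB.pig hq)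
  have aT : Abel T := by_contra fun g => by
    obtain ⟨-, ⟨c1, -⟩, c2, E₀, c3, -⟩ := nonabel_tau2 hH hE' t2 hB hT.pi g
    have d1 := cQ.Om_le hQ.pi inf_le_left q1
    have d2 := cQ.card_Om hq ((q0.pi.dvd q1).trans (cardS inf_le_left))
    have d3 : Ω[q](Q) = B ⊓ C[Mσ[H]] := by_contra fun d => hA.ne_bot hp (le_bot_iff.1 ((le_inf
      (le_Msigma hH ((normG A).trans h1) (pA.single_mono s)) (cent_symm (d1.trans inf_le_right))).trans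
        (c2 _ ((Om_le _ _).trans e1) d2 d).1.le))
    rw [← d3] at c3
    have d4 := c3.modl' (Om_le _ _) e1
    have d5 : E₀ ⊓ Q ≠ ⊥ := fun e => hQ.not_le_of_dvd hq a (by
      rw [← d4.sup, e, sup_bot_eq]; exact d1.trans inf_le_right)
    exact Om_ne_bot hq (d2 ▸ cardS (Om_le q Q))
      (le_bot_iff.1 ((le_inf le_rfl (cQ.Om_le hQ.pi inf_le_right d5)).trans d4.inf.le))
  exact ⟨T, hT, (aT.trans (centS f)).trans (cent_p2Elem_le hH hq (hB.mono hE'.le)), aT⟩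
omit hG in
theorem exp_eq_of (h1 : K ≤ E)
    (h : ∀ q, q.Prime → ∀ y ∈ E, y ≠ 1 → PiE {q} y → ∃ w ∈ K, orderOf y ∣ orderOf w) :
    Monoid.exponent K = Monoid.exponent E := by
  refine Nat.dvd_antisymm (exp_mono h1) (exp_dvd_iff.2 fun x hx => ?_)
  have a : zpowers x ≤ Ω[Monoid.exponent K](zpowers x) := le_of_pie fun q hq y b c => mem_Om b (by
    by_cases d : y = 1
    · rw [d, one_pow]
    obtain ⟨w, e, f⟩ := h q hq y (zpowers_le.2 hx b) d c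
    exact orderOf_dvd_iff_pow_eq_one.1 (f.trans (orderOf_dvd_of_pow_eq_one (exp_dvd_iff.1 dvd_rfl w e))))
  exact ((abel_zpowers x).mem_Om.1 (a (mem_zpowers x))).2
omit hG in
theorem Hall.exists_order (h : Hall π H E) (hs : Sol E) (hy : y ∈ E) (h1 : PiE π y) :
    ∃ w ∈ H, orderOf y ∣ orderOf w := by
  obtain ⟨g, -, a⟩ := h.cj_sub hs (zpowers_le.2 hy) (pig_zpowers.2 h1)
  rw [cj_zpowers] at a
  exact ⟨_, a (mem_zpowers _), by rw [← MulAut.conj_apply, MulEquiv.orderOf_eq]⟩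
omit hG in
theorem Cyc.semireg (h : Cyc Z) (hZ : PiG {p} Z) (h1 : X ≤ Z) (h2 : X ≠ ⊥) (h3 : K ⊓ C[X] = ⊥) (h4 : #X = p) :
    Semireg K Z := semireg_of_prime_sub fun Y a b => by
  rwa [h.eq_of_card a h1 (h4 ▸ hZ.eq_prime b (cardS a))]
theorem tau2_reg_of_norm (hM : IsCoatom M) (h : p ∈ τ2[M]) (hA : PnElem p 2 A M) (hS : Syl p S M) (h1 : A ≤ S)
    (h2 : X ≤ S) (h3 : X ≠ ⊥) (h4 : N[S] ≤ N[X]) : Mσ[M] ⊓ C[X] = ⊥ := by
  by_contra a
  exact not_N_le_of_sigma' hM (tau2_prime h) (tau2_sigma' h) hS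
    (h4.trans (tau2_cent_umax hM h hA h3 (centSS (tau2_syl_abel hM h hS) h1 h2) a).N_le')
theorem ex_cyc_central (hM : IsCoatom M) (h : p ∈ τ2[M]) (hA : PnElem p 2 A M) (hS : Syl p S M) (h1 : A ≤ S) :
    ∃ z ∈ S, Semireg Mσ[M] (zpowers z) ∧ ∀ s ∈ S, orderOf s ∣ orderOf z := by
  have hp := tau2_prime h
  have aS := tau2_syl_abel hM h hS
  obtain ⟨n, hn⟩ := hS.pi.card_pow hp
  obtain ⟨k, -, hk⟩ := (Nat.dvd_prime_pow hp).1 (hn ▸ Group.exponent_dvd_nat_card (G := S))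
  have e1 : ∀ s ∈ S, s ^ p ^ k = 1 := exp_dvd_iff.1 hk.dvd
  obtain ⟨a, a1, a2⟩ := exists_mem_ne_one (hA.ne_bot hp)
  obtain ⟨k, rfl⟩ : ∃ j, k = j + 1 := by
    cases k with
    | zero => exact absurd (by simpa using e1 a (h1 a1)) a2
    | succ j => exact ⟨j, rfl⟩
  have u1 : Mho (p ^ k) S ≤ A := by
    rw [← tau2_Om_eq hM h hA hS.pi hS.le h1]
    exact Mho_le_iff.2 fun x hx => mem_Om (pow_mem hx _) (by rw [← pow_mul, ← pow_succ, e1 x hx])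
  have u2 : Mho (p ^ k) S ≠ ⊥ := fun e => not_pow_succ_dvd hp (hk ▸ exp_dvd_iff.2 fun x hx =>
    mem_bot.1 (e ▸ pow_mem_Mho hx))
  obtain ⟨X, x1, x2, x3⟩ : ∃ X ≤ Mho (p ^ k) S, #X = p ∧ Mσ[M] ⊓ C[X] = ⊥ := by
    rcases u1.eq_or_lt with e | e
    · rw [e]; exact (tau2_context hM h hA).2.2.2.2
    · exact ⟨_, le_rfl, card_sub_of_sq hp hA.card e u2,
        tau2_reg_of_norm hM h hA hS h1 (Mho_le _ _) u2 (normMho _ le_rfl)⟩
  have x4 : (#X).Prime := x2 ▸ hp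
  obtain ⟨x, y1, y2⟩ := exists_mem_ne_one (ne_bot_of_prime x4)
  obtain ⟨z, z1, rfl⟩ := aS.mem_Mho.1 (x1 y1)
  have z2 : orderOf z = p ^ (k + 1) := orderOf_eq_prime_pow (hp := ⟨hp⟩) y2 (e1 z z1)
  refine ⟨z, z1, (cyc_zpowers z).semireg (hS.pi.of_le (zpowers_le.2 z1)) ?_ (ne_bot_of_prime x4) x3 x2,
    fun s hs => z2 ▸ orderOf_dvd_of_pow_eq_one (e1 s hs)⟩
  rw [← eq_zpowers_of_prime x4 y1 y2]
  exact zpowers_le.2 (pow_mem (mem_zpowers z) _)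
theorem ex_cyc_of_dprod (hM : IsCoatom M) (h : p ∈ τ2[M]) (hA : PnElem p 2 A M) (hS : Syl p S M) (h1 : A ≤ S)
    (hd : Dprod U V S) (h2 : Cyc U) (h3 : Cyc V) (h4 : #U ∣ #V) (h5 : N[S] ≤ N[V]) :
    ∃ z ∈ S, N[S] ≤ N[zpowers z] ∧ Semireg Mσ[M] (zpowers z) ∧ ∀ s ∈ S, orderOf s ∣ orderOf z := by
  have hp := tau2_prime h
  obtain ⟨z, rfl⟩ := cyc_iff.1 h3
  have pV := hS.pi.of_le hd.right
  have v0 : zpowers z ≠ ⊥ := fun e => by
    rw [e, card_bot', Nat.dvd_one, card_eq_one] at h4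
    have := hd.sup
    rw [e, h4, sup_bot_eq] at this
    exact hA.ne_bot hp (le_bot_iff.1 (h1.trans this.ge))
  have o := h3.card_Om hp (pV.dvd v0)
  have o0 := pV.Om_ne_bot v0
  refine ⟨z, hd.right (mem_zpowers z), h5, h3.semireg pV (Om_le p _) o0
    (tau2_reg_of_norm hM h hA hS h1 ((Om_le _ _).trans hd.right) o0 (normOm p h5)) o, fun s hs => ?_⟩
  obtain ⟨u, hu, v, hv, rfl⟩ := hd.prod.ex s hs
  rw [card_zpowers'] at h4
  exact (Commute.orderOf_mul_dvd_lcm (mem_C_comm hd.cent hv hu).symm).trans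
    (Nat.lcm_dvd ((orderOf_dvd hu).trans h4) (orderOf_dvd_of_mem_zpowers hv))
theorem ex_cyc_of_split (hM : IsCoatom M) (h : p ∈ τ2[M]) (hA : PnElem p 2 A M) (hS : Syl p S M) (h1 : A ≤ S)
    (hd : Dprod U V S) (h2 : U ≠ ⊥) (h3 : V ≠ ⊥) (h4 : N[S] ≤ N[U]) (h5 : N[S] ≤ N[V]) :
    ∃ z ∈ S, N[S] ≤ N[zpowers z] ∧ Semireg Mσ[M] (zpowers z) ∧ ∀ s ∈ S, orderOf s ∣ orderOf z := by
  have hp := tau2_prime h
  have pU := hS.pi.of_le hd.left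
  have pV := hS.pi.of_le hd.right
  have a := hd.pRank hp
  rw [Syl.pRank hS hp, tau2_rank h] at a
  have b := (pRank_pos_iff hp).2 (pU.dvd h2)
  have c := (pRank_pos_iff hp).2 (pV.dvd h3)
  have cU := odd_pgroup_rank1_cyc pU (mso_odd _) (by omega)
  have cV := odd_pgroup_rank1_cyc pV (mso_odd _) (by omega)
  obtain ⟨i, hi⟩ := pU.card_pow hp
  obtain ⟨j, hj⟩ := pV.card_pow hp
  rcases le_total i j with d | d
  · exact ex_cyc_of_dprod hM h hA hS h1 hd cU cV (hi ▸ hj ▸ pow_dvd_pow p d) h5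
  · exact ex_cyc_of_dprod hM h hA hS h1 hd.symm cV cU (hi ▸ hj ▸ pow_dvd_pow p d) h4
theorem ex_tau2_cyc (hM : IsCoatom M) (hE : SigmaCompl M E E₁ E₂ E₃) (h : p ∈ τ2[M])
    (hab : ∀ q ∈ τ2[M], ∀ P : Subgroup G, PiG {q} P → Abel P) (hr : Semireg Mσ[M] E₁) :
    ∃ z ∈ E, PiE {p} z ∧ E ≤ N[zpowers z] ∧ Semireg Mσ[M] (zpowers z) ∧ ∀ y ∈ E, PiE {p} y → orderOf y ∣ orderOf z := by
  have hp := tau2_prime h
  obtain ⟨A, hA⟩ := ex_tau2Elem hE.hE h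
  have hS := tau2_abel_O hM hE.hE h (hab p h)
  have nS := O_norm {p} E
  have lS := O_le {p} E
  have hSE := hS.sub lS le_top
  generalize O[{p}](E) = S at hS nS lS hSE
  have aS := hab p h S hS.pi
  have hSM := hS.sub (lS.trans hE.hE.le) le_top
  have hAM := hA.mono hE.hE.le
  have lA : A ≤ S := hSE.le_of_normal nS (hA.pig hp) hA.le
  obtain ⟨-, -, c3, c4⟩ := cent_norm_tau2Elem hM hE.hE h hA hS lA aS
  obtain ⟨-, -, ⟨i1, -⟩, i2, i3⟩ := abel_tau2 hM hE h hA hS lA aS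
  suffices ∃ z ∈ S, E ≤ N[zpowers z] ∧ Semireg Mσ[M] (zpowers z) ∧ ∀ s ∈ S, orderOf s ∣ orderOf z by
    obtain ⟨z, a, b, c, d⟩ := this
    exact ⟨z, lS a, hS.pi.elt a, b, c, fun y e f => d y (hSE.mem_of_normal nS f e)⟩
  have om := tau2_Om_eq hM h hAM hS.pi hSM.le lA
  by_cases a : E ≤ C[A]
  · obtain ⟨z, b, c, d⟩ := ex_cyc_central hM h hAM hSM lA
    refine ⟨z, b, cents_norm (le_trans ?_ (centS (zpowers_le.2 b))), c, d⟩
    rw [← (hE.sd32_1 hM).sup]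
    refine sup_le (le_trans (sup_le (le_F hE.h3.le (tau3_norm hM hE.hE hE.h3) (hE.cyc3 hM).nil)
      (tau2_le_F hM hE.hE hab hE.h2.le hE.h2.pi)) c3) (cop_abel_faithful_Om aS hS.pi (hE.h1.le.trans nS)
        (PiN.coprime' (hE.h1.pi.compl_single' fun e => tau1_not_tau2 e h) hS.pi) (om ▸ hE.h1.le.trans a))
  obtain ⟨q, hq, b⟩ := Nat.exists_prime_and_dvd (fun e => a (relIndex_eq_one.1 e) : (C[A]).relIndex E ≠ 1)
  have t1 := tau1_cent_tau2Elem_factor hM hE.hE h hA q hq b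
  have ne : q ≠ p := fun e => tau1_not_tau2 t1 (e ▸ h)
  obtain ⟨R, hR1⟩ := syl_exists hq E₁
  have hR := hE.h1.syl t1 hR1
  have cR := (hE.cyc1 hM).of_le hR1.le
  have r1 := hR.not_le_of_dvd hq b
  obtain ⟨X, x1, x2⟩ := hR.pi.exists_prime_sub fun e => r1 (e ▸ bot_le)
  have x3 := i2 X (x1.trans hR1.le) (x2 ▸ hq) (hr.cent (x1.trans hR1.le) (ne_bot_of_prime (x2 ▸ hq)))
  obtain ⟨H, hH, l⟩ := exists_coatom_N (hA.ne_bot hp) (hA.pig hp).ne_top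
  obtain ⟨t2, ⟨P, p1, p2, p3⟩, -⟩ := (primes_norm_tau2Elem hM hE.hE h hA hH l).2.2 q hq b
    (x2 ▸ cardS (le_inf (x1.trans hR.le) (x3.trans (centS hA.le))))
  rw [i1] at l
  obtain rfl := hS.eq_of_le p1 ((p1.sub p2 le_top).le_of_normal p3 hS.pi ((normG S).trans l))
  obtain ⟨Q, hQ, lQ⟩ := syl_superset hq (hR.le.trans (nS.trans l)) hR.pi
  have aQ := tau2_syl_abel hH t2 hQ
  have nQ := hQ.le.trans p3
  have co : (#Q).Coprime #S := PiN.coprime' (hQ.pi.ne_compl ne) hS.pi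
  by_cases c : ∃ Y ≤ Q, S ⊓ C[Y] ≠ ⊥ ∧ ¬ Y ≤ C[S]
  · obtain ⟨Y, y1, y2, y3⟩ := c
    obtain ⟨z, d, e, f⟩ := ex_cyc_of_split hM h hAM hSM lA (cop_abel_dprod aS (y1.trans nQ) (coprimeS co y1 le_rfl))
      y2 (fun e => y3 (comm_eq_bot'.1 e)) (i3 Y (y1.trans nQ)).1 (i3 Y (y1.trans nQ)).2
    exact ⟨z, d, nS.trans e, f⟩
  exfalso
  push Not at c
  have n0 : Q ≤ N[Q ⊓ C[S]] := abel_norm aQ inf_le_left
  have c0 : Cyc (Q ÷ (Q ⊓ C[S])) := by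
    by_contra d
    refine hA.ne_bot hp (le_bot_iff.1 (lA.trans (cop_gen_cocyc aQ nQ co fun B e f => ?_)))
    by_contra g
    exact d (cyc_im_of_ker_le (φ := quo B) (ψ := quo _) (abel_norm aQ e) n0
      (by simpa using inf_le_right.trans (c B e fun k => g k.le)) f)
  have l0 : Q ⊓ C[S] ≤ R := (inf_le_inf_left _ c4).trans
    (hR.max (hQ.pi.of_le inf_le_left) inf_le_right (le_inf lQ hR.le)).le
  have c1 := c0.Om_le (hQ.pi.im _) (im_mono lQ) fun e =>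
    r1 (((quo_bot_iff (lQ.trans n0)).1 e).trans (inf_le_right.trans (centS lA)))
  have c2 : Ω[q](Q) ≤ R := le_of_im_le (φ := quo _) ((Om_le _ _).trans n0) (lQ.trans n0) (by simpa using l0)
    ((im_Om_le' n0).trans c1)
  have c5 := (odd_cyc_of_Om hQ.pi (mso_odd _) (cR.of_le c2)).pRank_le hq
  rw [Syl.pRank hQ hq, tau2_rank t2] at c5
  omega
theorem ex_tau2_regular (hM : IsCoatom M) (hE : SigmaCompl M E E₁ E₂ E₃)
    (hab : ∀ q ∈ τ2[M], ∀ P : Subgroup G, PiG {q} P → Abel P) (hr : Semireg Mσ[M] E₁) :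
    ∃ W ≤ E, PiG τ2[M] W ∧ E ≤ N[W] ∧ Semireg Mσ[M] W ∧
      ∀ q ∈ τ2[M], ∀ y ∈ E, PiE {q} y → ∃ w ∈ W, orderOf y ∣ orderOf w := by
  obtain ⟨W, -, ⟨a, b, c, d, e⟩, f⟩ := exists_maximal (A := ⊥) (P := fun W => W ≤ E ∧ PiG τ2[M] W ∧ E ≤ N[W] ∧
    Semireg Mσ[M] W ∧ ∀ q, q.Prime → q ∣ #W → ∀ y ∈ E, PiE {q} y → ∃ w ∈ W, orderOf y ∣ orderOf w)
    ⟨bot_le, pig_bot _, norm_bot _, semireg_bot_r _, fun q hq g => absurd (by simpa using g) hq.ne_one⟩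
  refine ⟨W, a, b, c, d, fun q g => ?_⟩
  have hq := tau2_prime g
  by_cases k : q ∣ #W
  · exact e q hq k
  obtain ⟨z, z1, z2, z3, z4, z5⟩ := ex_tau2_cyc hM hE g hab hr
  have l := zpowers_le.2 z1
  have pz := pig_zpowers.2 z2
  have q' : PiG {q}ᶜ W := (pin_compl hq).2 k
  have := f (W ⊔ zpowers z) ⟨sup_le a l, b.sup_l (pz.single_mono g) (l.trans c), normY c z3,
    semireg_of_prime_sub fun X x1 x2 => ?_, fun r hr' x1 y y1 y2 => ?_⟩ le_sup_left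
  · exact fun y y1 y2 => ⟨z, this.le (le_sup_right (a := W) (mem_zpowers z)), z5 y y1 y2⟩
  · by_cases x3 : #X = q
    · exact z4.cent (le_of_sup_pi (a.trans z3) q' (x1.trans (sup_comm _ _).le) (pig_of_card' hq x3).compl_compl)
        (ne_bot_of_prime x2)
    · exact d.cent (le_of_sup_pi (l.trans c) pz x1 ((pig_of_card' x2 rfl).ne_compl x3)) (ne_bot_of_prime x2)
  · rcases (Nat.Prime.dvd_mul hr').1 (x1.trans (card_sup_dvd_l (l.trans c))) with x2 | x2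
    · obtain ⟨w, w1, w2⟩ := e r hr' x2 y y1 y2
      exact ⟨w, le_sup_left (b := zpowers z) w1, w2⟩
    · obtain rfl := pz.eq_prime hr' x2
      exact ⟨z, le_sup_right (a := W) (mem_zpowers z), z5 y y1 y2⟩
/-- BG 12.12 -/
theorem typeF_complement (hM : IsCoatom M) (hE : Hall σ[M]ᶜ E M)
    (h : ∀ e ∈ E, e ≠ 1 → PiE (τ1[M] ∪ τ3[M]) e → Mσ[M] ⊓ C1[e] = ⊥) :
    (∃ A₀ ≤ E, E ≤ N[A₀] ∧ Abel A₀ ∧ ∀ x ∈ Mσ[M], x ≠ 1 → E ⊓ C1[x] ≤ A₀) ∧
      ∃ E₀ ≤ E, Monoid.exponent E₀ = Monoid.exponent E ∧ Semireg Mσ[M] E₀ := by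
  have rg : ∀ X ≤ E, PiG (τ1[M] ∪ τ3[M]) X → Semireg Mσ[M] X := fun X a b e c d => h e (a c) d (b.elt c)
  have sE := sol_of_le hM hE.le
  have t2 : ∀ x ∈ Mσ[M], x ≠ 1 → PiG τ2[M] (E ⊓ C1[x]) := fun x a b q hq c => by
    by_contra d
    obtain ⟨X, e, f⟩ := exists_prime_sub hq c
    have g := partition_pi_compl hM hE hq (c.trans (cardS inf_le_left))
    exact ne_bot_of_mem (mem_inf.2 ⟨a, le_C1_iff.1 (e.trans inf_le_right)⟩) b ((rg X (e.trans inf_le_left)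
      (pig_of_card hq f (by simp only [Set.mem_union]; tauto))).cent le_rfl (ne_bot_of_prime (f ▸ hq)))
  by_cases hab : ∀ q ∈ τ2[M], ∀ P : Subgroup G, PiG {q} P → Abel P
  · obtain ⟨E₁, E₂, E₃, a⟩ := ex_sigmaCompl hM hE
    have l2 := tau2_le_F hM hE hab a.h2.le a.h2.pi
    have f2 := a.h2.sub l2 (F_le E)
    have n2 : E ≤ N[E₂] := f2.norm_char ((F_nil E).hall_norm f2) (F_norm E)
    have p1 : PiG (τ1[M] ∪ τ3[M]) E₁ := a.h1.pi.mono' fun _ _ _ b => Or.inl b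
    have p3 : PiG (τ1[M] ∪ τ3[M]) E₃ := a.h3.pi.mono' fun _ _ _ b => Or.inr b
    obtain ⟨W, w1, w2, w3, w4, w5⟩ := ex_tau2_regular hM a hab (rg _ a.h1.le p1)
    have l : E₃ ⊔ E₁ ≤ E := sup_le a.h3.le a.h1.le
    have p31 := p3.sup_l p1 (a.h1.le.trans (tau3_norm hM hE a.h3))
    refine ⟨⟨E₂, a.h2.le, n2, tau2_compl_abel hM hE a.h2, fun x b c => a.h2.le_of_normal n2 (t2 x b c) inf_le_left⟩,
      W ⊔ (E₃ ⊔ E₁), sup_le w1 l, exp_eq_of (sup_le w1 l) fun q hq y b c d => ?_,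
      semireg_of_prime_sub fun X b c => ?_⟩
    · rcases partition_pi_compl hM hE hq ((d.dvd c).trans (orderOf_dvd b)) with e | e | e
      · obtain ⟨w, f, g⟩ := a.h1.exists_order sE b (d.single_mono e)
        exact ⟨w, le_sup_right (a := W) (le_sup_right (a := E₃) f), g⟩
      · obtain ⟨w, f, g⟩ := w5 q e y b d
        exact ⟨w, le_sup_left (a := W) f, g⟩
      · obtain ⟨w, f, g⟩ := a.h3.exists_order sE b (d.single_mono e)
        exact ⟨w, le_sup_right (a := W) (le_sup_left (a := E₃) f), g⟩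
    · have d := b.trans (sup_le w1 l)
      by_cases e : #X ∈ τ1[M] ∪ τ3[M]
      · exact (rg X d (pig_of_card c rfl e)).cent le_rfl (ne_bot_of_prime c)
      · exact w4.cent (le_of_sup_pi (l.trans w3) p31 b (pig_of_card c rfl e)) (ne_bot_of_prime c)
  push Not at hab
  obtain ⟨p, a, P, b, c⟩ := hab
  have hp := tau2_prime a
  obtain ⟨A, hA⟩ := ex_tau2Elem hE a
  obtain ⟨d, ⟨e, -⟩, -, E₀, f, g⟩ := nonabel_tau2 hM hE a hA b c
  have t0 : ∀ x ∈ Mσ[M], x ≠ 1 → E₀ ⊓ C1[x] = ⊥ := fun x i j => (g x i j).eq_bot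
    (((t2 x i j).of_le (inf_le_inf_right _ f.right)).mono' fun _ _ _ k l => tau1_not_tau2 l k)
  have l0 : A ⊓ C[Mσ[M]] ≤ A := inf_le_left
  have c0 : A ⊓ C[Mσ[M]] ≤ C[Mσ[M]] := inf_le_right
  generalize A ⊓ C[Mσ[M]] = A₀ at e f l0 c0
  refine ⟨⟨A₀, f.left, f.nl, hA.abel.of_le l0, fun x i j => ?_⟩, E₀, f.right,
    exp_eq_of f.right fun q hq y i j k => ?_, Semireg.symm t0⟩
  · rw [← (f.modl (c0.trans (C_le_C1 i))).sup, t0 x i j, sup_bot_eq]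
  by_cases ne : q = p
  · subst ne
    obtain ⟨R, r1, r2⟩ := syl_superset hq (zpowers_le.2 i) (pig_zpowers.2 k)
    have lA : A ≤ R := r1.le_of_norm' (hA.pig hq) hA.le (r1.le.trans (tau2_norm hM hE a hA))
    have aR := tau2_pig_abel hM a r1.pi (r1.le.trans hE.le)
    obtain ⟨u, u1, v, ⟨v1, v2⟩, rfl⟩ := (f.modl' (l0.trans lA) r1.le).prod.ex y (r2 (mem_zpowers y))
    have u2 := orderOf_dvd_of_pow_eq_one (hA.ab.pow u (l0 u1))
    by_cases v3 : v = 1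
    · have s := f.modl' l0 hA.le
      obtain ⟨w, ⟨w1, w2⟩, w3⟩ := exists_mem_ne_one (A := E₀ ⊓ A) fun z => by
        have := s.card
        rw [z, e, hA.card, card_bot'] at this
        exact absurd (by nlinarith [hq.one_lt] : q = 1) hq.ne_one
      exact ⟨w, w1, by rw [v3, mul_one, orderOf_of_pow hq (hA.ab.pow w w2) w3]; exact u2⟩
    · exact ⟨v, v1, (Commute.orderOf_mul_dvd_lcm (mem_C_comm aR (lA (l0 u1)) v2)).trans
        (Nat.lcm_dvd (u2.trans ((r1.pi.elt v2).dvd v3)) dvd_rfl)⟩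
  · obtain ⟨R, r1⟩ := syl_exists hq E₀
    have r2 : Syl q R E := r1.trans' f.right (by
      rw [f.relIndex_r, e]; exact (pin_single_self hp).ne_compl (Ne.symm ne))
    obtain ⟨g, -, r3⟩ := r2.cj_sub hq (zpowers_le.2 i) (pig_zpowers.2 k)
    rw [cj_zpowers] at r3
    exact ⟨_, r1.le (r3 (mem_zpowers _)), by rw [← MulAut.conj_apply, MulEquiv.orderOf_eq]⟩

end Cfsg.Agent.BG
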