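import Cfsg.Agent.BG.S12b
/-!
Bender–Glauberman, section 12: 12.13–12.19.
-/
set_option autoImplicit false

namespace Cfsg.Agent.BG
open Subgroup PHom

variable {G : Type*} [Group G] [Finite G] [hG : MSO G]
variable {A A₀ B D E E₁ E₂ E₃ H K L M Mstar P Q R S T U V W X Y Z : Subgroup G} {x y g : G} {π ρ : Set ℕ}
  {p q r m n : ℕ}

omit hG in
theorem cop_gen_cent_quo (hp : p.Prime) (h0 : Z ≤ Q) (h1 : Q ≤ N[Z]) (hQ : PiG {p} Q) (h2 : PnElem p 2 (Q ÷ Z) (Q ÷ Z))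
    (hK : PiG {p}ᶜ K) (h3 : Q ≤ N[K]) (h4 : K ≤ C[Z]) (h5 : Z ≤ H) (h : ∀ A, Z < A → A ≤ Q → K ⊓ C[A] ≤ H) :
    K ≤ H := by
  have nK := cents_norm h4
  have t : K ⊓ (quo Z).ker = ⊥ := by simpa using hK.inf_bot' (hQ.of_le h0)
  have a : K ÷ Z ≤ H ÷ Z := cop_gen_cent_elem hp (n := 0) h2 (im_norm h3) (hK.im _) fun X b c => by
    obtain ⟨A, d, e, rfl⟩ := exists_quo_eq h1 h0 b
    rw [← im_IC (φ := quo Z) (e.trans h1) nK (t ▸ norm_bot A) (by rw [t, card_bot']; simp) (Or.inl (hQ.of_le e).sol) (e.trans h3)]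
    exact im_mono (h A (lt_of_le_of_ne d fun f => ne_bot_of_prime (c ▸ hp) (f ▸ quo_self Z)) e)
  rw [← im_inf_dom H] at a
  exact (le_of_im_le (φ := quo Z) nK inf_le_right (by simpa using ⟨h5, normG Z⟩) a).trans inf_le_left
include hG
theorem nonabel_uniqueness_aux (hM : IsCoatom M) (hH : IsCoatom H) (hp : p.Prime) (hr : r[p]((⊤ : Subgroup G)) ≤ 2)
    (h1 : Q ≤ M) (h2 : Q ≤ H) (c : #Q = p ^ 3) (aQ : ¬ Abel Q) (eQ : ∀ x ∈ Q, x ^ p = 1) (h3 : Mα[H] ≠ ⊥)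
    (h4 : ¬ UMax N[Z[Q]] H) : Mα[M] ≤ H := by
  have pQ := pig_of_card_pow hp c
  obtain ⟨z1, z2⟩ := p3_der hp c aQ
  have z3 : #Z[Q] = p := z2 ▸ z1
  have z4 : Ω[p](Z[Q]) = Z[Q] := (abelem_of_card hp z3).Om_eq
  have el : ∀ X ≤ Q, #X = p → X ≠ Z[Q] → PnElem p 2 (X ⊔ Z[Q]) Q := fun X a b d =>
    (pnElem_two hp b z3 (inf_le_right.trans (centS a)) d).sub (sup_le a inf_le_left)
  have k : ∀ X ≤ Q, #X = p → X ≠ Z[Q] → C[X] ≤ H := fun X a b d => by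
    have hA := el X a b d
    have e : ¬ ∀ Y ≤ X ⊔ Z[Q], #Y = p → ¬ UMax N[Y] H := fun e => h3 ((p2Elem_coatom hH hp (hA.mono h2)).2 e).2.1
    push Not at e
    obtain ⟨Y, y1, y2, y3⟩ := e
    obtain ⟨g, ⟨g1, -⟩, g2⟩ := (basic_p2max_structure hp hA (hA.top.pmax hp hr) pQ hA.le aQ).2.2 Y y1 X le_sup_left
      y2 b (fun e => h4 (z4 ▸ e ▸ y3)) (z4.symm ▸ d)
    have := (y3.cj g).le
    rw [cj_N, g2, cj_of_mem (h2 g1)] at this
    exact (C_le_N X).trans this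
  have ex : ∀ A, Z[Q] < A → A ≤ Q → ∃ X ≤ A, #X = p ∧ X ≠ Z[Q] := fun A a b => by
    obtain ⟨x, x1, x2⟩ := SetLike.exists_of_lt a
    exact ⟨zpowers x, zpowers_le.2 x1, card_zpowers_of_pow hp (eQ x (b x1)) fun e => x2 (e ▸ one_mem _),
      fun e => x2 (e ▸ mem_zpowers x)⟩
  have pa : PiG {p}ᶜ Mα[M] := (O_pig _ _).compl_single' fun a => by
    have := alpha_rank a
    have := pRank_mono hp (le_top (a := M))
    omega
  have nA := h1.trans (O_norm α[M] M)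
  have nZ : Q ≤ N[Z[Q]] := normZ (normG Q)
  obtain ⟨X, x1, x2, x3⟩ := ex Q (lt_of_le_of_ne inf_le_left fun e => aQ (e.ge.trans inf_le_right)) le_rfl
  have hA := el X x1 x2 x3
  refine cop_gen_cent_elem hp (n := 0) hA (hA.le.trans nA) pa fun Y a b => ?_
  by_cases e : Y = Z[Q]
  · subst e
    refine cop_gen_cent_quo hp inf_le_left nZ pQ ⟨le_rfl, (abelem_im_iff nZ).2 ⟨by simpa using z2.ge, fun x hx => ?_⟩, ?_⟩
      (pa.of_le inf_le_left) (normI nA (normC nZ)) inf_le_right (inf_le_left.trans h2) fun A d f => ?_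
    · rw [eQ x hx]; exact one_mem _
    · have := card_mul_relIndex (inf_le_left : Z[Q] ≤ Q)
      rw [z3, c, pow_succ' p 2] at this
      rw [card_quo nZ]; exact Nat.eq_of_mul_eq_mul_left hp.pos this
    · obtain ⟨W, w1, w2, w3⟩ := ex A d f
      exact inf_le_right.trans ((centS w1).trans (k W (w1.trans f) w2 w3))
  · exact inf_le_right.trans (k Y (a.trans hA.le) b e)
theorem le_of_prod_beta (h : IsProd Mβ[M] (H ⊓ M) M) (h1 : Mα[M] ≤ H) : M ≤ H :=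
  h.sup.ge.trans (sup_le ((Mbeta_le_Malpha M).trans h1) inf_le_left)
/-- BG 12.13 -/
theorem nonabel_uniqueness (hP : PiG {p} P) (h : ¬ Abel P) : InU P := by
  have hp : p.Prime := hP.prime fun e => h (e ▸ abel_bot)
  obtain ⟨M, hM, l⟩ := exists_coatom hP.ne_top
  have sg : ∀ L, IsCoatom L → P ≤ L → p ∈ σ[L] := fun L a b => by
    by_contra c; exact h (sigma'_nil_abel a b (hP.single_mono c) hP.nil)
  refine ⟨M, hM, l, fun H hH l' => ?_⟩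
  by_contra ne
  obtain ⟨S, hS, lS⟩ := syl_superset hp (le_inf l' l) hP
  have aS : ¬ Abel S := fun a => h (a.of_le lS)
  have sH := hS.le.trans inf_le_left
  have sM := hS.le.trans inf_le_right
  have n1 := norm_noncyc_sigma hM (sg M hM l) hS.pi sM fun a => aS a.abel
  have n2 := norm_noncyc_sigma hH (sg H hH l') hS.pi sH fun a => aS a.abel
  have hS' : Syl p S ⊤ := Syl.of_norm (hS.sub (le_inf le_top (normG S)) (inf_le_right.trans (le_inf n2 n1))) hp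
  have d1 := (nonuniq_norm_syl_prod hM hH ne hp hS' (le_inf n2 n1)).1
  have d2 := (nonuniq_norm_syl_prod hH hM (Ne.symm ne) hp hS' (le_inf n1 n2)).1
  have r1 : r[p](S) ≤ 2 := by
    by_contra a
    exact ne ((umax_of_rank3 hM sM (by rw [hS.pi.rank_eq hp]; omega)).uniq H hH sH)
  obtain ⟨Q, D, q1, -, q2, q3, q4, -⟩ := mso_rank2_syl_cprod hp hS' r1 aS
  have lQ : Q ≤ S := q1 ▸ le_sup_left
  rw [Syl.pRank hS' hp] at r1
  have k1 : ¬ Mα[M] ≤ H := fun a => ne (coatom_eq' hM hH (le_of_prod_beta d1 a))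
  have k2 : ¬ Mα[H] ≤ M := fun a => ne (coatom_eq' hH hM (le_of_prod_beta d2 a)).symm
  by_cases u : UMax N[Z[Q]] H
  · exact k2 (nonabel_uniqueness_aux hH hM hp r1 (lQ.trans sH) (lQ.trans sM) q3 q2 q4 (fun e => k1 (e ▸ bot_le))
      fun v => ne (v.eq u))
  · exact k1 (nonabel_uniqueness_aux hM hH hp r1 (lQ.trans sM) (lQ.trans sH) q3 q2 q4 (fun e => k2 (e ▸ bot_le)) u)
theorem mso_rank2_syl_cls2 (hp : p.Prime) (hP : Syl p P ⊤) (h : r[p](P) ≤ 2) : ⁅P, P⁆ ≤ C[P] := by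
  by_cases a : Abel P
  · exact (der_le P).trans a
  obtain ⟨S, D, rfl, b, c, d, -, e, -⟩ := mso_rank2_syl_cprod hp hP h a
  have f : ⁅S ⊔ D, S ⊔ D⁆ ≤ ⁅S, S⁆ := der_sup_le le_rfl ((abel_iff_der.1 e.abel).le.trans bot_le)
    ((comm_eq_bot'.2 b).le.trans bot_le) (der_norm S) (cents_norm (b.trans (centS (der_le S))))
  exact f.trans (centY ((p3_der hp d c).2.ge.trans inf_le_right) ((der_le S).trans (cent_symm b)))
/-- BG 12.14 -/
theorem cent_der_sigma_uniq (hM : IsCoatom M) (hp : p.Prime) (hX : #X = p) (h1 : X ≤ M)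
    (h : p ∈ β[M] ∨ X ≤ ⁅Mσ[M], Mσ[M]⁆) : UMax C[X] M ∧ ∀ P, Syl p P Mσ[M] → UMax P M := by
  have pX := pig_of_card' hp hX
  have x0 := ne_bot_of_prime (hX ▸ hp : (#X).Prime)
  have s : p ∈ σ[M] := h.elim (fun a => beta_sub_sigma hM a) fun a =>
    PiG.mem_of_card (O_pig _ _) hp (a.trans (der_le _)) hX
  obtain ⟨P, hP, l⟩ := syl_superset hp (le_Msigma hM h1 (pX.single_mono s)) pX
  have hPM := (Msigma_hall hM).syl s hP
  suffices UMax (P ⊓ C[X]) M by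
    refine ⟨this.mono' inf_le_right (C_ne_top x0), fun R hR => ?_⟩
    obtain ⟨g, a, rfl⟩ := hP.conj hp hR
    have b := (this.mono inf_le_left hPM.le).cj g
    rwa [cj_of_mem (O_le _ _ a)] at b
  by_cases a : 3 ≤ r(P ⊓ C[X])
  · exact umax_of_rank3 hM (inf_le_left.trans hPM.le) a
  have b : r[p](P ⊓ C[X]) ≤ 2 := (pRank_le_rank hp _).trans (by omega)
  have nn : Narrow p P := fun c => (narrow_iff_cent hP.pi (mso_odd _) c).2 ⟨X, l, hX, b⟩ c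
  have b' : p ∉ β[M] := fun c => (beta_iff hM hp hPM).1 c nn
  have c : X ≤ ⁅P, P⁆ := by
    rw [← (beta_max_pdiv hM hp b').2.1.der_inf hP]; exact le_inf l (h.resolve_left b')
  have d : r[p](P) ≤ 2 := by
    by_contra d
    exact x0 (inf_eq_left.2 c ▸ (narrow_cent_dprod hP.pi (mso_odd _) (by omega) nn hX l b).2.1)
  have e := c.trans (mso_rank2_syl_cls2 hp (sigma_syl_top s hPM) d)
  rw [inf_eq_left.2 (cent_symm e)]
  exact (nonabel_uniqueness hP.pi fun f => x0 (le_bot_iff.1 (c.trans (abel_iff_der.1 f).le))).umax hM hPM.le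
omit hG in
theorem IsProd.hall_of (h : IsProd K U L) (hK : PiG πᶜ K) (hH : Hall π H U) : Hall π H L :=
  hH.trans' h.right (by rw [h.symm.relIndex]; exact hK.relIndex U)
omit hG in
theorem IsProd.not_dvd_der (h : IsProd K U L) (hn : L ≤ N[K]) (hp : p.Prime) (hK : PiG {p}ᶜ K) (h1 : ¬ p ∣ #⁅U, U⁆) :
    ¬ p ∣ #⁅L, L⁆ := fun a =>
  ((Nat.Prime.dvd_mul hp).1 ((a.trans (cardS (h.der_le hn))).trans
    (card_sup_dvd_r ((BG.der_le U).trans (h.right.trans hn))))).elim h1 ((pin_compl hp).1 hK)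
theorem sigma_dvd_der (hM : IsCoatom M) (h : p ∈ σ[M]) : p ∣ #⁅M, M⁆ :=
  ((Msigma_hall hM).dvd (sigma_prime h) h (sigma_dvd h)).trans (cardS (Msigma_le_der hM))
theorem tau2_inf_compl (hM : IsCoatom M) (hE : Hall σ[M]ᶜ E M) (h : p ∈ τ2[M]) (hA : PnElem p 2 A E) (hH : IsCoatom H)
    (h1 : E ≤ H) (h2 : H ≠ M) : H ⊓ M = E := by
  have a := ((sdprod_sigma hM hE).modr h1).sup
  rw [tau2_inf_coatom hM h (hA.mono hE.le) hH (hA.le.trans h1) h2, bot_sup_eq] at a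
  rw [inf_comm, ← a]
/-- BG 12.15 -/
theorem sigma_subgroup_embedding (hM : IsCoatom M) (hq : q ∈ σ[M]) (h1 : X ≤ M) (hX : PiG {q} X) (h2 : X ≠ ⊥)
    (hH : IsCoatom H) (h3 : N[X] ≤ H) (h4 : H ≠ M) :
    ¬ Cjg M H ∧ (∀ S, Syl q S (M ⊓ H) → X ≤ S → N[S] ≤ M ∧ Syl q S H) ∧
      (q ∈ σ[H] → IsProd Mβ[H] (M ⊓ H) H ∧ τ1[H] ⊆ τ1[M] ∪ α[M] ∧ Mβ[M] = Mα[M] ∧ Mα[M] ≠ ⊥) ∧
      (q ∉ σ[H] → q ∈ τ2[H] ∧ (∀ r, r ∣ #M → r ∈ σ[H] → r ∈ β[H]) ∧ Hall σ[H]ᶜ (M ⊓ H) H) := by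
  have hq' := sigma_prime hq
  have nc := norm_not_cjg hM hH hX h1 h3 (Or.inl ⟨hq, h4.symm⟩)
  have k : ∀ S, Syl q S (M ⊓ H) → X ≤ S → N[S] ≤ M ∧ Syl q S H := fun S hS l => by
    have sM := hS.le.trans inf_le_left
    have a : N[S] ≤ M := by
      by_cases c : Cyc S
      · exact norm_sigma_syl hq (Syl.of_norm (hS.sub (le_inf sM (normG S))
          (inf_le_inf_left _ ((c.norm_sub l le_rfl).trans h3))) hq')
      · exact norm_noncyc_sigma hM hq hS.pi sM c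
    exact ⟨a, Syl.of_norm (hS.sub (le_inf (hS.le.trans inf_le_right) (normG S))
      (le_inf (inf_le_right.trans a) inf_le_left)) hq'⟩
  obtain ⟨S, hS, l⟩ := syl_superset hq' (le_inf h1 ((normG X).trans h3)) hX
  obtain ⟨n1, hSH⟩ := k S hS l
  refine ⟨nc, k, fun a => ?_, fun a => ?_⟩
  · have n2 := norm_sigma_syl a hSH
    have hS' := sigma_syl_top a hSH
    obtain ⟨d1, e1⟩ := nonuniq_norm_syl_prod hM hH h4 hq' hS' (le_inf n2 n1)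
    obtain ⟨d2, -⟩ := nonuniq_norm_syl_prod hH hM h4.symm hq' hS' (le_inf n1 n2)
    refine ⟨d2, fun r b => ?_, by rw [e1], fun e => h4 (coatom_eq' hM hH (le_of_prod_beta d1 (e ▸ bot_le)))⟩
    by_cases c : r ∈ α[M]
    · exact Or.inr c
    have hr := tau1_prime b
    obtain ⟨R, hR⟩ := syl_exists hr (M ⊓ H)
    have p1 : PiG {r}ᶜ Mβ[M] := (O_pig _ _).compl_single' fun d => c (beta_sub_alpha M d)
    have r1 := d2.hall_of ((O_pig _ _).compl_single' fun d => tau1_sigma' b (beta_sub_sigma hH d)) hR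
    have r2 := d1.hall_of p1 (inf_comm M H ▸ hR)
    have r3 := d1.not_dvd_der (O_norm _ _) hr p1 fun d => (mem_tau1.1 b).2.2.2 (d.trans (cardS (derS inf_le_left)))
    exact Or.inl (mem_tau1.2 ⟨hr, fun d => r3 (sigma_dvd_der hM d),
      by rw [← Syl.pRank r2 hr, Syl.pRank r1 hr, tau1_rank b], r3⟩)
  have t2 := (prime_class_norm hH hq' hX h3).resolve_left a
  obtain ⟨E, hE, lE⟩ := ex_sigma_compl hH hSH.le (hSH.pi.single_mono a)
  obtain ⟨A, hA⟩ := ex_tau2Elem hE t2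
  have nA := tau2_norm hH hE t2 hA
  have lA : A ≤ S := (hSH.sub lE hE.le).le_of_norm' (hA.pig hq') hA.le (lE.trans nA)
  have n3 := norm_noncyc_sigma hM hq (hA.pig hq') (lA.trans (hS.le.trans inf_le_left)) (hA.not_cyc hq')
  rw [tau2_inf_compl hH hE t2 hA hM (nA.trans n3) h4.symm]
  refine ⟨t2, fun r b c => ?_, hE⟩
  by_contra d
  have hr := sigma_prime c
  have i : ¬ IsIdealPrime r G := fun e => d (mem_beta_of hH c e)
  have k2 : ¬ r ∣ #C[A] := fun e => hE.pi r hr (e.trans (cardS (tau2_C_le hH hE t2 hA))) c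
  rcases lt_trichotomy r q with e | e | e
  · obtain ⟨⟨R, r1, r2⟩, -⟩ := beta'_cent_syl hH hr hq' d (tau2_not_beta' hH t2) (hA.pig hq')
      (Or.inr ⟨e, hA.le.trans hE.le⟩)
    exact k2 ((r1.dvd hr rfl ((Msigma_hall hH).dvd hr c (sigma_dvd c))).trans (cardS (cent_symm r2)))
  · exact a (e ▸ c)
  · obtain ⟨R, hR⟩ := syl_exists hr M
    obtain ⟨⟨T, r1, r2⟩, -⟩ := beta'_cent_syl hM hq' hr (tau2_not_beta' hH t2) (fun f => i (mem_beta.1 f).2) hR.pi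
      (Or.inr ⟨e, hR.le⟩)
    obtain ⟨g, -, r3⟩ := ((Msigma_hall_top hM).syl hq r1).cj_sub hq' le_top (hA.pig hq')
    have r4 := (hR.dvd hr rfl b).trans (cardS (r2.trans (centS r3)))
    rw [← cj_C] at r4
    exact k2 (by simpa using r4)
theorem pig_sigma_ne_top (hM : IsCoatom M) (hY : PiG σ[M] Y) : Y ≠ ⊤ := fun e =>
  ne_top_of_le hM (O_le _ _) ((Msigma_hall_top hM).eq_of_pig (e ▸ hY))
theorem sigma_cj_aux' (hM : IsCoatom M) (hq : q ∈ σ[M]) (h1 : X ≤ M) (hX : PiG {q} X) (h2 : X ≠ ⊥) :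
    ∃ K L, IsCoatom L ∧ N[X] ≤ L ∧ IsProd K (M ⊓ L) L ∧ L ≤ N[K] ∧ PiG σ[M]ᶜ K ∧
      ∀ p, p.Prime → p ∣ #M → ¬ IsIdealPrime p G → PiG {p}ᶜ K := by
  obtain ⟨L, hL, a⟩ := exists_coatom_N h2 hX.ne_top
  by_cases e : L = M
  · subst e
    exact ⟨⊥, L, hL, a, isProd_of_l (norm_bot _) (by simp), norm_bot _, pig_bot _, fun _ _ _ _ => pig_bot _⟩
  obtain ⟨b, -, c, d⟩ := sigma_subgroup_embedding hM hq h1 hX h2 hL a e
  obtain ⟨-, f, g⟩ := sigma_disjoint hL hM (not_cjg_symm b)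
  by_cases s : q ∈ σ[L]
  · exact ⟨_, L, hL, a, (c s).1, O_norm _ _, (O_pig _ _).mono' fun r _ _ i => f r (beta_sub_alpha L i),
      fun p _ _ i => (O_pig _ _).compl_single' fun j => i (mem_beta.1 j).2⟩
  · obtain ⟨d1, d2, d3⟩ := d s
    exact ⟨_, L, hL, a, (sdprod_sigma hL d3).prod, O_norm _ _,
      (O_pig _ _).mono' fun r _ _ i => (g (tau2_Msigma_nil hL d1)).2 r i,
      fun p _ j i => (O_pig _ _).compl_single' fun k => i (mem_beta.1 (d2 p j k)).2⟩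
theorem sigma_cj_aux (hM : IsCoatom M) (hY : PiG σ[M] Y) (h1 : Y ≠ ⊥) :
    ∃ g K L, IsCoatom L ∧ N[Y] ≤ L ∧ IsProd K (cj g M ⊓ L) L ∧ L ≤ N[K] ∧ PiG σ[M]ᶜ K ∧
      ∀ p, p.Prime → p ∣ #M → ¬ IsIdealPrime p G → PiG {p}ᶜ K := by
  obtain ⟨q, hq, a⟩ := exists_prime_dvd (F_ne_bot (mso_sol (pig_sigma_ne_top hM hY)) h1)
  have b := (F_nil Y).O_ne_bot hq a (π := {q}) rfl
  rw [O_F] at b
  have s := hY q hq (a.trans (cardS (F_le Y)))
  obtain ⟨P, hP⟩ := syl_exists hq M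
  obtain ⟨g, -, c⟩ := (sigma_syl_top s hP).sub_cj hq le_top (O_pig {q} Y)
  obtain ⟨K, L, d1, d2, d3, d4, d5, d6⟩ := sigma_cj_aux' (coatom_cj' hM g) (by rwa [sigma_cj]) (c.trans (cj_mono g hP.le))
    (O_pig _ _) b
  exact ⟨g, K, L, d1, (normO _ le_rfl).trans d2, d3, d4, by rwa [sigma_cj] at d5, by simpa using d6⟩
omit hG in
theorem IsProd.cj_le (h : IsProd K U L) (hs : Sol L) (hK : PiG πᶜ K) (h1 : D ≤ L) (h2 : PiG π D) :
    ∃ x ∈ L, BG.cj x D ≤ U := by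
  obtain ⟨H, a⟩ := hall_exists π (hs.of_le h.right)
  obtain ⟨x, b, c⟩ := (h.hall_of hK a).cj_sub hs h1 h2
  exact ⟨x, b, c.trans a.le⟩
/-- BG 12.16 -/
theorem sigma_cj_le (hM : IsCoatom M) (hY : PiG σ[M] Y) : ∃ x, cj x Y ≤ Mσ[M] := by
  by_cases h : Y = ⊥
  · exact ⟨1, by simp [h]⟩
  obtain ⟨g, K, L, a, b, c, -, d, -⟩ := sigma_cj_aux hM hY h
  obtain ⟨x, -, e⟩ := c.cj_le (coatom_sol a) d ((normG Y).trans b) hY
  exact ⟨g⁻¹ * x, le_Msigma hM (by rw [cj_mul, ← le_cj_iff]; exact e.trans inf_le_left) (hY.cj _)⟩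
theorem rank_inf_le_one (hM : IsCoatom M) (hH : IsCoatom H) (h : H ≠ M) (hp : p.Prime) (h1 : p ∉ σ[M])
    (h2 : Mσ[M] ⊓ H ≠ ⊥) : r[p](M ⊓ H) ≤ 1 := pRank_le_of hp fun A hA => by
  have a := hA.mono inf_le_left
  exact h2 (tau2_inf_coatom hM (mem_tau2.2 ⟨hp, h1, le_antisymm (sigma'_rank_le hM hp h1) (a.le_pRank hp)⟩) a hH
    (hA.le.trans inf_le_right) h)
theorem sigma_cj_norm_rank (hM : IsCoatom M) (hY : PiG σ[M] Y) (h1 : Y ≠ ⊥) (hE : Hall σ[M]ᶜ E M) (hp : p.Prime)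
    (h2 : p ∣ #E) (h3 : ¬ IsIdealPrime p G) (hH : IsCoatom H) (h4 : Y ≤ H) (h5 : ¬ Cjg M H) :
    r[p](H ⊓ N[Y]) ≤ 1 ∧ (p ∈ τ1[M] → ¬ p ∣ #⁅H ⊓ N[Y], H ⊓ N[Y]⁆) := by
  obtain ⟨g, K, L, a, b, c, n, d, e⟩ := sigma_cj_aux hM hY h1
  have p' := e p hp (h2.trans (cardS hE.le)) h3
  have s := hE.pi p hp h2
  refine ⟨pRank_le_of hp fun A hA => ?_, fun t f => c.not_dvd_der n hp p' (fun i => ?_)
    (f.trans (cardS (derS (inf_le_right.trans b))))⟩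
  · obtain ⟨x, -, i⟩ := c.cj_le (π := σ[M] ∪ {p}) (coatom_sol a)
      (fun q j k => not_or.2 ⟨d q j k, p' q j k⟩) (sup_le ((normG Y).trans b) (hA.le.trans (inf_le_right.trans b)))
      (PiG.sup_l (hY.mono' fun _ _ _ j => Or.inl j) ((hA.pig hp).mono' fun _ _ _ j => Or.inr j)
        (hA.le.trans inf_le_right))
    rw [cj_sup] at i
    have j := i.trans inf_le_left
    have hM' := coatom_cj' hM g
    have k := rank_inf_le_one hM' (coatom_cj' hH x) (fun k => h5 (cjg_cj_right.1 (k ▸ cjg_cj g M))) hp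
      (by rwa [sigma_cj]) fun k => h1 (by
        simpa using le_bot_iff.1 ((le_inf (le_Msigma hM' (le_sup_left.trans j) (by rw [sigma_cj]; exact hY.cj x))
          (cj_mono x h4)).trans k.le))
    have := ((hA.cj x).sub (le_inf (le_sup_right.trans j) (cj_mono x (hA.le.trans inf_le_left)))).le_pRank hp
    omega
  · rw [← tau1_cj g] at t
    exact (mem_tau1.1 t).2.2.2 (i.trans (cardS (derS inf_le_left)))
theorem not_cent_le_of_sigma (hM : IsCoatom M) (hg : g ∉ M) (h1 : X ≤ Mσ[M] ⊓ cj g M) (hX : PiG {p} X) (h0 : X ≠ ⊥) :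
    ¬ C[X] ≤ M := fun a =>
  hg ((cent_uniq_sigma hM (hX.mem_of_ne h0 ((O_pig _ _).of_le (h1.trans inf_le_left))) hX
    (h1.trans (inf_le_left.trans (O_le _ _))) a).2 g (h1.trans inf_le_right))
/-- BG 12.17 -/
theorem sigma_compl_embedding (hM : IsCoatom M) (hE : Hall σ[M]ᶜ E M) :
    Mσ[M] ⊓ C[E] ≤ ⁅Mσ[M], Mσ[M]⁆ ∧ ⁅Mσ[M], E⁆ = Mσ[M] ∧
      ∀ g ∉ M, Cyc (Mσ[M] ⊓ cj g M) ∧ PiG β[M]ᶜ (Mσ[M] ⊓ cj g M) ∧ Mσ[M] ⊓ cj g M ⊓ ⁅Mσ[M], Mσ[M]⁆ = ⊥ := by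
  obtain ⟨a, b⟩ := cop_der_sdprod (sdprod_sigma hM hE) (hE.cop_Msigma le_rfl) (sol_of_le hM (O_le _ _))
    (Msigma_le_der hM)
  refine ⟨b, a, fun g hg => ?_⟩
  have l : Mσ[M] ⊓ cj g M ≤ M := inf_le_left.trans (O_le _ _)
  have k : ∀ p X, p.Prime → X ≤ Mσ[M] ⊓ cj g M → #X = p → ¬ (p ∈ β[M] ∨ X ≤ ⁅Mσ[M], Mσ[M]⁆) := fun p X hp c d e =>
    not_cent_le_of_sigma hM hg c (pig_of_card' hp d) (ne_bot_of_prime (d ▸ hp))
      (cent_der_sigma_uniq hM hp d (c.trans l) e).1.le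
  have c : Mσ[M] ⊓ cj g M ⊓ ⁅Mσ[M], Mσ[M]⁆ = ⊥ := by
    by_contra c
    obtain ⟨X, d, e⟩ := exists_prime_sub' c
    exact k _ X e (d.trans inf_le_left) rfl (Or.inr (d.trans inf_le_right))
  refine ⟨Abel.cyc_of_rank (abel_iff_der.2 (le_bot_iff.1 ((le_inf (der_le _) (derS inf_le_left)).trans c.le)))
    (rank_le_iff.2 fun p hp => pRank_le_of hp fun A hA => ?_), fun p hp d e => ?_, c⟩
  · exact not_cent_le_of_sigma hM hg hA.le (hA.pig hp) (hA.ne_bot hp) (cent_p2Elem_le hM hp (hA.mono l))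
  · obtain ⟨X, f, i⟩ := exists_prime_sub hp d
    exact k p X hp f i (Or.inl e)
omit hG in
theorem fpf_cent (hP : (#P).Prime) (h1 : P ≤ N[K]) (h2 : P ≤ N[Q]) (h3 : Q ≤ N[K]) (hc : (#Q).Coprime #K)
    (h4 : K ⊓ C[P] = ⊥) (h5 : Q ⊓ C[P] = ⊥) (sK : Sol K) (sQ : Sol Q) : Q ≤ C[K] := by
  have t := inf_bot_of_coprime hc.symm
  have a := (cop_mul_cent h1 h2 (isProd_l h3) (by rw [t, card_bot']; simp) (Or.inr (t ▸ sol_bot))).sup
  rw [h4, h5, bot_sup_eq] at a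
  exact (prime_frob_nil (sK.sup_l sQ h3) (normY h1 h2) hP a.symm).cent_cop le_sup_right le_sup_left hc
omit hG in
theorem fpf_comm_le (hP : (#P).Prime) (h1 : P ≤ N[K]) (h2 : P ≤ N[Q]) (h3 : Q ≤ N[K]) (hc : (#Q).Coprime #K)
    (hc' : (#P).Coprime #K) (h0 : D ≤ K) (n1 : K ≤ N[D]) (n2 : P ≤ N[D]) (n3 : Q ≤ N[D])
    (h4 : K ⊓ C[P] ≤ D) (h5 : Q ⊓ C[P] = ⊥) (sK : Sol K) (sQ : Sol Q) : ⁅Q, K⁆ ≤ D := by
  have t : Q ⊓ (quo D).ker = ⊥ := by simpa using inf_bot_of_coprime (coprimeS hc le_rfl h0)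
  have t2 : P ⊓ (quo D).ker = ⊥ := by simpa using inf_bot_of_coprime (coprimeS hc' le_rfl h0)
  refine (quo_cent_iff n3 n1).1 (fpf_cent (P := P ÷ D) (by rwa [card_im_inj n2 t2]) (im_norm h1) (im_norm h2)
    (im_norm h3) (cop_im hc _) ?_ ?_ (sK.im _) (sQ.im _))
  · rw [← im_IC' (φ := quo D) n2 n1 (by simpa using h0) (by simpa using coprimeS hc' le_rfl h0)
      (Or.inl (cyc_of_prime hP).sol), quo_bot_iff (inf_le_left.trans n1)]
    exact h4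
  · rw [← im_IC (φ := quo D) n2 n3 (t ▸ norm_bot P) (by rw [t, card_bot']; simp) (Or.inl (cyc_of_prime hP).sol) h2,
      h5, im_bot]
theorem rank_cent_Malpha (hM : IsCoatom M) (h1 : X ≤ M) (h2 : PiG α[M]ᶜ X) (h0 : X ≠ ⊥) (h : ¬ UMax N[X] M) :
    r(Mα[M] ⊓ C[X]) ≤ 1 := by
  by_contra a
  exact h (((cent_alpha'_uniq hM h1 h2 (by omega)).umax hM inf_le_left).mono' (inf_le_right.trans (C_le_N X))
    (N_ne_top h0 (ne_top_of_le hM h1)))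
theorem tau13_not_N_le (hM : IsCoatom M) (hp : p ∈ τ1[M] ∨ p ∈ τ3[M]) (hX : PiG {p} X) : ¬ N[X] ≤ M := fun a =>
  norm_not_cjg hM hM hX ((normG X).trans a) a (Or.inr hp) (cjg_refl M)
theorem cent_Malpha_reg_tau1_a (hM : IsCoatom M) (hp : p ∈ τ1[M]) (hP : #P = p) (h1 : P ≤ M)
    (h2 : Q ≠ ⊥) (h3 : P ≤ N[Q]) (h4 : Q ⊓ C[P] = ⊥) (h5 : ¬ UMax N[Q] M) (a0 : Mα[M] ≠ ⊥) (aq : q ∉ α[M])
    (qQ : PiG {q} Q) (h6 : Q ≤ M) : Mα[M] ⊓ C[P] ≠ ⊥ ∧ Mα[M] ⊓ C[P ⊔ Q] = ⊥ := by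
  have hp' := tau1_prime hp
  have P' : (#P).Prime := hP ▸ hp'
  have pP := pig_of_card' hp' hP
  have aP : PiG α[M]ᶜ P := pP.single_mono fun a => tau1_sigma' hp (alpha_sub_sigma hM a)
  have aQ : PiG α[M]ᶜ Q := qQ.single_mono aq
  have r1 := rank_cent_Malpha hM h6 aQ h2 h5
  have r2 := rank_cent_Malpha hM h1 aP (ne_bot_of_prime P') fun a => tau13_not_N_le hM (Or.inl hp) pP a.le
  have nP := h1.trans (O_norm α[M] M)
  have nQ := h6.trans (O_norm α[M] M)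
  have sa := sol_of_le hM (O_le α[M] M)
  have cP := aP.coprime' (O_pig α[M] M)
  have cQ := aQ.coprime' (O_pig α[M] M)
  have nc : ∀ r R, r.Prime → R ≠ ⊥ → Syl r R Mα[M] → ¬ Q ≤ C[R] := fun r R a b c d => by
    have e := c.pi.mem_of_ne b ((O_pig _ _).of_le c.le)
    have f := (rank_mono (le_inf c.le (cent_symm d))).trans r1
    rw [((Malpha_hall hM).syl e c).rank a] at f
    have := alpha_rank e
    omega
  constructor
  · intro a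
    obtain ⟨r, hr, b⟩ := exists_prime_dvd a0
    obtain ⟨R, c⟩ := syl_exists hr Mα[M]
    exact nc r R hr (c.ne_bot' hr b) c ((fpf_cent P' nP h3 nQ cQ a h4 sa qQ.sol).trans (centS c.le))
  by_contra a
  obtain ⟨X, x1, x2⟩ := exists_prime_sub' a
  have x0 := ne_bot_of_prime x2
  have x3 := x1.trans inf_le_right
  obtain ⟨R, c, n, l⟩ := cop_syl_superset (sup_le nP nQ) ((aP.sup_r aQ h3).coprime' (O_pig _ _)) (Or.inr sa) x2
    (x1.trans inf_le_left) (pig_of_card' x2 rfl) (cents_norm (cent_symm x3))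
  have R0 : R ≠ ⊥ := fun e => x0 (le_bot_iff.1 (e ▸ l))
  obtain ⟨K, k1, -, k2, -, k3, k4⟩ := critical_odd c.pi (mso_odd _) R0
  have kP := le_sup_left.trans (n.trans k2)
  have kQ := le_sup_right.trans (n.trans k2)
  have kα := k1.trans c.le
  have cy : ∀ Y ≤ P ⊔ Q, r(Mα[M] ⊓ C[Y]) ≤ 1 → K ⊓ C[Y] ≤ X := fun Y d e => by
    have pR := c.pi.of_le (inf_le_left : R ⊓ C[Y] ≤ R)
    have f := odd_pgroup_rank1_cyc pR (mso_odd _)
      ((pRank_le_rank x2 _).trans ((rank_mono (inf_le_inf_right _ c.le)).trans e))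
    rw [f.eq_Om x2 (le_inf l (x3.trans (centS d))) rfl]
    exact fun y hy => mem_Om ⟨k1 hy.1, hy.2⟩ (k3 y hy.1)
  have e1 : K ⊓ C[P] ≤ K ⊓ C[Q] := le_inf inf_le_left ((cy P le_sup_left r2).trans (x3.trans (centS le_sup_right)))
  have e2 : P ≤ C[K ⊓ C[Q]] := cent_symm ((cy Q le_sup_right r1).trans (x3.trans (centS le_sup_left)))
  have lt : K ⊓ C[Q] < K := lt_of_le_of_ne inf_le_left fun e => nc _ R x2 R0 c
    (k4 Q (le_sup_right.trans n) (aQ.compl_single (c.pi.mem_of_ne R0 ((O_pig _ _).of_le c.le)))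
      (cent_symm (e.ge.trans inf_le_right)))
  have lt2 := (c.pi.of_le k1).nil.lt_norm lt
  have nQ2 : Q ≤ N[K ⊓ C[Q]] := cents_norm (cent_symm inf_le_right)
  have l2 : K ⊓ N[K ⊓ C[Q]] ≤ Mα[M] := inf_le_left.trans kα
  have f := fpf_comm_le P' (normI kP (normN (cents_norm e2))) h3 (normI kQ (normN nQ2)) (coprimeS cQ le_rfl l2)
    (coprimeS cP le_rfl l2) lt2.le inf_le_right (cents_norm e2) nQ2 ((inf_le_inf_right _ inf_le_left).trans e1) h4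
    (sa.of_le l2) qQ.sol
  exact lt2.not_ge (le_inf inf_le_left (cop_stable (coprimeS cQ le_rfl (inf_le_left.trans kα))
    ((commC _ _).le.trans f) inf_le_right))
/-- BG 12.18 -/
theorem cent_Malpha_reg_tau1 (hM : IsCoatom M) (hp : p ∈ τ1[M]) (hq : q.Prime) (h : q ≠ p) (hP : #P = p) (h1 : P ≤ M)
    (h2 : Q ≠ ⊥) (h3 : P ≤ N[Q]) (h4 : Q ⊓ C[P] = ⊥) (h5 : ¬ UMax N[Q] M) :
    (Mα[M] ≠ ⊥ → q ∉ α[M] → PiG {q} Q → Q ≤ M → Mα[M] ⊓ C[P] ≠ ⊥ ∧ Mα[M] ⊓ C[P ⊔ Q] = ⊥) ∧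
      (Syl q Q M → α[M] = β[M] ∧ Mα[M] ≠ ⊥ ∧ q ∉ α[M] ∧ Mα[M] ⊓ C[P] ≠ ⊥ ∧ Mα[M] ⊓ C[P ⊔ Q] = ⊥) := by
  refine ⟨cent_Malpha_reg_tau1_a hM hp hP h1 h2 h3 h4 h5, fun hQ => ?_⟩
  have nt := hQ.pi.N_ne_top h2
  have a : Q ≤ ⁅M, M⁆ := by
    have := (cop_cent_prod h3 ((pig_of_card' (tau1_prime hp) hP).coprime (hQ.pi.ne_compl h)) (Or.inr hQ.pi.sol)).sup
    rw [h4, sup_bot_eq] at this
    exact this.ge.trans (commS hQ.le h1)
  have b : q ∉ α[M] := fun b => h5 ((umax_of_rank3 hM hQ.le (by rw [Syl.rank hQ hq]; exact alpha_rank b)).mono'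
    (normG Q) nt)
  have c : Mα[M] ≠ ⊥ := fun c => by
    have d := (nil_of_quo_bot (Malpha_quo_nil hM) c).hall_eq (hQ.sub a (der_le M))
    exact h5 (by rw [coatom_N hM hQ.le (d ▸ normO _ (der_norm M)) h2]; exact umax_self hM)
  refine ⟨Set.Subset.antisymm (fun r d => ?_) (beta_sub_alpha M), c, b,
    cent_Malpha_reg_tau1_a hM hp hP h1 h2 h3 h4 h5 c b hQ.pi hQ.le⟩
  by_contra e
  exact h5 ((((beta'_cent_syl hM (alpha_prime d) hq e (fun f => b (beta_sub_alpha M f)) hQ.pi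
    (Or.inl ⟨fun f => b (f ▸ d), a⟩)).2.1 d).umax hM inf_le_left).mono' (inf_le_right.trans (C_le_N Q)) nt)
/-- BG 12.19 -/
theorem der_compl_cent_beta' (hM : IsCoatom M) (hE : Hall σ[M]ᶜ E M) :
    ∃ H, Hall β[M]ᶜ H Mσ[M] ∧ ⁅E, E⁆ ≤ C[H] := by
  have a := hE.pi.of_le (der_le E)
  obtain ⟨W, b, c⟩ := hall_superset (sol_of_le hM (der_le M)) (derS hE.le) (a.sigma'_beta' hM)
  exact ⟨_, b.inf_norm' (Msigma_le_der hM) ((der_le M).trans (O_norm _ _)), cent_symm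
    ((beta'_der_nil hM b.pi b.le).cent inf_le_left c ((O_pig _ _).of_le inf_le_right) a)⟩

end Cfsg.Agent.BG
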