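import Cfsg.Agent.BG.S12c
/-!
Bender–Glauberman, section 13: prime action.
-/
set_option autoImplicit false

namespace Cfsg.Agent.BG
open Subgroup PHom

variable {G : Type*} [Group G] [Finite G] [hG : MSO G]
variable {A A₀ B D E E₁ E₂ E₃ H K L M Mstar P Q R S T U V W X Y Z : Subgroup G} {x y g : G} {π ρ : Set ℕ}
  {p q r m n : ℕ}

include hG
theorem cent_of_der_not_cjg (hM : IsCoatom M) (hH : IsCoatom H) (h : ¬ Cjg M H) (hP : PiG {p} P) (h1 : P ≤ ⁅H, H⁆)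
    (k1 : K ≤ Mσ[M]) (k2 : K ≤ H) (k3 : P ≤ N[K]) (k4 : PiG {p}ᶜ K) : P ≤ C[K] := by
  have l : ⁅K, P⁆ ≤ K := commL k3
  have e : ⁅P, ⁅K, P⁆⁆ ≤ Mα[H] := comm_le_of_nil_quo (Malpha_quo_nil hH) ((der_le H).trans (O_norm _ _))
    h1 (commS k2 (h1.trans (der_le H))) hP (k4.of_le l)
  rw [commC, cop_comm_comm k3 (hP.coprime k4) (Or.inl hP.sol)] at e
  exact comm_eq_bot'.1 (le_bot_iff.1 ((le_inf e (l.trans k1)).trans (sigma_disjoint hH hM (not_cjg_symm h)).1.le))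
theorem le_der_of_not_tau12 (hH : IsCoatom H) (hP : PiG {p} P) (h1 : P ≤ H) (h2 : p ∉ τ1[H]) (h3 : p ∉ τ2[H]) :
    P ≤ ⁅H, H⁆ := by
  by_cases a : P = ⊥
  · rw [a]; exact bot_le
  rcases partition_pi hH (hP.prime a) ((hP.dvd a).trans (cardS h1)) with b | b | b | b
  · exact (le_Msigma hH h1 (hP.single_mono b)).trans (Msigma_le_der hH)
  · exact absurd b h2
  · exact absurd b h3
  · exact tau3_le_der h1 (hP.single_mono b)
/-- BG 13.1 -/
theorem Msigma_inf_central (hM : IsCoatom M) (hE : Hall σ[M]ᶜ E M) (hH : IsCoatom H) (hp : p.Prime) (h1 : p ∣ #E)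
    (h2 : p ∣ #H) (h3 : p ∉ τ1[H]) (h4 : ⁅Mσ[M] ⊓ H, M ⊓ H⁆ ≠ ⊥) (h5 : ¬ Cjg M H) :
    (∀ P ≤ M ⊓ H, PiG {p} P → P ≤ C[Mσ[M] ⊓ H]) ∧ p ∉ τ2[H] ∧ (p ∈ τ1[M] → IsIdealPrime p G) := by
  obtain ⟨q, hq, a⟩ := exists_prime_dvd h4
  have s : q ∈ σ[M] := O_pig _ _ q hq (a.trans (cardS ((commS inf_le_left inf_le_left).trans (commL (O_norm _ _)))))
  obtain ⟨Y, hY⟩ := syl_exists hq ⁅H, H⁆
  have y0 := hY.ne_bot' hq (a.trans (cardS (commS inf_le_right inf_le_right)))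
  have d := Mbeta_frattini hH hq hY
  have k : ¬ IsIdealPrime p G → p ∉ τ2[H] ∧ p ∉ τ1[M] := fun b => by
    have p' : PiG {p}ᶜ Mβ[H] := (O_pig _ _).compl_single' fun c => b (mem_beta.1 c).2
    obtain ⟨c, e⟩ := sigma_cj_norm_rank hM (hY.pi.single_mono s) y0 hE hp h1 b hH (hY.le.trans (der_le H)) h5
    have t2 : p ∉ τ2[H] := fun f => by
      rw [pRank_of_idx hp inf_le_left (by rw [d.symm.relIndex]; exact (pin_compl hp).1 (p'.relIndex _)),
        tau2_rank f] at c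
      omega
    obtain ⟨P, f, g⟩ := exists_prime_sub hp h2
    exact ⟨t2, fun i => d.not_dvd_der (O_norm _ _) hp p' (e i)
      (g ▸ cardS (le_der_of_not_tau12 hH (pig_of_card' hp g) f h3 t2))⟩
  have t2 : p ∉ τ2[H] := fun b => (k (tau2_not_beta hH b).1).1 b
  exact ⟨fun P b c => cent_of_der_not_cjg hM hH h5 c (le_der_of_not_tau12 hH c (b.trans inf_le_right) h3 t2)
    inf_le_left inf_le_right (normI (b.trans (inf_le_left.trans (O_norm _ _))) (normsG (b.trans inf_le_right)))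
    (PiG.of_le ((O_pig _ _).compl_single' (hE.pi p hp h1)) inf_le_left), t2, fun b => by_contra fun c => (k c).2 b⟩
theorem ne_bot_of_N_le (hH : IsCoatom H) (h : N[P] ≤ H) : P ≠ ⊥ := fun e => hH.1 (top_le_iff.1 (by rwa [e, N_bot] at h))
/-- BG 13.2 -/
theorem cent_norm_tau13 (hM : IsCoatom M) (hE : Hall σ[M]ᶜ E M) (hp : p ∈ τ1[M] ∨ p ∈ τ3[M]) (h1 : P ≤ M)
    (hP : PiG {p} P) (hH : IsCoatom H) (h2 : N[P] ≤ H) :
    (∀ P₁ ≤ M ⊓ H, PiG {p} P₁ → P₁ ≤ C[Mσ[M] ⊓ H]) ∧ (∀ X ≤ E ⊓ H, PiG τ1[H]ᶜ X → X ≤ C[Mσ[M] ⊓ H]) ∧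
      (⁅Mσ[M] ⊓ H, M ⊓ H⁆ ≠ ⊥ → p ∈ σ[H] ∧ (p ∈ τ1[M] → p ∈ β[H])) := by
  by_cases a : ⁅Mσ[M] ⊓ H, M ⊓ H⁆ = ⊥
  · have b := comm_eq_bot'.1 a
    exact ⟨fun _ c _ => c.trans b, fun _ c _ => c.trans ((inf_le_inf_right _ hE.le).trans b), fun c => absurd a c⟩
  have hp' : p.Prime := hp.elim tau1_prime tau3_prime
  have nc := norm_not_cjg hM hH hP h1 h2 (Or.inr hp)
  have b := prime_class_norm hH hp' hP h2
  have d := hP.dvd (ne_bot_of_N_le hH h2)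
  obtain ⟨e, f, g⟩ := Msigma_inf_central hM hE hH hp' (hE.dvd hp' (hp.elim tau1_sigma' tau3_sigma') (d.trans (cardS h1)))
    (d.trans (cardS ((normG P).trans h2))) (fun c => b.elim (tau1_sigma' c) (tau1_not_tau2 c)) a nc
  refine ⟨e, fun X i j => le_of_pig fun q hq Q k l => ?_,
    fun _ => ⟨b.resolve_right f, fun i => mem_beta_of hH (b.resolve_right f) (g i)⟩⟩
  by_cases m : Q = ⊥
  · rw [m]; exact bot_le
  have n := l.dvd m
  exact (Msigma_inf_central hM hE hH hq (n.trans (cardS (k.trans (i.trans inf_le_left))))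
    (n.trans (cardS (k.trans (i.trans inf_le_right)))) (j q hq (n.trans (cardS k))) a nc).1 Q
    (k.trans (i.trans (inf_le_inf_right _ hE.le))) l
theorem exists_coatom_N_prime (h : (#X).Prime) : ∃ M, IsCoatom M ∧ N[X] ≤ M :=
  exists_coatom_N (ne_bot_of_prime h) (pig_of_card' h rfl).ne_top
/-- BG 13.3(a) -/
theorem cyc_primact_Msigma (hM : IsCoatom M) (hE : Hall σ[M]ᶜ E M) (hp : p.Prime) (hP : Syl p P E) (h : Cyc P) :
    Semiprime Mσ[M] P := semiprime_of_prime_sub fun X a b => by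
  have pX := hP.pi.of_le a
  have t : p ∈ τ1[M] ∨ p ∈ τ3[M] := by
    rcases partition_pi_compl hM hE hp ((pX.dvd (ne_bot_of_prime b)).trans (cardS (a.trans hP.le))) with c | c | c
    · exact Or.inl c
    · have d := h.pRank_le hp
      rw [Syl.pRank hP hp, pRank_compl hE hp (tau2_sigma' c), tau2_rank c] at d
      omega
    · exact Or.inr c
  obtain ⟨H, hH, c⟩ := exists_coatom_N_prime b
  exact (inf_le_inf_left _ ((C_le_N X).trans c)).trans (cent_symm ((cent_norm_tau13 hM hE t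
    (a.trans (hP.le.trans hE.le)) pX hH c).1 P (le_inf (hP.le.trans hE.le) ((abel_norm h.abel a).trans c)) hP.pi))
omit hG in
theorem der_tau1' (h : X ≤ ⁅H, H⁆) : PiG τ1[H]ᶜ X := fun _ _ a b => (mem_tau1.1 b).2.2.2 (a.trans (cardS h))
/-- BG 13.3(b) -/
theorem tau3_primact_Msigma (hM : IsCoatom M) (hE : Hall σ[M]ᶜ E M) (h : Hall τ3[M] E₃ E) : Semiprime Mσ[M] E₃ :=
  semiprime_of_prime_sub fun X a b => by
  obtain ⟨H, hH, c⟩ := exists_coatom_N_prime b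
  have d := ((tau3_cyc hM (h.le.trans hE.le) h.pi).norm_sub a (tau3_norm hM hE h)).trans c
  exact (inf_le_inf_left _ ((C_le_N X).trans c)).trans (cent_symm ((cent_norm_tau13 hM hE
    (Or.inr (h.pi.mem_of_card b a rfl)) (a.trans (h.le.trans hE.le)) (pig_of_card' b rfl) hH c).2.1 E₃
    (le_inf h.le (h.le.trans d)) (der_tau1' ((tau3_le_der_compl hM hE h.le h.pi).trans (derS d)))))
omit hG in
theorem exists_syl_not_cent (h1 : R ≤ N[K]) (hc : (#R).Coprime #K) (hs : Sol R ∨ Sol K) (h : ¬ R ≤ C[K]) :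
    ∃ q S, q.Prime ∧ Syl q S K ∧ R ≤ N[S] ∧ ¬ R ≤ C[S] := by
  by_contra a
  push Not at a
  refine h (cent_symm (le_of_syl fun q hq _ => ?_))
  obtain ⟨S, b, c⟩ := cop_syl_exists h1 hc hs hq
  exact ⟨S, b, cent_symm (a q S hq b c)⟩
theorem abel_of_two_coatoms (hM : IsCoatom M) (hH : IsCoatom H) (h : H ≠ M) (hS : PiG {q} S) (h1 : S ≤ M) (h2 : S ≤ H) :
    Abel S := by_contra fun a => h ((nonabel_uniqueness hS a).eq hM hH h1 h2)
theorem cent_tau1Elem_aux (hM : IsCoatom M) (hE : Hall σ[M]ᶜ E M) (hp : p ∈ τ1[M]) (hP : #P = p) (h1 : P ≤ E)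
    (hR : (#R).Prime) (h2 : R ≤ E ⊓ C[P]) (k1 : K ≤ Mσ[M] ⊓ C[P]) (k2 : R ≤ N[K]) (k3 : ¬ R ≤ C[K]) :
    ¬ PiG α[M] K ∧ #R ∈ τ1[M] ∧ ¬ Mα[M] ⊓ C[R] ≤ C[P] := by
  have hp' := tau1_prime hp
  have P' : (#P).Prime := hP ▸ hp'
  have pP := pig_of_card' hp' hP
  have rR := pig_of_card' hR rfl
  have lR := h2.trans inf_le_left
  have cR := h2.trans inf_le_right
  obtain ⟨H, hH, n⟩ := exists_coatom_N_prime P'
  have cH := (C_le_N P).trans n
  have nc := norm_not_cjg hM hH pP (h1.trans hE.le) n (Or.inr (Or.inl hp))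
  have ne := ne_of_not_cjg nc
  have kH : K ≤ Mσ[M] ⊓ H := k1.trans (inf_le_inf_left _ cH)
  have k4 : ¬ R ≤ C[Mσ[M] ⊓ H] := fun a => k3 (a.trans (centS kH))
  obtain ⟨-, a2, a3⟩ := cent_norm_tau13 hM hE (Or.inl hp) (h1.trans hE.le) pP hH n
  have t1 : #R ∈ τ1[H] := by_contra fun a => k4 (a2 R (le_inf lR (cR.trans cH)) (pig_of_card hR rfl a))
  have b := (a3 fun a => k4 ((le_inf (lR.trans hE.le) (cR.trans cH)).trans (comm_eq_bot'.1 a))).2 hp
  have cK := coprimeS (hE.cop_Msigma lR) le_rfl (k1.trans inf_le_left)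
  obtain ⟨q, S, hq, hS, s1, s2⟩ := exists_syl_not_cent k2 cK (Or.inl rR.sol) k3
  have sM : S ≤ Mσ[M] := hS.le.trans (k1.trans inf_le_left)
  have sH : S ≤ H := hS.le.trans (kH.trans inf_le_right)
  have aS := abel_of_two_coatoms hM hH ne hS.pi (sM.trans (O_le _ _)) sH
  have l : ⁅S, R⁆ ≤ S := commL s1
  have q0 : ⁅S, R⁆ ≠ ⊥ := fun e => s2 (comm_eq_bot'.1 e)
  have qQ := hS.pi.of_le l
  have q1 := cop_abel_C_comm aS s1 (coprimeS cK le_rfl hS.le)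
  have s : q ∈ σ[M] := qQ.mem_of_ne q0 ((O_pig _ _).of_le (l.trans sM))
  have qr : q ≠ #R := fun e => hE.pi _ hR (cardS lR) (e ▸ s)
  have pH : P ≤ Mα[H] := le_Malpha hH ((normG P).trans n) (pP.single_mono (beta_sub_alpha H b))
  have P0 := ne_bot_of_prime P'
  have u : UMax N[⁅S, R⁆] H := by_contra fun u => P0 (le_bot_iff.1 ((le_inf pH (centY (cent_symm cR)
    (cent_symm (l.trans (hS.le.trans (k1.trans inf_le_right)))))).trans
    ((cent_Malpha_reg_tau1 hH t1 hq qr rfl (cR.trans cH) q0 (comm_normr _ _) q1 u).1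
      (fun e => P0 (le_bot_iff.1 (e ▸ pH))) (fun e => (sigma_disjoint hH hM (not_cjg_symm nc)).2.1 q e s) qQ
      (l.trans sH)).2.le))
  obtain ⟨-, -, c, d⟩ := sigma_subgroup_embedding hM s (l.trans (sM.trans (O_le _ _))) qQ q0 hH u.le ne
  have sq : q ∈ σ[H] := by_contra fun e => (d e).2.2.pi p hp'
    (hP ▸ cardS (le_inf (h1.trans hE.le) ((normG P).trans n))) (beta_sub_sigma hH b)
  obtain ⟨-, c1, -, c2⟩ := c sq
  obtain ⟨d1, d2, -⟩ := sigma_disjoint hM hH nc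
  have aq : q ∉ α[M] := fun e => d2 q e sq
  have t : #R ∈ τ1[M] := (c1 t1).resolve_right fun e => hE.pi _ hR (cardS lR) (alpha_sub_sigma hM e)
  refine ⟨fun e => aq (qQ.mem_of_ne q0 (e.of_le (l.trans hS.le))), t, fun e => ?_⟩
  obtain ⟨f, g⟩ := (cent_Malpha_reg_tau1 hM t hq qr rfl (lR.trans hE.le) q0 (comm_normr _ _) q1
    fun v => ne (v.eq u)).1 c2 aq qQ (l.trans (sM.trans (O_le _ _)))
  have i : ⁅Mα[M] ⊓ C[R], ⁅S, R⁆⁆ ≤ Mα[M] ⊓ Mσ[H] := le_inf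
    ((commS inf_le_left (l.trans (sM.trans (O_le _ _)))).trans (commL (O_norm _ _)))
    ((commS (e.trans cH) (le_Msigma hH (l.trans sH) (qQ.single_mono sq))).trans (commR (O_norm _ _)))
  rw [d1, le_bot_iff, comm_eq_bot] at i
  exact f (le_bot_iff.1 ((le_inf inf_le_left (centY inf_le_right i)).trans g.le))
/-- BG 13.4 -/
theorem cent_tau1Elem_Msigma (hM : IsCoatom M) (hE : Hall σ[M]ᶜ E M) (hp : p ∈ τ1[M]) (hP : #P = p) (h1 : P ≤ E)
    (hR : (#R).Prime) (h2 : R ≤ E ⊓ C[P]) : Mσ[M] ⊓ C[P] ≤ C[R] := by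
  by_contra a
  have l := h2.trans inf_le_left
  have c := h2.trans inf_le_right
  obtain ⟨-, b, d⟩ := cent_tau1Elem_aux hM hE hp hP h1 hR h2 le_rfl
    (normI (hE.norm_Msigma l) (normC (cents_norm c))) fun e => a (cent_symm e)
  exact (cent_tau1Elem_aux hM hE b rfl l (hP ▸ tau1_prime hp) (le_inf h1 (cent_symm c))
    (inf_le_inf_right _ (Malpha_le_Msigma hM)) (normI (h1.trans (hE.le.trans (O_norm _ _)))
      (normC (cents_norm (cent_symm c)))) fun e => d (cent_symm e)).1 ((O_pig _ _).of_le inf_le_left)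
/-- BG 13.5 -/
theorem tau1_primact_Msigma (hM : IsCoatom M) (hE : Hall σ[M]ᶜ E M) (h : Hall τ1[M] E₁ E) : Semiprime Mσ[M] E₁ :=
  semiprime_of_prime_sub fun X a b => cent_symm (le_of_syl fun r hr c => by
  have cy := tau1_cyc hM (h.le.trans hE.le) h.pi
  obtain ⟨R, hR⟩ := syl_exists hr E₁
  obtain ⟨Y, d, e⟩ := hR.pi.exists_prime_sub (hR.ne_bot' hr c)
  have Y' : (#Y).Prime := e ▸ hr
  refine ⟨R, hR, cent_symm ((le_inf inf_le_left (cent_tau1Elem_Msigma hM hE (h.pi.mem_of_card b a rfl) rfl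
    (a.trans h.le) Y' (le_inf (d.trans (hR.le.trans h.le)) (centSS cy.abel (d.trans hR.le) a)))).trans ?_)⟩
  rw [(cyc_primact_Msigma hM hE hr (h.syl (h.pi r hr c) hR) (cy.of_le hR.le)).cent d (ne_bot_of_prime Y')]
  exact inf_le_right)
theorem tau1_primact' (hM : IsCoatom M) (h1 : X ≤ M) (h2 : PiG τ1[M] X) : Semiprime Mσ[M] X := by
  obtain ⟨E, hE, a⟩ := ex_sigma_compl hM h1 h2.tau1_sigma'
  obtain ⟨E₁, b, c⟩ := hall_superset (sol_of_le hM hE.le) a h2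
  exact (tau1_primact_Msigma hM hE b).mono_r c
theorem tau1Elem_cent_abelem (hM : IsCoatom M) (hE : Hall σ[M]ᶜ E M) (hp : p ∈ τ1[M]) (hP : #P = p) (h1 : P ≤ E)
    (hq : q.Prime) (hA : Abelem q A) (h2 : A ≤ E ⊓ C[P]) : Mσ[M] ⊓ C[P] ≤ C[A] :=
  cent_symm (hA.le_of_card hq fun X a b => cent_symm (cent_tau1Elem_Msigma hM hE hp hP h1 (b ▸ hq) (a.trans h2)))
theorem ex_tau2_of_ne (hE : Hall σ[M]ᶜ E M) (h : Hall τ2[M] E₂ E) (h1 : E₂ ≠ ⊥) : ∃ p ∈ τ2[M], ∃ A, PnElem p 2 A E := by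
  obtain ⟨p, hp, a⟩ := exists_prime_dvd h1
  exact ⟨p, h.pi p hp a, ex_tau2Elem hE (h.pi p hp a)⟩
theorem syl_cent_der_compl (hM : IsCoatom M) (hE : Hall σ[M]ᶜ E M) (h : q ∉ β[M]) (h1 : X ≤ ⁅E, E⁆)
    (hS : Syl q S (Mσ[M] ⊓ C[X])) : Syl q S Mσ[M] := by
  obtain ⟨H, a, b⟩ := der_compl_cent_beta' hM hE
  exact hS.trans' inf_le_left (PiN.mono' (a.idx.of_dvd (relIndex_dvd_left (le_inf a.le (cent_symm (h1.trans b))) _))
    fun r _ _ c d => c (d ▸ h))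
/-- BG 13.6 -/
theorem cent_cent_Msigma_tau1_uniq (hM : IsCoatom M) (hE : Hall σ[M]ᶜ E M) (h : Hall τ1[M] E₁ E) (h1 : P ≤ E₁)
    (h2 : P ≠ ⊥) (hq : q.Prime) (hX : #X = q) (h3 : X ≤ Mσ[M] ⊓ C[P]) :
    UMax C[X] M ∧ ∀ S, Syl q S Mσ[M] → UMax S M := by
  rw [(tau1_primact_Msigma hM hE h).cent h1 h2] at h3
  refine cent_der_sigma_uniq hM hq hX (h3.trans (inf_le_left.trans (O_le _ _))) (or_iff_not_imp_left.2 fun b => ?_)
  have n1 := hE.norm_Msigma h.le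
  have c1 := hE.cop_Msigma h.le
  have s1 := sol_of_le hM (h.le.trans hE.le)
  obtain ⟨S, hS, nS⟩ := cop_syl_exists (normI n1 (normC (h.le.trans (der_norm E)))) (coprimeS c1 le_rfl inf_le_left)
    (Or.inl s1) hq
  obtain ⟨T, hT, nT, lT⟩ := cop_syl_superset n1 c1 (Or.inl s1) hq (h3.trans inf_le_left) (pig_of_card' hq hX)
    (cents_norm (cent_symm (h3.trans inf_le_right)))
  obtain ⟨c, ⟨c2, c3⟩, e⟩ := cop_syl_conj n1 c1 (Or.inl s1) hq hT (syl_cent_der_compl hM hE b le_rfl hS) nT nS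
  have y1 : cj c X ≤ Mσ[M] ⊓ C[⁅E, E⁆] := (cj_mono c lT).trans (e.le.trans hS.le)
  have y2 : cj c X ≤ C[E₁] := cj_le_of_mem (h3.trans inf_le_right) (normG _ c3)
  have y0 : cj c X ≠ ⊥ := by simpa using ne_bot_of_prime (hX ▸ hq : (#X).Prime)
  suffices cj c X ≤ ⁅Mσ[M], Mσ[M]⁆ by
    rwa [cj_le_iff, cj_of_mem_N (der_norm _ (inv_mem c2))] at this
  obtain ⟨E₃, h3'⟩ := hall_exists τ3[M] (sol_of_le hM hE.le)
  obtain ⟨E₂, hc⟩ := ex_tau2_compl hM hE h h3'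
  by_cases e2 : E₂ = ⊥
  · refine le_trans (le_inf (y1.trans inf_le_left) ?_) (sigma_compl_embedding hM hE).1
    have := (hc.sd3_21 hM).sup
    rw [e2, bot_sup_eq] at this
    conv_rhs => rw [← this]
    exact centY (y1.trans (inf_le_right.trans (centS (tau3_le_der_compl hM hE h3'.le h3'.pi)))) y2
  obtain ⟨p, t, A, hA⟩ := ex_tau2_of_ne hE hc.h2 e2
  obtain ⟨Y, f, g⟩ := exists_prime_sub' h2
  have f1 := f.trans h1
  have d := (cop_abel_dprod hA.abel (h.le.trans (tau2_norm hM hE t hA))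
    (PiN.coprime' (h.pi.compl_single' fun i => tau1_not_tau2 i t) (hA.pig (tau2_prime t)))).sup
  refine absurd (le_bot_iff.1 ((le_inf (y1.trans inf_le_left) ?_).trans (tau2_inf_cent hM t (hA.mono hE.le)).le)) y0
  rw [← d]
  exact centY ((le_inf (y1.trans inf_le_left) (y2.trans (centS f1))).trans (tau1Elem_cent_abelem hM hE
    (h.pi.mem_of_card g f1 rfl) rfl (f1.trans h.le) (tau2_prime t) (hA.ab.of_le inf_le_left)
    (inf_le_inf hA.le (centS f1)))) (y1.trans (inf_le_right.trans (centS (commS hA.le h.le))))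
theorem tau1_cent_uniq (hM : IsCoatom M) (h1 : P ≤ M) (hP : PiG τ1[M] P) (h2 : P ≠ ⊥) (hq : q.Prime) (hX : #X = q)
    (h3 : X ≤ Mσ[M] ⊓ C[P]) : UMax C[X] M ∧ ∀ S, Syl q S Mσ[M] → UMax S M := by
  obtain ⟨E, hE, a⟩ := ex_sigma_compl hM h1 hP.tau1_sigma'
  obtain ⟨E₁, b, c⟩ := hall_superset (sol_of_le hM hE.le) a hP
  exact cent_cent_Msigma_tau1_uniq hM hE b c h2 hq hX h3
theorem SigmaCompl.E2_eq_bot (hM : IsCoatom M) (hE : SigmaCompl M E E₁ E₂ E₃) (h : ¬ Semireg Mσ[M] E₃) : E₂ = ⊥ := by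
  by_contra a
  obtain ⟨p, b, A, c⟩ := ex_tau2_of_ne hE.hE hE.h2 a
  exact h (tau2_regular hM hE b c).1
theorem SigmaCompl.sd31 (hM : IsCoatom M) (hE : SigmaCompl M E E₁ E₂ E₃) (h : E₂ = ⊥) : Sdprod E₃ E₁ E := by
  have := hE.sd3_21 hM
  rwa [h, bot_sup_eq] at this
theorem SigmaCompl.prime_cases (hM : IsCoatom M) (hE : SigmaCompl M E E₁ E₂ E₃) (h : X ≤ E₃ ⊔ E₁) (h1 : (#X).Prime) :
    X ≤ E₃ ∨ ∃ g ∈ E₃ ⊔ E₁, cj g X ≤ E₁ := by
  have n := hE.h1.le.trans (tau3_norm hM hE.hE hE.h3)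
  have l := sup_le hE.h3.le hE.h1.le
  by_cases a : #X ∈ τ1[M]
  · exact Or.inr ((hE.h1.sub le_sup_right l).cj_sub (sol_of_le hM (l.trans hE.hE.le)) h (pig_of_card h1 rfl a))
  · exact Or.inl (le_of_sup_pi n hE.h1.pi h (pig_of_card h1 rfl a))
/-- BG 13.7 -/
theorem tau13_primact_Msigma (hM : IsCoatom M) (hE : SigmaCompl M E E₁ E₂ E₃) (h : ¬ Semireg E₃ E₁) :
    Semiprime Mσ[M] (E₃ ⊔ E₁) := by
  obtain ⟨P, a, b, c⟩ := not_semireg h
  obtain ⟨R, d, e⟩ := exists_prime_sub' c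
  have d3 := d.trans inf_le_left
  have p1 := tau1_primact_Msigma hM hE.hE hE.h1
  have p3 := tau3_primact_Msigma hM hE.hE hE.h3
  have R0 := ne_bot_of_prime e
  have f : Mσ[M] ⊓ C[E₁] ≤ C[E₃] := by
    rw [← p1.cent a (ne_bot_of_prime b)]
    exact (le_inf inf_le_left (cent_tau1Elem_Msigma hM hE.hE (hE.h1.pi.mem_of_card b a rfl) rfl (a.trans hE.h1.le) e
      (d.trans (inf_le_inf_right _ hE.h3.le)))).trans ((p3.cent d3 R0).le.trans inf_le_right)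
  have g : Mσ[M] ⊓ C[E₃] ≤ C[E₁] := by
    by_contra g
    have sd := hE.sd31 hM (hE.E2_eq_bot hM fun i => g (by
      rw [← p3.cent d3 R0, i.cent d3 R0]; exact bot_le))
    obtain ⟨H, hH, n⟩ := exists_coatom_N_prime e
    have lE := ((hE.cyc3 hM).norm_sub d3 (tau3_norm hM hE.hE hE.h3)).trans n
    obtain ⟨-, i, j⟩ := cent_norm_tau13 hM hE.hE (Or.inr (hE.h3.pi.mem_of_card e d3 rfl))
      (d3.trans (hE.h3.le.trans hE.hE.le)) (pig_of_card' e rfl) hH n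
    have k0 : Mσ[M] ⊓ C[E₃] ≤ Mσ[M] ⊓ H := inf_le_inf_left _ ((centS d3).trans ((C_le_N R).trans n))
    have k : ∀ X ≤ E₁, X ≠ ⊥ → ¬ X ≤ C[Mσ[M] ⊓ H] := fun X x1 x2 x3 => g
      ((le_inf inf_le_left (cent_symm (x3.trans (centS k0)))).trans ((p1.cent x1 x2).le.trans inf_le_right))
    have l1 := hE.h1.le.trans lE
    have t : PiG τ1[H] E₁ := fun q hq x1 => by
      obtain ⟨X, x2, x3⟩ := exists_prime_sub hq x1
      exact by_contra fun x4 => k X x2 (ne_bot_of_prime (x3 ▸ hq))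
        (i X (le_inf (x2.trans hE.h1.le) (x2.trans l1)) (pig_of_card hq x3 x4))
    have s := (j fun x => k P a (ne_bot_of_prime b) ((le_inf (a.trans (hE.h1.le.trans hE.hE.le)) (a.trans l1)).trans
      (comm_eq_bot'.1 x))).1
    have u := (le_inf (le_Msigma hH ((normG R).trans n) (pig_of_card e rfl s)) (d.trans inf_le_right)).trans
      (((tau1_primact' hH l1 t).cent a (ne_bot_of_prime b)).le.trans inf_le_right)
    refine R0 (le_bot_iff.1 ((le_inf d3 ?_).trans (tau3_cent_compl hM hE.hE hE.h3).le))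
    rw [← sd.sup]; exact centY (d3.trans (hE.cyc3 hM).abel) u
  refine semiprime_of_prime_sub fun X x1 x2 => ?_
  have X0 := ne_bot_of_prime x2
  rcases hE.prime_cases hM x1 x2 with x3 | ⟨y, x3, x4⟩
  · rw [p3.cent x3 X0]; exact centY inf_le_right g
  · have y1 := (p1.cent x4 (by simpa using X0)).le.trans (centY f inf_le_right)
    have y2 := hE.hE.norm_Msigma (sup_le hE.h3.le hE.h1.le) x3
    rwa [← cj_of_mem_N y2, ← cj_C, ← cj_inf, cj_le_iff, cj_of_mem_N (normC (normG _) (inv_mem x3))] at y1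
theorem tau1_asym_facts (hM : IsCoatom M) (hH : IsCoatom H) (h : H ≠ M) (hp : p ∈ τ1[M]) (hP : #P = p)
    (h1 : P ≤ M ⊓ H) (hq : q.Prime) (hQ : Syl q Q (M ⊓ H)) (h2 : P ≤ N[Q]) (h4 : Q ⊓ C[P] = ⊥) (h6 : N[Q] ≤ H) :
    q ∉ α[M] ∧ Mβ[M] ⊓ C[P] ≠ ⊥ ∧ Mβ[M] ⊓ C[P ⊔ Q] = ⊥ ∧ IsProd Mβ[M] (M ⊓ H) M ∧ Q ≤ ⁅H, H⁆ := by
  have q0 := ne_bot_of_N_le hH h6
  have pP := pig_of_card' (tau1_prime hp) hP
  have ne : q ≠ p := fun e => PiG.meet_C (e ▸ hQ.pi) pP h2 q0 h4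
  have hQM : Syl q Q M := Syl.of_norm (hQ.sub (le_inf (hQ.le.trans inf_le_left) (normG Q)) (inf_le_inf_left _ h6)) hq
  obtain ⟨a, -, b, c, d⟩ := (cent_Malpha_reg_tau1 hM hp hq ne hP (h1.trans inf_le_left) q0 h2 h4
    fun u => h (u.uniq H hH h6)).2 hQM
  have e := (cop_cent_prod h2 (pP.coprime (hQ.pi.ne_compl ne)) (Or.inr hQ.pi.sol)).sup
  rw [h4, sup_bot_eq] at e
  have f := e.ge.trans (commS hQ.le h1)
  rw [a] at c d
  exact ⟨b, c, d, (Mbeta_frattini hM hq (hQM.sub (f.trans (derS inf_le_left)) (der_le M))).mono le_rfl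
    (inf_le_inf_left _ h6) (O_le _ _) inf_le_left, f.trans (derS inf_le_right)⟩
theorem tau1_asym_aux (hM : IsCoatom M) (hH : IsCoatom H) (h : ¬ Cjg M H) (hp : p ∈ τ1[M]) (hp' : p ∈ τ1[H])
    (hP : #P = p) (h1 : P ≤ M ⊓ H) (hQ : PiG {q} Q) (h2 : Q ≤ M) (a1 : q ∉ α[M]) (a2 : Mβ[M] ⊓ C[P] ≠ ⊥)
    (a3 : Mβ[M] ⊓ C[P ⊔ Q] = ⊥) (a4 : IsProd Mβ[M] (M ⊓ H) M) (a5 : Q ≤ ⁅H, H⁆) (b2 : Mβ[H] ⊓ C[P] ≠ ⊥)
    (hK : Hall π K C[P]) (k1 : β[M] ⊆ π) (k2 : β[H] ⊆ π) (hs : r ∈ β[M]) (k3 : O[{r}](K) ≠ ⊥) : False := by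
  have hp'' := tau1_prime hp
  have pP := pig_of_card' hp'' hP
  have P0 := ne_bot_of_prime (hP ▸ hp'' : (#P).Prime)
  have pM := h1.trans inf_le_left
  obtain ⟨S, hS⟩ := syl_exists (beta_prime hs) M
  obtain ⟨g, -, c⟩ := (sigma_syl_top (beta_sub_sigma hM hs) hS).sub_cj (beta_prime hs) le_top (O_pig {r} K)
  have hM' := coatom_cj' hM g
  have c1 := (O_norm _ _).trans (beta_norm_le hM' (c.trans (cj_mono g hS.le))
    (by rw [beta_cj]; exact (O_pig _ _).single_mono hs) k3)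
  obtain ⟨Y, y1, y2⟩ := exists_prime_sub' a2
  have bY : PiG β[M] Y := (O_pig _ _).of_le (y1.trans inf_le_left)
  obtain ⟨x, x1, x2⟩ := hK.cj_sub (sol_C P0) (y1.trans inf_le_right) (bY.mono' fun _ _ _ d => k1 d)
  have u := ((cent_der_sigma_uniq hM y2 rfl (y1.trans (inf_le_left.trans (O_le _ _)))
    (Or.inl (bY.mem_of_card y2 le_rfl rfl))).1.cj x).uniq _ hM' (by
      rw [cj_C]
      exact (C_le_N _).trans (beta_norm_le hM' (x2.trans c1) (by rw [beta_cj]; exact bY.cj x)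
        (by simpa using ne_bot_of_prime y2)))
  obtain ⟨t, ht, t1⟩ := exists_prime_dvd b2
  have t2 : t ∈ β[H] := O_pig _ _ t ht (t1.trans (cardS inf_le_left))
  have t3 : t ∉ σ[M] := (sigma_disjoint hH hM (not_cjg_symm h)).2.1 t (beta_sub_alpha H t2)
  have t4 : t ∣ #(M ⊓ N[P]) := by
    have d : cj x⁻¹ K ≤ M ⊓ N[P] :=
      le_inf (le_cj_iff.1 (u ▸ c1)) ((cj_le_of_mem hK.le (normG _ (inv_mem x1))).trans (C_le_N P))
    exact (hK.dvd ht (k2 t2) (t1.trans (cardS inf_le_right))).trans (by simpa using cardS d)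
  have p' : PiG {p}ᶜ Mβ[M] := (O_pig _ _).compl_single' fun d => tau1_sigma' hp (beta_sub_sigma hM d)
  have t5 := ((Nat.Prime.dvd_mul ht).1 (t4.trans
    (prod_norm_cop (Or.inl pP.sol) a4 (O_norm _ _) h1 (pP.coprime p')).card_dvd)).resolve_left fun d =>
      t3 (beta_sub_sigma hM (O_pig _ _ t ht (d.trans (cardS inf_le_left))))
  obtain ⟨R, r1, r2⟩ := exists_prime_sub ht t5
  have R' : (#R).Prime := r2 ▸ ht
  have rM := r1.trans (inf_le_left.trans inf_le_left)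
  have rH := r1.trans (inf_le_left.trans inf_le_right)
  have nP := r1.trans inf_le_right
  have bR := pig_of_card ht r2 t2
  have r3 : R ≤ C[P] := comm_eq_bot.1 (le_bot_iff.1 ((le_inf (commR nP) ((commS (le_Mbeta hH rH bR)
    (h1.trans inf_le_right)).trans (commL (O_norm _ _)))).trans (pP.inf_bot ((O_pig _ _).compl_single' fun d =>
      tau1_sigma' hp' (beta_sub_sigma hH d))).le))
  obtain ⟨E, hE, e⟩ := ex_sigma_compl hM (sup_le pM rM)
    (PiG.sup_l (pP.single_mono (tau1_sigma' hp)) (pig_of_card ht r2 t3) nP)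
  have r4 := (cent_tau1Elem_Msigma hM hE hp hP (le_sup_left.trans e) R' (le_inf (le_sup_right.trans e) r3)).trans
    ((C_le_N R).trans (beta_norm_le hH rH bR (ne_bot_of_prime R')))
  have bs := Mbeta_le_Msigma hM
  have r5 := cent_of_der_not_cjg hM hH h hQ a5 (K := Mβ[M] ⊓ H) (inf_le_left.trans bs) inf_le_right
    (normI (h2.trans (O_norm _ _)) (normsG (a5.trans (der_le H))))
    (PiG.of_le ((O_pig _ _).compl_single' fun d => a1 (beta_sub_alpha M d)) inf_le_left)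
  exact a2 (le_bot_iff.1 ((le_inf inf_le_left (centY inf_le_right
    ((le_inf inf_le_left ((inf_le_inf_right _ bs).trans r4)).trans (cent_symm r5)))).trans a3.le))
/-- BG 13.8 -/
theorem tau1_inf_asymmetry (hM : IsCoatom M) (hH : IsCoatom H) (h : ¬ Cjg M H) (hp : p ∈ τ1[M]) (hp' : p ∈ τ1[H])
    (hP : #P = p) (h1 : P ≤ M ⊓ H) (hq : q.Prime) (hQ : Syl q Q (M ⊓ H)) (hr : r.Prime) (hR : Syl r R (M ⊓ H))
    (h2 : P ≤ N[Q]) (h3 : P ≤ N[R]) (h4 : Q ⊓ C[P] = ⊥) (h5 : R ⊓ C[P] = ⊥) (h6 : N[Q] ≤ H) (h7 : N[R] ≤ M) :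
    False := by
  have ne := ne_of_not_cjg h
  have h1' : P ≤ H ⊓ M := inf_comm M H ▸ h1
  obtain ⟨a1, a2, a3, a4, a5⟩ := tau1_asym_facts hM hH ne hp hP h1 hq hQ h2 h4 h6
  obtain ⟨b1, b2, b3, b4, b5⟩ := tau1_asym_facts hH hM ne.symm hp' hP h1' hr (inf_comm M H ▸ hR) h3 h5 h7
  have P0 := ne_bot_of_prime (hP ▸ tau1_prime hp : (#P).Prime)
  obtain ⟨K, hK⟩ := hall_exists (β[M] ∪ β[H]) (sol_C P0)
  obtain ⟨t, ht, t1⟩ := exists_prime_dvd a2
  obtain ⟨s, hs, c⟩ := exists_prime_dvd (F_ne_bot ((sol_C P0).of_le hK.le) (hK.ne_bot ht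
    (Or.inl (O_pig _ _ t ht (t1.trans (cardS inf_le_left)))) (t1.trans (cardS inf_le_right))))
  have d := (F_nil K).O_ne_bot hs c (π := {s}) rfl
  rw [O_F] at d
  rcases hK.pi s hs (c.trans (cardS (F_le K))) with e | e
  · exact tau1_asym_aux hM hH h hp hp' hP h1 hQ.pi (hQ.le.trans inf_le_left) a1 a2 a3 a4 a5 b2 hK
      Set.subset_union_left Set.subset_union_right e d
  · exact tau1_asym_aux hH hM (not_cjg_symm h) hp' hp hP h1' hR.pi (hR.le.trans inf_le_right) b1 b2 b3 b4 b5 a2 hK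
      Set.subset_union_right Set.subset_union_left e d
theorem sigma_partition_aux (hM : IsCoatom M) (hH : IsCoatom H) (h : ¬ Cjg M H) (hE : Hall σ[M]ᶜ E M) (h1 : q ∈ σ[M])
    (h2 : q ∈ σ[H]) (hS : Syl q S Mσ[M]) (h3 : E ≤ N[S]) (h4 : S ≤ H) : False := by
  have hq := sigma_prime h1
  have hSM := (Msigma_hall hM).syl h1 hS
  have hSH := (sigma_syl_top h1 hSM).sub h4 le_top
  have n := norm_sigma_syl h2 hSH
  obtain ⟨E₁, E₂, E₃, a⟩ := ex_sigmaCompl hM hE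
  have e2 : E₂ = ⊥ := by_contra fun b => by
    obtain ⟨p, c, -⟩ := ex_tau2_of_ne hE a.h2 b
    exact ((sigma_disjoint hM hH h).2.2 (tau2_Msigma_nil hM c)).2 q h1 h2
  obtain ⟨P, b, c⟩ := exists_prime_sub' ((sigma_compl_context hM a).2.1 e2)
  have t := a.h1.pi.mem_of_card c b rfl
  have l := b.trans a.h1.le
  have d : S ⊓ C[P] = ⊥ := by_contra fun d => by
    obtain ⟨X, x1, x2⟩ := (hS.pi.of_le inf_le_left).exists_prime_sub d
    exact ne_of_not_cjg h (((cent_cent_Msigma_tau1_uniq hM hE a.h1 b (ne_bot_of_prime c) hq x2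
      (x1.trans (inf_le_inf_right _ hS.le))).2 S hS).uniq H hH h4)
  have lP := le_inf (l.trans hE.le) (l.trans (h3.trans n))
  have nc : ¬ P ≤ C[Mσ[M] ⊓ H] := fun e => sigma_syl_ne_bot h1 hSM
    (le_bot_iff.1 ((le_inf le_rfl (cent_symm (e.trans (centS (le_inf hS.le h4))))).trans d.le))
  have t' : #P ∈ τ1[H] := by_contra fun e => nc ((Msigma_inf_central hM hE hH c (cardS l)
    (cardS (lP.trans inf_le_right)) e (fun f => nc (lP.trans (comm_eq_bot'.1 f))) h).1 P lP (pig_of_card' c rfl))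
  have hS' := hSM.sub (le_inf hSM.le h4) inf_le_left
  exact tau1_inf_asymmetry hM hH h t t' rfl lP hq hS' hq hS' (l.trans h3) (l.trans h3) d d n (norm_sigma_syl h1 hSM)
/-- BG 13.9 -/
theorem sigma_partition (hM : IsCoatom M) (hH : IsCoatom H) (h : ¬ Cjg M H) : ∀ p ∈ σ[M], p ∉ σ[H] := fun q h1 h2 => by
  have hq := sigma_prime h1
  obtain ⟨E, hE⟩ := hall_exists σ[M]ᶜ (coatom_sol hM)
  obtain ⟨S, hS, a⟩ := cop_syl_exists (hE.norm_Msigma le_rfl) (hE.cop_Msigma le_rfl) (Or.inl (sol_of_le hM hE.le)) hq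
  obtain ⟨T, hT⟩ := syl_exists hq H
  obtain ⟨g, -, b⟩ := (sigma_syl_top h2 hT).sub_cj hq le_top hS.pi
  exact sigma_partition_aux hM (coatom_cj' hH g) (fun c => h (cjg_cj_right.1 c)) hE h1 (by rwa [sigma_cj]) hS a
    (b.trans (cj_mono g hT.le))
theorem cjg_of_sigma (hM : IsCoatom M) (hH : IsCoatom H) (h1 : p ∈ σ[M]) (h2 : p ∈ σ[H]) : Cjg M H := by
  by_contra h; exact sigma_partition hM hH h p h1 h2
/-- BG 13.10 -/
theorem tau13_regular (hM : IsCoatom M) (hE : SigmaCompl M E E₁ E₂ E₃) (hP : (#P).Prime) (h1 : P ≤ E₁)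
    (h2 : ¬ P ≤ C[E₃]) : Semireg E₃ E₁ ∧ Semireg Mσ[M] E₃ ∧ Mσ[M] ⊓ C[P] ≠ ⊥ := by
  have t := hE.h1.pi.mem_of_card hP h1 rfl
  have P0 := ne_bot_of_prime hP
  have l := h1.trans hE.h1.le
  have lM := l.trans hE.hE.le
  have n3 := tau3_norm hM hE.hE hE.h3
  have c3 := hE.cyc3 hM
  have co : (#P).Coprime #E₃ := (pig_of_card hP rfl t).coprime (hE.h3.pi.mono' fun _ _ _ a b => tau1_not_tau3 b a)
  obtain ⟨q, Q, hq, hQ, q1, q2⟩ := exists_syl_not_cent (l.trans n3) co (Or.inr c3.sol) h2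
  have q0 : Q ≠ ⊥ := fun e => q2 (by rw [e, C_bot]; exact le_top)
  have q3 : Q ⊓ C[P] = ⊥ := by_contra fun e => q2 ((c3.of_le hQ.le).cop_cent hQ.pi q1 (coprimeS co le_rfl hQ.le) e)
  have t3 := hQ.pi.mem_of_ne q0 (hE.h3.pi.of_le hQ.le)
  have hQM := hE.hE.syl (tau3_sigma' t3) (hE.h3.syl t3 hQ)
  obtain ⟨H, hH, n⟩ := exists_coatom_N q0 hQ.pi.ne_top
  have nc := norm_not_cjg hM hH hQ.pi hQM.le n (Or.inr (Or.inr t3))
  obtain ⟨a1, -, -, a2, a3⟩ := (cent_Malpha_reg_tau1 hM t hq (fun e => tau1_not_tau3 t (e ▸ t3)) rfl lM q0 q1 q3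
    fun u => tau13_not_N_le hM (Or.inr t3) hQ.pi u.le).2 hQM
  have as := Malpha_le_Msigma hM
  refine ⟨by_contra fun b => a2 (le_bot_iff.1 (le_trans (le_inf inf_le_left (centY inf_le_right ?_)) a3.le)),
    by_contra fun b => ?_, fun b => a2 (le_bot_iff.1 ((inf_le_inf_right _ as).trans b.le))⟩
  · exact (inf_le_inf_right _ as).trans (((tau13_primact_Msigma hM hE b).cent (h1.trans le_sup_right) P0).le.trans
      (inf_le_right.trans (centS (hQ.le.trans le_sup_left))))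
  have p3 := tau3_primact_Msigma hM hE.hE hE.h3
  obtain ⟨b1, b2, -⟩ := cent_norm_tau13 hM hE.hE (Or.inr t3) hQM.le hQ.pi hH n
  have lQ := le_inf hQM.le ((normG Q).trans n)
  have e1 : Mσ[M] ⊓ C[E₃] = Mσ[M] ⊓ H := by
    rw [← p3.cent hQ.le q0]
    exact le_antisymm (inf_le_inf_left _ ((C_le_N Q).trans n)) (le_inf inf_le_left (cent_symm (b1 Q lQ hQ.pi)))
  obtain ⟨u, hu, u1⟩ := exists_prime_dvd fun e => b (p3.semireg e)
  have su : u ∈ σ[M] := O_pig _ _ u hu (u1.trans (cardS inf_le_left))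
  obtain ⟨U, hU, u2⟩ := cop_syl_exists (normI (hE.hE.norm_Msigma l) (normC (l.trans n3)))
    (coprimeS (hE.hE.cop_Msigma l) le_rfl inf_le_left) (Or.inl (cyc_of_prime hP).sol) hu
  have U0 := hU.ne_bot' hu u1
  have uM := hU.le.trans (inf_le_left.trans (O_le _ _))
  have uH := hU.le.trans (e1.le.trans inf_le_right)
  have u3 := fun c => syl_cent_der_compl hM hE.hE c (tau3_le_der_compl hM hE.hE hE.h3.le hE.h3.pi) hU
  have u4 : U ⊓ C[P] = ⊥ := by_contra fun c => by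
    by_cases d : u ∈ β[M]
    · exact c (le_bot_iff.1 ((le_inf (inf_le_left.trans (le_Malpha hM uM (hU.pi.single_mono (beta_sub_alpha M d))))
        (centY inf_le_right (inf_le_left.trans (hU.le.trans (inf_le_right.trans (centS hQ.le)))))).trans a3.le))
    · obtain ⟨X, x1, x2⟩ := (hU.pi.of_le inf_le_left).exists_prime_sub c
      exact ne_of_not_cjg nc (((cent_cent_Msigma_tau1_uniq hM hE.hE hE.h1 h1 P0 hu x2
        (x1.trans (inf_le_inf_right _ (hU.le.trans inf_le_left)))).2 U (u3 d)).uniq H hH uH)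
  have t' : #P ∈ τ1[H] := by_contra fun c => U0 (le_bot_iff.1 ((le_inf le_rfl (cent_symm
    ((b2 P (le_inf l (q1.trans n)) (pig_of_card hP rfl c)).trans (centS (e1 ▸ hU.le))))).trans u4.le))
  have u5 : Syl u U (M ⊓ H) := by
    have := (Msigma_hall hM).norm_inf (inf_le_left : M ⊓ H ≤ M) (inf_le_left.trans (O_norm _ _))
    rw [← inf_assoc, inf_eq_left.2 (O_le _ _), ← e1] at this
    exact this.syl su hU
  refine tau1_inf_asymmetry hM hH nc t t' rfl (le_inf lM (q1.trans n)) hq (hQM.sub lQ inf_le_left) hu u5 q1 u2 q3 u4 n ?_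
  by_cases d : u ∈ β[M]
  · exact beta_norm_le hM uM (hU.pi.single_mono d) U0
  · exact norm_sigma_syl su ((Msigma_hall hM).syl su (u3 d))
/-- BG 13.11 -/
theorem tau13_nonregular (hM : IsCoatom M) (hE : SigmaCompl M E E₁ E₂ E₃) (h : ¬ Semireg Mσ[M] E₃) :
    E₁ ≠ ⊥ ∧ Sdprod E₃ E₁ E ∧ Semiprime Mσ[M] E ∧ ∀ X ≤ E, (#X).Prime → E ≤ N[X] := by
  have e2 := hE.E2_eq_bot hM h
  have a := (sigma_compl_context hM hE).2.1 e2
  have sd := hE.sd31 hM e2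
  have c : ∀ P ≤ E₁, (#P).Prime → P ≤ C[E₃] := fun P b d => by_contra fun e => h (tau13_regular hM hE d b e).2.1
  refine ⟨a, sd, sd.sup ▸ tau13_primact_Msigma hM hE fun b => ?_, fun X b d => ?_⟩
  · obtain ⟨P, d, e⟩ := exists_prime_sub' a
    have f := b.cent d (ne_bot_of_prime e)
    rw [inf_eq_left.2 (cent_symm (c P d e))] at f
    exact h (f ▸ semireg_bot_r _)
  rcases hE.prime_cases hM (b.trans sd.sup.ge) d with e | ⟨g, e, f⟩
  · exact (hE.cyc3 hM).norm_sub e sd.nl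
  · have i : E ≤ N[cj g X] := cents_norm (cent_symm (by
      rw [← sd.sup]; exact centY (c _ f (by simpa using d)) (f.trans (hE.cyc1 hM).abel)))
    rwa [← cj_of_mem (sd.sup.le e), norm_cj] at i
theorem tau2_p1_cent_umax (hM : IsCoatom M) (h : p ∈ τ2[M]) (hX : #X = p) (h1 : X ≤ M) (h2 : Mσ[M] ⊓ C[X] ≠ ⊥) :
    UMax C[X] M := by
  obtain ⟨E, hE, a⟩ := ex_sigma_compl hM h1 (pig_of_card (tau2_prime h) hX (tau2_sigma' h))
  obtain ⟨A, hA⟩ := ex_tau2Elem hE h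
  exact (tau2_compl_context hM hE h hA).2.2.1 X a hX h2
/-- BG 13.12 -/
theorem tau12_regular (hM : IsCoatom M) (hE : Hall σ[M]ᶜ E M) (hp : p ∈ τ1[M]) (hP : #P = p) (h1 : P ≤ E)
    (hq : q ∈ τ2[M]) (hA : PnElem q 2 A E) (h2 : A ⊓ C[P] ≠ ⊥) : Mσ[M] ⊓ C[P] = ⊥ := by
  by_contra a
  have hp' := tau1_prime hp
  have hq' := tau2_prime hq
  have P' : (#P).Prime := hP ▸ hp'
  have hAM := hA.mono hE.le
  have nA := tau2_norm hM hE hq hA
  have b : ¬ P ≤ C[A] := fun b => a (le_bot_iff.1 ((le_inf inf_le_left (tau1Elem_cent_abelem hM hE hp hP h1 hq' hA.ab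
    (le_inf hA.le (cent_symm b)))).trans (tau2_inf_cent hM hq hAM).le))
  obtain ⟨Y, y1, y2⟩ := ((hA.pig hq').of_le inf_le_left).exists_prime_sub h2
  have y3 := y1.trans inf_le_left
  have c := cent_tau1Elem_Msigma hM hE hp hP h1 (y2 ▸ hq') (y1.trans (inf_le_inf_right _ hA.le))
  have u := tau2_p1_cent_umax hM hq y2 (y3.trans hAM.le) fun e => a (le_bot_iff.1 ((le_inf inf_le_left c).trans e.le))
  obtain ⟨H, hH, n⟩ := exists_coatom_N (hA.ne_bot hq') (hA.pig hq').ne_top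
  have ne : H ≠ M := fun e => tau2_not_N_le hM hq hAM (e ▸ n)
  have lH := h1.trans (nA.trans n)
  have s := sigma_of_norm_tau2Elem hq' hA hH n
  have y4 : Y ≤ Mσ[H] ⊓ C[P] :=
    le_inf (le_Msigma hH (y3.trans ((normG A).trans n)) (pig_of_card hq' y2 s)) (y1.trans inf_le_right)
  have d : p ∣ (C[A]).relIndex E := by_contra fun d =>
    b (PiG.le_of_idx (pig_of_card' hp' hP) (normC nA) h1 ((pin_compl hp').2 d))
  rcases norm_tau2Elem_tau12 hM hE hq hA hH n p hp' d with e | e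
  · exact ne (u.eq (tau1_cent_uniq hH lH (pig_of_card hp' hP e) (ne_bot_of_prime P') hq' y2 y4).1)
  · have v := tau2_p1_cent_umax hH e hP lH fun f => ne_bot_of_prime (y2 ▸ hq') (le_bot_iff.1 (y4.trans f.le))
    exact a (le_bot_iff.1 ((inf_le_inf_left _ v.le).trans
      (tau2_inf_coatom hM hq hAM hH ((normG A).trans n) ne).le))
/-- BG 13.13 -/
theorem tau13_nonregular_sigma (hM : IsCoatom M) (hE : Hall σ[M]ᶜ E M) (hP : #P = p) (h1 : P ≤ E)
    (hp : p ∈ τ1[M] ∨ p ∈ τ3[M]) (h2 : Mσ[M] ⊓ C[P] ≠ ⊥) (hH : IsCoatom H) (h3 : N[P] ≤ H) : p ∈ σ[H] := by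
  have hp' : p.Prime := hp.elim tau1_prime tau3_prime
  have pP := pig_of_card' hp' hP
  have P0 := ne_bot_of_prime (hP ▸ hp' : (#P).Prime)
  refine (prime_class_norm hH hp' pP h3).resolve_right fun t2 => ?_
  obtain ⟨Q, q1, hq⟩ := exists_prime_sub' h2
  have u : UMax C[Q] M := by
    rcases hp with a | a
    · exact (tau1_cent_uniq hM (h1.trans hE.le) (pP.single_mono a) P0 hq rfl q1).1
    obtain ⟨E₁, E₂, E₃, b⟩ := ex_sigmaCompl hM hE
    obtain ⟨c, -, d, -⟩ := tau13_nonregular hM b fun c => h2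
      (c.cent (b.h3.le_of_normal (tau3_norm hM hE b.h3) (pP.single_mono a) h1) P0)
    exact (cent_cent_Msigma_tau1_uniq hM hE b.h1 le_rfl c hq rfl
      (by rwa [d.cent b.h1.le c, ← d.cent h1 P0])).1
  have nc := norm_not_cjg hM hH pP (h1.trans hE.le) h3 (Or.inr hp)
  have cP := q1.trans inf_le_right
  have lQ := cP.trans ((C_le_N P).trans h3)
  have s := sigma_partition hM hH nc _ (PiG.mem_of_card (O_pig _ _) hq (q1.trans inf_le_left) rfl)
  obtain ⟨F, hF, f⟩ := ex_sigma_compl hH (sup_le ((normG P).trans h3) lQ)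
    (PiG.sup_l (pP.single_mono (tau2_sigma' t2)) (pig_of_card hq rfl s) (cents_norm cP))
  obtain ⟨A, hA⟩ := ex_tau2Elem hF t2
  have lA := tau2_p1_le hH hF t2 hA (le_sup_left.trans f) hP
  have k : ¬ A ≤ C[Q] := fun a => by
    have := (hA.sub (a.trans u.le)).le_pRank hp'
    rw [hp.elim tau1_rank tau3_rank] at this
    omega
  have qF := le_sup_right.trans f
  rcases partition_pi_compl hH hF hq (cardS qF) with a | a | a
  · have b := le_inf lA (cent_symm cP)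
    obtain ⟨-, -, c, d⟩ := tau1_act_tau2 hH hF t2 hA a rfl qF
      (tau12_regular hH hF a rfl qF t2 hA fun e => P0 (le_bot_iff.1 (b.trans e.le))) fun e => k (comm_eq_bot.1 e)
    exact d (by rw [← eq_of_card_le b (by omega)]; exact (C_le_N P).trans h3)
  · obtain ⟨B, hB⟩ := ex_tau2Elem hF a
    exact k ((tau2_cent_tau2 hH hF t2 hA a hB).trans (centS (tau2_p1_le hH hF a hB qF rfl)))
  · exact k (tau2_cent_tau3 hH hF t2 hA qF (pig_of_card hq rfl a))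

end Cfsg.Agent.BG
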