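import Cfsg.Agent.BG.S13
/-!
Bender–Glauberman, section 14: definitions and 14.1–14.4.
-/
set_option autoImplicit false
set_option linter.unusedSectionVars false
set_option linter.unusedVariables false

namespace Cfsg.Agent.BG
open Subgroup PHom

variable {G : Type*} [Group G] [Finite G] [hG : MSO G]
variable {A A₀ B D E E₁ E₂ E₃ H K L M Mstar P Q R S T U V W X Y Z : Subgroup G} {x y g : G} {π ρ : Set ℕ}
  {p q r m n : ℕ}

section defs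
omit [Finite G] hG
/-- maximal subgroups of type `F` -/
structure TypeF (M : Subgroup G) : Prop where
  max : IsCoatom M
  kappa : κ[M] = ∅
/-- maximal subgroups of type `P` -/
structure TypeP (M : Subgroup G) : Prop where
  max : IsCoatom M
  kappa : κ[M].Nonempty
structure TypeP1 (M : Subgroup G) : Prop extends TypeP M where
  pi : PiG (σ[M] ∪ κ[M]) M
structure TypeP2 (M : Subgroup G) : Prop extends TypeP M where
  pi : ¬ PiG (σ[M] ∪ κ[M]) M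
/-- the factorization `M = M_σ U K` -/
structure KappaCompl (M U K : Subgroup G) : Prop where
  hK : Hall κ[M] K M
  hU : Hall (σ[M] ∪ κ[M])ᶜ U M
  norm : K ≤ N[U]
/-- `x` has `σ`-length one -/
def Ell1 (x : G) : Prop := x ≠ 1 ∧ ∃ M, IsCoatom M ∧ x ∈ Mσ[M]
/-- the signalizer `R(x)` -/
def Rx (x : G) : Subgroup G := ⨆ (L : Subgroup G) (_ : UMax C1[x] L ∧ x ∉ Mσ[L]), Mσ[L] ⊓ C1[x]
/-- the union of the cosets `x R(x)`, `x ∈ M_σ^#` -/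
def SigSupp (M : Subgroup G) : Set G := {g | ∃ x ∈ Mσ[M], x ≠ 1 ∧ x⁻¹ * g ∈ Rx x}
/-- the union of the conjugates of a subset -/
def ClS (A : Set G) : Set G := {g | ∃ y : G, ∃ a ∈ A, g = y * a * y⁻¹}
/-- the elements of `K K*` outside both factors -/
def Zhat (K L : Subgroup G) : Set G := (↑(K ⊔ L) : Set G) \ (↑K ∪ ↑L)
theorem typeF_or_typeP (hM : IsCoatom M) : TypeF M ∨ TypeP M :=
  (Set.eq_empty_or_nonempty _).imp (⟨hM, ·⟩) (⟨hM, ·⟩)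
theorem TypeF.not_typeP (h : TypeF M) : ¬ TypeP M := fun h2 => h2.kappa.ne_empty h.kappa
theorem TypeP.p1_or_p2 (h : TypeP M) : TypeP1 M ∨ TypeP2 M := (em _).imp (⟨h, ·⟩) (⟨h, ·⟩)
theorem Rx_le (x : G) : Rx x ≤ C1[x] := iSup₂_le fun _ _ => inf_le_right
theorem Rx_eq (h : UMax C1[x] L) (h2 : x ∉ Mσ[L]) : Rx x = Mσ[L] ⊓ C1[x] :=
  le_antisymm (iSup₂_le fun _ h3 => h.eq h3.1 ▸ le_rfl) (le_iSup₂_of_le L ⟨h, h2⟩ le_rfl)
theorem Rx_eq_bot (hM : IsCoatom M) (h : C1[x] ≤ M) (h2 : x ∈ Mσ[M]) : Rx x = ⊥ :=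
  le_bot_iff.1 (iSup₂_le fun _ h3 => absurd (h3.1.uniq M hM h ▸ h2) h3.2)
theorem kappa_prime (h : p ∈ κ[M]) : p.Prime := h.1
theorem kappa_dvd (h : p ∈ κ[M]) : p ∣ #M := h.2.1
theorem kappa_sigma' (h : p ∈ κ[M]) : p ∉ σ[M] := h.2.2.1
end defs
omit hG in
theorem card_clS_of {A : Set G} (h1 : ∀ g ∈ L, ∀ x ∈ A, g * x * g⁻¹ ∈ A) (h2 : ∀ g, ∀ x ∈ A, g * x * g⁻¹ ∈ A → g ∈ L) :
    (ClS A).ncard = A.ncard * L.index := by
  let f : A × (G ⧸ L) → G := fun z => z.2.out * z.1 * z.2.out⁻¹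
  have inj : Function.Injective f := fun ⟨a, u⟩ ⟨b, v⟩ e => by
    have e1 : v.out⁻¹ * u.out * a * (v.out⁻¹ * u.out)⁻¹ = b := by
      have : (b : G) = v.out⁻¹ * (v.out * b * v.out⁻¹) * v.out := by group
      rw [this, show v.out * b * v.out⁻¹ = u.out * a * u.out⁻¹ from e.symm]; group
    have e2 : v = u := by
      rw [← v.out_eq', ← u.out_eq', QuotientGroup.eq]; exact h2 _ _ a.2 (e1 ▸ b.2)
    subst e2
    exact Prod.ext (Subtype.ext (by simpa using e1)) rfl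
  have rg : Set.range f = ClS A := by
    ext g; constructor
    · rintro ⟨⟨a, u⟩, rfl⟩; exact ⟨_, _, a.2, rfl⟩
    · rintro ⟨y, a, ha, rfl⟩
      obtain ⟨l, e⟩ := QuotientGroup.mk_out_eq_mul L y
      refine ⟨(⟨_, h1 _ (inv_mem l.2) a ha⟩, (y : G ⧸ L)), ?_⟩
      simp only [f, e]; group
  rw [← rg, ← Nat.card_coe_set_eq, Nat.card_range_of_injective inj, Nat.card_prod, Nat.card_coe_set_eq]
  rfl
omit hG in
theorem NTI.card_clS {A : Set G} (h : NTI A L) : (ClS A).ncard = A.ncard * L.index := by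
  exact card_clS_of h.norm h.ti
omit hG in
theorem cj_Rx (g x : G) : cj g (Rx x) = Rx (g * x * g⁻¹) := by
  have key : ∀ g x : G, cj g (Rx x) ≤ Rx (g * x * g⁻¹) := fun g x => by
    rw [cj_le_iff]
    refine iSup₂_le fun L h => ?_
    rw [← cj_le_iff, cj_inf, cj_Msigma, cj_C1]
    exact le_iSup₂_of_le (cj g L) ⟨cj_C1 g x ▸ h.1.cj g, by rw [← cj_Msigma, mem_cj_conj]; exact h.2⟩ le_rfl
  refine le_antisymm (key g x) (le_cj_iff.2 ?_)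
  have := key g⁻¹ (g * x * g⁻¹)
  rwa [show g⁻¹ * (g * x * g⁻¹) * g⁻¹⁻¹ = x by group] at this
theorem mem_kappa : p ∈ κ[M] ↔ (p ∈ τ1[M] ∨ p ∈ τ3[M]) ∧ ∃ P ≤ M, #P = p ∧ Mσ[M] ⊓ C[P] ≠ ⊥ := by
  constructor
  · rintro ⟨hp, hd, hσ, h⟩
    have := Fact.mk hp
    obtain ⟨S⟩ : Nonempty (Sylow p M) := inferInstance
    obtain ⟨a, x, hx, hx1, y, hy, hy1, e⟩ := h S
    have hS := syl_map hp S
    have r1 := ((cyc_map_inj M.subtype_injective).2 a).pRank_le hp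
    rw [hS.pRank hp] at r1
    have r2 := (pRank_pos_iff hp).2 hd
    refine ⟨(em _).symm.imp (fun c => mem_tau1.2 ⟨hp, hσ, by omega, c⟩) fun c => mem_tau3.2 ⟨hp, hσ, by omega, c⟩, ?_⟩
    have l : zpowers (x : G) ≤ (S : Subgroup M).map M.subtype := zpowers_le.2 ⟨x, hx, rfl⟩
    obtain ⟨P, b, c⟩ := (hS.pi.of_le l).exists_prime_sub (by simpa using hx1)
    exact ⟨P, (b.trans l).trans hS.le, c, ne_bot_of_mem (mem_inf.2 ⟨hy, centS b (by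
      rw [C_zpowers]; exact mem_C1'.2 e)⟩) hy1⟩
  · rintro ⟨h, P, a, b, c⟩
    have hp : p.Prime := h.elim (·.1) (·.1)
    refine ⟨hp, b ▸ cardS a, h.elim tau1_sigma' tau3_sigma', fun S => ?_⟩
    have hS := syl_map hp S
    refine ⟨(cyc_map_inj M.subtype_injective).1 (odd_pgroup_rank1_cyc hS.pi (mso_odd _)
      (by rw [hS.pRank hp, h.elim tau1_rank tau3_rank])), ?_⟩
    obtain ⟨g, hg, d⟩ := hS.cj_sub hp a (pig_of_card' hp b)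
    obtain ⟨x, hx, hx1⟩ := exists_mem_ne_one (ne_bot_of_prime (A := cj g P) (by rw [card_cj, b]; exact hp))
    obtain ⟨y, hy, hy1⟩ := exists_mem_ne_one (A := Mσ[M] ⊓ C[cj g P]) (by
      rwa [← cj_of_mem_N (O_norm σ[M] M hg), ← cj_C, ← cj_inf, Ne, cj_eq_bot])
    obtain ⟨x, hx2, rfl⟩ := d hx
    exact ⟨x, hx2, fun e => hx1 (by simp [e]), y, hy.1, hy1, mem_C.1 hy.2 _ hx⟩
theorem kappa_cj (g : G) (M : Subgroup G) : κ[cj g M] = κ[M] := by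
  have key : ∀ (g : G) (M : Subgroup G), κ[M] ⊆ κ[cj g M] := fun g M p h => by
    obtain ⟨a, P, b, c, d⟩ := mem_kappa.1 h
    exact mem_kappa.2 ⟨by rwa [tau1_cj, tau3_cj], cj g P, cj_mono g b, by rwa [card_cj], by
      rwa [← cj_Msigma, ← cj_C, ← cj_inf, Ne, cj_eq_bot]⟩
  exact Set.Subset.antisymm (by simpa using key g⁻¹ (cj g M)) (key g M)
protected theorem TypeF.cj (h : TypeF M) (g : G) : TypeF (cj g M) := ⟨coatom_cj' h.max g, by rw [kappa_cj]; exact h.kappa⟩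
protected theorem TypeP.cj (h : TypeP M) (g : G) : TypeP (cj g M) := ⟨coatom_cj' h.max g, by rw [kappa_cj]; exact h.kappa⟩
protected theorem TypeP1.cj (h : TypeP1 M) (g : G) : TypeP1 (cj g M) :=
  ⟨h.toTypeP.cj g, by rw [kappa_cj, sigma_cj]; exact h.pi.cj g⟩
protected theorem TypeP2.cj (h : TypeP2 M) (g : G) : TypeP2 (cj g M) :=
  ⟨h.toTypeP.cj g, by rw [kappa_cj, sigma_cj, pig_cj]; exact h.pi⟩
theorem kappa_tau13 (h : p ∈ κ[M]) : p ∈ τ1[M] ∨ p ∈ τ3[M] := (mem_kappa.1 h).1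
theorem kappa_rank (h : p ∈ κ[M]) : r[p](M) = 1 := (kappa_tau13 h).elim tau1_rank tau3_rank
theorem kappa_tau2' (h : p ∈ κ[M]) : p ∉ τ2[M] := (kappa_tau13 h).elim tau1_not_tau2 tau3_not_tau2
theorem kappa_sub_sigma' (M : Subgroup G) : κ[M] ⊆ σ[M]ᶜ := fun _ h => kappa_sigma' h
theorem Cjg.sigma (h : Cjg M H) : σ[H] = σ[M] := by obtain ⟨g, rfl⟩ := h; exact sigma_cj g M
theorem Cjg.kappa (h : Cjg M H) : κ[H] = κ[M] := by obtain ⟨g, rfl⟩ := h; exact kappa_cj g M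
theorem not_cjg_of_sigma (h1 : p ∉ σ[M]) (h2 : p ∈ σ[H]) : ¬ Cjg M H := fun h => h1 (h.sigma ▸ h2)
theorem sigma_pig' (hM : IsCoatom M) (hH : IsCoatom H) (h : ¬ Cjg M H) (hX : PiN σ[M] n) : PiN σ[H]ᶜ n :=
  hX.mono (sigma_partition hM hH h)
theorem kappa_nonregular (h : p ∈ κ[M]) (hP : #P = p) (h1 : P ≤ M) : Mσ[M] ⊓ C[P] ≠ ⊥ := by
  obtain ⟨-, Q, a, b, c⟩ := mem_kappa.1 h
  have hp := h.1
  obtain ⟨S, hS, d⟩ := syl_superset hp h1 (pig_of_card' hp hP)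
  obtain ⟨g, hg, e⟩ := hS.cj_sub hp a (pig_of_card' hp b)
  have := (odd_pgroup_rank1_cyc hS.pi (mso_odd _) (by rw [hS.pRank hp, kappa_rank h])).eq_of_card d e
    (by rw [card_cj, hP, b])
  rwa [this, ← cj_of_mem_N (O_norm σ[M] M hg), ← cj_C, ← cj_inf, Ne, cj_eq_bot]
omit hG in
theorem typeP_iff (hM : IsCoatom M) (hK : Hall κ[M] K M) : TypeP M ↔ K ≠ ⊥ := by
  refine ⟨fun h => ?_, fun h => ?_⟩
  · obtain ⟨p, hp⟩ := h.kappa
    exact hK.ne_bot hp.1 hp hp.2.1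
  · obtain ⟨p, a, b⟩ := exists_prime_dvd h
    exact ⟨hM, p, hK.pi p a b⟩
omit hG in
theorem typeF_iff (hM : IsCoatom M) (hK : Hall κ[M] K M) : TypeF M ↔ K = ⊥ := by
  exact ⟨fun h => by_contra fun c => h.not_typeP ((typeP_iff hM hK).2 c),
    fun h => (typeF_or_typeP hM).resolve_right fun c => (typeP_iff hM hK).1 c h⟩
omit hG in
theorem KappaCompl.eq_bot_iff (h : KappaCompl M U K) : U = ⊥ ↔ PiG (σ[M] ∪ κ[M]) M := by
  rw [h.hU.eq_bot_iff, compl_compl]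
theorem TypeF.not_pig (h : TypeF M) : ¬ PiG (σ[M] ∪ κ[M]) M := by
  rw [h.kappa, Set.union_empty]
  exact fun c => ((coatom_sol h.max).der_lt (coatom_ne_bot h.max)).not_ge ((O_eq_self c).ge.trans (Msigma_le_der h.max))
/-- BG 14.1 -/
theorem sigma'_kappa'_facts (hM : IsCoatom M) (hp : p.Prime) (hS : Syl p S M) (h1 : p ∣ #M) (h2 : p ∉ σ[M])
    (h3 : p ∉ κ[M]) : (TypeF M ∨ TypeP2 M) ∧ #Ω[p](S) ∣ p ^ 2 ∧ Mσ[M] ⊓ C[Ω[p](S)] = ⊥ ∧ Nil Mσ[M] := by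
  refine ⟨(typeF_or_typeP hM).imp id fun h => ⟨h, fun c => (c p hp h1).elim h2 h3⟩, ?_⟩
  by_cases t2 : p ∈ τ2[M]
  · obtain ⟨A, hA⟩ := exists_pnElem hp (n := 2) (H := S) (by rw [hS.pRank hp, tau2_rank t2])
    obtain ⟨a, -, b, -⟩ := tau2_context hM t2 (hA.mono hS.le)
    rw [((a S hS).2 hA.le).1, hA.card]
    exact ⟨dvd_rfl, b, tau2_Msigma_nil hM t2⟩
  have t13 : p ∈ τ1[M] ∨ p ∈ τ3[M] := by have := partition_pi hM hp h1; tauto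
  have c := (odd_pgroup_rank1_cyc hS.pi (mso_odd _) (by rw [hS.pRank hp, t13.elim tau1_rank tau3_rank])).card_Om hp
    (hS.dvd hp rfl h1)
  have l := (Om_le p S).trans hS.le
  have d : Mσ[M] ⊓ C[Ω[p](S)] = ⊥ := by_contra fun d => h3 (mem_kappa.2 ⟨t13, _, l, c, d⟩)
  exact ⟨by rw [c]; exact dvd_pow_self p two_ne_zero, d,
    prime_frob_nil (sol_of_le hM (O_le _ _)) (l.trans (O_norm _ _)) (by rw [c]; exact hp) d⟩
theorem notP1_Msigma_nil (h : TypeF M ∨ TypeP2 M) : Nil Mσ[M] := by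
  have hM : IsCoatom M := h.elim (·.max) (·.max)
  have : ¬ PiG (σ[M] ∪ κ[M]) M := h.elim (·.not_pig) (·.pi)
  unfold PiG PiN Core.IsPiNum at this
  push Not at this
  obtain ⟨p, a, b, c⟩ := this
  obtain ⟨S, hS⟩ := syl_exists a M
  exact (sigma'_kappa'_facts hM a hS b (fun h => c (Or.inl h)) fun h => c (Or.inr h)).2.2.2
theorem kappa_cases (hM : IsCoatom M) (hE : Hall σ[M]ᶜ E M) (hK : Hall κ[M] K M) (h1 : K ≤ E) (h0 : K ≠ ⊥) :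
    Semiprime Mσ[M] K ∧ (∀ X ≤ K, (#X).Prime → K ≤ N[X]) ∧ (∃ E₁, Hall τ1[M] E₁ E ∧ E₁ ≤ K ∧ E₁ ≠ ⊥) ∧
      (Abel K → PiG τ1[M] K) ∧ ∃ U, Sdprod U K E ∧ PiG κ[M]ᶜ U ∧ Semireg U K := by
  have key : ∀ D ≤ E, Semiprime Mσ[M] D → Mσ[M] ⊓ C[D] ≠ ⊥ → PiG (τ1[M] ∪ τ3[M]) D → K ≤ D → D = K :=
    fun D a b c d e => hK.max (fun s hs hd => by
      obtain ⟨Y, x, y⟩ := exists_prime_sub hs hd
      exact mem_kappa.2 ⟨d s hs hd, Y, (x.trans a).trans hE.le, y, by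
        rwa [b.cent x (ne_bot_of_prime (y ▸ hs))]⟩) (a.trans hE.le) e
  by_cases c : ∃ p ∈ κ[M], p ∈ τ3[M]
  · obtain ⟨p, c1, c2⟩ := c
    obtain ⟨E₁, E₂, E₃, h⟩ := ex_sigmaCompl hM hE
    obtain ⟨X, x, y⟩ := exists_prime_sub c1.1 (h.h3.dvd c1.1 c2 (hE.dvd c1.1 (kappa_sigma' c1) c1.2.1))
    have X0 := ne_bot_of_prime (y ▸ c1.1)
    have z := kappa_nonregular c1 y ((x.trans h.h3.le).trans hE.le)
    obtain ⟨a, b, d, e⟩ := tau13_nonregular hM h fun r => z (r.cent x X0)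
    obtain rfl := key E le_rfl d (d.cent (x.trans h.h3.le) X0 ▸ z)
      (b.prod.pig (h.h3.pi.mono Set.subset_union_right) (h.h1.pi.mono Set.subset_union_left)) h1
    refine ⟨d, e, ⟨E₁, h.h1, h.h1.le, a⟩, fun ab => absurd ?_ X0, ⊥, ⟨bot_sup_eq _, bot_inf_eq _, norm_bot _⟩,
      pig_bot _, semireg_bot_l _⟩
    exact le_bot_iff.1 ((sigma_compl_context hM h).2.2.2.2 ▸ le_inf x ((x.trans h.h3.le).trans ab))
  push Not at c
  have t1 : PiG τ1[M] K := hK.pi.mono fun p hp => (kappa_tau13 hp).resolve_right (c p hp)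
  obtain ⟨E₁, a1, l⟩ := hall_superset (sol_of_le hM hE.le) h1 t1
  obtain ⟨-, E₃, -, a3⟩ := ex_tau13_compl hM hE
  obtain ⟨E₂, h⟩ := ex_tau2_compl hM hE a1 a3
  have sp := tau1_primact_Msigma hM hE a1
  obtain ⟨X, x, y⟩ := exists_prime_sub' h0
  have z := kappa_nonregular (hK.pi.mem_of_card y x rfl) rfl (x.trans hK.le)
  rw [sp.cent (x.trans l) (ne_bot_of_prime y)] at z
  obtain rfl := key E₁ a1.le sp z (a1.pi.mono Set.subset_union_left) l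
  obtain ⟨⟨-, n3⟩, -, ⟨cy, -⟩, ⟨s1, -, s2, s3⟩, -⟩ := sigma_compl_context hM h
  have r1 : Semireg Mσ[M] E₃ := semireg_of_prime_sub fun Y a b => by_contra fun d =>
    c _ (mem_kappa.2 ⟨Or.inr (a3.pi.mem_of_card b a rfl), Y, (a.trans a3.le).trans hE.le, rfl, d⟩)
      (a3.pi.mem_of_card b a rfl)
  have r2 : Semireg E₃ E₁ := by_contra fun d => by
    have e0 : E₃ ≠ ⊥ := fun e => d (e ▸ semireg_bot_l _)
    have := tau13_primact_Msigma hM h d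
    exact z (by rw [this.cent le_sup_right h0, ← this.cent le_sup_left e0, r1.cent le_rfl e0])
  have r3 : Semireg E₂ E₁ := semireg_of_prime_sub fun Y a b => by_contra fun d => by
    obtain ⟨W, w1, w2⟩ := exists_prime_sub' d
    have t2 := h.h2.pi.mem_of_card w2 (w1.trans inf_le_left) rfl
    obtain ⟨A, hA⟩ := ex_tau2Elem hE t2
    have := tau12_regular hM hE (a1.pi.mem_of_card b a rfl) rfl (a.trans a1.le) t2 hA fun e => ne_bot_of_prime w2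
      (le_bot_iff.1 (e ▸ le_inf ((tau2_compl_context hM hE t2 hA).1.2 W ((w1.trans inf_le_left).trans h.h2.le) rfl)
        (w1.trans inf_le_right)))
    exact z (sp.cent a (ne_bot_of_prime b) ▸ this)
  refine ⟨sp, fun X a _ => abel_norm cy.abel a, ⟨E₁, a1, le_rfl, h0⟩, fun _ => t1, _, s3,
    s2.prod.pig (a3.pi.mono fun p hp hk => c p hk hp) (h.h2.pi.mono fun p hp hk => kappa_tau2' hk hp),
    semireg_of_prime_sub fun Y a b => ?_⟩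
  rw [← (cop_mul_cent ((a.trans a1.le).trans n3) (a.trans s1.norm) s2.prod (by rw [s2.inf, card_bot]; simp)
    (Or.inl (cyc_of_prime b).sol)).sup, r2.cent a (ne_bot_of_prime b), r3.cent a (ne_bot_of_prime b), bot_sup_eq]
/-- BG 14.2(a) -/
theorem ex_kappa_compl (hM : IsCoatom M) (hK : Hall κ[M] K M) : ∃ U, KappaCompl M U K := by
  by_cases h0 : K = ⊥
  · obtain ⟨U, hU⟩ := hall_exists (σ[M] ∪ κ[M])ᶜ (coatom_sol hM)
    exact ⟨U, hK, hU, h0 ▸ bot_le⟩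
  obtain ⟨E, hE, h1⟩ := ex_sigma_compl hM hK.le (hK.pi.mono (kappa_sub_sigma' M))
  obtain ⟨-, -, -, -, U, a, b, -⟩ := kappa_cases hM hE hK h1 h0
  refine ⟨U, hK, Hall.trans ⟨a.left, fun p x y z => z.elim (hE.pi p x (y.trans (cardS a.left))) (b p x y), ?_⟩ hE
    (Set.compl_subset_compl.2 Set.subset_union_left), a.norm⟩
  rw [a.relIndex_l, compl_compl]; exact hK.pi.mono Set.subset_union_right
theorem KappaCompl.sigma' (h : KappaCompl M U K) : PiG σ[M]ᶜ U :=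
  h.hU.pi.mono (Set.compl_subset_compl.2 Set.subset_union_left)
theorem KappaCompl.kappa' (h : KappaCompl M U K) : PiG κ[M]ᶜ U :=
  h.hU.pi.mono (Set.compl_subset_compl.2 Set.subset_union_right)
theorem KappaCompl.sd (h : KappaCompl M U K) : Sdprod U K (U ⊔ K) := sdprod_sup (h.kappa'.inf_bot' h.hK.pi) h.norm
theorem KappaCompl.hall (h : KappaCompl M U K) : Hall σ[M]ᶜ (U ⊔ K) M :=
  ⟨sup_le h.hU.le h.hK.le, h.sd.prod.pig h.sigma' (h.hK.pi.mono (kappa_sub_sigma' M)), fun p a b c =>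
    h.hU.idx p a (b.trans (relIndex_dvd_left le_sup_left M)) fun d =>
      d.elim c (h.hK.idx p a (b.trans (relIndex_dvd_left le_sup_right M)))⟩
theorem kappa_compl_context (hM : IsCoatom M) (h : KappaCompl M U K) :
    Hall σ[M]ᶜ (U ⊔ K) M ∧ Sdprod U K (U ⊔ K) ∧ Semiprime Mσ[M] K ∧ Semireg U K ∧ (K ≠ ⊥ → Abel U) := by
  refine ⟨h.hall, h.sd, ?_⟩
  by_cases h0 : K = ⊥
  · rw [h0]; exact ⟨semiprime_bot_r _, semireg_bot_r _, fun c => absurd rfl c⟩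
  obtain ⟨a, -, -, -, V, b, c, d⟩ := kappa_cases hM h.hall h.hK le_sup_right h0
  have r := d.mono ((b.hall_l c h.hK.pi.compl_compl).le_of_normal b.nl h.kappa' le_sup_left) le_rfl
  exact ⟨a, r, fun _ => sigma'_nil_abel hM h.hU.le h.sigma' (r.nil (sol_of_le hM h.hU.le) h.norm h0)⟩
theorem TypeP.ne_bot (hM : TypeP M) (hK : Hall κ[M] K M) : K ≠ ⊥ := (typeP_iff hM.max hK).1 hM
theorem TypeP.semiprime (hM : TypeP M) (hK : Hall κ[M] K M) : Semiprime Mσ[M] K := by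
  obtain ⟨U, h⟩ := ex_kappa_compl hM.max hK
  exact (kappa_compl_context hM.max h).2.2.1
theorem TypeP.norm_prime (hM : TypeP M) (hK : Hall κ[M] K M) (h1 : X ≤ K) (h2 : (#X).Prime) : K ≤ N[X] := by
  obtain ⟨U, h⟩ := ex_kappa_compl hM.max hK
  exact (kappa_cases hM.max h.hall hK le_sup_right (hM.ne_bot hK)).2.1 X h1 h2
theorem TypeP.inf_N (hM : TypeP M) (hK : Hall κ[M] K M) (h1 : X ≤ K) (h2 : X ≠ ⊥) (h3 : K ≤ N[X]) :
    M ⊓ N[X] = K ⊔ (Mσ[M] ⊓ C[K]) := by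
  obtain ⟨U, h⟩ := ex_kappa_compl hM.max hK
  obtain ⟨a, b, c, d, -⟩ := kappa_compl_context hM.max h
  have sX := sol_of_le hM.max (h1.trans hK.le)
  have e := (prod_norm_cop (Or.inl sX) b.prod b.nl h1 ((hK.pi.of_le h1).coprime h.kappa')).sup
  rw [d.cent h1 h2, bot_sup_eq, inf_eq_left.2 h3] at e
  rw [← (prod_norm_cop (Or.inl sX) (sdprod_sigma hM.max a).prod (O_norm _ _) (h1.trans le_sup_right)
    (a.cop_Msigma (h1.trans le_sup_right))).sup, ← e, c.cent h1 h2, sup_comm]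
theorem TypeP.dprod (hM : TypeP M) (hK : Hall κ[M] K M) : Dprod K (Mσ[M] ⊓ C[K]) (K ⊔ (Mσ[M] ⊓ C[K])) :=
  ⟨rfl, PiG.inf_bot' (hK.pi.mono (kappa_sub_sigma' M)) ((O_pig _ _).of_le inf_le_left), inf_le_right⟩
theorem TypeP.le_Msigma (hM : TypeP M) (hK : Hall κ[M] K M) (h1 : X ≤ K) (h2 : (#X).Prime) (hH : IsCoatom H)
    (h3 : N[X] ≤ H) : X ≤ Mσ[H] := by
  obtain ⟨U, h⟩ := ex_kappa_compl hM.max hK
  have k := hK.pi.mem_of_card h2 h1 rfl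
  exact BG.le_Msigma hH ((normG X).trans h3) (pig_of_card h2 rfl (tau13_nonregular_sigma hM.max h.hall rfl
    (h1.trans le_sup_right) (kappa_tau13 k) (kappa_nonregular k rfl (h1.trans hK.le)) hH h3))
theorem TypeP.star_ne_bot (hM : TypeP M) (hK : Hall κ[M] K M) : Mσ[M] ⊓ C[K] ≠ ⊥ := by
  obtain ⟨X, a, b⟩ := exists_prime_sub' (hM.ne_bot hK)
  rw [← (hM.semiprime hK).cent a (ne_bot_of_prime b)]
  exact kappa_nonregular (hK.pi.mem_of_card b a rfl) rfl (a.trans hK.le)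
theorem TypeP.star_uniq (hM : TypeP M) (hK : Hall κ[M] K M) (h1 : X ≤ Mσ[M] ⊓ C[K]) (h2 : (#X).Prime) :
    UMax C[X] M ∧ ∀ S, Syl #X S Mσ[M] → UMax S M := by
  obtain ⟨U, h⟩ := ex_kappa_compl hM.max hK
  obtain ⟨-, -, ⟨E₁, a, b, c⟩, -⟩ := kappa_cases hM.max h.hall hK le_sup_right (hM.ne_bot hK)
  exact cent_cent_Msigma_tau1_uniq hM.max h.hall a le_rfl c h2 rfl (h1.trans (inf_le_inf_left _ (centS b)))
theorem TypeP.star_ti (hM : TypeP M) (hK : Hall κ[M] K M) (hg : g ∉ M) : Mσ[M] ⊓ C[K] ⊓ cj g M = ⊥ := by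
  by_contra c
  obtain ⟨X, a, b⟩ := exists_prime_sub' c
  have l := a.trans (inf_le_left.trans inf_le_left)
  exact hg ((cent_uniq_sigma hM.max ((O_pig _ _).mem_of_card b l rfl) (pig_of_card' b rfl) (l.trans (O_le _ _))
    (hM.star_uniq hK (a.trans inf_le_left) b).1.le).2 g (a.trans inf_le_right))
theorem TypeP.kappa_ti (hM : TypeP M) (hK : Hall κ[M] K M) (hg : g ∈ M) (h : K ⊓ cj g K ≠ ⊥) : g ∈ N[K] := by
  obtain ⟨X, a, b⟩ := exists_prime_sub' h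
  have c : cj g K ≤ N[X] := by
    have := hM.norm_prime hK (le_cj_iff.1 (a.trans inf_le_right)) (by rwa [card_cj])
    rwa [← norm_cj (g := g), cj_cj_inv] at this
  have l := (hK.cj_mem hg).le
  refine mem_N_of_cj_le (hK.le_of_norm (hK.pi.cj g) l ((le_inf l c).trans ?_))
  rw [hM.inf_N hK (a.trans inf_le_left) (ne_bot_of_prime b) (hM.norm_prime hK (a.trans inf_le_left) b)]
  exact (hM.dprod hK).nl
theorem TypeP.le_of_meet (hM : TypeP M) (hK : Hall κ[M] K M) (hY : PiG σ[M] Y) (h : Y ⊓ (Mσ[M] ⊓ C[K]) ≠ ⊥) :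
    Y ≤ Mσ[M] := by
  obtain ⟨x, a⟩ := sigma_cj_le hM.max hY
  rw [cj_le_iff] at a
  have : x⁻¹ ∈ M := by_contra fun c => h (le_bot_iff.1 (hM.star_ti hK c ▸ le_inf inf_le_right
    (inf_le_left.trans (a.trans (cj_mono _ (O_le _ _))))))
  rwa [cj_of_mem_N (O_norm _ _ this)] at a
theorem KappaCompl.cent_eq_bot (hM : IsCoatom M) (h : KappaCompl M U K) (h0 : U ≠ ⊥) : Mσ[M] ⊓ C[U] = ⊥ := by
  obtain ⟨p, a, b⟩ := exists_prime_dvd h0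
  obtain ⟨S, hS⟩ := syl_exists a U
  have c := h.hU.pi p a b
  exact le_bot_iff.1 ((sigma'_kappa'_facts hM a (h.hU.syl c hS) (b.trans (cardS h.hU.le)) (fun d => c (Or.inl d))
    fun d => c (Or.inr d)).2.2.1 ▸ inf_le_inf_left _ (centS ((Om_le _ _).trans hS.le)))
theorem KappaCompl.comm_eq (hM : IsCoatom M) (h : KappaCompl M U K) (h0 : K ≠ ⊥) : ⁅U, K⁆ = U := by
  have := (cop_cent_prod h.norm (h.hK.pi.coprime h.kappa') (Or.inl (sol_of_le hM h.hK.le))).sup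
  rwa [(kappa_compl_context hM h).2.2.2.1.cent le_rfl h0, sup_bot_eq] at this
theorem TypeP2.facts (hM : TypeP2 M) (hK : Hall κ[M] K M) :
    σ[M] = β[M] ∧ (#K).Prime ∧ Nil Mσ[M] ∧ NTI ((Mσ[M] : Set G) \ {1}) M := by
  have hm := hM.max
  obtain ⟨U, h⟩ := ex_kappa_compl hm hK
  obtain ⟨a, b, c, d, -⟩ := kappa_compl_context hm h
  have U0 : U ≠ ⊥ := fun e => hM.pi (h.eq_bot_iff.1 e)
  have K0 := hM.toTypeP.ne_bot hK
  have e := h.cent_eq_bot hm U0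
  obtain ⟨H, f, k⟩ := der_compl_cent_beta' hm a
  have : H = ⊥ := le_bot_iff.1 (e ▸ le_inf f.le (cent_symm ((h.comm_eq hm K0).ge.trans
    ((commS le_sup_left le_sup_right).trans k))))
  have pb : PiG β[M] Mσ[M] := by simpa using f.eq_bot_iff.1 this
  refine ⟨Set.Subset.antisymm (fun p hp => pb p hp.1 ((Msigma_hall hm).dvd hp.1 hp (sigma_dvd hp))) (beta_sub_sigma hm),
    (frob_primact ⟨b, U0, K0, d⟩ (sol_of_le hm a.le) (mso_odd _) (a.norm_Msigma le_rfl) (sol_of_le hm (O_le _ _))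
      (Msigma_ne_bot hm) (a.cop_Msigma le_rfl) e c).1, notP1_Msigma_nil (Or.inr hM), ?_, ?_, ?_⟩
  · obtain ⟨x, x1, x2⟩ := exists_mem_ne_one (Msigma_ne_bot hm); exact ⟨x, x1, x2⟩
  · exact fun g hg x hx => ⟨conj_mem (O_norm _ _ hg) hx.1, by simpa using hx.2⟩
  · refine fun g x hx hy => by_contra fun n => hy.2 ?_
    have := PiG.eq_bot (pb.of_le inf_le_left) ((sigma_compl_embedding hm a).2.2 g n).2.1
    exact mem_bot.1 (this ▸ mem_inf.2 ⟨hy.1, mem_cj_conj.2 (O_le _ _ hx.1)⟩)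
/-- BG 14.2(b–g) -/
theorem typeP_structure (hM : TypeP M) (hK : Hall κ[M] K M) :
    (Dprod K (Mσ[M] ⊓ C[K]) (M ⊓ N[K]) ∧ ∀ X ≤ K, (#X).Prime → M ⊓ N[X] = M ⊓ N[K] ∧
        ∀ H, IsCoatom H → N[X] ≤ H → X ≤ Mσ[H]) ∧
      (Mσ[M] ⊓ C[K] ≠ ⊥ ∧ ∀ X ≤ Mσ[M] ⊓ C[K], (#X).Prime → UMax C[X] M) ∧
      ((∀ g ∉ M, Mσ[M] ⊓ C[K] ⊓ cj g M = ⊥) ∧ ∀ g ∈ M, g ∉ N[K] → K ⊓ cj g K = ⊥) ∧
      (∀ p, p.Prime → p ∣ #(Mσ[M] ⊓ C[K]) → ∀ S, Syl p S Mσ[M] → UMax S M ∧ ¬ S ≤ C[K]) ∧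
      (∀ Y, PiG σ[M] Y → Y ⊓ (Mσ[M] ⊓ C[K]) ≠ ⊥ → Y ≤ Mσ[M]) ∧
      (TypeP2 M → σ[M] = β[M] ∧ (#K).Prime ∧ Nil Mσ[M] ∧ NTI ((Mσ[M] : Set G) \ {1}) M) := by
  have K0 := hM.ne_bot hK
  have e := hM.inf_N hK le_rfl K0 (normG K)
  refine ⟨⟨e ▸ hM.dprod hK, fun X a b => ⟨?_, fun H => hM.le_Msigma hK a b⟩⟩,
    ⟨hM.star_ne_bot hK, fun X a b => (hM.star_uniq hK a b).1⟩,
    ⟨fun g => hM.star_ti hK, fun g a b => by_contra fun c => b (hM.kappa_ti hK a c)⟩, fun p a b S hS => ?_,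
    fun Y => hM.le_of_meet hK, fun h => h.facts hK⟩
  · rw [e, hM.inf_N hK a (ne_bot_of_prime b) (hM.norm_prime hK a b)]
  obtain ⟨X, c, rfl⟩ := exists_prime_sub a b
  have u := (hM.star_uniq hK c a).2 S hS
  refine ⟨u, fun d => ?_⟩
  obtain ⟨Y, y, z⟩ := exists_prime_sub' K0
  obtain ⟨H, f, k⟩ := exists_coatom_N (ne_bot_of_prime z) (ne_top_of_le hM.max (y.trans hK.le))
  obtain rfl := u.uniq H f (d.trans ((centS y).trans ((C_le_N Y).trans k)))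
  exact ne_bot_of_prime z (PiG.eq_bot ((O_pig _ _).of_le (hM.le_Msigma hK y z f k))
    (PiG.of_le (hK.pi.mono (kappa_sub_sigma' _)) y))
omit hG in
theorem exists_prime_zpowers (h : x ≠ 1) : ∃ X ≤ zpowers x, (#X).Prime ∧ C1[x] ≤ C[X] := by
  obtain ⟨X, a, b⟩ := exists_prime_sub' (A := zpowers x) (by simpa using h)
  exact ⟨X, a, b, C_zpowers x ▸ centS a⟩
theorem TypeP.hall_sigma' (hM : TypeP M) (hK : Hall κ[M] K M) : Hall σ[M]ᶜ K (K ⊔ (Mσ[M] ⊓ C[K])) :=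
  (hM.dprod hK).prod.hall (hK.pi.mono (kappa_sub_sigma' M)) (PiN.compl_compl ((O_pig _ _).of_le inf_le_left))
theorem TypeP.C1_le (hM : TypeP M) (hK : Hall κ[M] K M) (hx : x ∈ Mσ[M] ⊓ C[K]) (h : x ≠ 1) : C1[x] ≤ M := by
  obtain ⟨X, a, b, c⟩ := exists_prime_zpowers h
  exact c.trans (hM.star_uniq hK (a.trans (zpowers_le.2 hx)) b).1.le
theorem tau2_le_Msigma (hM : IsCoatom M) (h1 : X ≤ M) (h2 : PiG τ2[M] X) (h3 : X ≠ ⊥) :
    ∃ H, IsCoatom H ∧ τ2[M] ⊆ σ[H] ∧ X ≤ Mσ[H] := by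
  obtain ⟨E, hE, a⟩ := ex_sigma_compl hM h1 h2.tau2_sigma'
  obtain ⟨p, b, c⟩ := exists_prime_dvd h3
  have t := h2 p b c
  obtain ⟨A, hA⟩ := ex_tau2Elem hE t
  obtain ⟨H, hH, d⟩ := exists_coatom_N (hA.ne_bot b) (hA.pig b).ne_top
  have e : τ2[M] ⊆ σ[H] := fun q hq => ((primes_norm_tau2Elem hM hE t hA hH d).1 q hq).1
  exact ⟨H, hH, e, le_Msigma hH (a.trans ((tau2_norm hM hE t hA).trans d)) (h2.mono e)⟩
/-- BG 14.3 -/
theorem pi_of_cent_sigma (hM : IsCoatom M) (hx : x ∈ Mσ[M]) (h1 : x ≠ 1) (hy : y ∈ M ⊓ C1[x]) (h2 : y ≠ 1)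
    (h3 : PiE σ[M]ᶜ y) : (PiE κ[M] y ∧ C1[x] ≤ M) ∨ (PiE τ2[M] y ∧ Ell1 y ∧ UMax C1[y] M) := by
  have l : zpowers y ≤ M := zpowers_le.2 hy.1
  by_cases t : PiE τ2[M] y
  · obtain ⟨H, a, -, b⟩ := tau2_le_Msigma hM l (pig_zpowers.2 t) (by simpa using h2)
    exact Or.inr ⟨t, ⟨h2, H, a, b (mem_zpowers y)⟩,
      cent1_nreg_sigma_uniq hM hy.1 h2 t (ne_bot_of_mem (mem_inf.2 ⟨hx, C1_symm hy.2⟩) h1)⟩
  unfold PiE PiN Core.IsPiNum at t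
  push Not at t
  obtain ⟨p, a, b, c⟩ := t
  obtain ⟨X, d, e⟩ := exists_prime_sub (A := zpowers y) a (by rwa [card_zpowers'])
  have xc : x ∈ Mσ[M] ⊓ C[X] := mem_inf.2 ⟨hx, centS d (by rw [C_zpowers]; exact C1_symm hy.2)⟩
  have k : p ∈ κ[M] := mem_kappa.2 ⟨by
    have := partition_pi hM a (b.trans (orderOf_dvd hy.1)); have := h3 p a b; tauto,
    X, d.trans l, e, ne_bot_of_mem xc h1⟩
  obtain ⟨K, hK, f⟩ := hall_superset (coatom_sol hM) (d.trans l) (pig_of_card a e k)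
  have P : TypeP M := ⟨hM, p, k⟩
  have X0 := ne_bot_of_prime (e ▸ a)
  rw [(P.semiprime hK).cent f X0] at xc
  refine Or.inl ⟨hK.pi.elt ((P.hall_sigma' hK).mem_of_normal (P.dprod hK).nl h3 ?_), P.C1_le hK xc h1⟩
  rw [← P.inf_N hK f X0 (P.norm_prime hK f (e ▸ a))]
  exact mem_inf.2 ⟨hy.1, abel_norm (abel_zpowers y) d (mem_zpowers y)⟩
theorem sigma_elt_conj (hM : IsCoatom M) (hL : IsCoatom L) (h1 : X ≤ Mσ[M]) (h2 : X ≤ Mσ[L]) (h3 : (#X).Prime) :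
    ∃ c ∈ C[X], cj c M = L :=
  have a := (O_pig _ _).mem_of_card h3 h1 rfl
  sigma_conj_trans hM a (pig_of_card' h3 rfl) (cjg_refl M)
    (cjg_of_sigma hM hL a ((O_pig _ _).mem_of_card h3 h2 rfl)) (h1.trans (O_le _ _)) (h2.trans (O_le _ _))
theorem signalizer_core (hM : IsCoatom M) (hx : x ∈ Mσ[M]) (h1 : X ≤ zpowers x) (h2 : (#X).Prime) (h3 : ¬ C[X] ≤ M)
    (hH : IsCoatom H) (h4 : N[X] ≤ H) : ¬ Cjg M H ∧ #X ∈ τ2[H] ∧ (∀ r, r ∣ #M → r ∈ σ[H] → r ∈ β[H]) ∧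
      Hall σ[H]ᶜ (M ⊓ H) H ∧ ∀ L, IsCoatom L → x ∈ Mσ[L] → ∃ s ∈ Mσ[H] ⊓ C1[x], cj s M = L := by
  have l := h1.trans (zpowers_le.2 hx)
  have q := (O_pig _ _).mem_of_card h2 l rfl
  obtain ⟨a, -, -, b⟩ := sigma_subgroup_embedding hM q (l.trans (O_le _ _)) (pig_of_card' h2 rfl) (ne_bot_of_prime h2)
    hH h4 fun e => h3 ((C_le_N X).trans (e ▸ h4))
  obtain ⟨b1, b2, b3⟩ := b (sigma_partition hM hH a _ q)
  refine ⟨a, b1, b2, b3, fun L hL hy => ?_⟩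
  obtain ⟨c, c1, rfl⟩ := sigma_elt_conj hM hL l (h1.trans (zpowers_le.2 hy)) h2
  have sd := sdprod_sigma hH b3
  obtain ⟨s, s1, m, m1, rfl⟩ := sd.prod.ex c (h4 (C_le_N X c1))
  rw [cj_mul, cj_of_mem m1.1] at hy ⊢
  refine ⟨s, mem_inf.2 ⟨s1, ?_⟩, rfl⟩
  have xH : x ∈ H := h4 (abel_norm (abel_zpowers x) h1 (mem_zpowers x))
  have sH := O_le _ _ s1
  have : s⁻¹ * x * s * x⁻¹ ∈ Mσ[H] ⊓ (M ⊓ H) := mem_inf.2 ⟨by
    simpa [mul_assoc] using mul_mem (inv_mem s1) (conj_mem (O_norm _ _ xH) s1),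
    mul_mem (mem_inf.2 ⟨mem_cj.1 (O_le _ _ hy), mul_mem (mul_mem (inv_mem sH) xH) sH⟩)
      (inv_mem (mem_inf.2 ⟨O_le _ _ hx, xH⟩))⟩
  rw [sd.inf, mem_bot, mul_inv_eq_one, mul_assoc, inv_mul_eq_iff_eq_mul] at this
  exact mem_C1'.2 this
theorem signalizer_base' (hM : IsCoatom M) (hx : x ∈ Mσ[M]) (h1 : x ≠ 1) (h2 : ¬ C1[x] ≤ M) :
    ∃ L, (UMax C1[x] L ∧ Rx x = Mσ[L] ⊓ C1[x] ∧ Rx x ≠ ⊥ ∧ PiE τ2[L] x ∧ (TypeF L ∨ TypeP2 L) ∧
      τ2[L] ⊆ σ[M] ∧ (∀ p, p ∣ #M → p ∈ σ[L] → p ∈ β[L]) ∧ Hall σ[L]ᶜ (M ⊓ L) L) ∧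
      ∀ H, IsCoatom H → x ∈ Mσ[H] → ∃ r ∈ Rx x, cj r M = H := by
  obtain ⟨X, a, b, c⟩ := exists_prime_zpowers h1
  obtain ⟨L, hL, d⟩ := exists_coatom_N (ne_bot_of_prime b) (pig_of_card' b rfl).ne_top
  obtain ⟨e1, e2, e3, e4, e5⟩ := signalizer_core hM hx a b (fun e => h2 (c.trans e)) hL d
  obtain ⟨g, g1, g2⟩ := SetLike.not_le_iff_exists.1 h2
  obtain ⟨s, s1, s2⟩ := e5 (cj g M) (coatom_cj' hM g) (by
    rw [← cj_Msigma, mem_cj, mul_assoc, ← mem_C1.1 g1, inv_mul_cancel_left]; exact hx)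
  have s0 : s ≠ 1 := fun e => cj_ne_of_not_mem hM g2 (by rw [← s2, e, cj_one])
  have xL : x ∈ L := d (C_le_N X (c (mem_C1_self x)))
  have px := sigma_pig' hM hL e1 ((O_pig _ _).elt hx)
  have dx : #X ∣ orderOf x := card_zpowers' x ▸ cardS a
  obtain ⟨f1, -, f2⟩ := (pi_of_cent_sigma hL s1.1 s0 (mem_inf.2 ⟨xL, C1_symm s1.2⟩) h1 px).resolve_left
    fun f => kappa_tau2' (f.1 _ b dx) e2
  have r := Rx_eq f2 fun f => h1 (PiE.eq_one ((O_pig _ _).elt f) px)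
  obtain ⟨H, k1, k2, k3⟩ := tau2_le_Msigma hL (zpowers_le.2 xL) (pig_zpowers.2 f1) (by simpa using h1)
  obtain ⟨S, hS⟩ := syl_exists b L
  exact ⟨L, ⟨f2, r, r ▸ ne_bot_of_mem s1 s0, f1,
    (sigma'_kappa'_facts hL b hS (tau2_dvd e2) (tau2_sigma' e2) fun f => kappa_tau2' f e2).1,
    (cjg_of_sigma k1 hM (k2 e2) ((O_pig _ _).elt hx _ b dx)).sigma ▸ k2, e3, e4⟩, r ▸ e5⟩
/-- BG 14.4, the part valid for every element of `σ`-length one -/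
theorem signalizer_context (hM : IsCoatom M) (hx : x ∈ Mσ[M]) (h1 : x ≠ 1) :
    Sdprod (Rx x) (M ⊓ C1[x]) C1[x] ∧ (#(Rx x)).Coprime #(M ⊓ C1[x]) ∧
      ∀ L, IsCoatom L → x ∈ Mσ[L] → ∃ r ∈ Rx x, cj r M = L := by
  by_cases h2 : C1[x] ≤ M
  · rw [Rx_eq_bot hM h2 hx, inf_eq_right.2 h2]
    refine ⟨⟨bot_sup_eq _, bot_inf_eq _, norm_bot _⟩, by simp, fun L hL hy => ⟨1, one_mem _, ?_⟩⟩
    obtain ⟨X, a, b, -⟩ := exists_prime_zpowers h1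
    by_cases h3 : C[X] ≤ M
    · obtain ⟨c, c1, rfl⟩ := sigma_elt_conj hM hL (a.trans (zpowers_le.2 hx)) (a.trans (zpowers_le.2 hy)) b
      rw [cj_one, cj_of_mem (h3 c1)]
    obtain ⟨H, hH, d⟩ := exists_coatom_N (ne_bot_of_prime b) (pig_of_card' b rfl).ne_top
    obtain ⟨s, s1, rfl⟩ := (signalizer_core hM hx a b h3 hH d).2.2.2.2 L hL hy
    rw [cj_one, cj_of_mem (h2 s1.2)]
  obtain ⟨L, ⟨a, b, -, -, -, -, -, c⟩, d⟩ := signalizer_base' hM hx h1 h2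
  have sd := sdprod_sigma a.max c
  have l : zpowers x ≤ M ⊓ L := zpowers_le.2 (mem_inf.2 ⟨O_le _ _ hx, a.le (mem_C1_self x)⟩)
  have := cop_mul_cent (c.norm_Msigma l) (normsG l) sd.prod (by rw [sd.inf, card_bot]; simp)
    (Or.inl (abel_zpowers x).sol)
  rw [C_zpowers, inf_assoc, inf_eq_right.2 a.le] at this
  have l2 : M ⊓ C1[x] ≤ M ⊓ L := inf_le_inf_left _ a.le
  have cp := coprimeS (c.cop_Msigma l2).symm (inf_le_left (b := C1[x])) le_rfl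
  rw [← b] at this cp
  exact ⟨⟨this.sup, inf_bot_of_coprime cp, b ▸ normI (c.norm_Msigma l2) (normsG inf_le_right)⟩, cp, d⟩
/-- BG 14.4, the part about `N(x)` -/
theorem signalizer_base (hM : IsCoatom M) (hx : x ∈ Mσ[M]) (h1 : x ≠ 1) (h2 : ¬ C1[x] ≤ M) :
    ∃ L, UMax C1[x] L ∧ Rx x = Mσ[L] ⊓ C1[x] ∧ Rx x ≠ ⊥ ∧ PiE τ2[L] x ∧ (TypeF L ∨ TypeP2 L) ∧
      τ2[L] ⊆ σ[M] ∧ (∀ p, p ∣ #M → p ∈ σ[L] → p ∈ β[L]) ∧ Hall σ[L]ᶜ (M ⊓ L) L := by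
  exact (signalizer_base' hM hx h1 h2).imp fun _ h => h.1

end Cfsg.Agent.BG
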