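import Cfsg.Agent.BG.S14a
/-!
Bender–Glauberman, section 14: 14.5–14.7.
-/
set_option autoImplicit false
set_option linter.unusedSectionVars false
set_option linter.unusedVariables false
set_option linter.deprecated false

namespace Cfsg.Agent.BG
open Subgroup PHom

variable {G : Type*} [Group G] [Finite G] [hG : MSO G]
variable {A A₀ B D E E₁ E₂ E₃ H K L M Mstar P Q R S T U V W X Y Z : Subgroup G} {x y g : G} {π ρ : Set ℕ}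
  {p q r m n : ℕ}

include hG
theorem cjg_of_elt (hM : IsCoatom M) (hH : IsCoatom H) (h1 : PiE σ[M] x) (h2 : PiE σ[H] x) (h : x ≠ 1) : Cjg M H :=
  by_contra fun c => h (h2.eq_one (sigma_pig' hM hH c h1))
theorem Rx_base (hM : IsCoatom M) (hx : x ∈ Mσ[M]) (h1 : x ≠ 1) (hy : y ∈ Rx x) (h2 : y ≠ 1) :
    ∃ L, UMax C1[x] L ∧ y ∈ Mσ[L] ∧ PiE τ2[L] x ∧ ¬ Cjg M L := by
  obtain ⟨L, a, b, -, c, -⟩ := signalizer_base hM hx h1 fun e => h2 (by rwa [Rx_eq_bot hM e hx, mem_bot] at hy)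
  exact ⟨L, a, (b ▸ hy).1, c, fun e => h1 (PiE.eq_one ((O_pig _ _).elt hx) (e.sigma ▸ c.mono fun _ => tau2_sigma'))⟩
theorem Rx_pie (hM : IsCoatom M) (hx : x ∈ Mσ[M]) (h1 : x ≠ 1) (hy : y ∈ Rx x) : PiE σ[M]ᶜ y := by
  by_cases h2 : y = 1
  · exact h2 ▸ pie_one _
  obtain ⟨L, a, b, -, c⟩ := Rx_base hM hx h1 hy h2
  exact sigma_pig' a.max hM (not_cjg_symm c) ((O_pig _ _).elt b)
theorem cst_of_comm (hx : PiE π x) (h1 : x⁻¹ * g ∈ C1[x]) (h2 : PiE πᶜ (x⁻¹ * g)) : cst π g = x := by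
  rw [← cst_eq hx h2 (mem_C1'.1 h1), mul_inv_cancel_left]
theorem sigma_swap (hM : IsCoatom M) (hL : IsCoatom L) (h : ¬ Cjg M L) (hx : x ∈ Mσ[M]) (h1 : x ≠ 1)
    (h2 : x⁻¹ * g ∈ Rx x) (hy : y ∈ Mσ[L]) (h3 : y ≠ 1) (h4 : cst σ[L] g = y) :
    x⁻¹ * g = y ∧ ∃ H, UMax C1[x] H ∧ y ∈ Mσ[H] ∧ PiE τ2[H] x := by
  have c := mem_C1'.1 (Rx_le x h2)
  have px := sigma_pig' hM hL h ((O_pig _ _).elt hx)
  have e : cst σ[L] (x⁻¹ * g) = y := by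
    rw [← h4]; conv_rhs => rw [← mul_inv_cancel_left x g, cst_mul c, cst_eq_one_iff.2 px, one_mul]
  obtain ⟨H, a, b, d, -⟩ := Rx_base hM hx h1 h2 fun f => h3 (by rw [← e, f, cst_self (pie_one _)])
  have pb := (O_pig _ _).elt b
  have := cjg_of_elt hL a.max ((O_pig _ _).elt hy) (e ▸ pb.of_mem_zpowers (cst_mem _ _)) h3
  rw [cst_self (this.sigma ▸ pb)] at e
  exact ⟨e, H, a, e ▸ b, d⟩
/-- BG 14.5(a) -/
theorem sigma_cover_disjoint (hx : Ell1 x) (hy : Ell1 y) (h1 : x⁻¹ * g ∈ Rx x) (h2 : y⁻¹ * g ∈ Rx y) : x = y := by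
  obtain ⟨x1, M, hM, hx⟩ := hx
  obtain ⟨y1, L, hL, hy⟩ := hy
  have a := cst_of_comm ((O_pig _ _).elt hx) (Rx_le x h1) (Rx_pie hM hx x1 h1)
  have b := cst_of_comm ((O_pig _ _).elt hy) (Rx_le y h2) (Rx_pie hL hy y1 h2)
  by_cases c : Cjg M L
  · rw [← a, ← b, c.sigma]
  obtain ⟨-, H, d1, d2, d3⟩ := sigma_swap hM hL c hx x1 h1 hy y1 b
  obtain ⟨-, K, e1, e2, -⟩ := sigma_swap hL hM (not_cjg_symm c) hy y1 h2 hx x1 a
  obtain ⟨K, f1, -, -, -, -, -, -, f2⟩ := signalizer_base d1.max d2 y1 fun f => x1 (PiE.eq_one ((O_pig _ _).elt e2)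
    (e1.uniq H d1.max f ▸ d3.mono fun _ => tau2_sigma'))
  obtain rfl := e1.eq f1
  exact absurd (PiE.eq_one ((O_pig _ _).elt e2) (f2.pi.elt (mem_inf.2 ⟨d1.le (mem_C1_self x), O_le _ _ e2⟩))) x1
theorem mem_clS_sigSupp : g ∈ ClS (SigSupp M) ↔ ∃ x L, Cjg M L ∧ x ∈ Mσ[L] ∧ x ≠ 1 ∧ x⁻¹ * g ∈ Rx x := by
  constructor
  · rintro ⟨u, a, ⟨x, b, c, d⟩, rfl⟩
    refine ⟨u * x * u⁻¹, cj u M, cjg_cj _ _, by rwa [← cj_Msigma, mem_cj_conj], by simpa using c, ?_⟩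
    rw [← cj_Rx, mem_cj]; convert d using 1; group
  · rintro ⟨x, _, ⟨u, rfl⟩, b, c, d⟩
    refine ⟨u, u⁻¹ * g * u, ⟨u⁻¹ * x * u, by rwa [← cj_Msigma, mem_cj] at b, fun e => c ?_, ?_⟩, by group⟩
    · rw [← mul_inv_cancel_left u x, ← mul_inv_cancel_right (u⁻¹ * x) u, e]; group
    · have := cj_Rx u⁻¹ x
      rw [inv_inv] at this
      rw [← this, mem_cj]; convert d using 1; group
/-- BG 14.5(b) -/
theorem sigma_support_disjoint (hM : IsCoatom M) (hH : IsCoatom H) (h : ¬ Cjg M H) :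
    Disjoint (ClS (SigSupp M)) (ClS (SigSupp H)) := by
  refine Set.disjoint_left.2 fun g a b => h ?_
  obtain ⟨x, L, a1, a2, a3, a4⟩ := mem_clS_sigSupp.1 a
  obtain ⟨y, K, b1, b2, b3, b4⟩ := mem_clS_sigSupp.1 b
  obtain rfl := sigma_cover_disjoint ⟨a3, L, a1.coatom hM, a2⟩ ⟨b3, K, b1.coatom hH, b2⟩ a4 b4
  exact cjg_of_elt hM hH (a1.sigma ▸ (O_pig _ _).elt a2) (b1.sigma ▸ (O_pig _ _).elt b2) a3
/-- BG 14.5(c) -/
theorem card_clS_sigma (hM : IsCoatom M) : (ClS (SigSupp M)).ncard = (#Mσ[M] - 1) * M.index := by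
  have h1 : ∀ x : G, ∃ B, ∀ L, Cjg M L → x ∈ Mσ[L] → Cjg M B ∧ x ∈ Mσ[B] := fun x => by
    by_cases c : ∃ L, Cjg M L ∧ x ∈ Mσ[L]
    · exact c.imp fun _ h _ _ _ => h
    · exact ⟨M, fun L a b => absurd ⟨L, a, b⟩ c⟩
  choose b hb using h1
  let S : Set G := (Mσ[M] : Set G) \ {1}
  let ξ : S × (G ⧸ M) → G := fun z => z.2.out * z.1 * z.2.out⁻¹
  have h2 : ∀ z, ξ z ∈ Mσ[cj z.2.out M] := fun z => by rw [← cj_Msigma]; exact mem_cj_conj.2 z.1.2.1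
  have h3 : ∀ z, ξ z ≠ 1 := fun z => by simpa [ξ] using z.1.2.2
  have h4 : ∀ z, Cjg M (b (ξ z)) ∧ ξ z ∈ Mσ[b (ξ z)] := fun z => hb _ _ (cjg_cj _ _) (h2 z)
  have h5 : ∀ z, ∃ r ∈ Rx (ξ z), cj r (b (ξ z)) = cj z.2.out M := fun z =>
    (signalizer_context ((h4 z).1.coatom hM) (h4 z).2 (h3 z)).2.2 _ (coatom_cj' hM _) (h2 z)
  choose ρ h6 h7 using h5
  have h8 : ∀ z, (ξ z)⁻¹ * (ξ z * ρ z) ∈ Rx (ξ z) := fun z => by rw [inv_mul_cancel_left]; exact h6 z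
  have inj : Function.Injective fun z => ξ z * ρ z := fun z w (e : ξ z * ρ z = ξ w * ρ w) => by
    have e1 := sigma_cover_disjoint ⟨h3 z, _, coatom_cj' hM _, h2 z⟩ ⟨h3 w, _, coatom_cj' hM _, h2 w⟩ (h8 z)
      (e ▸ h8 w)
    have e2 : z.2 = w.2 := by
      rw [← z.2.out_eq', ← w.2.out_eq', QuotientGroup.eq]
      refine mem_of_cj_eq hM ?_
      rw [cj_mul, ← h7 w, ← e1, ← mul_left_cancel (e1 ▸ e : ξ z * ρ z = ξ z * ρ w), h7 z, cj_inv_cj]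
    refine Prod.ext (Subtype.ext ?_) e2
    simpa only [ξ, e2, mul_left_inj, mul_right_inj] using e1
  have rg : Set.range (fun z => ξ z * ρ z) = ClS (SigSupp M) := by
    ext g; rw [mem_clS_sigSupp]; constructor
    · rintro ⟨z, rfl⟩; exact ⟨_, _, cjg_cj _ _, h2 z, h3 z, h8 z⟩
    rintro ⟨x, L, a1, a2, a3, a4⟩
    obtain ⟨c1, c2⟩ := hb x L a1 a2
    obtain ⟨w, e⟩ := c1.trans (cjg_cj (x⁻¹ * g) _)
    obtain ⟨m, e2⟩ := QuotientGroup.mk_out_eq_mul M w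
    rw [← cj_of_mem m.2, ← cj_mul, ← e2] at e
    have c3 : (w : G ⧸ M).out⁻¹ * x * (w : G ⧸ M).out ∈ Mσ[M] := by
      rw [← mem_cj, cj_Msigma, e, ← cj_Msigma, mem_cj, mul_assoc, ← mem_C1.1 (Rx_le x a4), inv_mul_cancel_left]
      exact c2
    let z : S × (G ⧸ M) := (⟨_, c3, fun f => a3 (by
      rwa [Set.mem_singleton_iff, mul_assoc, inv_mul_eq_one, right_eq_mul] at f)⟩, w)
    have e3 : ξ z = x := by simp only [ξ, z]; group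
    have e4 := h7 z
    have e5 := h6 z
    rw [e3] at e4 e5
    refine ⟨z, ?_⟩
    have m1 := mul_mem (inv_mem a4) e5
    have := (signalizer_context (c1.coatom hM) c2 a3).1.inf ▸ mem_inf.2 ⟨m1, mem_inf.2 ⟨mem_of_cj_eq (c1.coatom hM)
      (by rw [cj_mul, e4, e, cj_inv_cj]), Rx_le x m1⟩⟩
    rw [mem_bot, inv_mul_eq_one] at this
    simp only [e3, ← this, mul_inv_cancel_left]
  rw [← rg, ← Nat.card_coe_set_eq, Nat.card_range_of_injective inj, Nat.card_prod, Nat.card_coe_set_eq,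
    Set.ncard_sdiff_singleton_of_mem (one_mem _)]
  rfl
theorem kappa_elt_C1_le (hM : IsCoatom M) (hx : x ∈ Mσ[M]) (h1 : x ≠ 1) (hy : y ∈ M ⊓ C1[x]) (h2 : y ≠ 1)
    (h3 : PiE κ[M] y) : C1[x] ≤ M :=
  ((pi_of_cent_sigma hM hx h1 hy h2 (h3.mono (kappa_sub_sigma' M))).resolve_right fun c =>
    h2 (PiE.eq_one c.1 (h3.mono fun _ => kappa_tau2'))).2
/-- BG 14.6 -/
theorem sigma_decomposition_dichotomy (h : g ≠ 1) :
    Xor' (∃ x, Ell1 x ∧ x⁻¹ * g ∈ Rx x)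
      (∃ y M, IsCoatom M ∧ y ∈ Mσ[M] ∧ y ≠ 1 ∧ y⁻¹ * g ∈ M ⊓ C1[y] ∧ y⁻¹ * g ≠ 1 ∧ PiE κ[M] (y⁻¹ * g)) := by
  refine (xor_iff_or_and_not_and _ _).2 ⟨?_, ?_⟩
  · have key : ∀ M, IsCoatom M → g ∈ M → cst σ[M] g ≠ 1 → (∃ x, Ell1 x ∧ x⁻¹ * g ∈ Rx x) ∨
        ∃ y M, IsCoatom M ∧ y ∈ Mσ[M] ∧ y ≠ 1 ∧ y⁻¹ * g ∈ M ⊓ C1[y] ∧ y⁻¹ * g ≠ 1 ∧ PiE κ[M] (y⁻¹ * g) :=
      fun M hM a b => by
      have c := mem_Msigma hM (cst_mem_of a) (cst_pie _ g)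
      have e : (cst σ[M] g)⁻¹ * g = cst σ[M]ᶜ g := by rw [inv_mul_eq_iff_eq_mul, cst_mul_cst]
      by_cases d : cst σ[M]ᶜ g = 1
      · exact Or.inl ⟨_, ⟨b, M, hM, c⟩, by rw [e, d]; exact one_mem _⟩
      have f : cst σ[M]ᶜ g ∈ M ⊓ C1[cst σ[M] g] := mem_inf.2 ⟨cst_mem_of a, mem_C1.2 (cst_comm _ _ _)⟩
      rcases pi_of_cent_sigma hM c b f d (cst_pie _ g) with k | ⟨k1, k2, k3⟩
      · exact Or.inr ⟨_, M, hM, c, b, by rw [e]; exact ⟨f, d, k.1⟩⟩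
      refine Or.inl ⟨_, k2, ?_⟩
      rw [Rx_eq k3 fun n => d (PiE.eq_one ((O_pig _ _).elt n) (cst_pie _ g)), show (cst σ[M]ᶜ g)⁻¹ * g = cst σ[M] g by
        rw [inv_mul_eq_iff_eq_mul, cst_comm, cst_mul_cst]]
      exact mem_inf.2 ⟨c, C1_symm f.2⟩
    obtain ⟨p, p1, p2⟩ := Nat.exists_prime_and_dvd (mt orderOf_eq_one_iff.1 h)
    obtain ⟨M₀, a, b⟩ := exists_sigma (G := G) p1 (p2.trans (orderOf_dvd_natCard g))
    obtain ⟨u, c⟩ := sigma_cj_le a (pig_zpowers.2 (cst_pie σ[M₀] g))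
    rw [cj_le_iff, cj_Msigma, ← sigma_cj u⁻¹ M₀] at c
    rw [← sigma_cj u⁻¹ M₀] at b
    have hM := coatom_cj' a u⁻¹
    generalize cj u⁻¹ M₀ = M at *
    have x1 := cst_ne_one p1 p2 b
    have gx := C1_le_cst σ[M] g (mem_C1_self g)
    by_cases d : C1[cst σ[M] g] ≤ M
    · exact key M hM (d gx) x1
    obtain ⟨L, e1, e2, -, -, -, -, -, e3⟩ := signalizer_base hM (c (mem_zpowers _)) x1 d
    by_cases f : cst σ[L] g = 1
    swap; · exact key L e1.max (e1.le gx) f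
    obtain ⟨v, -, k⟩ := ((signalizer_context hM (c (mem_zpowers _)) x1).1.hall_r (π := σ[L]ᶜ)
      (e2 ▸ PiN.compl_compl ((O_pig _ _).of_le inf_le_left)) (e3.pi.of_le (inf_le_inf_left _ e1.le))).sub_cj
      (sol_C1 x1) (zpowers_le.2 gx) (pig_zpowers.2 (cst_eq_one_iff.1 f))
    exact key (cj v M) (coatom_cj' hM v) (cj_mono v inf_le_left (k (mem_zpowers g))) (by rwa [sigma_cj])
  rintro ⟨⟨x, ⟨x1, L, hL, hx⟩, a⟩, y, M, hM, hy, y1, b, c, d⟩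
  have e := kappa_elt_C1_le hM hy y1 b c d
  have f := cst_of_comm ((O_pig _ _).elt hy) b.2 (d.mono (kappa_sub_sigma' M))
  by_cases k : Cjg L M
  · obtain rfl : x = y := by rw [← f, k.sigma, cst_of_comm ((O_pig _ _).elt hx) (Rx_le x a) (Rx_pie hL hx x1 a)]
    rw [Rx_eq_bot hM e hy] at a
    exact c a
  obtain ⟨e1, H, e2, e3, e4⟩ := sigma_swap hL hM k hx x1 a hy y1 f
  obtain ⟨r, r1, rfl⟩ := (signalizer_context hM hy y1).2.2 H e2.max e3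
  rw [Rx_eq_bot hM e hy, mem_bot] at r1
  rw [r1, cj_one] at e4
  have : y⁻¹ * g = x := by
    rw [inv_mul_eq_iff_eq_mul, ← mem_C1.1 (C1_symm (e1 ▸ Rx_le x a)), ← e1, mul_inv_cancel_left]
  exact x1 (PiE.eq_one e4 (this ▸ d.mono fun _ => kappa_tau2'))
omit [Finite G] hG in
/-- the conclusion of BG 14.7; `L` is `K* = C_{M_σ}(K)` -/
structure PEmb (M K L Mstar : Subgroup G) : Prop where
  typeP : TypeP Mstar
  not_cjg : ¬ Cjg M Mstar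
  uniq : ∀ X ≤ K, (#X).Prime → UMax C[X] Mstar
  hall : Hall κ[Mstar] L Mstar
  hall' : Hall σ[M] L Mstar
  cent : Mσ[Mstar] ⊓ C[L] = K
  kappa : κ[M] = τ1[M]
  cyc : Cyc (K ⊔ L)
  inf : M ⊓ Mstar = K ⊔ L
  c1 : ∀ x ∈ K, x ≠ 1 → M ⊓ C1[x] = K ⊔ L
  c2 : ∀ y ∈ L, y ≠ 1 → Mstar ⊓ C1[y] = K ⊔ L
  c3 : ∀ x ∈ K, x ≠ 1 → ∀ y ∈ L, y ≠ 1 → C1[x * y] = K ⊔ L
  nti : NTI (Zhat K L) (K ⊔ L)
  disj : ∀ g ∉ M, ∀ z ∈ Zhat K L, z ∉ cj g M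
  half : Nat.card G < 2 * (ClS (Zhat K L)).ncard
  p2 : (TypeP2 M ∧ (#K).Prime) ∨ (TypeP2 Mstar ∧ (#L).Prime)
  trans : ∀ H, TypeP H → Cjg M H ∨ Cjg Mstar H
  der : Sdprod ⁅M, M⁆ K M
theorem TypeP.hall_sigma (hM : TypeP M) (hK : Hall κ[M] K M) : Hall σ[M] (Mσ[M] ⊓ C[K]) (K ⊔ (Mσ[M] ⊓ C[K])) :=
  (hM.dprod hK).prod.hall_r (hK.pi.mono (kappa_sub_sigma' M)) ((O_pig _ _).of_le inf_le_left)
theorem TypeP.sup_le (hM : TypeP M) (hK : Hall κ[M] K M) : K ⊔ (Mσ[M] ⊓ C[K]) ≤ M :=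
  _root_.sup_le hK.le (inf_le_left.trans (O_le _ _))
theorem TypeP.zhat_dec (hM : TypeP M) (hK : Hall κ[M] K M) (h : g ∈ Zhat K (Mσ[M] ⊓ C[K])) :
    ∃ y ∈ Mσ[M] ⊓ C[K], y ≠ 1 ∧ y⁻¹ * g ∈ K ∧ y⁻¹ * g ≠ 1 ∧ y ∈ zpowers g ∧ y⁻¹ * g ∈ zpowers g := by
  obtain ⟨y, a, x, b, rfl⟩ := (hM.dprod hK).symm.prod.ex g h.1
  have := pi_part_mem ((O_pig _ _).elt a.1) (PiG.elt (hK.pi.mono (kappa_sub_sigma' M)) b) (mem_C.1 a.2 x b).symm
  refine ⟨y, a, fun e => h.2 (Or.inl (by simpa [e] using b)), by simpa using b, fun e => h.2 (Or.inr ?_), this,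
    mul_mem (inv_mem this) (mem_zpowers _)⟩
  rw [inv_mul_cancel_left] at e; simpa [e] using a
theorem TypeP.zhat_disj (hM : TypeP M) (hK : Hall κ[M] K M) (h : x ∈ Zhat K (Mσ[M] ⊓ C[K])) (h2 : x ∈ cj g M) :
    g ∈ M := by
  obtain ⟨y, a, b, -, -, c, -⟩ := hM.zhat_dec hK h
  exact by_contra fun n => b (mem_bot.1 (hM.star_ti hK n ▸ mem_inf.2 ⟨a, zpowers_le.2 h2 c⟩))
theorem TypeP.zhat_ti (hM : TypeP M) (hK : Hall κ[M] K M) (h : x ∈ Zhat K (Mσ[M] ⊓ C[K]))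
    (h2 : g * x * g⁻¹ ∈ K ⊔ (Mσ[M] ⊓ C[K])) : g ∈ K ⊔ (Mσ[M] ⊓ C[K]) := by
  have a := hM.zhat_disj hK h (mem_cj_inv.2 (hM.sup_le hK h2))
  obtain ⟨y, -, -, b, c, -, d⟩ := hM.zhat_dec hK h
  rw [← hM.inf_N hK le_rfl (hM.ne_bot hK) (normG K)]
  refine mem_inf.2 ⟨inv_mem_iff.1 a,
    inv_mem_iff.1 (hM.kappa_ti hK a (ne_bot_of_mem (mem_inf.2 ⟨b, mem_cj_inv.2 ?_⟩) c))⟩
  exact (hM.hall_sigma' hK).mem_of_normal (hM.dprod hK).nl (pie_conj.2 ((hM.hall_sigma' hK).pi.elt b))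
    (mem_cj_inv.1 (zpowers_le.2 (mem_cj_inv.2 h2) d))
theorem TypeP.zhat_mem (hM : TypeP M) (hK : Hall κ[M] K M) (hx : x ∈ K) (h1 : x ≠ 1) (hy : y ∈ Mσ[M] ⊓ C[K])
    (h2 : y ≠ 1) : x * y ∈ Zhat K (Mσ[M] ⊓ C[K]) := by
  refine ⟨mul_mem_sup' hx hy, fun c => c.elim (fun c => h2 ?_) fun c => h1 ?_⟩
  · exact mem_bot.1 ((hM.dprod hK).inf ▸ mem_inf.2 ⟨(mul_mem_cancel_left hx).1 c, hy⟩)
  · exact mem_bot.1 ((hM.dprod hK).inf ▸ mem_inf.2 ⟨hx, (mul_mem_cancel_right hy).1 c⟩)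
theorem TypeP.zhat_nti (hM : TypeP M) (hK : Hall κ[M] K M) :
    NTI (Zhat K (Mσ[M] ⊓ C[K])) (K ⊔ (Mσ[M] ⊓ C[K])) := by
  obtain ⟨x, a, b⟩ := exists_mem_ne_one (hM.ne_bot hK)
  obtain ⟨y, c, d⟩ := exists_mem_ne_one (hM.star_ne_bot hK)
  exact ⟨⟨_, hM.zhat_mem hK a b c d⟩, fun g hg z hz => ⟨conj_mem (normG _ hg) hz.1, fun e => hz.2 (e.imp
    (mem_N.1 ((hM.dprod hK).nl hg) z).2 (mem_N.1 ((hM.dprod hK).nr hg) z).2)⟩, fun g z hz e => hM.zhat_ti hK hz e.1⟩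
theorem TypeP.zhat_not_mem (hM : TypeP M) (hK : Hall κ[M] K M) (hH : IsCoatom H) (h : x ∈ Zhat K (Mσ[M] ⊓ C[K])) :
    x ∉ ClS (SigSupp H) := fun c => by
  obtain ⟨y, a, b, d, e, -⟩ := hM.zhat_dec hK h
  obtain ⟨z, L, f1, f2, f3, f4⟩ := mem_clS_sigSupp.1 c
  exact ((xor_iff_or_and_not_and _ _).1 (sigma_decomposition_dichotomy fun e : x = 1 => h.2 (Or.inl (e ▸ one_mem K)))).2
    ⟨⟨z, ⟨f3, L, f1.coatom hH, f2⟩, f4⟩, y, M, hM.max, a.1, b, mem_inf.2 ⟨hK.le d, C1_symm (C_le_C1 d a.2)⟩, e,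
      hK.pi.elt d⟩
omit [Finite G] hG in
theorem disjoint_clS {A B : Set G} (h : ∀ a ∈ A, a ∉ ClS B) : Disjoint (ClS A) (ClS B) :=
  Set.disjoint_left.2 fun _ ⟨u, a, a1, a2⟩ ⟨v, b, b1, b2⟩ => h a a1 ⟨u⁻¹ * v, b, b1, by
    rw [mul_inv_rev, inv_inv, mul_assoc u⁻¹, mul_assoc u⁻¹, ← mul_assoc (v * b), ← b2, a2]; group⟩
theorem TypeP.zhat_half (hM : TypeP M) (hK : Hall κ[M] K M) :
    Nat.card G < 2 * (ClS (Zhat K (Mσ[M] ⊓ C[K]))).ncard := by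
  have d := hM.dprod hK
  have cp : (#K).Coprime #(Mσ[M] ⊓ C[K]) := (hM.hall_sigma' hK).pi.coprime' (hM.hall_sigma hK).pi
  have a := one_lt_card (hM.ne_bot hK)
  have b := one_lt_card (hM.star_ne_bot hK)
  rw [(hM.zhat_nti hK).card_clS]
  generalize Mσ[M] ⊓ C[K] = L at *
  have e1 := Set.ncard_union_add_ncard_inter (K : Set G) (L : Set G)
  have e2 := Set.ncard_sdiff_add_ncard_of_subset (s := (K : Set G) ∪ L) (t := ↑(K ⊔ L))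
    (Set.union_subset d.left d.right)
  rw [← coe_inf, d.inf, coe_bot, Set.ncard_singleton] at e1
  change _ = #K + #L at e1
  change (Zhat K L).ncard + _ = #(K ⊔ L) at e2
  rw [← (K ⊔ L).card_mul_index, ← mul_assoc]
  refine Nat.mul_lt_mul_of_pos_right ?_ (Nat.pos_of_ne_zero index_ne_zero_of_finite)
  rw [← d.card] at e2 ⊢
  obtain ⟨i, hi⟩ := mso_odd K
  obtain ⟨j, hj⟩ := mso_odd L
  have : i ≠ 1 ∨ j ≠ 1 := by
    by_contra! c; rw [hi, hj, c.1, c.2] at cp; norm_num at cp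
  rw [hi, hj] at e1 e2 ⊢
  obtain ⟨i, rfl⟩ : ∃ k, i = k + 1 := ⟨i - 1, by omega⟩
  obtain ⟨j, rfl⟩ : ∃ k, j = k + 1 := ⟨j - 1, by omega⟩
  have : 1 ≤ i + j := by omega
  nlinarith [Nat.zero_le (i * j)]
theorem TypeP.partner_le (hM : TypeP M) (hK : Hall κ[M] K M) (h1 : X ≤ K) (h2 : (#X).Prime) (hH : IsCoatom H)
    (h3 : N[X] ≤ H) : ¬ Cjg M H ∧ TypeP H ∧ ∃ D, Hall κ[H] D H ∧ Mσ[M] ⊓ C[K] ≤ D ∧ X ≤ Mσ[H] ⊓ C[D] ∧
      K ⊔ (Mσ[M] ⊓ C[K]) ≤ D ⊔ (Mσ[H] ⊓ C[D]) := by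
  have a := hM.le_Msigma hK h1 h2 hH h3
  have X0 := ne_bot_of_prime h2
  have nc := not_cjg_of_sigma (kappa_sigma' (hK.pi.mem_of_card h2 h1 rfl)) ((O_pig _ _).mem_of_card h2 a rfl)
  have zH : K ⊔ (Mσ[M] ⊓ C[K]) ≤ H := hM.inf_N hK h1 X0 (hM.norm_prime hK h1 h2) ▸ inf_le_right.trans h3
  obtain ⟨x, x1, x2⟩ := exists_mem_ne_one X0
  have k : PiG κ[H] (Mσ[M] ⊓ C[K]) := pig_of_elts fun y hy => by
    by_cases y1 : y = 1
    · exact y1 ▸ pie_one _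
    exact ((pi_of_cent_sigma hH (a x1) x2 (mem_inf.2 ⟨zH (mem_sup_right hy), C_le_C1 (h1 x1) hy.2⟩) y1
      (sigma_pig' hM.max hH nc ((O_pig _ _).elt hy.1))).resolve_right fun c =>
        ne_of_not_cjg nc (c.2.2.uniq M hM.max (hM.C1_le hK hy y1)).symm).1
  obtain ⟨D, hD, l⟩ := hall_superset (coatom_sol hH) (le_sup_right.trans zH) k
  have s0 := hM.star_ne_bot hK
  have P := (typeP_iff hH hD).2 (ne_bot_of_le_ne_bot s0 l)
  obtain ⟨Y, y1, y2⟩ := exists_prime_sub' s0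
  have n := P.norm_prime hD (y1.trans l) y2
  refine ⟨nc, P, D, hD, l, ?_, ?_⟩
  · rw [← (P.semiprime hD).cent l s0]; exact le_inf a (h1.trans (cent_symm inf_le_right))
  · rw [← P.inf_N hD (y1.trans l) (ne_bot_of_prime y2) n]
    exact le_inf zH (_root_.sup_le (cents_norm (cent_symm (y1.trans inf_le_right))) (l.trans n))
omit [Finite G] hG in
/-- the data `Z = K × K*` -/
structure ZD (Z M K : Subgroup G) : Prop where
  typeP : TypeP M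
  hall : Hall κ[M] K M
  sup : K ⊔ (Mσ[M] ⊓ C[K]) = Z
theorem ZD.partner (h : ZD Z M K) (h1 : X ≤ K) (h2 : (#X).Prime) : ∃ H D, ZD Z H D ∧ H ≠ M ∧ X ≤ Mσ[H] := by
  obtain ⟨hM, hK, rfl⟩ := h
  obtain ⟨H, hH, h3⟩ := exists_coatom_N (ne_bot_of_prime h2) (pig_of_card' h2 rfl).ne_top
  obtain ⟨a, P, D, hD, b, c, d⟩ := hM.partner_le hK h1 h2 hH h3
  refine ⟨H, D, ⟨P, hD, (eq_of_card_le d ?_).symm⟩, ne_of_not_cjg a, c.trans inf_le_left⟩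
  obtain ⟨Y, y1, y2⟩ := exists_prime_sub' (hM.star_ne_bot hK)
  obtain ⟨-, -, E, hE, -, -, e⟩ := P.partner_le hD (y1.trans b) y2 hM.max (hM.star_uniq hK y1 y2).1.N_le'
  obtain ⟨g, hg, rfl⟩ := hK.conj (coatom_sol hM.max) hE
  refine (card_le e).trans_eq ?_
  rw [← card_cj g (K ⊔ _), cj_sup, cj_inf, cj_C, cj_of_mem_N (O_norm _ _ hg)]
theorem ZD.dprod (h : ZD Z M K) : Dprod K (Mσ[M] ⊓ C[K]) Z := h.sup ▸ h.typeP.dprod h.hall
theorem ZD.le (h : ZD Z M K) : Z ≤ M := h.sup ▸ h.typeP.sup_le h.hall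
theorem ZD.hall_sigma' (h : ZD Z M K) : Hall σ[M]ᶜ K Z := h.sup ▸ h.typeP.hall_sigma' h.hall
theorem ZD.star_eq (h : ZD Z M K) : Mσ[M] ⊓ C[K] = Mσ[M] ⊓ Z :=
  le_antisymm (le_inf inf_le_left h.dprod.right) ((h.sup ▸ h.typeP.hall_sigma h.hall).le_of_normal h.dprod.nr
    ((O_pig _ _).of_le inf_le_left) inf_le_right)
theorem ZD.not_cjg (h : ZD Z M K) (h2 : ZD Z H D) (h3 : H ≠ M) : ¬ Cjg M H := fun c => by
  obtain ⟨X, a, b⟩ := exists_prime_sub' (h.typeP.star_ne_bot h.hall)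
  have l := a.trans h.dprod.right
  refine h3 ((h.typeP.star_uniq h.hall a b).1.eq (h2.typeP.star_uniq h2.hall ?_ b).1)
  rw [h2.star_eq]
  exact le_inf (le_Msigma h2.typeP.max (l.trans h2.le) (c.sigma ▸ (O_pig _ _).of_le (a.trans inf_le_left))) l
theorem ZD.star_le (h : ZD Z M K) (h2 : ZD Z H D) (h3 : H ≠ M) : Mσ[M] ⊓ C[K] ≤ D :=
  h2.hall_sigma'.le_of_normal h2.dprod.nl (sigma_pig' h.typeP.max h2.typeP.max (h.not_cjg h2 h3)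
    ((O_pig _ _).of_le inf_le_left)) h.dprod.right
theorem ZD.count (h : ZD Z M K) (h2 : TypeP1 M) :
    (2 * (↑(Mσ[M] ⊓ Z) \ {1} : Set G).ncard + 1) * Z.index ≤ 2 * (ClS (SigSupp M)).ncard := by
  have hM := h.typeP.max
  obtain ⟨U, u⟩ := ex_kappa_compl hM h.hall
  have e1 := (sdprod_sigma hM u.hall).card
  rw [u.eq_bot_iff.2 h2.pi, bot_sup_eq] at e1
  have e2 := h.dprod.card
  have e3 := M.card_mul_index.trans Z.card_mul_index.symm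
  have e4 := relIndex_mul_index h.le
  have e5 : Z.relIndex M ≠ 1 := fun e => by
    obtain ⟨X, a, b⟩ := exists_prime_sub' (h.typeP.ne_bot h.hall)
    have X0 := ne_bot_of_prime b
    have l : M ≤ N[X] := (relIndex_eq_one.1 e).trans ((h.sup.symm.trans
      (h.typeP.inf_N h.hall a X0 (h.typeP.norm_prime h.hall a b)).symm).le.trans inf_le_right)
    exact X0 (PiG.eq_bot ((O_pig _ _).of_le (h.typeP.le_Msigma h.hall a b hM (coatom_N hM (a.trans h.hall.le) l X0).le))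
      (h.hall_sigma'.pi.of_le a))
  rw [← e1, ← e2, mul_comm _ #K, mul_assoc, mul_assoc, Nat.mul_right_inj (card_ne K), h.star_eq] at e3
  rw [card_clS_sigma hM, Set.ncard_sdiff_singleton_of_mem (one_mem _)]
  change (2 * (#(Mσ[M] ⊓ Z) - 1) + 1) * _ ≤ _
  have := relIndex_pos Z M
  have e6 : 2 * M.index ≤ Z.index := e4 ▸ Nat.mul_le_mul_right _ (by omega)
  obtain ⟨a, ha⟩ := Nat.exists_eq_add_of_le' (card_pos (Mσ[M] ⊓ Z))
  obtain ⟨b, hb⟩ := Nat.exists_eq_add_of_le' (card_pos Mσ[M])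
  rw [ha, hb] at e3 ⊢
  simp only [Nat.succ_eq_add_one, zero_add, Nat.add_sub_cancel] at *
  nlinarith
theorem ZD.exists_p2 (h : ZD Z M K) : ∃ L D, ZD Z L D ∧ TypeP2 L := by
  classical
  by_contra! c
  let I := (Set.toFinite {L | ∃ D, ZD Z L D}).toFinset
  have hI : ∀ {L}, L ∈ I ↔ ∃ D, ZD Z L D := Set.Finite.mem_toFinset _
  let T : Set G := {t | t ∈ Z ∧ t ≠ 1 ∧ ∀ L ∈ I, t ∉ Mσ[L]}
  have hT : ∀ t ∈ T, ∃ L D, ZD Z L D ∧ t ∈ Zhat D (Mσ[L] ⊓ C[D]) := fun t ⟨a, b, d⟩ => by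
    obtain ⟨X, x1, x2, -⟩ := exists_prime_zpowers b
    have l := x1.trans (zpowers_le.2 a)
    have : ∃ L D, ZD Z L D ∧ X ≤ Mσ[L] := by
      by_cases s : #X ∈ σ[M]
      · exact ⟨M, K, h, le_Msigma h.typeP.max (l.trans h.le) (pig_of_card x2 rfl s)⟩
      obtain ⟨H, D, e, -, f⟩ := h.partner (h.hall_sigma'.le_of_normal h.dprod.nl (pig_of_card x2 rfl s) l) x2
      exact ⟨H, D, e, f⟩
    obtain ⟨L, D, e, f⟩ := this
    exact ⟨L, D, e, e.sup ▸ a, fun k => k.elim (fun k => ne_bot_of_prime x2 (PiG.eq_bot ((O_pig _ _).of_le f)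
      (e.hall_sigma'.pi.of_le (x1.trans (zpowers_le.2 k))))) fun k => d L (hI.2 ⟨D, e⟩) k.1⟩
  have c1 : (ClS T).ncard = T.ncard * Z.index := card_clS_of
    (fun g hg t ⟨a, b, d⟩ => ⟨conj_mem (normG Z hg) a, by simpa using b, fun L hL k => d L hL
      ((mem_N.1 (O_norm _ _ ((hI.1 hL).choose_spec.le hg)) t).2 k)⟩)
    fun g t ht k => by
      obtain ⟨L, D, e, f⟩ := hT t ht
      exact e.sup ▸ e.typeP.zhat_ti e.hall f (e.sup.symm ▸ k.1)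
  have c2 : (⋃ L ∈ I, ClS (SigSupp L)).ncard = ∑ L ∈ I, (ClS (SigSupp L)).ncard := by
    rw [← finsum_mem_coe_finset]
    refine I.finite_toSet.ncard_biUnion (fun _ _ => Set.toFinite _) fun L a H b n => ?_
    obtain ⟨D, a⟩ := hI.1 a
    obtain ⟨E, b⟩ := hI.1 b
    exact sigma_support_disjoint a.typeP.max b.typeP.max (a.not_cjg b n.symm)
  have c3 : Disjoint (ClS T) (⋃ L ∈ I, ClS (SigSupp L)) := Set.disjoint_iUnion₂_right.2 fun L a =>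
    disjoint_clS fun t ht => by
      obtain ⟨H, D, e, f⟩ := hT t ht
      exact e.typeP.zhat_not_mem e.hall (hI.1 a).choose_spec.typeP.max f
  have c4 : (ClS T ∪ ⋃ L ∈ I, ClS (SigSupp L)).ncard < Nat.card G := Set.ncard_lt_card fun e => by
    rcases e.ge (Set.mem_univ 1) with ⟨u, t, a, b⟩ | a
    · exact a.2.1 (by simpa using b.symm)
    obtain ⟨L, a, b⟩ := Set.mem_iUnion₂.1 a
    obtain ⟨x, H, d1, d2, d3, d4⟩ := mem_clS_sigSupp.1 b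
    exact d3 (PiE.eq_one ((O_pig _ _).elt d2) (by
      simpa using (Rx_pie (d1.coatom (hI.1 a).choose_spec.typeP.max) d2 d3 d4).inv))
  have c5 : #Z ≤ T.ncard + 1 + ∑ L ∈ I, (↑(Mσ[L] ⊓ Z) \ {1} : Set G).ncard := by
    refine (Set.ncard_le_ncard (s := (Z : Set G)) (t := T ∪ {1} ∪ ⋃ L ∈ I, (↑(Mσ[L] ⊓ Z) \ {1} : Set G))
      fun t ht => ?_).trans ((Set.ncard_union_le _ _).trans (add_le_add
        ((Set.ncard_union_le _ _).trans_eq (by simp)) (I.set_ncard_biUnion_le _)))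
    by_cases a : t = 1
    · exact Or.inl (Or.inr a)
    by_cases b : ∀ L ∈ I, t ∉ Mσ[L]
    · exact Or.inl (Or.inl ⟨ht, a, b⟩)
    push Not at b
    obtain ⟨L, b, d⟩ := b
    exact Or.inr (Set.mem_iUnion₂.2 ⟨L, b, mem_inf.2 ⟨d, ht⟩, a⟩)
  have c6 := Finset.sum_le_sum fun L (a : L ∈ I) => (hI.1 a).choose_spec.count
    ((hI.1 a).choose_spec.typeP.p1_or_p2.resolve_right (c _ _ (hI.1 a).choose_spec))
  have c7 : 1 < I.card := by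
    obtain ⟨X, a, b⟩ := exists_prime_sub' (h.typeP.ne_bot h.hall)
    obtain ⟨H, D, e, f, -⟩ := h.partner a b
    exact Finset.one_lt_card.2 ⟨H, hI.2 ⟨D, e⟩, M, hI.2 ⟨K, h⟩, f⟩
  rw [Set.ncard_union_eq c3, c1, c2, ← Z.card_mul_index] at c4
  rw [← Finset.sum_mul, Finset.sum_add_distrib, ← Finset.mul_sum, ← Finset.mul_sum, Finset.sum_const, smul_eq_mul] at c6
  nlinarith [Nat.mul_le_mul_right Z.index c5, Nat.mul_le_mul_right Z.index c7]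
theorem ZD.swap (h : ZD Z M K) (h2 : ZD Z H D) (h3 : H ≠ M) (h4 : (#K).Prime) :
    Mσ[H] ⊓ C[D] = K ∧ Mσ[M] ⊓ C[K] = D := by
  have a := (eq_bot_or_eq_of_prime h4 (h2.star_le h h3.symm)).resolve_left (h2.typeP.star_ne_bot h2.hall)
  refine ⟨a, eq_of_card_le (h.star_le h2 h3) (Nat.le_of_mul_le_mul_left (le_of_eq ?_) (card_pos K))⟩
  rw [h.dprod.card, ← h2.dprod.card, a, mul_comm]
theorem TypeP.partner (hM : TypeP M) (hK : Hall κ[M] K M) : ∃ H, TypeP H ∧ ¬ Cjg M H ∧ Hall κ[H] (Mσ[M] ⊓ C[K]) H ∧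
    Mσ[H] ⊓ C[Mσ[M] ⊓ C[K]] = K ∧ ((TypeP2 M ∧ (#K).Prime) ∨ (TypeP2 H ∧ (#(Mσ[M] ⊓ C[K])).Prime)) := by
  have h : ZD _ M K := ⟨hM, hK, rfl⟩
  obtain ⟨X, a, b⟩ := exists_prime_sub' (hM.ne_bot hK)
  obtain ⟨H, D, e, f, -⟩ := h.partner a b
  obtain ⟨L, E, c, d⟩ := h.exists_p2
  have k := (d.facts c.hall).2.1
  refine ⟨H, e.typeP, h.not_cjg e f, ?_⟩
  by_cases l1 : L = M
  · subst l1
    rw [c.hall.card_eq hK] at k
    obtain ⟨u, v⟩ := h.swap e f k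
    rw [v]; exact ⟨e.hall, u, Or.inl ⟨d, k⟩⟩
  by_cases l2 : L = H
  · subst l2
    rw [c.hall.card_eq e.hall] at k
    obtain ⟨u, v⟩ := e.swap h f.symm k
    rw [u]; exact ⟨e.hall, v, Or.inr ⟨d, k⟩⟩
  exact absurd (le_bot_iff.1 (e.dprod.inf ▸ le_inf (h.star_le e f)
    ((c.swap h (Ne.symm l1) k).1.trans (c.swap e (Ne.symm l2) k).1.symm).le)) (hM.star_ne_bot hK)
theorem TypeP.inf_C1 (hM : TypeP M) (hK : Hall κ[M] K M) (h : Abel (K ⊔ (Mσ[M] ⊓ C[K]))) (hx : x ∈ K) (h1 : x ≠ 1) :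
    M ⊓ C1[x] = K ⊔ (Mσ[M] ⊓ C[K]) := by
  have l := zpowers_le.2 hx
  refine le_antisymm ?_ (le_inf (hM.sup_le hK) (h.trans (C_le_C1 (mem_sup_left hx))))
  rw [← hM.inf_N hK l (by simpa using h1) (abel_norm (h.of_le le_sup_left) l)]
  exact inf_le_inf_left _ (norm_zpowers le_rfl)
theorem kappa_cyc (h1 : X ≤ M) (h2 : PiG κ[M] X) (h3 : Nil X) : Cyc X :=
  (zg_of_rank1 h1 fun p a b => kappa_rank (h2 p a b)).cyc h3
omit hG in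
theorem exists_of_half {A B : Set G} (hA : Nat.card G < 2 * A.ncard) (hB : Nat.card G < 2 * B.ncard) :
    ∃ x ∈ A, x ∈ B := by
  by_contra! c
  have := Set.ncard_union_eq (Set.disjoint_left.2 c)
  have := Set.ncard_le_card (A ∪ B)
  omega
/-- BG 14.7 -/
theorem typeP_embedding (hM : TypeP M) (hK : Hall κ[M] K M) : ∃ Mstar, PEmb M K (Mσ[M] ⊓ C[K]) Mstar := by
  obtain ⟨H, P, nc, hL, e, p2⟩ := hM.partner hK
  have d := hM.dprod hK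
  have hm := hM.max
  have pK : PiG σ[H] K := e ▸ (O_pig _ _).of_le inf_le_left
  have pL := (hM.hall_sigma hK).pi
  have cp : (#K).Coprime #(Mσ[M] ⊓ C[K]) := (hM.hall_sigma' hK).pi.coprime' pL
  have cy : Cyc (K ⊔ (Mσ[M] ⊓ C[K])) := by
    rcases p2 with ⟨a, b⟩ | ⟨a, b⟩
    · exact d.cyc (cyc_of_prime b) (kappa_cyc hL.le hL.pi ((a.facts hK).2.2.1.of_le inf_le_left)) cp
    · exact d.cyc (kappa_cyc hK.le hK.pi ((a.facts hL).2.2.1.of_le (e.ge.trans inf_le_left))) (cyc_of_prime b) cp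
  have zH : K ⊔ (Mσ[M] ⊓ C[K]) ≤ H := _root_.sup_le (e.ge.trans (inf_le_left.trans (O_le _ _))) hL.le
  have nA : M ⊓ H ≤ N[Mσ[M] ⊓ H] := normI (inf_le_left.trans (O_norm _ _)) (normsG inf_le_right)
  have nB : M ⊓ H ≤ N[Mσ[H] ⊓ M] := normI (inf_le_right.trans (O_norm _ _)) (normsG inf_le_left)
  have cAB : Mσ[M] ⊓ H ≤ C[Mσ[H] ⊓ M] := PiG.cent ((O_pig _ _).of_le inf_le_left)
    (sigma_pig' P.max hm (not_cjg_symm nc) ((O_pig _ _).of_le inf_le_left))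
    ((inf_le_inf_right _ (O_le _ _)).trans nB) ((le_inf inf_le_right (inf_le_left.trans (O_le _ _))).trans nA)
  have eA : Mσ[M] ⊓ H ≤ Mσ[M] ⊓ C[K] :=
    le_inf inf_le_left (cAB.trans (centS (le_inf (e.ge.trans inf_le_left) hK.le)))
  have eB : Mσ[H] ⊓ M = K := le_antisymm ((le_inf inf_le_left ((cent_symm cAB).trans
    (centS (le_inf inf_le_left hL.le)))).trans e.le) (le_inf (e.ge.trans inf_le_left) hK.le)
  have c1 := fun x => hM.inf_C1 (x := x) hK cy.abel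
  have c2 := fun x => P.inf_C1 (x := x) hL (by rw [e, sup_comm]; exact cy.abel)
  rw [e, sup_comm] at c2
  obtain ⟨U, u⟩ := ex_kappa_compl hm hK
  obtain ⟨-, -, ⟨E₁, k1, k2, -⟩, k3, -⟩ := kappa_cases hm u.hall hK le_sup_right (hM.ne_bot hK)
  have t1 := k3 (cy.abel.of_le le_sup_left)
  refine ⟨H, P, nc, fun X a b => (P.star_uniq hL (a.trans e.ge) b).1, hL, ?_, e, ?_, cy, ?_, c1, c2, ?_,
    hM.zhat_nti hK, fun g a z b c => a (hM.zhat_disj hK b c), hM.zhat_half hK, p2, fun L hP => ?_, ?_, ?_, ?_⟩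
  · obtain ⟨Y, a, b⟩ := hall_superset (coatom_sol P.max) hL.le pL
    exact le_antisymm ((le_inf (hM.le_of_meet hK a.pi (by
      rw [inf_eq_right.2 b]; exact hM.star_ne_bot hK)) a.le).trans eA) b ▸ a
  · exact Set.Subset.antisymm (fun p a => t1 p a.1 (hK.dvd a.1 a (kappa_dvd a))) fun p a => hK.pi p a.1
      ((k1.dvd a.1 a (u.hall.dvd a.1 (tau1_sigma' a) (tau1_dvd a))).trans (cardS k2))
  · refine le_antisymm ?_ (le_inf (hM.sup_le hK) zH)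
    rw [← hM.inf_N hK le_rfl (hM.ne_bot hK) (normG K)]
    exact le_inf inf_le_left (eB ▸ nB)
  · intro x a b y c f
    have px := (hM.hall_sigma' hK).pi.elt a
    have cm := mem_C.1 c.2 x a
    refine le_antisymm ?_ (cy.abel.trans (C_le_C1 (mul_mem_sup' a c)))
    rw [← c1 x a b]
    refine le_inf ((C1_le_of_mem_zpowers ?_).trans (hM.C1_le hK c f))
      (C1_le_of_mem_zpowers (pi_part_mem px (PiN.compl_compl (pL.elt c)) cm))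
    rw [cm]; exact pi_part_mem (pL.elt c) px cm.symm
  · obtain ⟨D, hD⟩ := hall_exists κ[L] (coatom_sol hP.max)
    obtain ⟨_, ⟨v, a, a1, rfl⟩, w, b, b1, b2⟩ := exists_of_half (hM.zhat_half hK) (hP.zhat_half hD)
    obtain ⟨y, y1, y2, -, -, y3, -⟩ := hP.zhat_dec hD b1
    obtain ⟨p, p1, p2⟩ := Nat.exists_prime_and_dvd (mt orderOf_eq_one_iff.1 y2)
    have s := (O_pig _ _).elt y1.1 p p1 p2
    have := p2.trans (orderOf_dvd_of_mem_zpowers y3)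
    rw [← (SemiconjBy.conj_mk w b).orderOf_eq.symm, ← b2, ← (SemiconjBy.conj_mk v a).orderOf_eq] at this
    rcases (Nat.Prime.dvd_mul p1).1 (d.card ▸ this.trans (orderOf_dvd a1.1)) with f | f
    · exact Or.inr (cjg_of_sigma P.max hP.max (pK p p1 f) s)
    · exact Or.inl (cjg_of_sigma hm hP.max (pL p p1 f) s)
  · refine le_antisymm (_root_.sup_le (der_le M) hK.le) ((sdprod_sigma hm u.hall).sup.ge.trans (_root_.sup_le
      ((Msigma_le_der hm).trans le_sup_left) (sup_le_sup_right ?_ _)))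
    exact (u.comm_eq hm (hM.ne_bot hK)).ge.trans (commS u.hU.le hK.le)
  · rw [inf_comm]; exact tau1_inf_der t1
  · exact hK.le.trans (der_norm M)

end Cfsg.Agent.BG
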