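import Cfsg.Agent.BG.S14b
/-!
Bender–Glauberman, section 14: 14.8–14.13.
-/
set_option autoImplicit false
set_option linter.unusedSectionVars false
set_option linter.unusedVariables false
set_option linter.deprecated false

namespace Cfsg.Agent.BG
open Subgroup PHom

variable {G : Type*} [Group G] [Finite G] [hG : MSO G]
variable {A A₀ B D E E₁ E₂ E₃ H K L M Mstar P Q R S T U V W X Y Z : Subgroup G} {x y g : G} {π ρ : Set ℕ}
  {p q r m n : ℕ}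

include hG
theorem Cjg.typeP2 (h : Cjg M H) (hM : TypeP2 M) : TypeP2 H := by obtain ⟨g, rfl⟩ := h; exact hM.cj g
theorem Cjg.typeP1 (h : Cjg M H) (hM : TypeP1 M) : TypeP1 H := by obtain ⟨g, rfl⟩ := h; exact hM.cj g
theorem Cjg.typeP (h : Cjg M H) (hM : TypeP M) : TypeP H := by obtain ⟨g, rfl⟩ := h; exact hM.cj g
theorem Cjg.typeF (h : Cjg M H) (hM : TypeF M) : TypeF H := by obtain ⟨g, rfl⟩ := h; exact hM.cj g
/-- BG 14.8(a) -/
theorem typeP1_trans (hM : TypeP1 M) (hH : TypeP1 H) : Cjg M H := by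
  obtain ⟨K, hK⟩ := hall_exists κ[M] (coatom_sol hM.max)
  obtain ⟨L, h⟩ := typeP_embedding hM.toTypeP hK
  exact (h.trans H hH.toTypeP).resolve_right fun c =>
    (c.typeP2 (h.p2.resolve_left fun d => d.1.pi hM.pi).1).pi hH.pi
/-- BG 14.9, first case -/
theorem mso_partition_F (h : ∀ M : Subgroup G, ¬ TypeP M) (hg : g ≠ 1) :
    ∃ M : Subgroup G, IsCoatom M ∧ g ∈ ClS (SigSupp M) := by
  rcases Xor.or (sigma_decomposition_dichotomy hg) with ⟨x, ⟨a, M, b, c⟩, d⟩ | ⟨y, M, a, -, -, -, b, c⟩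
  · exact ⟨M, b, mem_clS_sigSupp.2 ⟨x, M, cjg_refl M, c, a, d⟩⟩
  obtain ⟨p, p1, p2⟩ := Nat.exists_prime_and_dvd (mt orderOf_eq_one_iff.1 b)
  exact absurd ⟨a, p, c p p1 p2⟩ (h M)
theorem zhat_conj (hM : IsCoatom M) (hK : Hall κ[M] K M) (h : Cjg M H) (hD : Hall κ[H] D H)
    (hg : g ∈ Zhat D (Mσ[H] ⊓ C[D])) : g ∈ ClS (Zhat K (Mσ[M] ⊓ C[K])) := by
  obtain ⟨u, rfl⟩ := h
  obtain ⟨v, a, rfl⟩ := (kappa_cj u M ▸ hK.cj u).conj (coatom_sol (coatom_cj' hM u)) hD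
  rw [← cj_of_mem a, ← cj_mul, ← cj_mul, ← cj_Msigma, ← cj_C, ← cj_inf, Zhat, ← cj_sup] at hg
  exact ⟨v * u, (v * u)⁻¹ * g * (v * u), ⟨mem_cj.1 hg.1, fun c => hg.2 (c.imp mem_cj.2 mem_cj.2)⟩, by group⟩
omit [Finite G] hG in
theorem zhat_symm (K L : Subgroup G) : Zhat K L = Zhat L K := by rw [Zhat, Zhat, sup_comm, Set.union_comm]
/-- BG 14.9, second case -/
theorem mso_partition_P (hM : TypeP M) (hK : Hall κ[M] K M) :
    (∀ g : G, g ≠ 1 → (∃ H, IsCoatom H ∧ g ∈ ClS (SigSupp H)) ∨ g ∈ ClS (Zhat K (Mσ[M] ⊓ C[K]))) ∧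
      ∀ H, IsCoatom H → Disjoint (ClS (Zhat K (Mσ[M] ⊓ C[K]))) (ClS (SigSupp H)) := by
  refine ⟨fun g hg => ?_, fun H hH => disjoint_clS fun _ => hM.zhat_not_mem hK hH⟩
  rcases Xor.or (sigma_decomposition_dichotomy hg) with ⟨x, ⟨a, M, b, c⟩, d⟩ | ⟨y, H, a, b, c, d, e, f⟩
  · exact Or.inl ⟨M, b, mem_clS_sigSupp.2 ⟨x, M, cjg_refl M, c, a, d⟩⟩
  obtain ⟨D, hD, l⟩ := hall_superset (coatom_sol a) (zpowers_le.2 d.1) (pig_zpowers.2 f)
  have P := (typeP_iff a hD).2 (ne_bot_of_mem (l (mem_zpowers _)) e)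
  have := P.zhat_mem hD (l (mem_zpowers _)) e (P.semiprime hD _ (l (mem_zpowers _)) e ▸ mem_inf.2 ⟨b, C1_symm d.2⟩) c
  rw [mem_C1.1 d.2, mul_inv_cancel_left] at this
  obtain ⟨L, h⟩ := typeP_embedding hM hK
  refine Or.inr ((h.trans H P).elim (zhat_conj hM.max hK · hD this) fun k => ?_)
  have := zhat_conj h.typeP.max h.hall k hD this
  rwa [h.cent, zhat_symm] at this
theorem TypeF.cent_eq_bot (hM : TypeF M) (hq : q ∈ τ1[M] ∨ q ∈ τ3[M]) (hQ : #Q = q) (h1 : Q ≤ M) :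
    Mσ[M] ⊓ C[Q] = ⊥ :=
  by_contra fun c => (hM.kappa ▸ mem_kappa.2 ⟨hq, Q, h1, hQ, c⟩ : q ∈ (∅ : Set ℕ))
/-- BG 14.11 -/
theorem primes_non_F_typeF (hM : TypeF M) (hE : Hall σ[M]ᶜ E M) (hq : q.Prime) (hQ : #Q = q) (h1 : Q ≤ E)
    (h2 : ¬ Q ≤ F[E]) : ∃ H, IsCoatom H ∧ ((q ∈ τ2[H] ∧ UMax C[Q] H) ∨ (q ∈ κ[H] ∧ TypeP1 H)) := by
  have hm := hM.max
  have pQ := pig_of_card' hq hQ
  have t1 : q ∈ τ1[M] := by
    rcases partition_pi_compl hm hE hq (hQ ▸ cardS h1) with t | t | t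
    · exact t
    · obtain ⟨A, hA⟩ := ex_tau2Elem hE t
      exact absurd ((tau2_p1_le hm hE t hA h1 hQ).trans (le_F hA.le (tau2_norm hm hE t hA) hA.abel.nil)) h2
    · obtain ⟨-, E₃, -, a⟩ := ex_tau13_compl hm hE
      have n := tau3_norm hm hE a
      exact absurd ((a.le_of_normal n (pQ.single_mono t) h1).trans
        (le_F a.le n (tau3_cyc hm (a.le.trans hE.le) a.pi).nil)) h2
  have r := hM.cent_eq_bot (Or.inl t1) hQ (h1.trans hE.le)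
  have ab := der_compl_abel hm hE
  have q' : PiG {q}ᶜ ⁅E, E⁆ := (pin_compl hq).2 fun c => (mem_tau1.1 t1).2.2.2 (c.trans (cardS (derS hE.le)))
  have nQ := h1.trans (der_norm E)
  obtain ⟨-, a, b⟩ := comm_sigma'_p1_cyc hm ((der_le E).trans hE.le) (hE.pi.of_le (der_le E)) hq (tau1_sigma' t1) hQ
    (le_inf (h1.trans hE.le) nQ) r q' ab
  obtain ⟨X, x1, x2⟩ := exists_prime_sub' (A := ⁅⁅E, E⁆, Q⁆) fun e => h2 (le_sup_right.trans (le_F
    (sup_le (der_le E) h1) (norm_of_der_le le_sup_left (sup_le (der_le E) h1))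
    (ab.nil.sup_cent pQ.nil (comm_eq_bot.1 e))))
  have xE := x1.trans (comm_le (der_le E) h1)
  have X0 := ne_bot_of_prime x2
  have t2 := (prime_class_norm hm x2 (pig_of_card' x2 rfl) (coatom_N hm (xE.trans hE.le) (a.norm_sub x1 b) X0).le
    ).resolve_left (hE.pi.mem_of_card x2 xE rfl)
  obtain ⟨A, hA⟩ := ex_tau2Elem hE t2
  have nc : ¬ A ≤ C[Q] := fun c => X0 (le_bot_iff.1 (cop_abel_C_comm ab nQ (pQ.coprime q') ▸
    le_inf x1 ((tau2_p1_le hm hE t2 hA xE rfl).trans c)))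
  have c := (tau1_act_tau2 hm hE t2 hA t1 hQ h1 r (mt comm_eq_bot.1 nc)).2.2.1
  obtain ⟨H, hH, d⟩ := exists_coatom_N (hA.ne_bot x2) (hA.pig x2).ne_top
  obtain ⟨e1, e2, -⟩ := primes_norm_tau2Elem hm hE t2 hA hH d
  have nA := tau2_norm hm hE t2 hA
  have s : q ∉ σ[H] := fun s => nc (cent_symm (PiG.le_of_idx (pQ.single_mono s) (normC nA) h1
    (e2.mono fun _ h => h.elim tau1_sigma' tau2_sigma')))
  obtain ⟨x, y1, y2⟩ := exists_mem_ne_one (ne_bot_of_prime (c ▸ x2))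
  obtain ⟨y, z1, z2⟩ := exists_mem_ne_one (ne_bot_of_prime (hQ ▸ hq))
  have o := (pQ.elt z1).dvd z2
  rcases pi_of_cent_sigma hH (le_Msigma hH (hA.le.trans (nA.trans d)) ((hA.pig x2).single_mono (e1 _ t2).1) y1.1) y2
    (mem_inf.2 ⟨d (nA (h1 z1)), C1_symm (C_le_C1 z1 y1.2)⟩) z2 ((pQ.elt z1).single_mono s) with f | f
  · have P : TypeP H := ⟨hH, q, f.1 q hq o⟩
    obtain ⟨K, hK⟩ := hall_exists κ[H] (coatom_sol hH)
    exact ⟨H, hH, Or.inr ⟨f.1 q hq o, P.p1_or_p2.resolve_right fun k => (e1 _ t2).2 ((k.facts hK).1 ▸ (e1 _ t2).1)⟩⟩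
  · exact ⟨H, hH, Or.inl ⟨f.1 q hq o, C1_eq_of_prime (hQ ▸ hq) z1 z2 ▸ f.2.2⟩⟩
/-- BG 14.12 -/
theorem typeP2_signalizer (hM : TypeP2 M) (h : KappaCompl M U K) (h1 : IsCoatom Mstar) (h2 : C[K] ≤ Mstar)
    (hr : r.Prime) (hR : Syl r R U) (hH : IsCoatom H) (h3 : N[R] ≤ H) :
    TypeF H ∧ U ≤ Mσ[H] ∧ U ⊔ K = M ⊓ H ∧ ¬ H ⊓ N[U] ≤ M ∧ K ≤ F[H ⊓ Mstar] ∧ Hall σ[H]ᶜ (H ⊓ Mstar) H := by
  have hm := hM.max
  have hK := h.hK
  have K0 := hM.toTypeP.ne_bot hK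
  obtain ⟨L, e⟩ := typeP_embedding hM.toTypeP hK
  have kp := (hM.facts hK).2.1
  have u := e.uniq K le_rfl kp
  obtain rfl := u.uniq _ h1 h2
  obtain ⟨hE, sd, -, -, ab⟩ := kappa_compl_context hm h
  have R0 : R ≠ ⊥ := fun c => hH.1 (top_le_iff.1 (by rwa [c, N_bot] at h3))
  have U0 := ne_bot_of_le_ne_bot R0 hR.le
  have rU := h.hU.pi r hr ((hR.pi.dvd R0).trans (cardS hR.le))
  have EH : U ⊔ K ≤ H := (hR.norm_char (abel_norm (ab K0) hR.le) sd.nl).trans h3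
  have UH := le_sup_left.trans EH
  have KH := le_sup_right.trans EH
  have KS : K ≤ Mσ[Mstar] := e.cent.ge.trans inf_le_left
  have qS := (O_pig _ _).mem_of_card kp KS rfl
  have pK := pig_of_card' kp rfl
  have n1 : ¬ Cjg M H := fun c => by
    refine rU (Or.inl (c.sigma ▸ sigma_of hH hr ?_ h3))
    obtain ⟨g, rfl⟩ := c
    exact ((h.hU.syl rU hR).cj g).of_card (hR.le.trans UH) (card_cj g R).symm
  have n0 : H ≠ Mstar := fun c => U0 (PiG.eq_bot (PiG.of_le ((hM.toTypeP.dprod hK).prod.pig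
    (hK.pi.mono Set.subset_union_right) (PiG.of_le ((O_pig _ _).mono Set.subset_union_left) inf_le_left))
    (e.inf ▸ le_inf h.hU.le (c ▸ UH))) h.hU.pi)
  have n2 : ¬ Cjg Mstar H := fun ⟨g, c⟩ => n0 (by
    rw [← c, cj_of_mem ((cent_uniq_sigma h1 qS pK (KS.trans (O_le _ _)) h2).2 g (c ▸ KH))])
  have F : TypeF H := (typeF_or_typeP hH).resolve_right fun c => (e.trans H c).elim n1 n2
  have sK : PiG σ[H]ᶜ K := sigma_pig' h1 hH n2 ((O_pig _ _).of_le KS)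
  obtain ⟨D, hD, l⟩ := ex_sigma_compl hH KH sK
  have KF : K ≤ F[D] := by_contra fun c => by
    obtain ⟨N, a, b | b⟩ := primes_non_F_typeF F hD kp rfl l c
    · exact tau2_sigma' b.1 (u.eq b.2 ▸ qS)
    · exact (e.trans N b.2.toTypeP).elim (fun k => (k.typeP2 hM).pi b.2.pi) fun k => kappa_sigma' b.1 (k.sigma ▸ qS)
  have KO : K ≤ O[{#K}](D) := O_F #K D ▸ (F_nil D).le_O KF pK
  have sH := sdprod_sigma hH hD
  have US : U ≤ Mσ[H] := by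
    refine le_of_sup_pi (hD.norm_Msigma (O_le _ _)) (O_pig {#K} D) ((h.comm_eq hm K0).ge.trans
      ((commS le_rfl (KO.trans le_sup_right)).trans (commR (UH.trans (sH.sup.ge.trans (sup_le (normsG le_sup_left)
        (normY sH.norm (O_norm _ _)))))))) (h.kappa'.compl_single (hK.pi.mem_of_card kp le_rfl rfl))
  have i1 : Mσ[M] ⊓ Mσ[H] = ⊥ := PiG.inf_bot' (sigma_pig' hm hH n1 (O_pig _ _)) (O_pig _ _)
  have i2 : Mσ[Mstar] ⊓ Mσ[H] = ⊥ := PiG.inf_bot' (sigma_pig' h1 hH n2 (O_pig _ _)) (O_pig _ _)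
  have e1 : U ⊔ K = M ⊓ H := by
    rw [← ((sdprod_sigma hm hE).modr EH).sup, show Mσ[M] ⊓ H = ⊥ from le_bot_iff.1 (h.cent_eq_bot hm U0 ▸ le_inf
      inf_le_left (comm_eq_bot.1 (le_bot_iff.1 (i1 ▸ le_inf ((commS inf_le_left le_rfl).trans
        (commL (h.hU.le.trans (O_norm _ _)))) ((commS le_rfl US).trans (commR (inf_le_right.trans (O_norm _ _)))))))),
      bot_sup_eq]
  have DS : D ≤ Mstar := by
    by_cases c : Cyc O[{#K}](D)
    · exact (c.norm_sub KO (O_norm _ _)).trans u.N_le'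
    exact (O_norm _ _).trans (norm_noncyc_sigma h1 qS (O_pig _ _) (((sigma'_nil_abel hH ((O_le _ _).trans hD.le)
      (hD.pi.of_le (O_le _ _)) (O_pig _ _).nil).trans (centS KO)).trans h2) c)
  have e2 : H ⊓ Mstar = D := by
    rw [← (sH.modr DS).sup, show Mσ[H] ⊓ Mstar = ⊥ from by_contra fun c => ?_, bot_sup_eq]
    obtain ⟨x, x1, x2⟩ := exists_mem_ne_one c
    obtain ⟨y, y1, y2⟩ := exists_mem_ne_one K0
    have : Mσ[H] ⊓ Mstar ≤ C[K] := comm_eq_bot.1 (le_bot_iff.1 (i2 ▸ le_inf ((commS le_rfl KS).trans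
      (commR (inf_le_right.trans (O_norm _ _)))) ((commS inf_le_left le_rfl).trans (commL (KH.trans (O_norm _ _))))))
    rcases pi_of_cent_sigma hH x1.1 x2 (mem_inf.2 ⟨KH y1, C1_symm (C_le_C1 y1 (this x1))⟩) y2 (sK.elt y1) with f | f
    · exact (F.kappa ▸ f.1 _ kp ((pK.elt y1).dvd y2) : #K ∈ (∅ : Set ℕ))
    · exact n0 (u.eq (C1_eq_of_prime kp y1 y2 ▸ f.2.2))
  refine ⟨F, US, e1, fun c => ne_of_not_cjg n1 ?_, e2 ▸ KF, e2 ▸ hD⟩
  have : U = Mσ[H] := (notP1_Msigma_nil (Or.inl F)).eq_of_norm US (le_of_sup_pi h.norm sK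
    (e1 ▸ le_inf ((inf_le_inf_right _ (O_le _ _)).trans c) (inf_le_left.trans (O_le _ _)))
    (PiN.compl_compl ((O_pig _ _).of_le inf_le_left)))
  rw [this, N_Msigma hH, inf_idem] at c
  exact (coatom_eq' hH hm c).symm
theorem cjg_of_rank1 (hp : p.Prime) (h : r[p](M) ≤ 1) (h1 : X ≤ M) (h2 : Y ≤ M) (hX : #X = p) (hY : #Y = p) :
    Cjg X Y := by
  obtain ⟨S, hS, d⟩ := syl_superset hp h2 (pig_of_card' hp hY)
  obtain ⟨g, -, e⟩ := hS.cj_sub hp h1 (pig_of_card' hp hX)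
  exact ⟨g, (odd_pgroup_rank1_cyc hS.pi (mso_odd _) (by rwa [hS.pRank hp])).eq_of_card e d (by rw [card_cj, hX, hY])⟩
/-- BG 14.13(a) -/
theorem non_disjoint_signalizer_frob (hM : IsCoatom M) (hx : x ∈ Mσ[M]) (h1 : x ≠ 1) (h2 : ¬ C1[x] ≤ M)
    (hL : IsCoatom L) (h3 : C1[x] ≤ L) (h4 : ¬ PiG σ[L]ᶜ M) : TypeF M ∧ τ2[M] = ∅ := by
  obtain ⟨N, u, -, -, a1, -, a2, a3, a4⟩ := signalizer_base hM hx h1 h2
  obtain rfl := u.uniq L hL h3
  unfold PiG PiN Core.IsPiNum at h4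
  push Not at h4
  obtain ⟨q, hq, q1, q2⟩ := h4
  rw [Set.notMem_compl_iff] at q2
  have qb := a3 q q1 q2
  obtain ⟨p, hp, p1⟩ := Nat.exists_prime_and_dvd (mt orderOf_eq_one_iff.1 h1)
  have t2 := a1 p hp p1
  have qM : q ∉ σ[M] := fun c => tau2_sigma' t2 ((cjg_of_sigma hM hL c q2).sigma ▸ a2 t2)
  obtain ⟨Q, Q1, Q2⟩ := exists_prime_sub hq q1
  have pQ := pig_of_card' hq Q2
  obtain ⟨g, hg⟩ := sigma_cj_le hL (pQ.single_mono q2)
  have uQ := (cent_der_sigma_uniq hL hq ((card_cj g Q).trans Q2) (hg.trans (O_le _ _)) (Or.inl qb)).1.cj g⁻¹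
  rw [cj_C, cj_inv_cj] at uQ
  have F : TypeF M := (typeF_or_typeP hM).resolve_right fun P => by
    by_cases c : PiG (σ[M] ∪ κ[M]) M
    · obtain ⟨K, hK, l⟩ := hall_superset (coatom_sol hM) Q1 (pQ.single_mono ((c q hq q1).resolve_left qM))
      obtain ⟨S, e⟩ := typeP_embedding P hK
      have := (e.cyc.of_le le_sup_right).pRank_le hp
      rw [e.hall'.pRank hp (a2 t2), uQ.eq (e.uniq Q l (Q2 ▸ hq)), pRank_cj hp, tau2_rank t2] at this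
      omega
    · obtain ⟨K, hK⟩ := hall_exists κ[M] (coatom_sol hM)
      exact (tau2_not_beta hL t2).1 (mem_beta.1 ((TypeP2.facts ⟨P, c⟩ hK).1 ▸ a2 t2)).2
  refine ⟨F, Set.eq_empty_of_forall_notMem fun r t => ?_⟩
  have hr := tau2_prime t
  have rk : r[r](cj g⁻¹ L) ≤ 1 := by
    rw [pRank_cj hr]
    by_contra! c
    have s : r ∉ σ[L] := fun s => (tau2_not_beta hM t).1 (mem_beta.1 (a3 r (tau2_dvd t) s)).2
    exact tau2_sigma' t (a2 (mem_tau2.2 ⟨hr, s, le_antisymm (sigma'_rank_le hL hr s) c⟩))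
  obtain ⟨E, hE, l⟩ := ex_sigma_compl hM Q1 (pQ.single_mono qM)
  obtain ⟨A, hA⟩ := ex_tau2Elem hE t
  have nc : ¬ A ≤ C[Q] := fun c => by have := (hA.sub (c.trans uQ.le)).le_pRank hr; omega
  have t1 : q ∈ τ1[M] := by
    rcases partition_pi_compl hM hE hq (Q2 ▸ cardS l) with k | k | k
    · exact k
    · exact absurd (mem_beta.1 qb).2 (tau2_not_beta hM k).1
    · exact absurd (tau2_cent_tau3 hM hE t hA l (pQ.single_mono k)) nc
  obtain ⟨⟨b1, b2, -⟩, b3, b4, -⟩ := tau1_act_tau2 hM hE t hA t1 Q2 l (F.cent_eq_bot (Or.inl t1) Q2 Q1)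
    (mt comm_eq_bot.1 nc)
  obtain ⟨B, hB⟩ := ex_tau2Elem a4 t2
  refine b3 (cjg_cj_right.1 (cjg_of_rank1 hr rk (inf_le_right.trans uQ.le) (cj_mono _ (b2 ▸ inf_le_right.trans
    ((centS (le_Msigma hM (hB.le.trans inf_le_left) ((hB.pig hp).single_mono (a2 t2)))).trans
      (cent_p2Elem_le hL hp (hB.mono inf_le_right))))) b4 ((card_cj _ _).trans b1)))
/-- BG 14.13(b) -/
theorem signalizer_base_conj (hM : IsCoatom M) (hx : x ∈ Mσ[M]) (h1 : x ≠ 1) (h2 : ¬ C1[x] ≤ M)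
    (hL : IsCoatom L) (h3 : C1[x] ≤ L) (hy : y ∈ Mσ[M]) (h4 : y ≠ 1) (h5 : ¬ C1[y] ≤ M) (hH : IsCoatom H)
    (h6 : C1[y] ≤ H) (h7 : cj g H = L) : ∃ m ∈ M, cj m H = L := by
  obtain ⟨N, u, -, -, a1, -, a2, -, a4⟩ := signalizer_base hM hx h1 h2
  obtain rfl := u.uniq L hL h3
  obtain ⟨N, v, -, -, -, -, -, -, b4⟩ := signalizer_base hM hy h4 h5
  obtain rfl := v.uniq H hH h6
  have := b4.cj g
  rw [← sigma_cj g H, h7] at this
  obtain ⟨l, l1, e⟩ := this.conj (coatom_sol hL) a4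
  obtain ⟨p, hp, p1⟩ := Nat.exists_prime_and_dvd (mt orderOf_eq_one_iff.1 h1)
  have t2 := a1 p hp p1
  obtain ⟨A, hA⟩ := ex_tau2Elem a4 t2
  obtain ⟨c, c1, m, m1, f⟩ := sigma_group_trans (g := (l * g)⁻¹) hM (a2 t2) (hA.pig hp) (hA.le.trans inf_le_left)
    (le_cj_iff.1 (hA.le.trans (e.ge.trans (by rw [← cj_mul]; exact cj_mono _ inf_le_left))))
  refine ⟨m⁻¹, inv_mem m1, ?_⟩
  rw [show m⁻¹ = c * (l * g) by rw [← inv_inv (l * g), f]; group, cj_mul, cj_mul, h7, cj_of_mem l1,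
    cj_of_mem (cent_p2Elem_le hL hp (hA.mono inf_le_right) c1)]

end Cfsg.Agent.BG
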