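import Cfsg.Agent.BG.S14c
/-!
Bender–Glauberman, section 15: the subgroup `M_F`; 15.1, 15.2.
-/
set_option autoImplicit false

namespace Cfsg.Agent.BG
open Subgroup PHom

variable {G : Type*} [Group G] [Finite G] [hG : MSO G]
variable {A A₀ B D E E₁ E₂ E₃ H K L M Mstar P Q R S T U V W X Y Z : Subgroup G} {x y g : G} {π ρ : Set ℕ}
  {p q r m n : ℕ}

section MF
omit hG
theorem MF_le (M : Subgroup G) : MF[M] ≤ M := map_subtype_le _
theorem MF_norm (M : Subgroup G) : M ≤ N[MF[M]] := by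
  have := norm_map (norm_of_normal (A := fittingHall M) ⊤) M.subtype
  rwa [map_subtype_top] at this
theorem le_MF' (h : H ≤ M) (h1 : M ≤ N[H]) (h2 : Nil H) (h3 : (#H).Coprime (H.relIndex M)) : H ≤ MF[M] := by
  have a : H.subgroupOf M ≤ fittingHall M := le_sSup ⟨normal_subgroupOf h1,
    Nil.equiv h2 (subgroupOfEquivOfLe h).symm, by rwa [Core.card_subgroupOf_of_le h]⟩
  rw [← map_subgroupOf_eq_of_le h]; exact map_mono a
theorem MF_le_of (h : ∀ H ≤ M, M ≤ N[H] → Nil H → (#H).Coprime (H.relIndex M) → H ≤ K) : MF[M] ≤ K := by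
  rw [fittingHallOf, map_le_iff_le_comap]
  refine sSup_le fun H ⟨a, b, c⟩ => map_le_iff_le_comap.1 (h _ (map_subtype_le _) ?_ (Nil.map b _) ?_)
  · have := norm_map (norm_of_normal (A := H) ⊤) M.subtype
    rwa [map_subtype_top] at this
  · rwa [card_map_inj M.subtype_injective, relIndex, ← comap_subtype, comap_map_eq_self_of_injective M.subtype_injective]
theorem MF_le_F (M : Subgroup G) : MF[M] ≤ F[M] := MF_le_of fun _ a b c _ => le_F a b c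
theorem MF_nil (M : Subgroup G) : Nil MF[M] := (F_nil M).of_le (MF_le_F M)
theorem le_MF (h : Hall π H M) (h1 : M ≤ N[H]) (h2 : Nil H) : H ≤ MF[M] := le_MF' h.le h1 h2 h.coprime
theorem MF_hall' (M : Subgroup G) : Hall {p | Syl p O[{p}](M) M} MF[M] M := by
  have a : Hall {p | Syl p O[{p}](M) M} O[{p | Syl p O[{p}](M) M}](F[M]) M :=
    ⟨(O_le _ _).trans (F_le M), O_pig _ _, fun q hq b c => c.not_dvd hq (b.trans (relIndex_dvd_left
      ((F_nil M).le_O (O_le_F q M) ((O_pig _ _).single_mono c)) M))⟩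
  rwa [le_antisymm (le_MF a (normO _ (F_norm M)) ((F_nil M).of_le (O_le _ _))) (MF_le_of fun H b c d e =>
    (F_nil M).le_O (le_F b c d) fun q hq f => ((hall_of_coprime b e).syl f (d.hall_O _)).hall_O (normO _ c))] at a
theorem MF_hall (M : Subgroup G) : Hall (piOf MF[M]) MF[M] M := hall_of_coprime (MF_le M) (MF_hall' M).coprime
theorem cj_MF (g : G) (M : Subgroup G) : cj g MF[M] = MF[cj g M] := by
  have key : ∀ (g : G) (M : Subgroup G), cj g MF[M] ≤ MF[cj g M] := fun g M =>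
    le_MF ((MF_hall M).cj g) (norm_cj.2 (MF_norm M)) (nil_cj.2 (MF_nil M))
  exact le_antisymm (key g M) (le_cj_iff.2 (by simpa using key g⁻¹ (cj g M)))
theorem normMF (h : X ≤ N[M]) : X ≤ N[MF[M]] := norm_fun _ cj_MF h
theorem MF_O_hall (h : ∀ p, p.Prime → p ∈ π → p ∣ #M → p ∣ #MF[M]) : Hall π O[π](MF[M]) M :=
  ((MF_nil M).hall_O π).trans' (MF_le M) fun q hq a b =>
    (MF_hall M).idx q hq a (h q hq b (a.trans (relIndex_dvd _ _)))
theorem MF_syl (h : p ∣ #MF[M]) : Syl p O[{p}](M) M := by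
  by_cases hp : p.Prime
  · exact (MF_hall' M).pi p hp h
  · exact ⟨O_le _ _, O_pig _ _, fun q hq _ e => hp (e ▸ hq)⟩
theorem O_MF (h : p ∣ #MF[M]) : O[{p}](MF[M]) = O[{p}](M) :=
  O_eq_of_normal _ (MF_le M) (MF_norm M) (le_MF (MF_syl h) (O_norm _ _) (O_pig _ _).nil)
end MF
omit hG in
theorem exists_regular_exp (h : ∀ q, q.Prime → q ∣ #E → ∃ z ∈ E, PiE {q} z ∧ E ≤ N[zpowers z] ∧
    Semireg K (zpowers z) ∧ ∀ y ∈ E, PiE {q} y → orderOf y ∣ orderOf z) :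
    ∃ W ≤ E, Monoid.exponent W = Monoid.exponent E ∧ Semireg K W := by
  obtain ⟨W, -, ⟨a, c, d, e⟩, f⟩ := exists_maximal (A := ⊥) (P := fun W => W ≤ E ∧ E ≤ N[W] ∧
    Semireg K W ∧ ∀ q, q.Prime → q ∣ #W → ∀ y ∈ E, PiE {q} y → ∃ w ∈ W, orderOf y ∣ orderOf w)
    ⟨bot_le, norm_bot _, semireg_bot_r _, fun q hq g => absurd (by simpa using g) hq.ne_one⟩
  refine ⟨W, a, exp_eq_of a fun q hq y y1 y0 y2 => ?_, d⟩
  by_cases k : q ∣ #W
  · exact e q hq k y y1 y2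
  obtain ⟨z, z1, z2, z3, z4, z5⟩ := h q hq ((y2.dvd y0).trans (orderOf_dvd y1))
  have l := zpowers_le.2 z1
  have pz := pig_zpowers.2 z2
  have q' : PiG {q}ᶜ W := (pin_compl hq).2 k
  have := f (W ⊔ zpowers z) ⟨sup_le a l, normY c z3,
    semireg_of_prime_sub fun X x1 x2 => ?_, fun r hr' x1 u u1 u2 => ?_⟩ le_sup_left
  · exact ⟨z, this.le (le_sup_right (a := W) (mem_zpowers z)), z5 y y1 y2⟩
  · by_cases x3 : #X = q
    · exact z4.cent (le_of_sup_pi (a.trans z3) q' (x1.trans (sup_comm _ _).le) (pig_of_card' hq x3).compl_compl)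
        (ne_bot_of_prime x2)
    · exact d.cent (le_of_sup_pi (l.trans c) pz x1 ((pig_of_card' x2 rfl).ne_compl x3)) (ne_bot_of_prime x2)
  · rcases (Nat.Prime.dvd_mul hr').1 (x1.trans (card_sup_dvd_l (l.trans c))) with x2 | x2
    · obtain ⟨w, w1, w2⟩ := e r hr' x2 u u1 u2
      exact ⟨w, le_sup_left (b := zpowers z) w1, w2⟩
    · exact ⟨z, le_sup_right (a := W) (mem_zpowers z), z5 u u1 (pz.eq_prime hr' x2 ▸ u2)⟩
include hG
theorem MF_le_Msigma (hM : IsCoatom M) : MF[M] ≤ Mσ[M] :=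
  le_Msigma hM (MF_le M) fun p hp a => sigma_of hM hp (MF_syl a) (coatom_N hM (O_le _ _) (O_norm _ _)
    ((MF_syl a).ne_bot' hp (a.trans (cardS (MF_le M))))).le
theorem MF_eq_Msigma_iff (hM : IsCoatom M) : MF[M] = Mσ[M] ↔ Nil Mσ[M] :=
  ⟨fun h => h ▸ MF_nil M, fun h => le_antisymm (MF_le_Msigma hM) (le_MF (Msigma_hall hM) (O_norm _ _) h)⟩
theorem kappa_hall_cyc (hM : IsCoatom M) (hK : Hall κ[M] K M) : Cyc K := by
  by_cases h : K = ⊥
  · rw [h]; exact cyc_bot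
  obtain ⟨L, a⟩ := typeP_embedding ((typeP_iff hM hK).2 h) hK
  exact a.cyc.of_le le_sup_left
theorem der2_le_Msigma (hM : IsCoatom M) : ⁅⁅M, M⁆, ⁅M, M⁆⁆ ≤ Mσ[M] := by
  obtain ⟨E, hE⟩ := hall_exists σ[M]ᶜ (coatom_sol hM)
  have a := (sdprod_sigma hM hE).prod.der_le (O_norm _ _)
  have n := hE.norm_Msigma (der_le E)
  have b := (isProd_l n).der_le (sup_le (normG _) n)
  rw [abel_iff_der.1 (der_compl_abel hM hE), bot_sup_eq] at b
  exact (derS (a.trans (sup_comm _ _).le)).trans b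
theorem tau2_cent_facts (hM : IsCoatom M) (h1 : X ≤ M) (h2 : PiG τ2[M] X) (h0 : X ≠ ⊥) (h3 : Mσ[M] ⊓ C[X] ≠ ⊥) :
    UMax C[X] M ∧ Cyc X := by
  obtain ⟨E, hE, a⟩ := ex_sigma_compl hM h1 h2.tau2_sigma'
  obtain ⟨E₂, b, c⟩ := hall_superset (sol_of_le hM hE.le) a h2
  obtain ⟨p, d, A, hA⟩ := ex_tau2_of_ne hE b fun e => h0 (le_bot_iff.1 (e ▸ c))
  have ab := tau2_compl_abel hM hE b
  refine ⟨tau2_cent_umax hM d (hA.mono hE.le) h0 (centSS ab (tau2Elem_le hM hE d hA b) c) h3,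
    (ab.of_le c).cyc_of_rank (rank_le_iff.2 fun q hq => pRank_le_of hq fun B hB => h3 ?_)⟩
  exact le_bot_iff.1 ((inf_le_inf_left _ (centS hB.le)).trans
    (tau2_inf_cent hM (h2 q hq hB.dvd) (hB.mono h1)).le)
theorem sigma_kappa'_cent_tau2 (hM : IsCoatom M) (h1 : X ≤ M) (h2 : PiG (σ[M] ∪ κ[M])ᶜ X) (h3 : Mσ[M] ⊓ C[X] ≠ ⊥) :
    PiG τ2[M] X := fun q hq a => by
  obtain ⟨Y, b, c⟩ := exists_prime_sub hq a
  have d := not_or.1 (h2 q hq a)
  have e : ¬ (q ∈ τ1[M] ∨ q ∈ τ3[M]) := fun e => d.2 (mem_kappa.2 ⟨e, Y, b.trans h1, c, fun f =>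
    h3 (le_bot_iff.1 ((inf_le_inf_left _ (centS b)).trans f.le))⟩)
  have := partition_pi hM hq (a.trans (cardS h1))
  tauto
theorem KappaCompl.sd_l (hM : IsCoatom M) (h : KappaCompl M U K) : Sdprod Mσ[M] U (Mσ[M] ⊔ U) :=
  sdprod_sup (PiG.inf_bot (O_pig _ _) h.sigma') (h.hU.le.trans (O_norm _ _))
theorem KappaCompl.sd_r (hM : IsCoatom M) (h : KappaCompl M U K) : Sdprod (Mσ[M] ⊔ U) K M :=
  ⟨by rw [sup_assoc]; exact (sdprod_sigma hM h.hall).sup,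
    PiG.inf_bot' ((h.sd_l hM).prod.pig ((O_pig _ _).mono' fun _ _ _ a b => kappa_sigma' b a) h.kappa') h.hK.pi,
    normY (h.hK.le.trans (O_norm _ _)) h.norm⟩
theorem KappaCompl.der_eq (hM : IsCoatom M) (h : KappaCompl M U K) (h0 : K ≠ ⊥) : Mσ[M] ⊔ U = ⁅M, M⁆ := by
  obtain ⟨L, a⟩ := typeP_embedding ((typeP_iff hM h.hK).2 h0) h.hK
  have b := (h.sd_r hM).hall_compl' h.hK
  have c := a.der.hall_compl' h.hK
  exact b.eq_of_le c (c.le_of_normal (der_norm M) b.pi b.le)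
/-- BG 15.1 -/
theorem kappa_structure (hM : IsCoatom M) (h : KappaCompl M U K) :
    (Sdprod Mσ[M] U (Mσ[M] ⊔ U) ∧ Sdprod (Mσ[M] ⊔ U) K M ∧ Cyc K ∧ ⁅⁅M, M⁆, ⁅M, M⁆⁆ ≤ Mσ[M]) ∧
      (K ≠ ⊥ → Mσ[M] ⊔ U = ⁅M, M⁆ ∧ Abel U) ∧
      (∀ X ≤ U, X ≠ ⊥ → Mσ[M] ⊓ C[X] ≠ ⊥ → UMax C[X] M ∧ Cyc X ∧ PiG τ2[M] X) ∧
      (∃ A ≤ U, U ≤ N[A] ∧ Abel A ∧ ∀ x ∈ Mσ[M], x ≠ 1 → U ⊓ C1[x] ≤ A) ∧
      ∃ U₀ ≤ U, Monoid.exponent U₀ = Monoid.exponent U ∧ Semireg Mσ[M] U₀ := by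
  have ab := (kappa_compl_context hM h).2.2.2.2
  refine ⟨⟨h.sd_l hM, h.sd_r hM, kappa_hall_cyc hM h.hK, der2_le_Msigma hM⟩, fun a => ⟨h.der_eq hM a, ab a⟩,
    fun X a b c => ?_, ?_⟩
  · have d := sigma_kappa'_cent_tau2 hM (a.trans h.hU.le) (h.hU.pi.of_le a) c
    obtain ⟨e, f⟩ := tau2_cent_facts hM (a.trans h.hU.le) d b c
    exact ⟨e, f, d⟩
  by_cases a : K = ⊥
  · have hE := h.hall
    rw [a, sup_bot_eq] at hE
    refine typeF_complement hM hE fun e b c d => by_contra fun f => ?_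
    obtain ⟨X, x1, x2, x3⟩ := exists_prime_zpowers c
    have x4 := x1.trans (zpowers_le.2 b)
    exact h.kappa' _ x2 (cardS x4) (mem_kappa.2 ⟨(pig_zpowers.2 d).mem_of_card x2 x1 rfl, X, x4.trans hE.le, rfl,
      fun g => f (le_bot_iff.1 ((inf_le_inf_left _ x3).trans g.le))⟩)
  have aU := ab a
  refine ⟨⟨U, le_rfl, normG U, aU, fun _ _ _ => inf_le_left⟩, exists_regular_exp fun q hq b => ?_⟩
  obtain ⟨S, hS⟩ := syl_exists hq U
  have c := h.hU.pi q hq b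
  have hSM := h.hU.syl c hS
  suffices ∃ z ∈ S, Semireg Mσ[M] (zpowers z) ∧ ∀ s ∈ S, orderOf s ∣ orderOf z by
    obtain ⟨z, d, e, f⟩ := this
    exact ⟨z, hS.le d, hS.pi.elt d, abel_norm aU (zpowers_le.2 (hS.le d)), e,
      fun y i j => f y (hS.mem_of_normal (abel_norm aU hS.le) j i)⟩
  by_cases t : q ∈ τ2[M]
  · obtain ⟨A, hA⟩ := exists_pnElem hq (by rw [Syl.pRank hSM hq, tau2_rank t] : 2 ≤ r[q](S))
    exact ex_cyc_central hM t (hA.mono hSM.le) hSM hA.le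
  have d : q ∈ τ1[M] ∨ q ∈ τ3[M] := by
    have := partition_pi hM hq (b.trans (cardS h.hU.le))
    have := not_or.1 c
    tauto
  obtain ⟨z, rfl⟩ := cyc_iff.1 (odd_pgroup_rank1_cyc hS.pi (mso_odd _)
    (by rw [Syl.pRank hSM hq, d.elim tau1_rank tau3_rank]))
  exact ⟨z, mem_zpowers z, semireg_of_prime_sub fun X e f => by_contra fun g => t
    (hS.pi.eq_prime f (cardS e) ▸ sigma_kappa'_cent_tau2 hM (e.trans hSM.le) (h.hU.pi.of_le (e.trans hS.le)) g _ f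
      dvd_rfl), fun s => orderOf_dvd_of_mem_zpowers⟩
omit [Finite G] hG in
/-- the conclusion of BG 15.2 when `M_F ≠ M_σ`; `L` is `K*`, `q = |K*|`, `Q = O_q(M)` -/
structure MFne (M K L D Q : Subgroup G) (q : ℕ) : Prop where
  p1 : TypeP1 M
  sd : Sdprod Mσ[M] K M
  der : Mσ[M] = ⁅M, M⁆
  primeK : (#K).Prime
  prime : q.Prime
  dvd : q ∣ #MF[M]
  beta : q ∈ β[M]
  syl : Syl q Q M
  nil : Nil D
  norm : M ≤ N[Q ⊓ C[D]]
  chief : Chief (Q ⊓ C[D]) Q M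
  abelem : Abelem q (Q ÷ (Q ⊓ C[D]))
  card : #(Q ÷ (Q ⊓ C[D])) = q ^ #K
  der2 : ⁅⁅M, M⁆, ⁅M, M⁆⁆ ≤ F[M]
  F1 : IsProd Q (M ⊓ C[Q]) F[M]
  F2 : ∀ X ≤ Mσ[M], X ≤ F[M] ↔ ⁅Q, X⁆ ≤ Q ⊓ C[D]
  F3 : ∀ X ≤ Mσ[M], X ≤ F[M] ↔ ⁅L, X⁆ ≤ Q ⊓ C[D]
  lt : F[M] < Mσ[M]
omit hG in
theorem fpf_le (hP : (#P).Prime) (h1 : P ≤ N[W]) (h2 : P ≤ N[D]) (h3 : D ≤ N[W]) (hc : (#D).Coprime #W)
    (hc' : (#P).Coprime #W) (h0 : V ≤ W) (n1 : W ≤ N[V]) (n2 : P ≤ N[V]) (n3 : D ≤ N[V])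
    (h4 : W ⊓ C[P] ≤ V) (h5 : D ⊓ C[P] = ⊥) (sW : Sol W) (sD : Sol D) (h6 : W ⊓ C[D] ≤ V) : W ≤ V :=
  (cop_prod_of_comm_le n3 (coprimeS hc le_rfl h0) (Or.inl sD) h0 ((commC _ _).le.trans
    (fpf_comm_le hP h1 h2 h3 hc hc' h0 n1 n2 n3 h4 h5 sW sD))).sup.ge.trans (sup_le h6 le_rfl)
omit hG in
theorem syl_O_of_nil_quo (h : Nil (H ÷ O[{q}](H))) : Syl q O[{q}](H) H := by
  have a := h.hall_O {q}
  rw [O_quo_O] at a
  exact ⟨O_le _ _, O_pig _ _, by rw [← card_quo (O_norm _ _)]; exact a.eq_bot_iff.1 rfl⟩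
theorem TypeP1.sd (hM : TypeP1 M) (hK : Hall κ[M] K M) : Sdprod Mσ[M] K M :=
  sdprod_sigma hM.max (hK.congr fun p hp a => ⟨kappa_sigma', fun b => (hM.pi p hp a).resolve_left b⟩)
theorem TypeP1.hall (hM : TypeP1 M) (hK : Hall κ[M] K M) : Hall σ[M]ᶜ K M :=
  hK.congr fun p hp a => ⟨kappa_sigma', fun b => (hM.pi p hp a).resolve_left b⟩
theorem TypeP1.F_le (hM : TypeP1 M) : F[M] ≤ Mσ[M] := F_le_of_O fun q hq => by
  by_cases a : O[{q}](M) = ⊥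
  · rw [a]; exact bot_le
  rcases O_coatom_class hM.max hq a with b | b
  · exact O_mono (by simpa using b) M
  · exact ((hM.pi q hq (tau2_dvd b)).elim (tau2_sigma' b) fun c => kappa_tau2' c b).elim
theorem typeP1_of_not_nil (hM : IsCoatom M) (h : ¬ Nil Mσ[M]) : TypeP1 M :=
  ((typeF_or_typeP hM).resolve_left fun a => h (notP1_Msigma_nil (Or.inl a))).p1_or_p2.resolve_right fun a =>
    h (notP1_Msigma_nil (Or.inr a))
theorem MF_structure_aux (hM : IsCoatom M) (hK : Hall κ[M] K M) (nn : ¬ Nil Mσ[M]) (eL : Mσ[M] ⊓ C[K] = L)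
    (eq : #L = q) (eQ : O[{q}](M) = Q) (hD : Hall {q}ᶜ D Mσ[M]) (h1 : K ≤ N[D]) : MFne M K L D Q q := by
  have p1 := typeP1_of_not_nil hM nn
  have tP := p1.toTypeP
  have sd := p1.sd hK
  have hE := p1.hall hK
  obtain ⟨Ms, em⟩ := typeP_embedding tP hK
  have hq' := (em.p2.resolve_left fun a => a.1.pi p1.pi).2
  rw [eL] at hq'
  have hq : q.Prime := eq ▸ hq'
  have de : Mσ[M] = ⁅M, M⁆ := eq_of_card_le (Msigma_le_der hM)
    (Nat.eq_of_mul_eq_mul_right (card_pos K) (em.der.card.trans sd.card.symm)).le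
  have pr := tP.semiprime hK
  have cK := hE.cop_Msigma le_rfl
  have sM := coatom_sol hM
  have lS := O_le σ[M] M
  have sS := sM.of_le lS
  obtain ⟨P, lP, hP⟩ := exists_prime_sub' (tP.ne_bot hK)
  have eP := (pr.cent lP (ne_bot_of_prime hP)).trans eL
  have cP := coprimeS cK lP le_rfl
  have pM := lP.trans hK.le
  have lL : L ≤ Mσ[M] := eL ▸ inf_le_left
  have cL : L ≤ C[K] := eL ▸ inf_le_right
  have qL := pig_of_card' hq eq
  have s : q ∈ σ[M] := PiG.mem_of_card (O_pig _ _) hq lL eq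
  have qQ : PiG {q} Q := eQ ▸ O_pig _ _
  have nQ : M ≤ N[Q] := eQ ▸ O_norm _ _
  have eQ' : O[{q}](Mσ[M]) = Q := eQ ▸ O_O_of_subset (by simpa using s) M
  have lQ : Q ≤ Mσ[M] := eQ' ▸ O_le _ _
  have LQ : L ≤ Q := by
    have a : L ≤ F[Mσ[M]] := le_of_prime hq' fun a => nn ((F_nil _).of_le ((sigma_compl_embedding hM hE).2.1.ge.trans
      (odd_sdprod_primact_comm_le_F sd (mso_odd M) sM cK pr (le_bot_iff.1 (le_trans (le_inf
        ((inf_le_inf_right _ (F_le _)).trans eL.le) inf_le_left) a.le)))))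
    rw [← eQ', ← O_F]; exact (F_nil _).le_O a qL
  have nq : Nil (Mσ[M] ÷ Q) := prime_frob_nil (R := P ÷ Q) (sS.im _) (im_norm (pM.trans (O_norm _ _)))
    (by rwa [card_im_inj (pM.trans nQ) (by simpa using inf_bot_of_coprime (coprimeS cP le_rfl lQ))]) (by
      rw [← im_IC' (φ := quo Q) (pM.trans nQ) (lS.trans nQ) (by simpa using lQ) (by simpa using coprimeS cP le_rfl lQ)
        (Or.inl (cyc_of_prime hP).sol), eP, quo_bot_iff (normsG LQ)]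
      exact LQ)
  have sQ : Syl q Q Mσ[M] := by rw [← eQ'] at nq ⊢; exact syl_O_of_nil_quo nq
  have sQM := (Msigma_hall hM).syl s sQ
  have sd2 := sQ.sdprod (lS.trans nQ) hD
  have dM := hD.le.trans lS
  have nD : Nil D := nil_of_im_inj (φ := quo Q) sd2.norm (by simpa [inf_comm] using sd2.inf) (nq.of_le (im_mono hD.le))
  have nc : ¬ D ≤ C[Q] := fun a => nn (sd2.sup ▸ qQ.nil.sup_cent nD (cent_symm a))
  have cD : (#D).Coprime #Q := hD.pi.coprime' qQ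
  have rg : ∀ X ≤ K, X ≠ ⊥ → D ⊓ C[X] = ⊥ := fun X a b => le_bot_iff.1 ((le_inf
    (((inf_le_inf_right _ hD.le).trans ((pr.cent a b).trans eL).le).trans LQ) inf_le_left).trans sd2.inf.le)
  have step : ∀ V W, V ≤ W → W ≤ Q → W ≤ N[V] → D ⊔ K ≤ N[V] → D ⊔ K ≤ N[W] → Q ⊓ C[D] ≤ V → W ⊓ L ≤ V → W ≤ V :=
    fun V W a b c d e f g => fpf_le hP (lP.trans (le_sup_right.trans e)) (lP.trans h1) (le_sup_left.trans e)
      (coprimeS cD le_rfl b) (coprimeS cP le_rfl (b.trans lQ)) a c (lP.trans (le_sup_right.trans d))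
      (le_sup_left.trans d) ((le_inf inf_le_left ((inf_le_inf_right _ (b.trans lQ)).trans eP.le)).trans g)
      (rg P lP (ne_bot_of_prime hP)) (qQ.of_le b).sol nD.sol ((inf_le_inf_right _ b).trans f)
  have dk : D ⊔ K ≤ M := sup_le dM hK.le
  have n0 : D ⊔ K ≤ N[Q ⊓ C[D]] := normI (dk.trans nQ) (normC (sup_le (normG D) h1))
  have lt0 : Q ⊓ C[D] < Q := lt_of_le_of_ne inf_le_left fun e => nc (cent_symm (e.ge.trans inf_le_right))
  obtain ⟨W, w1, w2⟩ := exists_chief_le (H := M ⊓ N[Q ⊓ C[D]]) (qQ.nil.lt_norm lt0) inf_le_right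
    (normI (inf_le_left.trans nQ) (normN inf_le_right)) inf_le_right
  have w3 := w1.trans inf_le_left
  have w4 := (le_inf dk n0).trans w2.nU
  have w5 : ¬ W ⊓ L ≤ Q ⊓ C[D] := fun a => w2.lt.not_ge (step _ _ w2.lt.le w3 w2.nUV n0 w4 le_rfl a)
  have w6 : L ≤ W := le_of_prime hq' fun a => w5 (by rw [inf_comm, a]; exact bot_le)
  have w7 : ¬ L ≤ Q ⊓ C[D] := fun a => w5 (inf_le_right.trans a)
  obtain rfl : W = Q := qQ.nil.eq_of_norm w3 (step _ _ (le_inf w3 (normG W)) inf_le_left inf_le_right w4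
    (normI (dk.trans nQ) (normN w4)) w2.lt.le (inf_le_right.trans w6))
  have nM : M ≤ N[W ⊓ C[D]] := by
    rw [← sd.sup, ← sd2.sup, sup_assoc]; exact sup_le w2.nUV n0
  rw [inf_eq_left.2 nM] at w2
  have ae : Abelem q (W ÷ (W ⊓ C[D])) := w2.minN.abelem' (qQ.im _)
  have t0 : ∀ X, (#X).Coprime #W → X ⊓ (quo (W ⊓ C[D])).ker = ⊥ := fun X a => by
    simpa using inf_bot_of_coprime (coprimeS a le_rfl inf_le_left)
  have cKW := coprimeS cK le_rfl lQ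
  have d0 : D ≠ ⊥ := fun e => nc (e ▸ bot_le)
  have cDK : (#(D ⊔ K)).Coprime #W := ((cD.mul_left cKW).coprime_dvd_left (card_sup_dvd_l h1))
  have fr : Frob (D ÷ (W ⊓ C[D])) (K ÷ (W ⊓ C[D])) ((D ⊔ K) ÷ (W ⊓ C[D])) :=
    ⟨(sdprod_sup (inf_bot_of_coprime (coprimeS cK.symm hD.le le_rfl)) h1).im_cop n0 (coprimeS cK.symm hD.le le_rfl),
      fun e => d0 (card_eq_one.1 (by rw [← card_im_inj (dM.trans nM) (t0 D cD), e, card_bot'])),
      fun e => tP.ne_bot hK (card_eq_one.1 (by rw [← card_im_inj (hK.le.trans nM) (t0 K cKW), e, card_bot'])),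
      Semireg.im (semireg_of_prime_sub fun X a b => rg X a (ne_bot_of_prime b)) h1 (dM.trans nM) (hK.le.trans nM)⟩
  have ic : ∀ X ≤ M, (#X).Coprime #W → W ÷ (W ⊓ C[D]) ⊓ C[X ÷ (W ⊓ C[D])] = (W ⊓ C[X]) ÷ (W ⊓ C[D]) := fun X a b =>
    (im_IC' (φ := quo _) (a.trans nM) w2.nUV (by simp) (by simpa using coprimeS b le_rfl inf_le_left)
      (Or.inl (sM.of_le a))).symm
  have eK : W ⊓ C[K] = L := le_antisymm ((inf_le_inf_right _ lQ).trans eL.le) (le_inf LQ cL)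
  have cL' : #(L ÷ (W ⊓ C[D])) = q := by
    rw [card_im_inj (LQ.trans w2.nUV) (by simpa using inf_bot_of_prime hq' w7), eq]
  obtain ⟨f1, f2, f3⟩ := frob_primact fr ((sM.of_le dk).im _) (mso_odd_im _ _) (im_norm (dk.trans nQ)) (qQ.im _).sol
    w2.minN.ne (cop_im cDK _) (by rw [ic D dM cD, quo_self])
    ((pr.mono_l lQ).im (hK.le.trans nQ) w2.nUV (hK.le.trans nM) cKW)
  rw [ic K hK.le cKW, eK] at f2 f3
  rw [card_im_inj (hK.le.trans nM) (t0 K cKW)] at f1 f2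
  rw [cL'] at f2
  have f4 := f3 (cyc_of_prime (cL' ▸ hq))
  rw [← im_der (dM.trans nM), quo_cent_iff ((der_le D).trans (dM.trans nM)) w2.nUV] at f4
  have aQ : ⁅W, W⁆ ≤ W ⊓ C[D] := (quo_abel_iff w2.nUV).1 ae.abel
  have cF : M ⊓ C[W] ≤ F[M] := by
    have a : M ⊓ C[W] ≤ Mσ[M] := by
      refine PiG.le_of_idx (π := {#K}ᶜ) ((pin_compl f1).2 fun a => ?_) (O_norm _ _) inf_le_left
        (by rw [sd.relIndex_l]; exact (pin_single_self f1).compl_compl)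
      have b : Syl #K K M := ⟨hK.le, pin_single_self f1, by
        rw [sd.relIndex_r]; exact (pin_compl_cop f1).2 cK.symm⟩
      have c := b.inf_norm' inf_le_left (normI (normG M) (normC nQ))
      have d := le_of_prime f1 (Syl.ne_bot' c f1 a)
      have e : W = L := eK ▸ (inf_eq_left.2 (cent_symm (d.trans inf_le_right))).symm
      have f : W ÷ (W ⊓ C[D]) = L ÷ (W ⊓ C[D]) := congrArg _ e
      rw [f, cL'] at f2
      exact f1.ne_one (Nat.pow_eq_self_iff hq.one_lt |>.1 f2.symm)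
    refine le_F inf_le_left (normI (normG M) (normC nQ)) (nil_of_im_cent (φ := quo W) (inf_le_left.trans nQ) ?_
      (nq.of_le (im_mono a)))
    simpa using inf_le_right.trans (cent_symm inf_le_right)
  have QF : W ≤ F[M] := eQ ▸ O_le_F q M
  have g1 : ∀ X ≤ Mσ[M], ⁅W, X⁆ ≤ W ⊓ C[D] → X ≤ F[M] := fun X a b => by
    have c := (sd2.modl' (le_sup_left : W ≤ W ⊔ X) (sup_le lQ a)).sup
    refine le_sup_right.trans (c.ge.trans (sup_le QF (le_trans (le_inf (inf_le_left.trans dM) (cent_symm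
      (cop_stable (L := W ⊓ C[D]) (coprimeS cD inf_le_left inf_le_left) ((commS le_rfl inf_le_right).trans ?_)
        (inf_le_right.trans (centS inf_le_left))))) cF)))
    exact comm_sup_le' aQ b w2.nUV (a.trans (lS.trans nM))
  have g2 : ⁅W, F[M]⁆ ≤ W ⊓ C[D] := F_stab_chief sM le_rfl (normG M) (lQ.trans lS) w2
  have g3 : ⁅W, ⁅Mσ[M], Mσ[M]⁆⁆ ≤ W ⊓ C[D] := (commS le_rfl (sd2.prod.der_le sd2.nl)).trans
    (comm_sup_le' ((commC _ _).le.trans f4) aQ ((der_le D).trans (dM.trans nM)) w2.nUV)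
  have lF := p1.F_le
  refine ⟨p1, sd, de, f1, hq, eq ▸ cardS (LQ.trans (le_MF sQM nQ qQ.nil)), (beta_iff hM hq sQM).2 fun a => nc ?_, sQM,
    nD, nM, w2, ae, f2, de ▸ g1 _ (der_le _) g3, ?_, fun X a => ⟨fun b => (commS le_rfl b).trans g2, g1 X a⟩,
    fun X a => ⟨fun b => (commS LQ b).trans g2, fun b => g1 X a ?_⟩,
    lt_of_le_of_ne lF fun e => nn (e ▸ F_nil M)⟩
  · exact hD.pi.le_of_idx (normC ((der_le M).trans nQ)) (de ▸ hD.le)
      (der_aut_narrow hq qQ (mso_odd _) a nQ (mso_odd _)).compl_compl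
  · have a := ((F_nil M).dprod_O {q}).prod
    rw [O_F, eQ] at a
    exact a.mono le_rfl (le_inf ((O_le _ _).trans (F_le M)) (by rw [← eQ, ← O_F]; exact O_cent_O' _ _)) QF cF
  · have nL := LQ.trans w2.nUV
    have k : ∀ Y ≤ Mσ[M], ⁅L, Y⁆ ≤ W ⊓ C[D] → Y ≤ Mσ[M] ⊓ (quo (W ⊓ C[D])).pre C[L ÷ (W ⊓ C[D])] := fun Y c d =>
      le_inf c ((le_pre_iff (φ := quo _) (c.trans (lS.trans nM))).2
        (cent_symm ((quo_cent_iff nL (c.trans (lS.trans nM))).2 d)))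
    have n1 : M ≤ N[Mσ[M] ⊓ (quo (W ⊓ C[D])).pre C[L ÷ (W ⊓ C[D])]] := by
      conv_lhs => rw [← sd.sup]
      exact sup_le (norm_of_der_le (k _ (der_le _) ((commS LQ le_rfl).trans g3)) inf_le_left) (normI sd.norm
        (norm_pre (hK.le.trans nM) (normC (im_norm (cents_norm (cent_symm cL))))))
    have n2 := w2.minN.le_of (normC (im_norm n1)) fun e => hq.ne_one (by
      rw [← cL', le_bot_iff.1 ((le_inf (im_mono LQ) (cent_symm ((im_mono inf_le_right).trans (im_pre_le _)))).trans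
        e.le), card_bot'])
    exact (quo_cent_iff w2.nUV (a.trans (lS.trans nM))).1 (n2.trans (centS (im_mono (k X a b))))
/-- BG 15.2 -/
theorem MF_structure (hM : IsCoatom M) (hK : Hall κ[M] K M) (h : MF[M] ≠ Mσ[M])
    (hD : Hall {#(Mσ[M] ⊓ C[K])}ᶜ D Mσ[M]) (h1 : K ≤ N[D]) :
    MFne M K (Mσ[M] ⊓ C[K]) D O[{#(Mσ[M] ⊓ C[K])}](M) #(Mσ[M] ⊓ C[K]) :=
  MF_structure_aux hM hK (fun a => h ((MF_eq_Msigma_iff hM).2 a)) rfl rfl rfl hD h1
theorem ex_MFne (hM : IsCoatom M) (hK : Hall κ[M] K M) (h : MF[M] ≠ Mσ[M]) :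
    ∃ D, K ≤ N[D] ∧ Hall {#(Mσ[M] ⊓ C[K])}ᶜ D Mσ[M] ∧
      MFne M K (Mσ[M] ⊓ C[K]) D O[{#(Mσ[M] ⊓ C[K])}](M) #(Mσ[M] ⊓ C[K]) := by
  obtain ⟨D, a, b⟩ := cop_hall_exists {#(Mσ[M] ⊓ C[K])}ᶜ (hK.le.trans (O_norm σ[M] M))
    (PiN.coprime' (hK.pi.mono (kappa_sub_sigma' M)) (O_pig _ _)) (sol_of_le hM (O_le _ _))
  exact ⟨D, b, a, MF_structure hM hK h a b⟩
/-- BG 15.2, general part -/
theorem MF_chain (hM : IsCoatom M) : MF[M] ≠ ⊥ ∧ ⁅M, M⁆ < M := by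
  refine ⟨fun e => ?_, (coatom_sol hM).der_lt (coatom_ne_bot hM)⟩
  obtain ⟨K, hK⟩ := hall_exists κ[M] (coatom_sol hM)
  obtain ⟨D, -, -, a⟩ := ex_MFne hM hK fun b => Msigma_ne_bot hM (b ▸ e)
  have := a.dvd
  rw [e, card_bot', Nat.dvd_one] at this
  exact a.prime.ne_one this

end Cfsg.Agent.BG
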