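import Cfsg.Agent.BG.S15a
/-!
Bender–Glauberman, section 15: 15.3–15.9.
-/
set_option autoImplicit false

namespace Cfsg.Agent.BG
open Subgroup PHom

variable {G : Type*} [Group G] [Finite G] [hG : MSO G]
variable {A A₀ B D E E₁ E₂ E₃ H K L M Mstar P Q R S T U V W X Y Z : Subgroup G} {x y g : G} {π ρ : Set ℕ}
  {p q r m n : ℕ}

open scoped commutatorElement
theorem ncard_eq_mul_of_fibers {α β : Type*} [Finite α] [Finite β] (f : α → β) (S : Set α) (T : Set β) (n : ℕ)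
    (h1 : ∀ s ∈ S, f s ∈ T) (h2 : ∀ t ∈ T, {s ∈ S | f s = t}.ncard = n) : S.ncard = T.ncard * n := by
  classical
  have := Fintype.ofFinite α
  have := Fintype.ofFinite β
  rw [Set.ncard_eq_toFinset_card', Set.ncard_eq_toFinset_card', Finset.card_eq_sum_card_fiberwise (f := f)
    (t := T.toFinset) (fun s hs => by simpa using h1 s (by simpa using hs)), Finset.sum_const_nat]
  intro t ht
  rw [← h2 t (by simpa using ht), Set.ncard_eq_toFinset_card']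
  congr 1; ext; simp
omit hG in
theorem card_dvd_of_free_cj (K : Subgroup G) (T : Set (Subgroup G)) (h1 : ∀ g ∈ K, ∀ A ∈ T, cj g A ∈ T)
    (h2 : ∀ g ∈ K, ∀ A ∈ T, g ∈ N[A] → g = 1) : #K ∣ T.ncard :=
  letI : MulAction G (Subgroup G) := { smul := cj, one_smul := cj_one, mul_smul := cj_mul }
  Class.card_dvd_ncard_of_free K T h1 fun g a A b c => h2 g a A b (mem_N_iff_cj.2 c)
omit hG in
theorem ncard_sdiff (h : A ≤ B) : ((B : Set G) \ A).ncard = #B - #A := Set.ncard_sdiff h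
omit hG in
theorem card_mid_p3 (hp : p.Prime) (hZ : #Z = p) (hP : #P = p ^ 3) (h1 : Z ≤ P) (h2 : Z ≤ C[P])
    (h3 : ∀ x ∈ P, x ^ p = 1) : {A : Subgroup G | Z ≤ A ∧ PnElem p 2 A P}.ncard = p + 1 := by
  have k : ∀ x ∈ P, x ∉ Z → PnElem p 2 (Z ⊔ zpowers x) P := fun x a b =>
    (pnElem_one hp hZ h1).sup hp (card_zpowers_of_pow hp (h3 x a) fun e => b (e ▸ one_mem _)) (zpowers_le.2 a)
      ((zpowers_le.2 a).trans (cent_symm h2)) fun e => b (e (mem_zpowers x))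
  have a := ncard_eq_mul_of_fibers (fun x => Z ⊔ zpowers x) ((P : Set G) \ Z) {A | Z ≤ A ∧ PnElem p 2 A P} (p ^ 2 - p)
    (fun x hx => ⟨le_sup_left, k x hx.1 hx.2⟩) fun A ⟨a, b⟩ => by
      rw [← b.card, ← hZ, ← ncard_sdiff a]
      congr 1; ext x
      exact ⟨fun c => ⟨c.2 ▸ le_sup_right (a := Z) (mem_zpowers x), c.1.2⟩, fun c => ⟨⟨b.le c.1, c.2⟩,
        (k x (b.le c.1) c.2).eq_of_le b (sup_le a (zpowers_le.2 c.1))⟩⟩
  rw [ncard_sdiff h1, hZ, hP] at a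
  have b : p ^ 3 - p = (p + 1) * (p ^ 2 - p) := by
    obtain ⟨n, rfl⟩ := Nat.exists_eq_add_of_le hp.pos
    have e1 : (1 + n) ^ 3 - (1 + n) = (1 + n) * (n * (n + 2)) := Nat.sub_eq_of_eq_add (by ring)
    have e2 : (1 + n) ^ 2 - (1 + n) = (1 + n) * n := Nat.sub_eq_of_eq_add (by ring)
    rw [e1, e2]; ring
  exact Nat.eq_of_mul_eq_mul_right (Nat.sub_pos_of_lt (by nlinarith [hp.one_lt])) (a.symm.trans b)
omit hG in
theorem p3_reg_dvd (hp : p.Prime) (hP : #P = p ^ 3) (aP : ¬ Abel P) (h3 : ∀ x ∈ P, x ^ p = 1) (hK : Abel K)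
    (oK : Odd #K) (p' : PiG {p}ᶜ K) (h1 : K ≤ N[P]) (h2 : K ≤ C[Z[P]]) (h : ∀ y ∈ K, y ≠ 1 → P ⊓ C1[y] ≤ Z[P]) :
    #K ∣ p - 1 ∨ #K ∣ p + 1 := by
  obtain ⟨z1, z2⟩ := p3_der hp hP aP
  have z3 : #Z[P] = p := z2 ▸ z1
  by_cases c : ∀ g ∈ K, ∀ A ∈ {A : Subgroup G | Z[P] ≤ A ∧ PnElem p 2 A P}, g ∈ N[A] → g = 1
  · right
    rw [← card_mid_p3 hp z3 hP inf_le_left inf_le_right h3]
    refine card_dvd_of_free_cj K _ (fun g a A ⟨b, d⟩ => ⟨?_, ?_⟩) c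
    · rw [← cj_of_mem_C (h2 a)]; exact cj_mono g b
    · have := d.cj g; rwa [cj_of_mem_N (h1 a)] at this
  left
  push Not at c
  obtain ⟨y, y1, A, ⟨a1, a2⟩, y2, y3⟩ := c
  have sp : ∀ Y ≤ K, Y ≠ ⊥ → Y ≤ N[A] → #⁅A, Y⁆ = p ∧ ⁅A, Y⁆ ⊓ Z[P] = ⊥ := fun Y b c d => by
    have e := cop_abel_dprod a2.abel d (PiN.coprime' (p'.of_le b) (a2.pig hp))
    obtain ⟨u, u1, u2⟩ := exists_mem_ne_one c
    have f : A ⊓ C[Y] = Z[P] := le_antisymm ((inf_le_inf a2.le (C_le_C1 u1)).trans (h u (b u1) u2))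
      (le_inf a1 (cent_symm (b.trans h2)))
    have g := e.card
    rw [f, z3, a2.card, pow_two] at g
    exact ⟨Nat.eq_of_mul_eq_mul_left hp.pos g, by rw [inf_comm, ← f]; exact e.inf⟩
  have y4 : zpowers y ≠ ⊥ := by simpa using y3
  obtain ⟨b1, b2⟩ := sp _ (zpowers_le.2 y1) y4 (zpowers_le.2 y2)
  have b0 : (#⁅A, zpowers y⁆).Prime := b1 ▸ hp
  obtain ⟨a, c1, c2⟩ := exists_mem_ne_one (ne_bot_of_prime b0)
  have c3 : a ∈ A := commL (zpowers_le.2 y2) c1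
  have c4 : a ∉ Z[P] := fun e => ne_bot_of_mem (mem_inf.2 ⟨c1, e⟩) c2 b2
  obtain ⟨i, hi⟩ := exists_pow_of_mem_zpowers ((eq_zpowers_of_prime b0 c1 c2).ge
    (conj_mem (comm_normr _ _ (mem_zpowers y)) c1))
  have eA : Z[P] ⊔ zpowers a = A := ((pnElem_one hp z3 a1).sup hp (card_zpowers_of_pow hp (h3 a (a2.le c3)) c2)
    (zpowers_le.2 c3) ((zpowers_le.2 (a2.le c3)).trans (cent_symm inf_le_right))
      fun e => c4 (e (mem_zpowers a))).eq_of_le a2 (sup_le a1 (zpowers_le.2 c3))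
  have eC : P ⊓ C1[a] = A := by
    have l : A ≤ P ⊓ C1[a] := le_inf a2.le (a2.abel.trans (C_le_C1 c3))
    refine (eq_or_eq_of_card hp (by rw [hP, a2.card, pow_succ]) l inf_le_left).resolve_right fun e => c4
      ⟨a2.le c3, le_C1_iff.1 (e.ge.trans inf_le_right)⟩
  have nA : K ≤ N[A] := fun k hk => mem_N_of_cj_le (by
    conv_lhs => rw [← eA, cj_sup, cj_of_mem_C (h2 hk), cj_zpowers]
    refine sup_le a1 (zpowers_le.2 ?_)
    have d1 := conj_mem (h1 hk) (a2.le c3)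
    have d2 : y * (k * a * k⁻¹) * y⁻¹ = (k * a * k⁻¹) ^ i := by
      rw [conj_pow, hi]
      calc _ = (y * k) * a * (y * k)⁻¹ := by group
        _ = _ := by rw [mem_C_comm hK y1 hk]; group
    generalize k * a * k⁻¹ = b at d1 d2
    have d3 : ⁅a, b⁆ ∈ Z[P] := z2.ge (commutator_mem_commutator (a2.le c3) d1)
    have d4 : ⁅a, b⁆ ^ (i * i) = ⁅a, b⁆ := by
      have e1 : Commute ⁅a, b⁆ b := (mem_C.1 d3.2 b d1).symm
      have e2 : Commute ⁅a, b ^ i⁆ a := by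
        rw [PLoc.commutatorElement_pow_right e1]; exact Commute.pow_left (mem_C.1 d3.2 a (a2.le c3)).symm i
      rw [pow_mul, ← PLoc.commutatorElement_pow_right e1, ← PLoc.commutatorElement_pow_left e2, hi, ← d2,
        ← conjugate_commutatorElement, ← mem_C.1 (h2 y1) _ d3]
      group
    rw [← eC]
    refine ⟨d1, mem_C1'.2 (commutatorElement_eq_one_iff_mul_comm.1 (by_contra fun e => c4 ?_))⟩
    have d5 : a ^ (i * i) = a := by
      have o1 := orderOf_of_pow hp (h3 _ d3.1) e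
      have o2 := orderOf_of_pow hp (h3 a (a2.le c3)) c2
      have := (pow_eq_pow_iff_modEq (n := i * i) (m := 1)).1 (d4.trans (pow_one _).symm)
      rw [o1, ← o2] at this
      exact (pow_eq_pow_iff_modEq.2 this).trans (pow_one a)
    have d6 : y * y ≠ 1 := fun f => y3 (mem_bot.1 (mem_of_sq_odd (H := ⊥) (oK.of_dvd_nat (orderOf_dvd y1))
      (by rw [pow_two, f]; exact one_mem _)))
    refine h (y * y) (mul_mem y1 y1) d6 ⟨a2.le c3, mem_C1'.2 ?_⟩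
    rw [← mul_inv_eq_iff_eq_mul]
    calc y * y * a * (y * y)⁻¹ = y * (y * a * y⁻¹) * y⁻¹ := by group
      _ = a := by rw [← hi, ← conj_pow, ← hi, ← pow_mul, d5])
  obtain ⟨d1, d2⟩ := sp K le_rfl (fun e => y4 (le_bot_iff.1 (e ▸ zpowers_le.2 y1))) nA
  rw [← d1]
  exact Semireg.card_dvd (fun u u1 u2 => le_bot_iff.1 ((le_inf inf_le_left ((inf_le_inf_right _
    ((commL nA).trans a2.le)).trans (h u u1 u2))).trans d2.le)) (comm_normr _ _)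
include hG
/-- BG 15.3(a) -/
theorem cent_hall_sigma_sdprod (hM : IsCoatom M) (hH : Hall π H Mσ[M]) (h : H ≠ ⊥) :
    ∃ X, Sdprod (Mσ[M] ⊓ C[H]) X (M ⊓ C[H]) ∧ Cyc X ∧ PiG τ2[M] X := by
  have a := (Msigma_hall hM).norm_inf (inf_le_left (b := C[H])) (inf_le_left.trans (O_norm _ _))
  rw [← inf_assoc, inf_eq_left.2 (O_le _ _)] at a
  obtain ⟨X, b⟩ := a.exists_sdprod (normI (inf_le_left.trans (O_norm _ _)) (normsG inf_le_right))
  have c := b.hall_compl a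
  have d : H ≤ C[X] := cent_symm (b.right.trans inf_le_right)
  have e := b.right.trans inf_le_left
  refine ⟨X, b, ?_⟩
  by_cases x0 : X = ⊥
  · rw [x0]; exact ⟨cyc_bot, pig_bot _⟩
  have f : Mσ[M] ⊓ C[X] ≠ ⊥ := fun f => h (le_bot_iff.1 (f ▸ le_inf hH.le d))
  have t := sigma_kappa'_cent_tau2 hM e (fun p hp i j => j.elim (c.pi p hp i) fun j => by
    obtain ⟨Y, y1, y2⟩ := exists_prime_sub hp i
    obtain ⟨K, k1, k2⟩ := hall_superset (coatom_sol hM) (y1.trans e) (pig_of_card hp y2 j)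
    have tp : TypeP M := ⟨hM, p, j⟩
    obtain ⟨q, hq, q1⟩ := exists_prime_dvd h
    obtain ⟨S, hS⟩ := syl_exists hq H
    have l : H ≤ Mσ[M] ⊓ C[K] := (tp.semiprime k1).cent k2 (ne_bot_of_prime (y2 ▸ hp)) ▸ le_inf hH.le (d.trans (centS y1))
    exact ((typeP_structure tp k1).2.2.2.1 q hq (q1.trans (cardS l)) S (hH.syl (hH.pi q hq q1) hS)).2
      (hS.le.trans (l.trans inf_le_right))) f
  exact ⟨(tau2_cent_facts hM e t x0 f).2, t⟩
theorem MFne.nil_quo (h : MFne M K L D Q q) (hD : Hall {q}ᶜ D Mσ[M]) (h1 : Q ≤ V) (h2 : M ≤ N[V]) :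
    Nil (Mσ[M] ÷ V) := by
  have a := sigma_syl_le h.p1.max (beta_sub_sigma h.p1.max h.beta) h.syl
  have n := (O_le σ[M] M).trans h2
  refine (h.nil.im (quo V)).of_le ((quo_le_iff n (hD.le.trans n)).2 ?_)
  rw [← (a.prod hD).sup]
  exact sup_le (le_sup_of_le_right h1) le_sup_left
/-- BG 15.3(b) -/
theorem sigma_hall_tame (hM : IsCoatom M) (hH : Hall π H Mσ[M]) (hx : x ∈ H) (h : g * x * g⁻¹ ∈ H) :
    ∃ b ∈ M ⊓ N[H], b * x * b⁻¹ = g * x * g⁻¹ := by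
  by_cases x1 : x = 1
  · exact ⟨1, one_mem _, by simp [x1]⟩
  obtain ⟨s, a, b⟩ := (signalizer_context hM (hH.le hx) x1).2.2 _ (coatom_cj' hM g⁻¹)
    (cj_Msigma g⁻¹ M ▸ mem_cj_inv.2 (hH.le h))
  have c : g * s ∈ M := mem_of_cj_eq hM (by rw [cj_mul, b, ← cj_mul]; simp)
  have d : g * s * x * (g * s)⁻¹ = g * x * g⁻¹ := by rw [mul_assoc g, mem_C1.1 (Rx_le x a)]; group
  rw [← d] at h ⊢
  generalize g * s = m at c h
  by_cases n : M ≤ N[H]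
  · exact ⟨m, ⟨c, n c⟩, rfl⟩
  have l := hH.le.trans (O_le _ _)
  obtain ⟨K, hK⟩ := hall_exists κ[M] (coatom_sol hM)
  obtain ⟨D, -, hD, e⟩ := ex_MFne hM hK fun e =>
    n (hH.norm_char (((MF_eq_Msigma_iff hM).1 e).hall_norm hH) (O_norm _ _))
  generalize #(Mσ[M] ⊓ C[K]) = q at hD e
  have nQ := O_norm {q} M
  have f := hH.im (φ := quo O[{q}](M)) ((O_le _ _).trans nQ)
  have i : M ≤ N[H ⊔ O[{q}](M)] := by
    have := norm_sup_ker (φ := quo O[{q}](M)) nQ (l.trans nQ)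
      (f.norm_char ((e.nil_quo hD le_rfl nQ).hall_norm f) (im_norm (O_norm _ _)))
    rwa [quo_ker] at this
  have j : PiG {q}ᶜ H := (pin_compl e.prime).2 fun j => n (by
    rwa [sup_eq_left.2 (hH.le_of_norm' ((O_pig _ _).single_mono (hH.pi q e.prime j))
      (sigma_syl_le hM (beta_sub_sigma hM e.beta) e.syl).le (l.trans nQ))] at i)
  have k := (hH.sub le_sup_left (sup_le hH.le (sigma_syl_le hM (beta_sub_sigma hM e.beta) e.syl).le)).frattini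
    (sol_of_le hM (sup_le l (O_le _ _))) (sup_le l (O_le _ _)) i
  have k' : IsProd O[{q}](M) (M ⊓ N[H]) M := isProd_of_l (inf_le_left.trans nQ) (le_antisymm
    (sup_le (O_le _ _) inf_le_left) (k.sup.ge.trans (sup_le (sup_le (le_sup_of_le_right (le_inf l (normG _)))
      le_sup_left) le_sup_right)))
  obtain ⟨c', c1, u, u1, rfl⟩ := prod_trans_cop (Or.inl (cyc_zpowers x).sol) k' nQ
    (zpowers_le.2 ⟨l hx, normG _ hx⟩) (PiN.coprime' (j.of_le (zpowers_le.2 hx)) (O_pig _ _)) c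
    (by rw [cj_zpowers]; exact zpowers_le.2 ⟨l h, normG _ h⟩)
  refine ⟨u, u1, ?_⟩
  rw [mul_assoc u c', ← mem_C.1 c1.2 x (mem_zpowers x)]; group
/-- BG 15.4 -/
theorem nil_hall_sigma (h : Nil H) (hH : Hall π H ⊤) : ∃ M, IsCoatom M ∧ H ≤ Mσ[M] := by
  by_cases h0 : H = ⊥
  · obtain ⟨M, a, -⟩ := exists_coatom (mso_top_ne_bot (G := G)).symm
    exact ⟨M, a, h0 ▸ bot_le⟩
  obtain ⟨p, hp, a⟩ := exists_prime_dvd h0
  have sy : ∀ q, q.Prime → q ∣ #H → Syl q O[{q}](H) ⊤ := fun q hq b => hH.syl (hH.pi q hq b) (h.hall_O _)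
  have b := h.O_ne_bot hp a (π := {p}) rfl
  obtain ⟨M, hM, c⟩ := exists_coatom_N b (O_pig _ _).ne_top
  have d := sigma_of_top hM hp (sy p hp a) c
  have l := (O_norm _ _).trans c
  obtain ⟨X, e, f, i⟩ := cent_hall_sigma_sdprod hM (sigma_syl_le hM d ((sy p hp a).sub ((O_le _ _).trans l) le_top)) b
  refine ⟨M, hM, le_Msigma hM l fun q hq j => by_contra fun k => ?_⟩
  have s := (sy q hq j).sub ((O_le _ _).trans l) le_top
  obtain ⟨g, -, t⟩ := (e.hall_r (π := σ[M]ᶜ) ((O_pig _ _).of_le inf_le_left).compl_compl i.tau2_sigma').cj_sub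
    (sol_of_le hM inf_le_left) (le_inf s.le (h.cent (O_le _ _) (O_le _ _) (O_pig {q} H)
      ((O_pig _ _).ne_compl fun e => k (e ▸ d)))) ((O_pig {q} H).single_mono k)
  have u := (cyc_cj.1 (f.of_le t)).pRank_le hq
  rw [Syl.pRank s hq, tau2_rank ((O_pig _ _).mem_of_ne (h.O_ne_bot hq j rfl) (pig_cj.1 (i.of_le t)))] at u
  omega
theorem O_sigma'_F_cent (M : Subgroup G) : O[σ[M]ᶜ](F[M]) ≤ M ⊓ C[Mσ[M]] :=
  le_inf ((O_le _ _).trans (F_le _)) ((O_F_le _ _).trans (O_cent_O' _ _))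
theorem cent_Msigma_le_F (hM : IsCoatom M) (h : Nil Mσ[M]) : M ⊓ C[Mσ[M]] ≤ F[M] := by
  obtain ⟨X, a, b, -⟩ := cent_hall_sigma_sdprod hM (hall_self (O_pig σ[M] M)) (Msigma_ne_bot hM)
  refine le_F inf_le_left (normI (normG _) (normC (O_norm _ _))) (a.sup ▸ (abel_Z _).nil.sup_cent b.nil ?_)
  exact cent_symm (a.right.trans (inf_le_right.trans (centS inf_le_left)))
/-- BG 15.5 -/
theorem F_structure (hM : IsCoatom M) :
    (Cyc O[σ[M]ᶜ](F[M]) ∧ PiG τ2[M] O[σ[M]ᶜ](F[M])) ∧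
      (⁅⁅M, M⁆, ⁅M, M⁆⁆ ≤ F[M] ∧ IsProd MF[M] (M ⊓ C[MF[M]]) F[M] ∧ Dprod F[Mσ[M]] O[σ[M]ᶜ](F[M]) F[M]) ∧
      Nil (⁅M, M⁆ ÷ MF[M]) ∧ (TypeP M → F[M] ≤ ⁅M, M⁆) := by
  obtain ⟨X, a, b, c⟩ := cent_hall_sigma_sdprod hM (hall_self (O_pig σ[M] M)) (Msigma_ne_bot hM)
  obtain ⟨g, -, t⟩ := (a.hall_r (π := σ[M]ᶜ) ((O_pig _ _).of_le inf_le_left).compl_compl c.tau2_sigma').cj_sub
    (sol_of_le hM inf_le_left) (O_sigma'_F_cent M) (O_pig _ _)
  have d := pig_cj.1 (c.of_le t)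
  have e : Dprod F[Mσ[M]] O[σ[M]ᶜ](F[M]) F[M] := F_O σ[M] M ▸ (F_nil M).dprod_O _
  obtain ⟨K, hK⟩ := hall_exists κ[M] (coatom_sol hM)
  have f : ⁅⁅M, M⁆, ⁅M, M⁆⁆ ≤ F[M] ∧ M ⊓ C[MF[M]] ≤ F[M] ∧ Nil (⁅M, M⁆ ÷ MF[M]) := by
    by_cases h : MF[M] = Mσ[M]
    · have n := (MF_eq_Msigma_iff hM).1 h
      rw [h]
      exact ⟨(der2_le_Msigma hM).trans (le_F (O_le _ _) (O_norm _ _) n), cent_Msigma_le_F hM n,
        ((quo_abel_iff ((der_le _).trans (O_norm _ _))).2 (der2_le_Msigma hM)).nil⟩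
    obtain ⟨D, -, hD, f⟩ := ex_MFne hM hK h
    have i := (O_MF f.dvd).ge.trans (O_le _ _)
    exact ⟨f.der2, (inf_le_inf_left _ (centS i)).trans f.F1.right, f.der ▸ f.nil_quo hD i (MF_norm M)⟩
  refine ⟨⟨cyc_cj.1 (b.of_le t), d⟩, ⟨f.1, ?_, e⟩, f.2.2, fun h => ?_⟩
  · have i := (F_nil M).dprod_O (piOf MF[M])
    rw [← (F_nil M).hall_eq ((MF_hall M).sub (MF_le_F M) (F_le M))] at i
    exact i.prod.mono le_rfl (le_inf (i.right.trans (F_le M)) i.cent) i.left f.2.1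
  obtain ⟨L, i⟩ := typeP_embedding h hK
  rw [← e.sup]
  refine sup_le ((F_le _).trans (Msigma_le_der hM)) (PiG.le_of_idx (π := κ[M]ᶜ)
    (d.mono' fun _ _ _ j k => kappa_tau2' k j) (der_norm M) ((O_le _ _).trans (F_le _)) ?_)
  rw [i.der.relIndex_l]; exact hK.pi.compl_compl
/-- BG 15.6 -/
theorem typeP_cyclics (hM : TypeP M) (hK : Hall κ[M] K M) :
    Mσ[M] ⊓ C[K] ≠ ⊥ ∧ Cyc (Mσ[M] ⊓ C[K]) ∧ Mσ[M] ⊓ C[K] ≤ ⁅⁅M, M⁆, ⁅M, M⁆⁆ ∧ Mσ[M] ⊓ C[K] ≤ MF[M] ∧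
      ¬ Cyc MF[M] := by
  obtain ⟨L, i⟩ := typeP_embedding hM hK
  have hd := i.der.hall_compl' hK
  have a : Mσ[M] ⊓ C[K] ≤ ⁅⁅M, M⁆, ⁅M, M⁆⁆ := (inf_le_inf_right _ (Msigma_le_der hM.max)).trans
    (cop_der_sdprod i.der (hK.pi.coprime hd.pi) (sol_of_le hM.max (der_le _)) le_rfl).2
  refine ⟨hM.star_ne_bot hK, i.cyc.of_le le_sup_right, a, ?_, fun h => hM.star_ne_bot hK (le_bot_iff.1 (a.trans ?_))⟩
  · by_cases h : MF[M] = Mσ[M]
    · rw [h]; exact inf_le_left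
    obtain ⟨D, -, hD, f⟩ := ex_MFne hM.max hK h
    exact (f.syl.le_of_normal (O_norm _ _) (pig_of_card' f.prime rfl) (inf_le_left.trans (O_le _ _))).trans
      ((O_MF f.dvd).ge.trans (O_le _ _))
  have b := h.der_cent (MF_norm M)
  have c := (F_nil M).of_le ((le_inf (der_le _) b).trans (F_structure hM.max).2.1.2.1.right)
  exact (abel_iff_der.1 (h.abel.of_le (le_MF hd (der_norm M) c))).le
theorem nonTI_aux (hM : IsCoatom M) (n : Nil H) (a : ¬ Abel H) (l : H ≤ M) (hp : p.Prime) (hX : #X = p) (h1 : X ≤ H)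
    (h2 : ¬ C[X] ≤ M) : ¬ Abel O[{p}](H) ∧ Cyc O[{p}ᶜ](H) ∧ #Ω[p](Z[O[{p}](H)]) = p ∧
      ∃ Z, Dprod X Z (O[{p}](H) ⊓ C[X]) ∧ Cyc Z := by
  have x0 := ne_bot_of_prime (hX ▸ hp)
  have nu : ∀ B ≤ M, B ≤ C[X] → ¬ InU B := fun B b c d => h2 ((d.umax hM b).le_of c (C_ne_top x0))
  obtain ⟨L, hL, b⟩ := exists_coatom_C x0
  have c : Abel (H ⊓ C[X]) := (n.of_le inf_le_left).abel_of_O fun q _ _ => abel_of_two_coatoms hM hL
    (fun e => h2 (e ▸ b)) (O_pig _ _) ((O_le _ _).trans (inf_le_left.trans l)) ((O_le _ _).trans (inf_le_right.trans b))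
  have xP := n.le_O h1 (pig_of_card' hp hX)
  have d : O[{p}ᶜ](H) ≤ C[X] := (O_cent_O' _ _).trans (centS xP)
  have d' := c.of_le (le_inf (O_le _ _) d)
  have e : ¬ Abel O[{p}](H) := fun e => a ((n.dprod_O _).abel e d')
  have pP := O_pig {p} H
  refine ⟨e, d'.cyc_of_rank (by_contra fun f => nu _ ((O_le _ _).trans l) d (cent_uniq_uniqueness
    (nonabel_uniqueness pP e) (O_cent_O' _ _) (by omega))), ?_⟩
  have lP := O_le {p} H
  generalize O[{p}](H) = P at *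
  obtain ⟨Y, f, i⟩ := ((OmZ_abelem p P).pig hp).exists_prime_sub (pP.OmZ_ne_bot fun f => e (f ▸ abel_bot))
  have j : ¬ X ≤ C[P] := fun j => e (c.of_le (le_inf lP (cent_symm j)))
  have k := f.trans (OmZ_cent _ _)
  have hB := pnElem_two hp hX i (k.trans (centS xP)) fun e => j (e ▸ k)
  have bP := sup_le xP (f.trans (OmZ_le _ _))
  obtain ⟨⟨s, -⟩, ⟨Z, t, -, u⟩, -⟩ := basic_p2max_structure hp hB (by_contra fun s => nu _ (bP.trans (lP.trans l))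
    (hB.abel.trans (centS le_sup_left)) (nonmax_p2Elem_uniqueness hp hB s)) pP bP e
  have v := u X le_sup_left hX fun e => j (e ▸ OmZ_cent _ _)
  rw [C_sup, ← inf_assoc, inf_eq_left.2 (inf_le_left.trans (cent_symm k))] at v
  exact ⟨s, Z, v, t⟩
omit hG in
theorem card_of_dprod_cyc (hp : p.Prime) (hY : #Y = p) (h : Dprod Y Z D) (hX : Cyc X) (pX : PiG {p} X) (h1 : Y ≤ X)
    (h2 : X ≤ D) : #X = p := by
  have a : X ⊓ Z = ⊥ := by_contra fun a => ne_bot_of_prime (hY ▸ hp) (le_bot_iff.1 (h.inf ▸ le_inf le_rfl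
    ((hX.eq_Om hp h1 hY).le.trans ((hX.Om_le pX inf_le_left a).trans inf_le_right))))
  refine Nat.dvd_antisymm (cyc_exp_card hp hX fun x hx => mem_bot.1 (a ▸ ⟨pow_mem hx _, ?_⟩)) (hY ▸ cardS h1)
  obtain ⟨y, b, z, c, rfl⟩ := h.prod.ex x (h2 hx)
  rw [(show Commute y z from (mem_C_comm h.cent c b).symm).mul_pow, pow_eq_one_of_card hY b, one_mul]
  exact pow_mem c _
omit hG in
theorem char_prime_sub (n : Nil H) (h1 : Cyc O[{p}ᶜ](H)) (h2 : #Ω[p](Z[O[{p}](H)]) = p) (hq : q.Prime) (h : q ∣ #H) :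
    ∃ Z ≤ H, #Z = q ∧ N[H] ≤ N[Z] := by
  by_cases e : q = p
  · exact ⟨_, (OmZ_le _ _).trans (O_le _ _), e ▸ h2, normOm _ (normZ (normO _ le_rfl))⟩
  exact ⟨_, (Om_le _ _).trans (O_le _ _), h1.card_Om hq ((n.hall_O _).dvd hq e h), normOm _ (normO _ le_rfl)⟩
theorem nonTI_P1 (hM : TypeP1 M) (hK : Hall κ[M] K M) (n : Nil Mσ[M]) (hp : p.Prime) (s : p ∈ σ[M]) (b : p ∉ β[M])
    (hP : O[{p}](Mσ[M]) = P) (a : ¬ Abel P) (h1 : Cyc O[{p}ᶜ](Mσ[M])) (h2 : #Ω[p](Z[P]) = p) :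
    (∀ q, q.Prime → q ∣ #Mσ[M] → #K ∣ q - 1) ∨ (#P = p ^ 3 ∧ #K ∣ p + 1) := by
  have mx := hM.max
  have tp := hM.toTypeP
  obtain ⟨L, i⟩ := typeP_embedding tp hK
  have e := ((hM.sd hK).hall_compl' hK).eq_of_le (i.der.hall_compl' hK) (Msigma_le_der mx)
  have dp := n.dprod_O {p}
  have pP : PiG {p} P := hP ▸ O_pig _ _
  have sy : Syl p P M := (Msigma_hall mx).syl s (hP ▸ n.hall_O _)
  have nP : K ≤ N[P] := hP ▸ normO _ (hK.le.trans (O_norm _ _))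
  rw [hP] at dp
  have c : Mσ[M] ⊓ C[K] ≤ ⁅P, P⁆ := by
    refine (typeP_cyclics tp hK).2.2.1.trans ?_
    rw [← e, ← dp.sup]
    exact der_sup_le le_rfl (by rw [abel_iff_der.1 h1.abel]; exact bot_le) (by rw [comm_eq_bot'.2 dp.cent]; exact bot_le)
      (der_norm _) (normD (cents_norm dp.cent))
  have sp := tp.semiprime hK
  have reg : ∀ Z ≤ Mσ[M], (#Z).Prime → K ≤ N[Z] → ¬ Z ≤ C[K] → #K ∣ #Z - 1 := fun Z z1 z2 z3 z4 =>
    ((sp.mono_l z1).semireg (inf_bot_of_prime z2 z4)).card_dvd z3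
  by_cases d : #K ∣ p - 1
  · refine Or.inl fun q hq f => ?_
    by_cases qp : q = p
    · exact qp ▸ d
    obtain ⟨Z, z1, z2, z3⟩ := char_prime_sub n h1 (hP ▸ h2) hq f
    exact z2 ▸ reg Z z1 (z2 ▸ hq) (hK.le.trans ((O_norm _ _).trans z3)) fun z4 =>
      qp (pP.mem_of_card hq ((le_inf z1 z4).trans (c.trans (der_le _))) z2)
  right
  have p' : PiG {p}ᶜ K := (hM.hall hK).pi.compl_single s
  have cK := kappa_hall_cyc mx hK
  have r2 : r[p](P) ≤ 2 := by_contra fun r2 => by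
    obtain ⟨x, rfl⟩ := cyc_iff.1 cK
    have f := aut_narrow_rank3' hp pP (mso_odd _) (not_not.1 (mt (beta_iff mx hp sy).2 b)) (by omega)
      (nP (mem_zpowers x)) (pig_zpowers.1 p')
    have g := sp _ (pow_mem (mem_zpowers x) (p - 1)) fun g => d (card_zpowers' x ▸ orderOf_dvd_of_pow_eq_one g)
    exact a ((typeP_cyclics tp hK).2.1.abel.of_le (g ▸ le_inf dp.left (le_C1_iff.2 f)))
  have z : K ≤ C[Z[P]] := ((abel_Z P).cyc_of_rank (by
    have := (abel_Z P).card_Om hp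
    rw [h2] at this
    rw [(pP.of_le inf_le_left).rank_eq hp, ← Nat.pow_right_injective hp.two_le ((pow_one p).trans this)])).cop_cent
      (pP.of_le inf_le_left) (normZ nP) (PiN.coprime' p' (pP.of_le inf_le_left)) fun f => d (h2 ▸ reg _
        ((OmZ_le _ _).trans dp.left) (h2.symm ▸ hp) (normOm _ (normZ nP)) fun g =>
          ne_bot_of_prime (h2.symm ▸ hp) (le_bot_iff.1 (f ▸ le_inf (Om_le _ _) g)))
  obtain ⟨S, D, d1, d2, d3, d4, d5, d6, -⟩ := mso_rank2_syl_cprod hp (sigma_syl_top s sy) r2 a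
  have eS : S = P := le_antisymm (d1 ▸ le_sup_left) (d1 ▸ sup_le le_rfl (by
    have f : D ≤ Z[P] := d1 ▸ le_inf le_sup_right (centY d2 d6.abel)
    refine (le_inf (f.trans (inf_le_left.trans dp.left)) (f.trans (cent_symm z))).trans (c.trans ?_)
    rw [← d1]
    exact der_sup_le (der_le _) (by rw [abel_iff_der.1 d6.abel]; exact bot_le) (commL (cents_norm d2)) (normG _)
      (cents_norm d2)))
  subst eS
  exact ⟨d4, (p3_reg_dvd hp d4 a d5 cK.abel (mso_odd _) p' nP z fun y y1 y2 => (inf_le_inf_right _ dp.left).trans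
    ((sp y y1 y2).le.trans (c.trans (p3_der hp d4 a).2.ge))).resolve_left d⟩
/-- BG 15.7 -/
theorem nonTI_F_structure (hM : IsCoatom M) (hg : g ∉ M) (hX : X = F[M] ⊓ cj g F[M]) (h : X ≠ ⊥) :
    ((TypeF M ∨ TypeP1 M) ∧ MF[M] = Mσ[M]) ∧ (X ≤ MF[M] ∧ Cyc X) ∧
      (⁅M, M⁆ ≤ F[M] ∧ Dprod Mσ[M] O[σ[M]ᶜ](F[M]) F[M]) ∧
      (∀ E E₁ E₂ E₃, SigmaCompl M E E₁ E₂ E₃ → E₃ = ⊥ ∧ Sdprod E₂ E₁ E ∧ Cyc E₁) ∧
      ((TypeF M ∧ Abel MF[M] ∧ r(MF[M]) = 2) ∨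
        ((#X).Prime ∧ #X ∈ σ[M] ∧ #X ∉ β[M] ∧ ¬ Abel O[{#X}](MF[M]) ∧ Cyc O[{#X}ᶜ](MF[M]) ∧
          ((∀ q, q.Prime → q ∣ #MF[M] → Monoid.exponent (M ÷ MF[M]) ∣ q - 1) ∨
            (#O[{#X}](MF[M]) = #X ^ 3 ∧ TypeP1 M ∧ MF[M].relIndex M ∣ #X + 1)))) := by
  have xF : X ≤ F[M] := hX ▸ inf_le_left
  have xF' : X ≤ F[cj g M] := cj_F g M ▸ hX ▸ inf_le_right
  have nn : ∀ L : Subgroup G, IsCoatom L → ∀ Y ≤ F[L], (#Y).Prime → #Y ∉ σ[L] → N[Y] = L := fun L a Y b c d =>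
    coatom_N a (b.trans (F_le _)) ((F_structure a).1.1.norm_sub ((F_nil _).le_O b (pig_of_card c rfl d))
      (normO _ (F_norm _))) (ne_bot_of_prime c)
  have sX : PiG σ[M] X := fun p hp a => by_contra fun b => by
    obtain ⟨Y, c, rfl⟩ := exists_prime_sub hp a
    exact cj_ne_of_not_mem hM hg ((nn _ (coatom_cj' hM g) Y (c.trans xF') hp (by rwa [sigma_cj])).symm.trans
      (nn M hM Y (c.trans xF) hp b))
  have xS := le_Msigma hM (xF.trans (F_le _)) sX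
  have xI := le_inf xS (xF'.trans (F_le _))
  obtain ⟨E, hE⟩ := hall_exists σ[M]ᶜ (coatom_sol hM)
  obtain ⟨cy, be, -⟩ := (sigma_compl_embedding hM hE).2.2 g hg
  replace cy := cy.of_le xI
  replace be := be.of_le xI
  have nc : ∀ Y ≤ X, (#Y).Prime → ¬ C[Y] ≤ M := fun Y a b =>
    not_cent_le_of_sigma hM hg (a.trans xI) (pig_of_card' b rfl) (ne_bot_of_prime b)
  obtain ⟨Y, y1, hp⟩ := exists_prime_sub' h
  have r2 : r(M ⊓ C[Y]) ≤ 2 := by_contra fun a => nc Y y1 hp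
    ((umax_of_rank3 hM inf_le_left (by omega)).le_of inf_le_right (C_ne_top (ne_bot_of_prime hp)))
  obtain ⟨K, hK⟩ := hall_exists κ[M] (coatom_sol hM)
  have e : MF[M] = Mσ[M] := by_contra fun e => by
    obtain ⟨D, -, -, f⟩ := ex_MFne hM hK e
    have i := (pRank_mono f.prime (le_inf (O_le _ _) ((F_nil M).cent (O_le_F _ _) (y1.trans xF) (O_pig _ _)
      ((be.of_le y1).compl_single f.beta)))).trans ((pRank_le_rank f.prime _).trans r2)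
    rw [Syl.pRank f.syl f.prime] at i
    exact absurd (alpha_rank (beta_sub_alpha M f.beta)) (not_lt.2 i)
  have n := (MF_eq_Msigma_iff hM).1 e
  have dF := narrow_der_le_F hp (mso_odd _) (coatom_sol hM) (abelem_of_card hp rfl) (y1.trans xF)
    ((rank_mono (inf_le_inf_right _ (F_le _))).trans r2)
  obtain ⟨⟨cY, tY⟩, ⟨-, -, dp⟩, -⟩ := F_structure hM
  rw [F_eq_self n] at dp
  have ty : TypeF M ∨ TypeP1 M := (typeF_or_typeP hM).imp_right fun a => a.p1_or_p2.resolve_right fun b =>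
    h (PiG.eq_bot sX ((b.facts hK).1 ▸ be))
  rw [e]
  refine ⟨⟨ty, rfl⟩, ⟨xS, cy⟩, ⟨dF, dp⟩, fun E E₁ E₂ E₃ a => ?_, ?_⟩
  · have b : E₃ = ⊥ := PiG.eq_bot a.h3.pi ((tY.of_le ((F_nil M).le_O ((tau3_le_der (a.h3.le.trans a.hE.le)
      a.h3.pi).trans dF) a.h3.pi.tau3_sigma')).mono' fun _ _ _ c d => tau3_not_tau2 d c)
    have c := a.sd32_1 hM
    rw [b, bot_sup_eq] at c
    exact ⟨b, c, a.cyc1 hM⟩
  by_cases ab : Abel Mσ[M]
  · refine Or.inl ⟨ty.resolve_right fun a => a.toTypeP.star_ne_bot hK (le_bot_iff.1 ((typeP_cyclics a.toTypeP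
      hK).2.2.1.trans (abel_iff_der.1 ((dp.abel ab cY.abel).of_le dF)).le)), ab, le_antisymm
      ((rank_mono (le_inf (O_le _ _) (ab.trans (centS (y1.trans xS))))).trans r2) (by_contra fun a => nc Y y1 hp ?_)⟩
    exact (C_le_N _).trans (coatom_N hM (y1.trans (xF.trans (F_le _))) ((ab.cyc_of_rank (by omega)).norm_sub
      (y1.trans xS) (O_norm _ _)) (ne_bot_of_prime hp)).le
  right
  obtain ⟨a1, a2, a3, Z, a4, -⟩ := nonTI_aux hM n ab (O_le _ _) hp rfl (y1.trans xS) (nc Y y1 hp)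
  have pX : PiG {#Y} X := fun q hq a => by_contra fun b => by
    obtain ⟨W, c, rfl⟩ := exists_prime_sub hq a
    exact (nonTI_aux hM n ab (O_le _ _) hq rfl (c.trans xS) (nc W c hq)).1
      (a2.abel.of_le (O_mono (by rintro _ rfl; exact b) _))
  rw [card_of_dprod_cyc hp rfl a4 cy pX y1 (le_inf (n.le_O xS pX) (cy.abel.trans (centS y1)))]
  have s := sX.mem_of_card hp y1 rfl
  have b := be.mem_of_card hp y1 rfl
  refine ⟨hp, s, b, a1, a2, ?_⟩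
  rcases ty with ty | ty
  · obtain ⟨U, hU⟩ := ex_kappa_compl hM hK
    obtain ⟨⟨c1, c2, -⟩, -, -, -, W, c3, c4, c5⟩ := kappa_structure hM hU
    have c6 := c2.sup
    rw [(typeF_iff hM hK).1 ty, sup_bot_eq] at c6
    rw [c6] at c1
    refine Or.inl fun q hq c => ?_
    obtain ⟨V, z1, rfl, z3⟩ := char_prime_sub n a2 a3 hq c
    rw [← Monoid.exponent_eq_of_mulEquiv c1.quo_equiv.some, ← c4]
    exact Group.exponent_dvd_nat_card.trans ((c5.mono z1 le_rfl).card_dvd (c3.trans (c1.norm.trans z3)))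
  refine (nonTI_P1 ty hK n hp s b rfl a1 a2 a3).imp (fun c q hq d => ?_) fun c =>
    ⟨c.1, ty, (ty.sd hK).relIndex_l ▸ c.2⟩
  rw [← Monoid.exponent_eq_of_mulEquiv (ty.sd hK).quo_equiv.some]
  exact Group.exponent_dvd_nat_card.trans (c q hq d)
theorem nonTI_F_facts (hM : IsCoatom M) (h : ¬ NTI ((F[M] : Set G) \ {1}) M) :
    (TypeF M ∨ TypeP1 M) ∧ MF[M] = Mσ[M] ∧ ⁅M, M⁆ ≤ F[M] := by
  by_cases a : ∃ g ∉ M, F[M] ⊓ cj g F[M] ≠ ⊥
  · obtain ⟨g, b, c⟩ := a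
    have := nonTI_F_structure hM b rfl c
    exact ⟨this.1.1, this.1.2, this.2.2.1.1⟩
  obtain ⟨z, z1, z2⟩ := exists_mem_ne_one (F_coatom_ne_bot hM)
  refine absurd ⟨⟨z, z1, z2⟩, fun g b x c => ⟨conj_mem (F_norm _ b) c.1, fun d => c.2 (conj_eq_one_iff.1 d)⟩,
    fun g x b c => by_contra fun d => a ⟨g, d, ne_bot_of_mem ⟨c.1, mem_cj_conj.2 b.1⟩ c.2⟩⟩ h
/-- BG 15.8 -/
theorem tau2_typeP2_signalizer (hM : TypeP2 M) (h : KappaCompl M U K) (h1 : IsCoatom Mstar) (h2 : C[K] ≤ Mstar)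
    (hr : r.Prime) (hR : Syl r R U) (hH : IsCoatom H) (h3 : N[R] ≤ H) (hq : q ∈ τ2[H]) :
    (#K).Prime ∧ τ2[H] = {#K} ∧ τ2[M] = ∅ := by
  obtain ⟨tF, uH, -, -, kF, hD⟩ := typeP2_signalizer hM h h1 h2 hr hR hH h3
  have pK := (hM.facts h.hK).2.1
  obtain ⟨L, i⟩ := typeP_embedding hM.toTypeP h.hK
  obtain rfl := (i.uniq K le_rfl pK).uniq _ h1 h2
  have qp := tau2_prime hq
  obtain ⟨A, hA⟩ := ex_tau2Elem hD hq
  have cA : A ≤ C[K] := centSS (F_compl_abel hH hD) (le_F hA.le (tau2_norm hH hD hq hA) hA.abel.nil) kF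
  have aL := hA.mono inf_le_right
  have kS : K ≤ Mσ[Mstar] := i.cent.ge.trans inf_le_left
  have s : q ∈ σ[Mstar] := by_contra fun s => ne_bot_of_prime pK (le_bot_iff.1 ((tau2_inf_cent h1 (mem_tau2.2
    ⟨qp, s, le_antisymm (sigma'_rank_le h1 qp s) (aL.le_pRank qp)⟩) aL) ▸ le_inf kS (cent_symm cA)))
  have aS := le_Msigma h1 aL.le ((hA.pig qp).single_mono s)
  have b : q ∉ β[Mstar] := tau2_not_beta' hH hq
  have p1 : TypeP1 Mstar := i.typeP.p1_or_p2.resolve_right fun a => b ((a.facts i.hall).1 ▸ s)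
  have nu : ¬ InU A := fun a => tF.not_typeP (a.eq h1 hH aL.le (hA.le.trans inf_le_left) ▸ i.typeP)
  have n : Nil Mσ[Mstar] := (MF_eq_Msigma_iff h1).1 (by_contra fun e => by
    obtain ⟨D, -, -, f⟩ := ex_MFne h1 i.hall e
    rw [i.cent] at f
    have c := (f.F3 A aS).2 (by rw [comm_eq_bot'.2 cA]; exact bot_le)
    refine nu (cent_rank3_uniqueness (hA.rank_eq qp).ge ((alpha_rank (beta_sub_alpha _ f.beta)).trans_le ?_))
    rw [← Syl.rank f.syl pK]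
    exact rank_mono ((F_nil _).cent (O_le_F _ _) c (O_pig _ _) ((hA.pig qp).ne_compl fun e => b (e ▸ f.beta))))
  have ab : Abel O[{q}ᶜ](Mσ[Mstar]) := (n.of_le (O_le _ _)).abel_of_O fun p _ _ => by_contra fun a =>
    nu (cent_uniq_uniqueness (nonabel_uniqueness (O_pig _ _) a) ((n.le_O aS (hA.pig qp)).trans
      ((O_cent_O _ _).trans (centS (O_le _ _)))) (hA.rank_eq qp).ge)
  have dp := n.dprod_O {q}
  have c : K ≤ ⁅O[{q}](Mσ[Mstar]), O[{q}](Mσ[Mstar])⁆ := by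
    obtain ⟨L', j⟩ := typeP_embedding i.typeP i.hall
    refine i.cent.ge.trans ((typeP_cyclics i.typeP i.hall).2.2.1.trans ?_)
    rw [← ((p1.sd i.hall).hall_compl' i.hall).eq_of_le (j.der.hall_compl' i.hall) (Msigma_le_der h1)]
    refine (derS dp.sup.ge).trans ?_
    exact der_sup_le le_rfl (by rw [abel_iff_der.1 ab]; exact bot_le) (by rw [comm_eq_bot'.2 dp.cent]; exact bot_le)
      (der_norm _) (normD (cents_norm dp.cent))
  have e : #K = q := (O_pig {q} _).mem_of_card pK (c.trans (der_le _)) rfl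
  obtain ⟨d1, ⟨d2, -⟩, -⟩ := nonabel_tau2 hH hD hq hA (O_pig _ _) fun a =>
    ne_bot_of_prime pK (le_bot_iff.1 (abel_iff_der.1 a ▸ c))
  refine ⟨pK, e ▸ d1, Set.eq_empty_of_forall_notMem fun p hp => ?_⟩
  have pp := tau2_prime hp
  obtain ⟨B, hB⟩ := exists_pnElem pp ((h.hU.pRank pp fun a => a.elim (tau2_sigma' hp)
    fun a => kappa_tau2' a hp).trans (tau2_rank hp)).ge
  have f : A ⊓ C[Mσ[H]] ≤ M := inf_le_right.trans ((centS (hB.le.trans uH)).trans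
    (cent_p2Elem_le hM.max pp (hB.mono h.hU.le)))
  have j := ((pnElem_two qp e d2 (inf_le_left.trans cA) fun a => hB.ne_bot pp (le_bot_iff.1 (hB.le.trans
    ((h.comm_eq hM.max (ne_bot_of_prime pK)).ge.trans (comm_eq_bot'.2 (a.le.trans (inf_le_right.trans
      (centS uH)))).le)))).sub (sup_le h.hK.le f)).le_pRank qp
  rw [kappa_rank (h.hK.pi.mem_of_card qp le_rfl e)] at j
  omega
omit hG in
theorem KappaCompl.cj_mem (h : KappaCompl M U K) (hg : g ∈ M) : KappaCompl M (cj g U) (cj g K) :=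
  ⟨h.hK.cj_mem hg, h.hU.cj_mem hg, norm_cj.2 h.norm⟩
/-- BG 15.9 -/
theorem nonF_signalizer_base (hM : IsCoatom M) (hx : x ∈ Mσ[M]) (h1 : x ≠ 1) (h2 : ¬ C1[x] ≤ M)
    (hL : IsCoatom L) (h3 : C1[x] ≤ L) (h4 : ¬ TypeF L) :
    TypeP2 L ∧ TypeF M ∧ (∃ E, Frob Mσ[M] E M ∧ Cyc E) ∧ ¬ NTI ((F[M] : Set G) \ {1}) M := by
  obtain ⟨L', a, -, -, b, c, d, -, e⟩ := signalizer_base hM hx h1 h2
  obtain rfl := a.uniq _ hL h3
  have p2 := c.resolve_left h4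
  obtain ⟨r, hr, f⟩ := exists_prime_dvd (A := zpowers x) (by simpa using h1)
  have t := pig_zpowers.2 b r hr f
  obtain ⟨K, hK⟩ := hall_exists κ[L] (coatom_sol hL)
  obtain ⟨U, hU⟩ := ex_kappa_compl hL hK
  obtain ⟨g, g1, g2⟩ := hU.hall.conj (coatom_sol hL) e
  replace hU := hU.cj_mem g1
  rw [cj_sup] at g2
  obtain ⟨R, hR⟩ := syl_exists hr (cj g U)
  have nR := norm_noncyc_sigma hM (d t) hR.pi (hR.le.trans (le_sup_left.trans (g2.le.trans inf_le_left)))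
    (not_cyc_of_pRank hr (by
      rw [Syl.pRank (hU.hU.syl (fun a => a.elim (tau2_sigma' t) fun a => kappa_tau2' a t) hR) hr, tau2_rank t]; omega))
  obtain ⟨H, i, j⟩ := exists_coatom_C (p2.toTypeP.ne_bot hU.hK)
  have tF := (typeP2_signalizer p2 hU i j hr hR hM nR).1
  have t2 : ∀ q, q ∉ τ2[M] := fun q k => by
    rw [(tau2_typeP2_signalizer p2 hU i j hr hR hM nR k).2.2] at t; exact t
  have xF := le_F (O_le _ _) (O_norm _ _) (notP1_Msigma_nil (Or.inl tF)) hx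
  obtain ⟨c, c1, c2⟩ := SetLike.not_le_iff_exists.1 h2
  have c3 : c * x * c⁻¹ = x := by rw [mem_C1.1 c1]; group
  refine ⟨p2, tF, ?_, fun k => c2 (k.ti c x ⟨xF, h1⟩ (c3.symm ▸ ⟨xF, h1⟩))⟩
  obtain ⟨E, hE⟩ := hall_exists σ[M]ᶜ (coatom_sol hM)
  obtain ⟨E₁, E₂, E₃, k⟩ := ex_sigmaCompl hM hE
  obtain ⟨-, k1, k2⟩ := (nonTI_F_structure hM c2 rfl (ne_bot_of_mem ⟨xF, c3 ▸ mem_cj_conj.2 xF⟩ h1)).2.2.2.1 _ _ _ _ k
  have k3 := k1.sup
  rw [PiG.eq_bot k.h2.pi fun q _ _ => t2 q, bot_sup_eq] at k3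
  subst k3
  exact ⟨_, ⟨sdprod_sigma hM hE, Msigma_ne_bot hM, compl_ne_bot hM hE, semireg_of_prime_sub fun X u v =>
    tF.cent_eq_bot (Or.inl (k.h1.pi.mem_of_card v u rfl)) rfl (u.trans hE.le)⟩, k2⟩

end Cfsg.Agent.BG
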