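import Cfsg.Agent.BG.S15b
/-!
Bender–Glauberman, section 16: bridges, Theorems A and B.
The theorems `bgNNNN` have exactly the type of the frozen statements.
-/
set_option autoImplicit false

namespace Cfsg.Agent.BG
open Subgroup PHom

section bridge
variable {G : Type*} [Group G] [Finite G] [hG : MSO G] {M K U L H A B E X : Subgroup G} {x y g : G} {π ρ : Set ℕ}
  {p : ℕ}

theorem Hall.sup_r (h1 : Hall π A M) (h2 : Hall ρ B M) (h : A ≤ N[B]) : Hall (π ∪ ρ) (A ⊔ B) M :=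
  ⟨sup_le h1.le h2.le, PiG.sup_r (h1.pi.mono Set.subset_union_left) (h2.pi.mono Set.subset_union_right) h,
    fun q hq hd i => i.elim (h1.idx q hq (hd.trans (relIndex_dvd_left le_sup_left M)))
      (h2.idx q hq (hd.trans (relIndex_dvd_left le_sup_right M)))⟩
omit [Finite G] in
theorem mem_normalizer_of {S : Set G} (h : ∀ g ∈ L, ∀ x ∈ S, g * x * g⁻¹ ∈ S) (hg : g ∈ L) : g ∈ normalizer S :=
  mem_set_normalizer_iff.2 fun x => ⟨h g hg x, fun i => by simpa [mul_assoc] using h _ (inv_mem hg) _ i⟩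
omit [Finite G] in
theorem isTI_of {S : Set G} (h : ∀ g ∈ L, ∀ x ∈ S, g * x * g⁻¹ ∈ S)
    (h2 : ∀ g, ∀ x ∈ S, g * x * g⁻¹ ∈ S → x ≠ 1 → g ∈ L) : IsTISubset S :=
  fun g hg x hx i => by_contra fun j => hg (mem_normalizer_of h (h2 g x hx i j))
omit [Finite G] in
theorem NTI.isTI {A : Set G} (h : NTI A L) : IsTISubset A ∧ normalizer A = L := by
  refine ⟨isTI_of h.norm fun g x a b _ => h.ti g x a b, le_antisymm (fun g hg => ?_) fun g => mem_normalizer_of h.norm⟩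
  obtain ⟨x, hx⟩ := h.ne
  exact h.ti g x hx ((mem_set_normalizer_iff.1 hg x).1 hx)
omit [Finite G] in
theorem NTI.conj_mem {A : Set G} (h : NTI A L) {a b z w : G} (hz : z ∈ A) (hw : w ∈ A)
    (e : g * (a * z * a⁻¹) * g⁻¹ = b * w * b⁻¹) : b⁻¹ * g * a ∈ L :=
  h.ti _ z hz (by rwa [show b⁻¹ * g * a * z * (b⁻¹ * g * a)⁻¹ = b⁻¹ * (g * (a * z * a⁻¹) * g⁻¹) * b by group, e,
    show b⁻¹ * (b * w * b⁻¹) * b = w by group])
theorem Frob.isFrob (h : Frob K E M) : IsFrobeniusComplement (E.subgroupOf M) ∧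
    frobeniusKernel (E.subgroupOf M) = (K.subgroupOf M : Set M) := by
  haveI := normal_subgroupOf h.sd.nl
  have c : IsComplement' (K.subgroupOf M) (E.subgroupOf M) := isComplement'_of_disjoint_and_mul_eq_univ
    (disjoint_iff.2 (by rw [subgroupOf, subgroupOf, ← comap_inf, h.sd.inf]; exact bot_subgroupOf M))
    (Set.eq_univ_of_forall fun m => by
      obtain ⟨a, ha, b, hb, e⟩ := h.sd.prod.ex m m.2
      exact ⟨⟨a, h.sd.left ha⟩, ha, ⟨b, h.sd.right hb⟩, hb, Subtype.ext e.symm⟩)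
  have f : IsFrobeniusComplement (E.subgroupOf M) := Core.frob_of_fpf c
    (fun i => h.ne_l (by rw [← map_subgroupOf_eq_of_le h.sd.left, i, Subgroup.map_bot]))
    (fun i => h.ne_r (by rw [← map_subgroupOf_eq_of_le h.sd.right, i, Subgroup.map_bot]))
    fun e he i => eq_bot_iff.2 fun k hk => Subtype.ext ((h.reg e he fun j => i (Subtype.ext j)).le
      ⟨hk.1, mem_C1.2 (congrArg Subtype.val (mem_C1.1 hk.2))⟩)
  exact ⟨f, (Core.frob_coe_eq_kernel f c).symm⟩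
theorem Frob.F_eq (h : Frob K E M) : F[M] = K := by
  have a : K ≤ F[M] := le_F h.sd.left h.sd.nl (h.reg.nil' h.sd.norm h.ne_r)
  rw [← (h.sd.modl' a (F_le M)).sup, sup_eq_left]
  by_contra i
  exact h.ne_l (eq_bot_iff.2 ((le_inf le_rfl ((F_nil M).cent_cop a inf_le_right
    (coprimeS h.coprime.symm le_rfl inf_le_left))).trans (h.reg.cent inf_le_left fun j => i (j ▸ bot_le)).le))
theorem sylow_abel_rank (hp : p.Prime) (P : Sylow p U) (h1 : Abel ((P : Subgroup U).map U.subtype))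
    (h2 : r((P : Subgroup U).map U.subtype) ≤ 2) : IsMulCommutative (P : Subgroup U) ∧ PRankLE p 2 (P : Subgroup U) :=
  have e := (P : Subgroup U).equivMapOfInjective _ U.subtype_injective
  ⟨(h1.equiv e.symm).comm, (prankle_iff hp).2 ((pRank_equiv hp e).le.trans ((pRank_le_rank hp _).trans h2))⟩
omit [Finite G] in
theorem UMax.pair (h : UMax X M) : X ≤ M ∧ ∀ L, IsCoatom L → X ≤ L → L = M := ⟨h.le, h.uniq⟩

include hG

theorem Hall.kappa_sigma (hM : IsCoatom M) (hK : Hall κ[M] K M) : Hall (σ[M] ∪ κ[M]) (K ⊔ Mσ[M]) M :=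
  Set.union_comm _ _ ▸ hK.sup_r (Msigma_hall hM) (hK.le.trans (O_norm _ _))
theorem sigmaDec_iff (hM : IsCoatom M) : IsSigmaDecomposition M K U ↔ KappaCompl M U K :=
  ⟨fun h => ⟨hall_iff.2 h.hall, ((hall_iff.2 h.hall).kappa_sigma hM).compl_hall (compl_symm h.compl), h.normal⟩,
    fun h => ⟨(kappa_structure hM h).1.2.2.1, h.hK.of, compl_symm ((h.hK.kappa_sigma hM).compl h.hU), h.norm⟩⟩
theorem MF_eq_of_notP1 (h : TypeF M ∨ TypeP2 M) : MF[M] = Mσ[M] :=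
  (MF_eq_Msigma_iff (h.elim (·.max) (·.max))).2 (notP1_Msigma_nil h)
theorem supportR_eq (hM : IsCoatom M) (hx : x ∈ Mσ[M]) (h1 : x ≠ 1) : supportR M x = Rx x := by
  rw [supportR]
  split_ifs with h
  · obtain ⟨L, a, b, -, -, c, -⟩ := signalizer_base hM hx h1 h.1
    have d := Classical.choose_spec h.2.exists
    rw [a.uniq _ d.1 d.2, b, ← MF_eq_of_notP1 c]
  · by_cases e : C1[x] ≤ M
    · exact (Rx_eq_bot hM e hx).symm
    · obtain ⟨L, a, -⟩ := signalizer_base hM hx h1 e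
      exact absurd ⟨e, inU_iff.1 a.inU⟩ h
theorem tildeOf_eq (hM : IsCoatom M) : tildeOf M ((Mσ[M] : Set G) \ {1}) = ClS (SigSupp M) := by
  ext g
  constructor
  · rintro ⟨a, ⟨i, j⟩, r, hr, y, rfl⟩
    exact ⟨y, _, ⟨a, i, j, by rwa [inv_mul_cancel_left, ← supportR_eq hM i j]⟩, rfl⟩
  · rintro ⟨y, b, ⟨a, i, j, k⟩, rfl⟩
    exact ⟨a, ⟨i, j⟩, a⁻¹ * b, by rwa [supportR_eq hM i j], y, by rw [mul_inv_cancel_left]⟩
theorem ti_iff_nti (hM : IsCoatom M) (h1 : K ≤ M) (h2 : M ≤ N[K]) (h3 : K ≠ ⊥) :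
    IsTISubset (K : Set G) ↔ NTI ((K : Set G) \ {1}) M := by
  refine ⟨fun h => ⟨?_, fun g hg x hx => ⟨conj_mem (h2 hg) hx.1, by simpa using hx.2⟩, fun g x hx i => ?_⟩,
    fun h => isTI_of (fun g hg x hx => conj_mem (h2 hg) hx) fun g x hx i j => h.ti g x ⟨hx, j⟩ ⟨i, by simpa using j⟩⟩
  · obtain ⟨x, a, b⟩ := exists_mem_ne_one h3
    exact ⟨x, a, b⟩
  · rw [← coatom_N hM h1 h2 h3]
    exact by_contra fun j => hx.2 (h g j x hx.1 i.1)
theorem ti_F_iff (hM : IsCoatom M) : IsTISubset (F[M] : Set G) ↔ NTI ((F[M] : Set G) \ {1}) M :=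
  ti_iff_nti hM (F_le M) (F_norm M) (F_coatom_ne_bot hM)
theorem KappaCompl.typeP (h : KappaCompl M U K) (hM : IsCoatom M) (hK : K ≠ ⊥) : TypeP M := (typeP_iff hM h.hK).2 hK
theorem KappaCompl.typeP2 (h : KappaCompl M U K) (hM : IsCoatom M) (hK : K ≠ ⊥) (hU : U ≠ ⊥) : TypeP2 M :=
  ⟨h.typeP hM hK, mt h.eq_bot_iff.2 hU⟩
theorem KappaCompl.ne_bot (h : KappaCompl M U K) (h1 : TypeF M ∨ TypeP2 M) : U ≠ ⊥ :=
  mt h.eq_bot_iff.1 (h1.elim TypeF.not_pig (·.pi))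
theorem KappaCompl.hall' (h : KappaCompl M U K) (hM : IsCoatom M) : Hall κ[M]ᶜ (Mσ[M] ⊔ U) M :=
  (kappa_structure hM h).1.2.1.hall_compl' h.hK
theorem KappaCompl.mem (h : KappaCompl M U K) (hM : IsCoatom M) (hx : x ∈ M) (h1 : PiE κ[M]ᶜ x) : x ∈ Mσ[M] ⊔ U :=
  (h.hall' hM).mem_of_normal (kappa_structure hM h).1.2.1.nl h1 hx
theorem KappaCompl.nl (h : KappaCompl M U K) (hM : IsCoatom M) : M ≤ N[U ⊔ Mσ[M]] := by
  rw [sup_comm]; exact (kappa_structure hM h).1.2.1.nl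
theorem exists_MFne (hM : IsCoatom M) (hK : Hall κ[M] K M) (h : MF[M] ≠ Mσ[M]) : ∃ D,
    Hall {#(Mσ[M] ⊓ C[K])}ᶜ D Mσ[M] ∧ K ≤ N[D] ∧
      MFne M K (Mσ[M] ⊓ C[K]) D O[{#(Mσ[M] ⊓ C[K])}](M) #(Mσ[M] ⊓ C[K]) := by
  obtain ⟨D, a, b⟩ := cop_hall_exists {#(Mσ[M] ⊓ C[K])}ᶜ (hK.le.trans (O_norm _ _))
    (PiN.coprime' (hK.pi.mono (kappa_sub_sigma' M)) (O_pig _ _)) (sol_of_le hM (O_le _ _))
  exact ⟨D, a, b, MF_structure hM hK h a b⟩
theorem KappaCompl.umax_cst (h : KappaCompl M U K) (hM : IsCoatom M) (hx : x ∈ Mσ[M] ⊔ U) (h1 : x ∉ Mσ[M])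
    (hy : y ∈ Mσ[M]) (h2 : y ≠ 1) (h3 : x * y = y * x) : UMax C1[cst σ[M]ᶜ x] M := by
  obtain ⟨⟨a, b, -⟩, -, c, -⟩ := kappa_structure hM h
  have d : cst σ[M]ᶜ x ≠ 1 := fun i => h1 (mem_Msigma hM (b.left hx) (by simpa using cst_eq_one_iff.1 i))
  obtain ⟨m, hm, e⟩ := (a.hall_r (O_pig _ _).compl_compl h.sigma').cj_sub (sol_of_le hM b.left)
    (zpowers_le.2 (cst_mem_of hx)) (pig_zpowers.2 (cst_pie _ _))
  have f := (c _ e (by rwa [Ne, cj_eq_bot, zpowers_eq_bot]) (by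
    rw [← cj_C, ← cj_of_mem_N (O_norm σ[M] M (b.left hm)), ← cj_inf, Ne, cj_eq_bot, C_zpowers]
    exact ne_bot_of_mem ⟨hy, C1_le_cst _ _ (mem_C1'.2 h3)⟩ h2)).1
  rw [← cj_C, C_zpowers] at f
  exact (umax_cj (g := m)).1 (by rwa [cj_of_mem (b.left hm)])
theorem KappaCompl.ti_mem (h : KappaCompl M U K) (hM : IsCoatom M) (hx : x ∈ sigmaA M U \ (Mσ[M] : Set G))
    (h1 : g * x * g⁻¹ ∈ sigmaA M U \ (Mσ[M] : Set G)) : g ∈ M := by
  obtain ⟨⟨⟨-, y, a, b, c⟩, d⟩, e⟩ := hx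
  obtain ⟨⟨⟨-, z, a', b', c'⟩, d'⟩, e'⟩ := h1
  have i := h.umax_cst hM (sup_comm U _ ▸ d) e a b c
  have j := h.umax_cst hM (sup_comm U _ ▸ d') e' a' b' c'
  rw [cst_conj, ← cj_C1] at j
  exact mem_of_cj_eq hM (j.eq (i.cj g))
omit [Finite G] hG in
theorem sigmaHat_conj (hg : g ∈ M) (hx : x ∈ sigmaHat M) : g * x * g⁻¹ ∈ sigmaHat M := by
  obtain ⟨a, y, b, c, d⟩ := hx
  refine ⟨conj_mem (normG M hg) a, g * y * g⁻¹, conj_mem (O_norm σ[M] M hg) b, by simpa using c, ?_⟩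
  simp only [conj_mul, d]
end bridge

/-- frozen statement S1350, `minsimple_odd_sigma_core_hall` -/
theorem bg1350 {G : Type*} [Group G] [Finite G] (hG : Cfsg.IsMinSimpleOddOrder G)
    (M : Subgroup G) (hM : IsCoatom M) :
    Cfsg.IsPiHallOf (Cfsg.sigma M) (Cfsg.sigmaCore M) M ∧ Cfsg.IsPiHall (Cfsg.sigma M) (Cfsg.sigmaCore M) ∧
      ∀ N : Subgroup G, M ≤ Subgroup.normalizer (N : Set G) → Cfsg.IsPiHallOf (Cfsg.sigma M) N M →
        N = Cfsg.sigmaCore M := by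
  haveI : MSO G := ⟨hG⟩
  exact ⟨(Msigma_hall hM).of, hall_top_iff.1 (Msigma_hall_top hM), fun N a b => (hall_iff.2 b).eq_O a⟩

/-- frozen statement S1351, `minsimple_odd_kappa_hall_cyclic` -/
theorem bg1351 {G : Type*} [Group G] [Finite G] (hG : Cfsg.IsMinSimpleOddOrder G)
    (M : Subgroup G) (hM : IsCoatom M) :
    (∃ K : Subgroup G, Cfsg.IsPiHallOf (Cfsg.kappa M) K M) ∧
      ∀ K : Subgroup G, Cfsg.IsPiHallOf (Cfsg.kappa M) K M → IsCyclic K := by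
  haveI : MSO G := ⟨hG⟩
  obtain ⟨K, hK⟩ := hall_exists κ[M] (coatom_sol hM)
  refine ⟨⟨K, hK.of⟩, fun K h => ?_⟩
  obtain ⟨U, hU⟩ := ex_kappa_compl hM (hall_iff.2 h)
  exact (kappa_structure hM hU).1.2.2.1

/-- frozen statement S1352, `minsimple_odd_sigma_decomposition_exists` -/
theorem bg1352 {G : Type*} [Group G] [Finite G] (hG : Cfsg.IsMinSimpleOddOrder G)
    (M : Subgroup G) (hM : IsCoatom M) (K : Subgroup G)
    (hKc : IsCyclic K) (hK : Cfsg.IsPiHallOf (Cfsg.kappa M) K M) :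
    (∃ U : Subgroup G, Cfsg.IsSigmaDecomposition M K U) ∧
      ∀ U : Subgroup G, Cfsg.IsSigmaDecomposition M K U → M ≤ Subgroup.normalizer ((U ⊔ Cfsg.sigmaCore M : Subgroup G) : Set G) := by
  haveI : MSO G := ⟨hG⟩
  obtain ⟨U, hU⟩ := ex_kappa_compl hM (hall_iff.2 hK)
  exact ⟨⟨U, (sigmaDec_iff hM).2 hU⟩, fun U h => ((sigmaDec_iff hM).1 h).nl hM⟩

/-- frozen statement S1353, `minsimple_odd_complement_acts_freely_under_kappa` -/
theorem bg1353 {G : Type*} [Group G] [Finite G] (hG : Cfsg.IsMinSimpleOddOrder G)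
    (M : Subgroup G) (hM : IsCoatom M) (K U : Subgroup G) (hKU : Cfsg.IsSigmaDecomposition M K U) :
    ∀ k ∈ K, k ≠ 1 → U ⊓ Subgroup.centralizer ({k} : Set G) = ⊥ := by
  haveI : MSO G := ⟨hG⟩
  exact (kappa_compl_context hM ((sigmaDec_iff hM).1 hKU)).2.2.2.1

/-- frozen statement S1354, `minsimple_odd_kappa_centralizer_structure` -/
theorem bg1354 {G : Type*} [Group G] [Finite G] (hG : Cfsg.IsMinSimpleOddOrder G)
    (M : Subgroup G) (hM : IsCoatom M) (K : Subgroup G)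
    (hKc : IsCyclic K) (hK : Cfsg.IsPiHallOf (Cfsg.kappa M) K M) :
    Cfsg.sigmaCore M ⊓ Subgroup.centralizer (K : Set G) ≠ ⊥ ∧
      (K ≠ ⊥ → ∀ k ∈ K, k ≠ 1 →
        M ⊓ Subgroup.centralizer ({k} : Set G) = K ⊔ (Cfsg.sigmaCore M ⊓ Subgroup.centralizer (K : Set G))) := by
  haveI : MSO G := ⟨hG⟩
  replace hK := hall_iff.2 hK
  by_cases h : K = ⊥
  · exact ⟨by rw [h, C_bot, inf_top_eq]; exact Msigma_ne_bot hM, fun i => absurd h i⟩
  have hP := (typeP_iff hM hK).2 h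
  obtain ⟨L, e⟩ := typeP_embedding hP hK
  exact ⟨(typeP_cyclics hP hK).1, fun _ => e.c1⟩

/-- frozen statement S1355, `minsimple_odd_fitting_hall_chain` -/
theorem bg1355 {G : Type*} [Group G] [Finite G] (hG : Cfsg.IsMinSimpleOddOrder G)
    (M : Subgroup G) (hM : IsCoatom M) :
    Cfsg.fittingHallOf M ≠ ⊥ ∧ Cfsg.fittingHallOf M ≤ Cfsg.sigmaCore M ∧ Cfsg.sigmaCore M ≤ ⁅M, M⁆ ∧ ⁅M, M⁆ < M ∧
      Group.IsNilpotent ↥((commutator ↥M).map (QuotientGroup.mk' (Cfsg.fittingHall ↥M))) := by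
  haveI : MSO G := ⟨hG⟩
  refine ⟨(MF_chain hM).1, MF_le_Msigma hM, Msigma_le_der hM, (MF_chain hM).2, ?_⟩
  have := nil_im_of_ker_le (ψ := mquo M (fittingHall M)) ((der_le M).trans (MF_norm M)) (der_le M)
    (by rw [quo_ker, mquo_ker]; exact inf_le_right) (F_structure hM).2.2.1
  rw [← map_subtype_commutator] at this
  exact (congrArg Nil (im_map (φ := mquo M (fittingHall M)) (commutator M))).mp this

/-- frozen statement S1356, `minsimple_odd_second_derived_le_fitting` -/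
theorem bg1356 {G : Type*} [Group G] [Finite G] (hG : Cfsg.IsMinSimpleOddOrder G)
    (M : Subgroup G) (hM : IsCoatom M) :
    ⁅⁅M, M⁆, ⁅M, M⁆⁆ ≤ Cfsg.fittingOf M ∧
      Cfsg.fittingOf M = (M ⊓ Subgroup.centralizer (Cfsg.fittingHallOf M : Set G)) ⊔ Cfsg.fittingHallOf M ∧
      ((Cfsg.kappa M).Nonempty → Cfsg.fittingOf M ≤ ⁅M, M⁆) := by
  haveI : MSO G := ⟨hG⟩
  obtain ⟨-, ⟨a, b, -⟩, -, c⟩ := F_structure hM
  exact ⟨a, b.symm.sup.symm, fun h => c ⟨hM, h⟩⟩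

/-- frozen statement S1357, `minsimple_odd_fitting_hall_ne_sigma_core` -/
theorem bg1357 {G : Type*} [Group G] [Finite G] (hG : Cfsg.IsMinSimpleOddOrder G)
    (M : Subgroup G) (hM : IsCoatom M) (K U : Subgroup G) (hKU : Cfsg.IsSigmaDecomposition M K U) (hne : Cfsg.fittingHallOf M ≠ Cfsg.sigmaCore M) :
    U = ⊥ ∧ Cfsg.IsTISubset (Cfsg.fittingOf M : Set G) ∧ (Nat.card K).Prime := by
  haveI : MSO G := ⟨hG⟩
  replace hKU := (sigmaDec_iff hM).1 hKU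
  obtain ⟨D, -, -, h⟩ := exists_MFne hM hKU.hK hne
  exact ⟨hKU.eq_bot_iff.2 h.p1.pi, (ti_F_iff hM).2 (by_contra fun i => hne (nonTI_F_facts hM i).2.1), h.primeK⟩

/-- frozen statement S1358, `minsimple_odd_complement_sylow_abelian_rank_two` -/
theorem bg1358 {G : Type*} [Group G] [Finite G] (hG : Cfsg.IsMinSimpleOddOrder G)
    (M : Subgroup G) (hM : IsCoatom M) (K U : Subgroup G) (hKU : Cfsg.IsSigmaDecomposition M K U) :
    ∀ (p : ℕ), p.Prime → ∀ P : Sylow p U, IsMulCommutative (P : Subgroup U) ∧ Cfsg.PRankLE p 2 (P : Subgroup U) := by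
  haveI : MSO G := ⟨hG⟩
  replace hKU := (sigmaDec_iff hM).1 hKU
  intro p hp P
  have a := syl_map hp P
  exact sylow_abel_rank hp P (sigma'_nil_abel hM (a.le.trans hKU.hU.le) (hKU.sigma'.of_le a.le) a.pi.nil)
    (sigma'_rank hM (a.le.trans hKU.hU.le) (hKU.sigma'.of_le a.le))

/-- frozen statement S1359, `minsimple_odd_complement_sigma_hat_generates_abelian` -/
theorem bg1359 {G : Type*} [Group G] [Finite G] (hG : Cfsg.IsMinSimpleOddOrder G)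
    (M : Subgroup G) (hM : IsCoatom M) (K U : Subgroup G) (hKU : Cfsg.IsSigmaDecomposition M K U) :
    IsMulCommutative (Subgroup.closure ((U : Set G) ∩ Cfsg.sigmaHat M)) := by
  haveI : MSO G := ⟨hG⟩
  obtain ⟨-, -, -, ⟨A, -, -, a, b⟩, -⟩ := kappa_structure hM ((sigmaDec_iff hM).1 hKU)
  refine (a.of_le ((closure_le _).2 ?_)).comm
  rintro u ⟨i, -, y, j, k, l⟩
  exact b y j k ⟨i, mem_C1.2 l⟩

/-- frozen statement S1360, `minsimple_odd_complement_free_subgroup_same_exponent` -/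
theorem bg1360 {G : Type*} [Group G] [Finite G] (hG : Cfsg.IsMinSimpleOddOrder G)
    (M : Subgroup G) (hM : IsCoatom M) (K U : Subgroup G) (hKU : Cfsg.IsSigmaDecomposition M K U) :
    ∃ U₀ : Subgroup G, U₀ ≤ U ∧ Monoid.exponent U₀ = Monoid.exponent U ∧ ∀ u ∈ U₀, u ∈ Cfsg.sigmaHat M → u = 1 := by
  haveI : MSO G := ⟨hG⟩
  obtain ⟨-, -, -, -, V, a, b, c⟩ := kappa_structure hM ((sigmaDec_iff hM).1 hKU)
  refine ⟨V, a, b, fun u hu ⟨_, y, j, k, l⟩ => by_contra fun i => k ((c u hu i).le ⟨j, mem_C1'.2 l⟩)⟩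

/-- frozen statement S1361, `minsimple_odd_complement_centralizer_in_unique_maximal` -/
theorem bg1361 {G : Type*} [Group G] [Finite G] (hG : Cfsg.IsMinSimpleOddOrder G)
    (M : Subgroup G) (hM : IsCoatom M) (K U : Subgroup G) (hKU : Cfsg.IsSigmaDecomposition M K U) (X : Subgroup G) (hXU : X ≤ U) (hX : X ≠ ⊥)
    (hXc : Cfsg.sigmaCore M ⊓ Subgroup.centralizer (X : Set G) ≠ ⊥) :
    Subgroup.centralizer (X : Set G) ≤ M ∧ ∀ L : Subgroup G, IsCoatom L → Subgroup.centralizer (X : Set G) ≤ L → L = M := by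
  haveI : MSO G := ⟨hG⟩
  exact ((kappa_structure hM ((sigmaDec_iff hM).1 hKU)).2.2.1 X hXU hX hXc).1.pair

/-- frozen statement S1362, `minsimple_odd_sigma_a_diff_core_ti` -/
theorem bg1362 {G : Type*} [Group G] [Finite G] (hG : Cfsg.IsMinSimpleOddOrder G)
    (M : Subgroup G) (hM : IsCoatom M) (K U : Subgroup G) (hKU : Cfsg.IsSigmaDecomposition M K U) :
    Cfsg.IsTISubset (Cfsg.sigmaA M U \ (Cfsg.sigmaCore M : Set G)) := by
  haveI : MSO G := ⟨hG⟩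
  replace hKU := (sigmaDec_iff hM).1 hKU
  refine isTI_of (L := M) (fun g hg x hx => ⟨⟨sigmaHat_conj hg hx.1.1, conj_mem (hKU.nl hM hg) hx.1.2⟩, fun i => hx.2 ?_⟩)
    fun g x a b _ => hKU.ti_mem hM a b
  simpa [mul_assoc, sigmaCore_eq] using conj_mem' (O_norm σ[M] M hg) i

end Cfsg.Agent.BG
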