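import Cfsg.Agent.BG.S16a
/-!
Bender–Glauberman, section 16: Theorems C, D and E.
The theorems `bgNNNN` have exactly the type of the frozen statements.
-/
set_option autoImplicit false

namespace Cfsg.Agent.BG
open Subgroup PHom

section aux
variable {G : Type*} [Group G] [Finite G] [hG : MSO G] {M K U L H A B E X : Subgroup G} {x y g : G} {π ρ : Set ℕ}
  {p : ℕ}
include hG
theorem pemb_of (hM : TypeP M) (hK : Hall κ[M] K M) (hH : IsCoatom H) (e : K = Mσ[H] ⊓ C[Mσ[M] ⊓ C[K]])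
    (h : Hall κ[H] (Mσ[M] ⊓ C[K]) H) : PEmb M K (Mσ[M] ⊓ C[K]) H := by
  obtain ⟨L, a⟩ := typeP_embedding hM hK
  obtain ⟨X, i, j⟩ := exists_prime_sub' (hM.ne_bot hK)
  rwa [(a.uniq X i j).eq (((typeP_iff hH h).2 (hM.star_ne_bot hK)).star_uniq h (i.trans e.le) j).1]
theorem KappaCompl.mem_zhat (h : KappaCompl M U K) (hM : IsCoatom M) (hK : K ≠ ⊥) :
    (∃ m ∈ M, ∃ z ∈ Zhat K (Mσ[M] ⊓ C[K]), x = m * z * m⁻¹) ↔ x ∈ sigmaA0 M K \ sigmaA M U := by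
  have hP := h.typeP hM hK
  obtain ⟨L, e⟩ := typeP_embedding hP h.hK
  have d := hP.dprod h.hK
  have s' : PiG κ[M]ᶜ Mσ[M] := (O_pig _ _).mono fun _ a b => kappa_sigma' b a
  constructor
  · rintro ⟨m, hm, z, ⟨i, j⟩, rfl⟩
    obtain ⟨k, hk, y, hy, rfl⟩ := d.prod.ex z i
    have c := (mem_C.1 hy.2 k hk)
    have y1 : y ≠ 1 := fun o => j (Or.inl (by rwa [o, mul_one]))
    have k1 : k ≠ 1 := fun o => j (Or.inr (by rwa [o, one_mul]))
    have c1 := cst_eq (h.hK.pi.elt hk) (s'.elt hy.1) c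
    have c2 := cst_eq' (h.hK.pi.elt hk) (s'.elt hy.1) c
    refine ⟨⟨sigmaHat_conj hm ⟨mul_mem (h.hK.le hk) (O_le _ _ hy.1), y, hy.1, y1, by rw [← mul_assoc, ← c]⟩,
      ?_⟩, fun o => k1 ?_⟩
    · rintro ⟨k', a, -, n, -, b⟩
      have : PiE κ[M] (k * y) := (pie_conj (g := m)).1 (b ▸ pie_conj.2 (h.hK.pi.elt a))
      exact y1 (c2 ▸ cst_eq_one_iff.2 this.compl_compl)
    · have : PiE κ[M]ᶜ (k * y) := (pie_conj (g := m)).1 ((h.hall' hM).pi.elt (sup_comm U _ ▸ o.2))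
      exact c1 ▸ cst_eq_one_iff.2 this
  · rintro ⟨⟨a, b⟩, c⟩
    have k1 : cst κ[M] x ≠ 1 := fun o => c ⟨a, by
      rw [sigmaCore_eq, sup_comm]; exact h.mem hM a.1 (cst_eq_one_iff.1 o)⟩
    obtain ⟨m, hm, i⟩ := h.hK.cj_sub (coatom_sol hM) (zpowers_le.2 (cst_mem_of a.1)) (pig_zpowers.2 (cst_pie _ _))
    rw [cj_zpowers, zpowers_le, ← cst_conj] at i
    have k2 : cst κ[M] (m * x * m⁻¹) ≠ 1 := by rw [cst_conj]; simpa using k1
    refine ⟨m⁻¹, inv_mem hm, m * x * m⁻¹, ⟨(e.c1 _ i k2).le ⟨conj_mem (normG M hm) a.1,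
      C1_le_cst _ _ (mem_C1_self _)⟩, ?_⟩, by group⟩
    rintro (o | o)
    · exact b ⟨_, o, fun q => k2 (by rw [q]; exact cst_self (pie_one _)), m⁻¹, inv_mem hm, by group⟩
    · exact k2 (cst_eq_one_iff.2 (s'.elt o.1))
theorem KappaCompl.ti_zhat (h : KappaCompl M U K) (hM : IsCoatom M) (hK : K ≠ ⊥)
    (hx : x ∈ sigmaA0 M K \ sigmaA M U) (h1 : g * x * g⁻¹ ∈ sigmaA0 M K \ sigmaA M U) : g ∈ M := by
  obtain ⟨L, e⟩ := typeP_embedding (h.typeP hM hK) h.hK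
  obtain ⟨a, ha, z, hz, rfl⟩ := (h.mem_zhat hM hK).2 hx
  obtain ⟨b, hb, w, hw, i⟩ := (h.mem_zhat hM hK).2 h1
  have : b⁻¹ * g * a ∈ M := (e.inf.ge (e.nti.conj_mem hz hw i)).1
  rwa [M.mul_mem_cancel_right ha, M.mul_mem_cancel_left (inv_mem hb)] at this
theorem signalizer_frob (hM : IsCoatom M) (hx : x ∈ Mσ[M]) (h1 : x ≠ 1) (h2 : ¬ C1[x] ≤ M)
    (hL : IsCoatom L) (h3 : C1[x] ≤ L) (h4 : ¬ TypeF L) :
    TypeF M ∧ (∃ E, Frob MF[M] E M ∧ Cyc E) ∧ ¬ IsTISubset (MF[M] : Set G) := by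
  obtain ⟨-, a, ⟨E, b, c⟩, d⟩ := nonF_signalizer_base hM hx h1 h2 hL h3 h4
  rw [MF_eq_of_notP1 (Or.inl a)]
  exact ⟨a, ⟨E, b, c⟩, by rwa [← b.F_eq, ti_F_iff hM]⟩
end aux

/-- frozen statement S1363, `minsimple_odd_kappa_complement_abelian_normalizer_not_le` -/
theorem bg1363 {G : Type*} [Group G] [Finite G] (hG : Cfsg.IsMinSimpleOddOrder G)
    (M : Subgroup G) (hM : IsCoatom M) (K U : Subgroup G) (hKU : Cfsg.IsSigmaDecomposition M K U) (hK1 : K ≠ ⊥) :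
    IsMulCommutative U ∧ ¬ Subgroup.normalizer (U : Set G) ≤ M := by
  haveI : MSO G := ⟨hG⟩
  replace hKU := (sigmaDec_iff hM).1 hKU
  have hP := hKU.typeP hM hK1
  refine ⟨((kappa_compl_context hM hKU).2.2.2.2 hK1).comm, fun h => ?_⟩
  by_cases e : U = ⊥
  · rw [e, N_bot] at h
    exact hM.1 (top_le_iff.1 h)
  obtain ⟨r, hr, a⟩ := exists_prime_dvd e
  obtain ⟨R, hR⟩ := syl_exists hr U
  obtain ⟨H, b, c⟩ := exists_coatom_N (hR.ne_bot' hr a) hR.pi.ne_top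
  obtain ⟨L, i, j⟩ := exists_coatom_C hK1
  exact (typeP2_signalizer (hKU.typeP2 hM hK1 e) hKU i j hr hR b c).2.2.2.1 (inf_le_right.trans h)

/-- frozen statement S1364, `minsimple_odd_kappa_star_cyclic_in_fitting_hall` -/
theorem bg1364 {G : Type*} [Group G] [Finite G] (hG : Cfsg.IsMinSimpleOddOrder G)
    (M : Subgroup G) (hM : IsCoatom M) (K U : Subgroup G) (hKU : Cfsg.IsSigmaDecomposition M K U) (hK1 : K ≠ ⊥) :
    IsCyclic ↥(Cfsg.sigmaCore M ⊓ Subgroup.centralizer (K : Set G)) ∧ (Cfsg.sigmaCore M ⊓ Subgroup.centralizer (K : Set G)) ≠ ⊥ ∧ (Cfsg.sigmaCore M ⊓ Subgroup.centralizer (K : Set G)) ≤ Cfsg.fittingHallOf M ∧ ¬ IsCyclic (Cfsg.fittingHallOf M) := by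
  haveI : MSO G := ⟨hG⟩
  replace hKU := (sigmaDec_iff hM).1 hKU
  have hP := hKU.typeP hM hK1
  obtain ⟨a, b, -, c, d⟩ := typeP_cyclics hP hKU.hK
  exact ⟨b, a, c, d⟩

/-- frozen statement S1365, `minsimple_odd_kappa_derived_eq` -/
theorem bg1365 {G : Type*} [Group G] [Finite G] (hG : Cfsg.IsMinSimpleOddOrder G)
    (M : Subgroup G) (hM : IsCoatom M) (K U : Subgroup G) (hKU : Cfsg.IsSigmaDecomposition M K U) (hK1 : K ≠ ⊥) :
    ⁅M, M⁆ = U ⊔ Cfsg.sigmaCore M ∧ (Cfsg.sigmaCore M ⊓ Subgroup.centralizer (K : Set G)) ≤ ⁅⁅M, M⁆, ⁅M, M⁆⁆ := by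
  haveI : MSO G := ⟨hG⟩
  replace hKU := (sigmaDec_iff hM).1 hKU
  have hP := hKU.typeP hM hK1
  exact ⟨by rw [sup_comm]; exact ((kappa_structure hM hKU).2.1 hK1).1.symm, (typeP_cyclics hP hKU.hK).2.2.1⟩

/-- frozen statement S1366, `minsimple_odd_kappa_partner_maximal_unique` -/
theorem bg1366 {G : Type*} [Group G] [Finite G] (hG : Cfsg.IsMinSimpleOddOrder G)
    (M : Subgroup G) (hM : IsCoatom M) (K U : Subgroup G) (hKU : Cfsg.IsSigmaDecomposition M K U) (hK1 : K ≠ ⊥) :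
    ∃! Mstar : Subgroup G, IsCoatom Mstar ∧ K = Cfsg.sigmaCore Mstar ⊓ Subgroup.centralizer ((Cfsg.sigmaCore M ⊓ Subgroup.centralizer (K : Set G)) : Set G) ∧
        Cfsg.IsPiHallOf (Cfsg.kappa Mstar) (Cfsg.sigmaCore M ⊓ Subgroup.centralizer (K : Set G)) Mstar := by
  haveI : MSO G := ⟨hG⟩
  replace hKU := (sigmaDec_iff hM).1 hKU
  have hP := hKU.typeP hM hK1
  obtain ⟨L, e⟩ := typeP_embedding hP hKU.hK
  obtain ⟨X, i, j⟩ := exists_prime_sub' hK1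
  exact ⟨L, ⟨e.typeP.max, e.cent.symm, e.hall.of⟩, fun H ⟨a, b, c⟩ =>
    (e.uniq X i j).eq ((pemb_of hP hKU.hK a b (hall_iff.2 c)).uniq X i j)⟩

/-- frozen statement S1367, `minsimple_odd_kappa_prime_order_centralizers_unique_maximal` -/
theorem bg1367 {G : Type*} [Group G] [Finite G] (hG : Cfsg.IsMinSimpleOddOrder G)
    (M : Subgroup G) (hM : IsCoatom M) (K U : Subgroup G) (hKU : Cfsg.IsSigmaDecomposition M K U) (hK1 : K ≠ ⊥) (Mstar : Subgroup G) (hMstar : IsCoatom Mstar)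
    (hKst : K = Cfsg.sigmaCore Mstar ⊓ Subgroup.centralizer ((Cfsg.sigmaCore M ⊓ Subgroup.centralizer (K : Set G)) : Set G))
    (hKstH : Cfsg.IsPiHallOf (Cfsg.kappa Mstar) (Cfsg.sigmaCore M ⊓ Subgroup.centralizer (K : Set G)) Mstar) :
    (∀ X : Subgroup G, X ≤ (Cfsg.sigmaCore M ⊓ Subgroup.centralizer (K : Set G)) → (Nat.card X).Prime →
        Subgroup.centralizer (X : Set G) ≤ M ∧ ∀ L : Subgroup G, IsCoatom L → Subgroup.centralizer (X : Set G) ≤ L → L = M) ∧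
      (∀ Y : Subgroup G, Y ≤ K → (Nat.card Y).Prime →
        Subgroup.centralizer (Y : Set G) ≤ Mstar ∧ ∀ L : Subgroup G, IsCoatom L → Subgroup.centralizer (Y : Set G) ≤ L → L = Mstar) := by
  haveI : MSO G := ⟨hG⟩
  replace hKU := (sigmaDec_iff hM).1 hKU
  have hP := hKU.typeP hM hK1
  have e := pemb_of hP hKU.hK hMstar hKst (hall_iff.2 hKstH)
  exact ⟨fun X a b => (hP.star_uniq hKU.hK a b).1.pair, fun X a b => (e.uniq X a b).pair⟩

/-- frozen statement S1368, `minsimple_odd_kappa_partner_intersection_cyclic` -/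
theorem bg1368 {G : Type*} [Group G] [Finite G] (hG : Cfsg.IsMinSimpleOddOrder G)
    (M : Subgroup G) (hM : IsCoatom M) (K U : Subgroup G) (hKU : Cfsg.IsSigmaDecomposition M K U) (hK1 : K ≠ ⊥) (Mstar : Subgroup G) (hMstar : IsCoatom Mstar)
    (hKst : K = Cfsg.sigmaCore Mstar ⊓ Subgroup.centralizer ((Cfsg.sigmaCore M ⊓ Subgroup.centralizer (K : Set G)) : Set G))
    (hKstH : Cfsg.IsPiHallOf (Cfsg.kappa Mstar) (Cfsg.sigmaCore M ⊓ Subgroup.centralizer (K : Set G)) Mstar) :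
    M ⊓ Mstar = K ⊔ (Cfsg.sigmaCore M ⊓ Subgroup.centralizer (K : Set G)) ∧ IsCyclic ↥(K ⊔ (Cfsg.sigmaCore M ⊓ Subgroup.centralizer (K : Set G))) := by
  haveI : MSO G := ⟨hG⟩
  replace hKU := (sigmaDec_iff hM).1 hKU
  have hP := hKU.typeP hM hK1
  have e := pemb_of hP hKU.hK hMstar hKst (hall_iff.2 hKstH)
  exact ⟨e.inf, e.cyc⟩

/-- frozen statement S1369, `minsimple_odd_kappa_maximal_subgroups_two_classes` -/
theorem bg1369 {G : Type*} [Group G] [Finite G] (hG : Cfsg.IsMinSimpleOddOrder G)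
    (M : Subgroup G) (hM : IsCoatom M) (K U : Subgroup G) (hKU : Cfsg.IsSigmaDecomposition M K U) (hK1 : K ≠ ⊥) (Mstar : Subgroup G) (hMstar : IsCoatom Mstar)
    (hKst : K = Cfsg.sigmaCore Mstar ⊓ Subgroup.centralizer ((Cfsg.sigmaCore M ⊓ Subgroup.centralizer (K : Set G)) : Set G))
    (hKstH : Cfsg.IsPiHallOf (Cfsg.kappa Mstar) (Cfsg.sigmaCore M ⊓ Subgroup.centralizer (K : Set G)) Mstar) :
    (U ≠ ⊥ ∨ ∀ Ustar : Subgroup G, Cfsg.IsSigmaDecomposition Mstar (Cfsg.sigmaCore M ⊓ Subgroup.centralizer (K : Set G)) Ustar → Ustar ≠ ⊥) ∧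
      ∀ H : Subgroup G, IsCoatom H → (Cfsg.kappa H).Nonempty →
        ∃ g : G, H = M.map (MulAut.conj g).toMonoidHom ∨ H = Mstar.map (MulAut.conj g).toMonoidHom := by
  haveI : MSO G := ⟨hG⟩
  replace hKU := (sigmaDec_iff hM).1 hKU
  have hP := hKU.typeP hM hK1
  have e := pemb_of hP hKU.hK hMstar hKst (hall_iff.2 hKstH)
  refine ⟨e.p2.imp (fun h => hKU.ne_bot (Or.inr h.1)) fun h V hV =>
    ((sigmaDec_iff hMstar).1 hV).ne_bot (Or.inr h.1), fun H a b => ?_⟩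
  rcases e.trans H ⟨a, b⟩ with ⟨g, i⟩ | ⟨g, i⟩
  exacts [⟨g, Or.inl i.symm⟩, ⟨g, Or.inr i.symm⟩]

/-- frozen statement S1370, `minsimple_odd_kappa_z_hat_ti` -/
theorem bg1370 {G : Type*} [Group G] [Finite G] (hG : Cfsg.IsMinSimpleOddOrder G)
    (M : Subgroup G) (hM : IsCoatom M) (K U : Subgroup G) (hKU : Cfsg.IsSigmaDecomposition M K U) (hK1 : K ≠ ⊥) :
    Cfsg.IsTISubset ((↑(K ⊔ (Cfsg.sigmaCore M ⊓ Subgroup.centralizer (K : Set G))) : Set G) \ ((K : Set G) ∪ ↑(Cfsg.sigmaCore M ⊓ Subgroup.centralizer (K : Set G)))) ∧ Subgroup.normalizer ((↑(K ⊔ (Cfsg.sigmaCore M ⊓ Subgroup.centralizer (K : Set G))) : Set G) \ ((K : Set G) ∪ ↑(Cfsg.sigmaCore M ⊓ Subgroup.centralizer (K : Set G)))) = K ⊔ (Cfsg.sigmaCore M ⊓ Subgroup.centralizer (K : Set G)) := by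
  haveI : MSO G := ⟨hG⟩
  replace hKU := (sigmaDec_iff hM).1 hKU
  have hP := hKU.typeP hM hK1
  obtain ⟨L, e⟩ := typeP_embedding hP hKU.hK
  exact e.nti.isTI

/-- frozen statement S1371, `minsimple_odd_kappa_z_hat_conjugates_eq_a0_diff_a` -/
theorem bg1371 {G : Type*} [Group G] [Finite G] (hG : Cfsg.IsMinSimpleOddOrder G)
    (M : Subgroup G) (hM : IsCoatom M) (K U : Subgroup G) (hKU : Cfsg.IsSigmaDecomposition M K U) (hK1 : K ≠ ⊥) :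
    {a : G | ∃ m ∈ M, ∃ z ∈ ((↑(K ⊔ (Cfsg.sigmaCore M ⊓ Subgroup.centralizer (K : Set G))) : Set G) \ ((K : Set G) ∪ ↑(Cfsg.sigmaCore M ⊓ Subgroup.centralizer (K : Set G)))), a = m * z * m⁻¹} = Cfsg.sigmaA0 M K \ Cfsg.sigmaA M U ∧
      Cfsg.IsTISubset (Cfsg.sigmaA0 M K \ Cfsg.sigmaA M U) := by
  haveI : MSO G := ⟨hG⟩
  replace hKU := (sigmaDec_iff hM).1 hKU
  refine ⟨Set.ext fun x => hKU.mem_zhat hM hK1, isTI_of (L := M) (fun g hg x hx => ?_)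
    fun g x a b _ => hKU.ti_zhat hM hK1 a b⟩
  obtain ⟨m, hm, z, hz, rfl⟩ := (hKU.mem_zhat hM hK1).2 hx
  exact (hKU.mem_zhat hM hK1).1 ⟨g * m, mul_mem hg hm, z, hz, by group⟩

/-- frozen statement S1372, `minsimple_odd_type_p2_fitting_ti` -/
theorem bg1372 {G : Type*} [Group G] [Finite G] (hG : Cfsg.IsMinSimpleOddOrder G)
    (M : Subgroup G) (hM : IsCoatom M) (K U : Subgroup G) (hKU : Cfsg.IsSigmaDecomposition M K U) (hK1 : K ≠ ⊥) (hU1 : U ≠ ⊥) :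
    (Nat.card K).Prime ∧ Cfsg.IsTISubset (Cfsg.fittingOf M : Set G) ∧ Cfsg.sigmaCore M ≤ Cfsg.fittingOf M := by
  haveI : MSO G := ⟨hG⟩
  replace hKU := (sigmaDec_iff hM).1 hKU
  have hP := hKU.typeP2 hM hK1 hU1
  obtain ⟨-, a, b, -⟩ := hP.facts hKU.hK
  exact ⟨a, (ti_F_iff hM).2 (by_contra fun i => (nonTI_F_facts hM i).1.elim (·.not_typeP hP.toTypeP)
    fun j => hP.pi j.pi), le_F (O_le _ _) (O_norm _ _) b⟩

/-- frozen statement S1373, `minsimple_odd_type_p1_kappa_star_prime` -/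
theorem bg1373 {G : Type*} [Group G] [Finite G] (hG : Cfsg.IsMinSimpleOddOrder G)
    (M : Subgroup G) (hM : IsCoatom M) (K U : Subgroup G) (hKU : Cfsg.IsSigmaDecomposition M K U) (hK1 : K ≠ ⊥) (hU : U = ⊥) :
    (Nat.card ↥(Cfsg.sigmaCore M ⊓ Subgroup.centralizer (K : Set G))).Prime := by
  haveI : MSO G := ⟨hG⟩
  replace hKU := (sigmaDec_iff hM).1 hKU
  have hP := hKU.typeP hM hK1
  obtain ⟨L, e⟩ := typeP_embedding hP hKU.hK
  exact (e.p2.resolve_left fun h => h.1.pi (hKU.eq_bot_iff.1 hU)).2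

/-- frozen statement S1374, `minsimple_odd_sigma_core_element_centralizer_complement` -/
theorem bg1374 {G : Type*} [Group G] [Finite G] (hG : Cfsg.IsMinSimpleOddOrder G)
    (M : Subgroup G) (hM : IsCoatom M) (x : G) (hx : x ∈ Cfsg.sigmaCore M) (hx1 : x ≠ 1) :
    (Nat.card ↥(M ⊓ Subgroup.centralizer ({x} : Set G))).Coprime ((M ⊓ Subgroup.centralizer ({x} : Set G)).relIndex (Subgroup.centralizer ({x} : Set G))) ∧
      ∃ R : Subgroup G, Subgroup.centralizer ({x} : Set G) ≤ Subgroup.normalizer (R : Set G) ∧ Cfsg.IsComplIn (M ⊓ Subgroup.centralizer ({x} : Set G)) R (Subgroup.centralizer ({x} : Set G)) ∧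
        ∀ g : G, x ∈ M.map (MulAut.conj g).toMonoidHom → ∃! r : G, r ∈ R ∧ M.map (MulAut.conj r).toMonoidHom = M.map (MulAut.conj g).toMonoidHom := by
  haveI : MSO G := ⟨hG⟩
  obtain ⟨a, b, c⟩ := signalizer_context hM hx hx1
  refine ⟨by rw [a.relIndex_r]; exact b.symm, Rx x, a.nl, compl_symm a.compl, fun g hg => ?_⟩
  obtain ⟨r, i, j⟩ := c (cj g M) (coatom_cj' hM g) (mem_Msigma (coatom_cj' hM g) hg (by
    rw [sigma_cj]; exact (O_pig _ _).elt hx))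
  refine ⟨r, ⟨i, j⟩, fun s ⟨k, l⟩ => ?_⟩
  have m := mul_mem (inv_mem i) k
  have : cj (r⁻¹ * s) M = M := by rw [cj_mul, show cj s M = cj r M from l.trans j.symm, cj_inv_cj]
  exact (inv_mul_eq_one.1 (a.inf.le ⟨m, mem_of_cj_eq hM this, Rx_le x m⟩)).symm

/-- frozen statement S1375, `minsimple_odd_sigma_core_element_centralizer_not_le` -/
theorem bg1375 {G : Type*} [Group G] [Finite G] (hG : Cfsg.IsMinSimpleOddOrder G)
    (M : Subgroup G) (hM : IsCoatom M) (x : G) (hx : x ∈ Cfsg.sigmaCore M) (hx1 : x ≠ 1) (hxM : ¬ Subgroup.centralizer ({x} : Set G) ≤ M) :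
    ∃ N : Subgroup G, (IsCoatom N ∧ Subgroup.centralizer ({x} : Set G) ≤ N) ∧ (∀ L : Subgroup G, IsCoatom L → Subgroup.centralizer ({x} : Set G) ≤ L → L = N) ∧
        Cfsg.sigmaCore N = Cfsg.fittingHallOf N ∧
        Subgroup.centralizer ({x} : Set G) ≤ Subgroup.normalizer ((Cfsg.sigmaCore N ⊓ Subgroup.centralizer ({x} : Set G) : Subgroup G) : Set G) ∧
        Cfsg.IsComplIn (M ⊓ Subgroup.centralizer ({x} : Set G)) (Cfsg.sigmaCore N ⊓ Subgroup.centralizer ({x} : Set G)) (Subgroup.centralizer ({x} : Set G)) ∧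
        Cfsg.IsComplIn (M ⊓ N) (Cfsg.sigmaCore N) N ∧
        ∀ K' U' : Subgroup G, Cfsg.IsSigmaDecomposition N K' U' → U' ≠ ⊥ ∧ x ∈ Cfsg.sigmaA N U' ∧ x ∉ Cfsg.sigmaCore N := by
  haveI : MSO G := ⟨hG⟩
  obtain ⟨a, -⟩ := signalizer_context hM hx hx1
  obtain ⟨L, b, c, d, e, f, -, -, g⟩ := signalizer_base hM hx hx1 hxM
  rw [c] at a d
  refine ⟨L, ⟨b.max, b.le⟩, b.uniq, (MF_eq_of_notP1 f).symm, a.nl, compl_symm a.compl,
    compl_symm (sdprod_sigma b.max g).compl, fun K U h => ?_⟩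
  replace h := (sigmaDec_iff b.max).1 h
  obtain ⟨y, i, j⟩ := exists_mem_ne_one d
  have xL := b.le (mem_C1_self x)
  refine ⟨h.ne_bot f, ⟨⟨xL, y, i.1, j, mem_C1'.1 i.2⟩, ?_⟩, fun k =>
    hx1 (((O_pig _ _).elt k).eq_one (e.mono fun _ => tau2_sigma'))⟩
  rw [sigmaCore_eq, sup_comm]
  exact h.mem b.max xL (e.mono fun _ a b => kappa_tau2' b a)

/-- frozen statement S1376, `minsimple_odd_sigma_core_element_in_type_p2_forces_frobenius` -/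
theorem bg1376 {G : Type*} [Group G] [Finite G] (hG : Cfsg.IsMinSimpleOddOrder G)
    (M : Subgroup G) (hM : IsCoatom M) (x : G) (hx : x ∈ Cfsg.sigmaCore M) (hx1 : x ≠ 1) (hxM : ¬ Subgroup.centralizer ({x} : Set G) ≤ M)
    (N : Subgroup G) (hN : IsCoatom N) (hxN : Subgroup.centralizer ({x} : Set G) ≤ N) (hkN : (Cfsg.kappa N).Nonempty) :
    Cfsg.kappa M = ∅ ∧ (∃ E : Subgroup ↥M, Cfsg.IsFrobeniusComplement E ∧ IsCyclic E) ∧ ¬ Cfsg.IsTISubset (Cfsg.fittingHallOf M : Set G) := by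
  haveI : MSO G := ⟨hG⟩
  obtain ⟨a, ⟨E, b, c⟩, d⟩ := signalizer_frob hM hx hx1 hxM hN hxN fun h => h.not_typeP ⟨hN, hkN⟩
  exact ⟨a.kappa, ⟨_, b.isFrob.1, c.equiv (subgroupOfEquivOfLe b.sd.right).symm⟩, d⟩

/-- frozen statement S1377, `minsimple_odd_card_conjugates_of_sigma_cosets` -/
theorem bg1377 {G : Type*} [Group G] [Finite G] (hG : Cfsg.IsMinSimpleOddOrder G)
    (M : Subgroup G) (hM : IsCoatom M) :
    Set.ncard (Cfsg.tildeOf M ((Cfsg.sigmaCore M : Set G) \ {1})) = (Nat.card (Cfsg.sigmaCore M) - 1) * M.index := by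
  haveI : MSO G := ⟨hG⟩
  rw [sigmaCore_eq, tildeOf_eq hM, card_clS_sigma hM]

/-- frozen statement S1378, `minsimple_odd_sigma_partition_of_primes` -/
theorem bg1378 {G : Type*} [Group G] [Finite G] (hG : Cfsg.IsMinSimpleOddOrder G) :
    (∀ p : ℕ, p.Prime → p ∣ Nat.card G → ∃ M : Subgroup G, IsCoatom M ∧ p ∈ Cfsg.sigma M) ∧
      ∀ M N : Subgroup G, IsCoatom M → IsCoatom N → (Cfsg.sigma M ∩ Cfsg.sigma N).Nonempty → ∃ g : G, N = M.map (MulAut.conj g).toMonoidHom := by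
  haveI : MSO G := ⟨hG⟩
  refine ⟨fun p a b => exists_sigma a b, fun M N a b ⟨p, c, d⟩ => ?_⟩
  obtain ⟨g, e⟩ := cjg_of_sigma a b c d
  exact ⟨g, e.symm⟩

/-- frozen statement S1379, `minsimple_odd_partition_of_nonidentity_elements` -/
theorem bg1379 {G : Type*} [Group G] [Finite G] (hG : Cfsg.IsMinSimpleOddOrder G) :
    (∀ M N : Subgroup G, IsCoatom M → IsCoatom N → (∀ g : G, N ≠ M.map (MulAut.conj g).toMonoidHom) → Cfsg.tildeOf M ((Cfsg.sigmaCore M : Set G) \ {1}) ∩ Cfsg.tildeOf N ((Cfsg.sigmaCore N : Set G) \ {1}) = ∅) ∧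
      ((∀ M : Subgroup G, IsCoatom M → Cfsg.kappa M = ∅) →
        ∀ g : G, g ≠ 1 → ∃ M : Subgroup G, IsCoatom M ∧ g ∈ Cfsg.tildeOf M ((Cfsg.sigmaCore M : Set G) \ {1})) ∧
      ∀ (M K U : Subgroup G), IsCoatom M → Cfsg.IsSigmaDecomposition M K U → K ≠ ⊥ →
        (∀ g : G, g ≠ 1 → (∃ N : Subgroup G, IsCoatom N ∧ g ∈ Cfsg.tildeOf N ((Cfsg.sigmaCore N : Set G) \ {1})) ∨
            ∃ y : G, ∃ z ∈ ((↑(K ⊔ (Cfsg.sigmaCore M ⊓ Subgroup.centralizer (K : Set G))) : Set G) \ ((K : Set G) ∪ ↑(Cfsg.sigmaCore M ⊓ Subgroup.centralizer (K : Set G)))), g = y * z * y⁻¹) ∧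
        ∀ N : Subgroup G, IsCoatom N → ∀ y : G, ∀ z ∈ ((↑(K ⊔ (Cfsg.sigmaCore M ⊓ Subgroup.centralizer (K : Set G))) : Set G) \ ((K : Set G) ∪ ↑(Cfsg.sigmaCore M ⊓ Subgroup.centralizer (K : Set G)))), y * z * y⁻¹ ∉ Cfsg.tildeOf N ((Cfsg.sigmaCore N : Set G) \ {1}) := by
  haveI : MSO G := ⟨hG⟩
  simp only [sigmaCore_eq]
  refine ⟨fun M N a b c => ?_, fun h g hg => ?_, fun M K U hM h hK => ?_⟩
  · rw [tildeOf_eq a, tildeOf_eq b]
    exact (sigma_support_disjoint a b fun ⟨g, e⟩ => c g e.symm).inter_eq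
  · obtain ⟨M, a, b⟩ := mso_partition_F (fun M i => i.kappa.ne_empty (h M i.max)) hg
    exact ⟨M, a, by rwa [tildeOf_eq a]⟩
  · replace h := (sigmaDec_iff hM).1 h
    obtain ⟨a, b⟩ := mso_partition_P (h.typeP hM hK) h.hK
    refine ⟨fun g hg => (a g hg).imp_left fun ⟨H, i, j⟩ => ⟨H, i, by rwa [tildeOf_eq i]⟩, fun N i y z j => ?_⟩
    rw [tildeOf_eq i]
    exact Set.disjoint_left.1 (b N i) ⟨y, z, j, rfl⟩

end Cfsg.Agent.BG
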