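import Cfsg.Agent.BG.S16b
/-!
Bender–Glauberman, section 16: the five types, Theorems I and II.
The theorems `bgNNNN` have exactly the type of the frozen statements.
-/
set_option autoImplicit false

namespace Cfsg.Agent.BG
open Subgroup PHom

section gen
variable {G : Type*} [Group G] [Finite G] {M U W₁ W₂ K E X : Subgroup G} {x : G}

theorem Frob.cent_le (h : Frob K E M) (hx : x ∈ K) (h1 : x ≠ 1) : M ⊓ C1[x] ≤ K := fun y hy => by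
  have hK : Hall (piOf E)ᶜ K M := h.sd.hall_l (pin_of_cop h.coprime.symm) (pin_self _).compl_compl
  have a : cst (piOf E) y = 1 := by_contra fun i => by
    obtain ⟨k, hk, j⟩ := sz_sub h.sd.norm (B := zpowers (cst (piOf E) y))
      (h.sd.sup ▸ zpowers_le.2 (cst_mem_of hy.1)) h.coprime
      ((pig_zpowers.2 (cst_pie _ _)).coprime hK.pi) (Or.inr (Or.inr (cyc_zpowers _).sol))
    have := ((h.reg.cj k) _ (zpowers_le.1 j) i).le ⟨(cj_of_mem hk).ge hx, C1_le_cst _ _ (C1_symm hy.2)⟩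
    exact h1 this
  exact hK.mem_of_normal h.sd.nl (cst_eq_one_iff.1 a) hy.1
theorem tyP_hallU (h : IsTypePWith M W₁ U W₂) : Hall (piOf MF[M])ᶜ U ⁅M, M⁆ :=
  ((MF_hall M).sub h.U_compl.1 (der_le M)).compl_hall h.U_compl
theorem tyP_O_le (h : IsTypePWith M W₁ U W₂) : O[(piOf MF[M])ᶜ](F[M]) ≤ U ⊓ C[MF[M]] :=
  le_inf ((tyP_hallU h).le_of_norm' (O_pig _ _) ((O_le _ _).trans h.fitting_le)
    (normO _ ((h.U_compl.2.1.trans (der_le M)).trans (F_norm M))))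
    (cent_symm ((F_nil M).cent (MF_le_F M) (O_le _ _) (MF_hall M).pi (O_pig _ _)))
theorem tyP_F (h : IsTypePWith M W₁ U W₂) : F[M] = MF[M] ⊔ (U ⊓ C[MF[M]]) := by
  refine le_antisymm ?_ (sup_le (MF_le_F M) (h.fitting_eq ▸ le_sup_of_le_right
    (inf_le_inf_right _ (h.U_compl.2.1.trans (der_le M)))))
  rw [← ((F_nil M).dprod_O (piOf MF[M])).sup, ← (F_nil M).hall_eq ((MF_hall M).sub (MF_le_F M) (F_le M))]
  exact sup_le_sup_left (tyP_O_le h) _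
theorem tyP_der (h : IsTypePWith M W₁ U W₂) : ⁅U, U⁆ ≤ C[MF[M]] :=
  cent_symm ((F_nil M).cent (MF_le_F M) ((derS h.U_compl.2.1).trans (h.derived_two_le.trans h.fitting_eq.le))
    (MF_hall M).pi ((tyP_hallU h).pi.of_le (der_le U)))
theorem tyP_not_cent (h : IsTypePWith M W₁ U W₂) (h1 : U ≠ ⊥) : ¬ U ≤ C[MF[M]] := fun i => by
  have a : Nil ⁅M, M⁆ := (compl_prod h.U_compl).sup ▸ (MF_nil M).sup_cent h.U_nilpotent (cent_symm i)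
  have b : ⁅M, M⁆ ≤ MF[M] := le_MF (hall_of_coprime (der_le M) (by
    rw [compl_relIndex_l h.W₁_compl, ← compl_relIndex_l (compl_symm h.W₁_compl)]; exact h.W₁_hall.symm))
    (der_norm M) a
  exact h1 (eq_bot_iff.2 ((le_inf (h.U_compl.2.1.trans b) le_rfl).trans h.U_compl.2.2.1.le))
end gen

section types
variable {G : Type*} [Group G]
/-- data of a subgroup of Frobenius type (Peterfalvi 8.1) -/
structure OfF (M U : Subgroup G) : Prop where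
  ne : MF[M] ≠ ⊥
  une : U ≠ ⊥
  sd : Sdprod MF[M] U M
  ab : ∃ A ≤ U, U ≤ N[A] ∧ Abel A ∧ ∀ x ∈ MF[M], x ≠ 1 → U ⊓ C1[x] ≤ A
  reg : ∃ U₀ ≤ U, Monoid.exponent U₀ = Monoid.exponent U ∧ Semireg MF[M] U₀
/-- data of a maximal subgroup of type P (Peterfalvi 8.4) -/
structure PD (M U W₁ W₂ : Subgroup G) : Prop where
  typeP : TypeP M
  hK : Hall κ[M] W₁ M
  eq2 : Mσ[M] ⊓ C[W₁] = W₂
  sd : Sdprod MF[M] U ⁅M, M⁆
  norm : W₁ ≤ N[U]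
/-- the two classes of maximal subgroups of type P (Peterfalvi 8.8 b) -/
structure PPair (S T U V W₁ W₂ : Subgroup G) : Prop where
  hS : PD S U W₁ W₂
  hT : PD T V W₂ W₁
  inf : S ⊓ T = W₁ ⊔ W₂
  p2 : TypeP2 S ∨ TypeP2 T
  ncj : ¬ Cjg S T
  all : ∀ M, IsCoatom M → TypeF M ∨ Cjg S M ∨ Cjg T M
/-- `A₁(M)` -/
def A1 (M : Subgroup G) : Set G := (Mσ[M] : Set G) \ {1}
/-- `A(M)` -/
def AA (M : Subgroup G) : Set G := {a | a ∈ sigmaHat M ∧ a ≠ 1 ∧ PiE κ[M]ᶜ a}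
/-- `A₀(M)` -/
def A0 (M : Subgroup G) : Set G := {a | a ∈ sigmaHat M ∧ ¬ PiE κ[M] a}

variable [Finite G] [hG : MSO G] {M K U V L H S T W₁ W₂ E X : Subgroup G} {x y g : G} {p : ℕ}
include hG

namespace PD
omit [Finite G] hG in
theorem max (h : PD M U W₁ W₂) : IsCoatom M := h.typeP.max
theorem emb (h : PD M U W₁ W₂) : ∃ L, PEmb M W₁ W₂ L := h.eq2 ▸ typeP_embedding h.typeP h.hK
theorem der (h : PD M U W₁ W₂) : Sdprod ⁅M, M⁆ W₁ M := h.emb.elim fun _ e => e.der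
theorem dp (h : PD M U W₁ W₂) : Dprod W₁ W₂ (W₁ ⊔ W₂) := h.eq2 ▸ h.typeP.dprod h.hK
theorem cyc (h : PD M U W₁ W₂) : Cyc (W₁ ⊔ W₂) := h.emb.elim fun _ e => e.cyc
theorem cyc1 (h : PD M U W₁ W₂) : Cyc W₁ := h.cyc.of_le le_sup_left
theorem cyc2 (h : PD M U W₁ W₂) : Cyc W₂ := h.cyc.of_le le_sup_right
theorem ne1 (h : PD M U W₁ W₂) : W₁ ≠ ⊥ := h.typeP.ne_bot h.hK
theorem ne2 (h : PD M U W₁ W₂) : W₂ ≠ ⊥ := h.eq2 ▸ h.typeP.star_ne_bot h.hK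
theorem le2 (h : PD M U W₁ W₂) : W₂ ≤ MF[M] := h.eq2 ▸ (typeP_cyclics h.typeP h.hK).2.2.2.1
theorem le2'' (h : PD M U W₁ W₂) : W₂ ≤ ⁅⁅M, M⁆, ⁅M, M⁆⁆ := h.eq2 ▸ (typeP_cyclics h.typeP h.hK).2.2.1
theorem le2' (h : PD M U W₁ W₂) : W₂ ≤ ⁅M, M⁆ := h.le2''.trans (der_le _)
theorem ncyc (h : PD M U W₁ W₂) : ¬ Cyc MF[M] := (typeP_cyclics h.typeP h.hK).2.2.2.2
omit [Finite G] hG in
theorem le1 (h : PD M U W₁ W₂) : W₁ ≤ M := h.hK.le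
omit [Finite G] hG in
theorem leU (h : PD M U W₁ W₂) : U ≤ M := h.sd.right.trans (der_le M)
theorem leW (h : PD M U W₁ W₂) : W₁ ⊔ W₂ ≤ M := sup_le h.le1 (h.le2'.trans (der_le M))
theorem c1 (h : PD M U W₁ W₂) (hx : x ∈ W₁) (h1 : x ≠ 1) : M ⊓ C1[x] = W₁ ⊔ W₂ := h.emb.elim fun _ e => e.c1 x hx h1
theorem c3 (h : PD M U W₁ W₂) (hx : x ∈ W₁) (h1 : x ≠ 1) (hy : y ∈ W₂) (h2 : y ≠ 1) : C1[x * y] = W₁ ⊔ W₂ :=
  h.emb.elim fun _ e => e.c3 x hx h1 y hy h2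
theorem cent (h : PD M U W₁ W₂) (hx : x ∈ W₁) (h1 : x ≠ 1) : ⁅M, M⁆ ⊓ C1[x] = W₂ := by
  rw [← inf_eq_left.2 (der_le M), inf_assoc, h.c1 hx h1, inf_comm, modr_l (cents_norm h.dp.cent) h.le2', inf_comm,
    h.der.inf, bot_sup_eq]
theorem centF (h : PD M U W₁ W₂) (hx : x ∈ W₁) (h1 : x ≠ 1) : MF[M] ⊓ C1[x] = W₂ := by
  rw [← inf_eq_left.2 h.sd.left, inf_assoc, h.cent hx h1, inf_eq_right.2 h.le2]
theorem centW (h : PD M U W₁ W₂) : MF[M] ⊓ C[W₁] = W₂ :=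
  le_antisymm (h.eq2 ▸ inf_le_inf_right _ (MF_le_Msigma h.max)) (le_inf h.le2 h.dp.cent)
theorem centW' (h : PD M U W₁ W₂) : ⁅M, M⁆ ⊓ C[W₁] = W₂ := by
  obtain ⟨x, a, b⟩ := exists_mem_ne_one h.ne1
  exact le_antisymm (h.cent a b ▸ inf_le_inf_left _ (C_le_C1 a)) (le_inf h.le2' h.dp.cent)
theorem semiprime (h : PD M U W₁ W₂) : Semiprime ⁅M, M⁆ W₁ := fun _ a b => by rw [h.cent a b, h.centW']
theorem hallD (h : PD M U W₁ W₂) : Hall κ[M]ᶜ ⁅M, M⁆ M := h.der.hall_compl' h.hK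
theorem cop (h : PD M U W₁ W₂) : (#W₁).Coprime #⁅M, M⁆ := h.hK.pi.coprime h.hallD.pi
theorem cop12 (h : PD M U W₁ W₂) : (#W₁).Coprime #W₂ := coprimeS h.cop le_rfl h.le2'
theorem nil (h : PD M U W₁ W₂) : Nil U := h.sd.quo_equiv.elim fun e => (F_structure h.max).2.2.1.equiv e.symm
theorem nti (h : PD M U W₁ W₂) : NTI (Zhat W₁ W₂) (W₁ ⊔ W₂) := h.emb.elim fun _ e => e.nti
theorem snc (h : PD M U W₁ W₂) : IsSelfNormalizingCyclic W₁ W₂ :=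
  ⟨h.ne1, h.ne2, h.dp.inf, fun a ha b hb => mem_C.1 (h.dp.cent hb) a ha, h.cyc, fun X a ⟨x, b⟩ => le_antisymm
    (fun g hg => h.nti.ti g x (a b) (a ((mem_set_normalizer_iff.1 hg x).1 b)))
    fun _ => mem_normalizer_of fun g hg y hy => by
      rwa [← mem_C_comm h.cyc.abel (a hy).1 hg, mul_inv_cancel_right]⟩
theorem reg (h : PD M U W₁ W₂) : Semireg U W₁ := fun x a b => by
  rw [← inf_eq_left.2 h.sd.right, inf_assoc, h.cent a b, eq_bot_iff, ← h.sd.inf, inf_comm]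
  exact inf_le_inf_right _ h.le2
theorem frob (h : PD M U W₁ W₂) (h1 : U ≠ ⊥) : Frob U W₁ (U ⊔ W₁) :=
  ⟨sdprod_sup h.reg.inf_bot h.norm, h1, h.ne1, h.reg⟩
theorem F_le (h : PD M U W₁ W₂) : F[M] ≤ ⁅M, M⁆ := (F_structure h.max).2.2.2 h.typeP
theorem tyP (h : PD M U W₁ W₂) : IsTypePWith M W₁ U W₂ :=
  have f := (F_structure h.max).2.1
  ⟨h.ne1, h.cyc1, h.hK.coprime, h.der.compl, h.nil, h.norm, h.sd.compl, h.ncyc, f.2.1.sup ▸ f.1, f.2.1.sup, h.F_le,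
    le_inf h.le2 h.le2'', fun _ => h.cent, h.snc⟩
theorem hallU (h : PD M U W₁ W₂) : Hall (piOf MF[M])ᶜ U ⁅M, M⁆ := tyP_hallU h.tyP
theorem F_dp (h : PD M U W₁ W₂) : Dprod MF[M] (U ⊓ C[MF[M]]) F[M] :=
  ⟨(tyP_F h.tyP).symm, by rw [← inf_assoc, h.sd.inf, bot_inf_eq], inf_le_right⟩
theorem der_cent (h : PD M U W₁ W₂) : ⁅U, U⁆ ≤ C[MF[M]] := tyP_der h.tyP
theorem not_cent (h : PD M U W₁ W₂) (h1 : U ≠ ⊥) : ¬ U ≤ C[MF[M]] := tyP_not_cent h.tyP h1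
theorem sdF (h : PD M U W₁ W₂) : Sdprod MF[M] (U ⊔ W₁) M :=
  ⟨by rw [← sup_assoc, h.sd.sup, h.der.sup], by
    rw [← inf_eq_left.2 h.sd.left, inf_assoc, inf_comm _ (U ⊔ W₁), modl_l h.norm h.sd.right, inf_comm W₁, h.der.inf,
      sup_bot_eq, h.sd.inf], (sup_le h.leU h.le1).trans (MF_norm M)⟩
theorem kc (h : PD M U W₁ W₂) (h2 : TypeP2 M) : KappaCompl M U W₁ :=
  ⟨h.hK, Set.compl_union _ _ ▸ (((MF_eq_of_notP1 (Or.inr h2) ▸ h.sd).hall_compl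
    ((Msigma_hall h.max).sub (Msigma_le_der h.max) (der_le M))).congr (ρ := σ[M]ᶜ ∩ κ[M]ᶜ)
      (fun p a b => (and_iff_left (h.hallD.pi p a b)).symm)).trans h.hallD Set.inter_subset_right, h.norm⟩
theorem p1_der (h : PD M U W₁ W₂) (h1 : TypeP1 M) : Mσ[M] = ⁅M, M⁆ :=
  le_antisymm (Msigma_le_der h.max) (le_Msigma h.max (der_le M) fun p a b =>
    (h1.pi p a (b.trans (cardS (der_le M)))).resolve_right (h.hallD.pi p a b))
theorem p1_norm (h : PD M U W₁ W₂) (h1 : TypeP1 M) (h2 : U ≠ ⊥) : N[U] ≤ M := by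
  obtain ⟨p, a, b⟩ := exists_prime_dvd h2
  have c : p ∈ σ[M] := (O_pig σ[M] M).of_le (h.sd.right.trans (h.p1_der h1).ge) p a b
  exact (normO _ le_rfl).trans (norm_sigma_syl c ((Msigma_hall h.max).syl c
    (h.p1_der h1 ▸ h.hallU.syl (h.hallU.pi p a b) (h.nil.hall_O _))))
theorem p2_iff (h : PD M U W₁ W₂) : TypeP2 M ↔ U ≠ ⊥ ∧ ¬ N[U] ≤ M :=
  ⟨fun i => ⟨(h.kc i).ne_bot (Or.inr i), (bg1363 hG.out M h.max _ _ ((sigmaDec_iff h.max).2 (h.kc i)) h.ne1).2⟩,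
    fun i => h.typeP.p1_or_p2.resolve_left fun j => i.2 (h.p1_norm j i.1)⟩
theorem p2_abel (h : PD M U W₁ W₂) (h2 : TypeP2 M) : Abel U := ((kappa_structure h.max (h.kc h2)).2.1 h.ne1).2
theorem bot_iff (h : PD M U W₁ W₂) : U = ⊥ ↔ TypeP1 M ∧ MF[M] = Mσ[M] := by
  refine ⟨fun i => ?_, fun ⟨i, j⟩ => ?_⟩
  · have j := h.typeP.p1_or_p2.resolve_right fun j => (h.p2_iff.1 j).1 i
    exact ⟨j, by rw [h.p1_der j, ← h.sd.sup, i, sup_bot_eq]⟩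
  · rw [← h.sd.inf, j, h.p1_der i, inf_eq_right.2 h.sd.right]
/-- types II, III, IV -/
theorem prime_ti (h : PD M U W₁ W₂) (h1 : U ≠ ⊥) : (#W₁).Prime ∧ NTI ((F[M] : Set G) \ {1}) M := by
  obtain ⟨V, hV⟩ := ex_kappa_compl h.max h.hK
  rw [← ti_F_iff h.max]
  rcases h.typeP.p1_or_p2 with i | i
  · have := bg1357 hG.out M h.max _ _ ((sigmaDec_iff h.max).2 hV) fun j => h1 (h.bot_iff.2 ⟨i, j⟩)
    exact ⟨this.2.2, this.2.1⟩
  · have := bg1372 hG.out M h.max _ _ ((sigmaDec_iff h.max).2 (h.kc i)) h.ne1 h1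
    exact ⟨this.1, this.2.1⟩
theorem cj (h : PD M U W₁ W₂) (g : G) : PD (cj g M) (cj g U) (cj g W₁) (cj g W₂) :=
  ⟨h.typeP.cj g, by rw [kappa_cj]; exact h.hK.cj g, by rw [← cj_Msigma, ← cj_C, ← cj_inf, h.eq2],
    by rw [← cj_MF, ← cj_comm]; exact h.sd.cj g, norm_cj.2 h.norm⟩
theorem conj {U' W₁' W₂' : Subgroup G} (h : PD M U W₁ W₂) (h' : PD M U' W₁' W₂') :
    ∃ m ∈ M, BG.cj m U = U' ∧ BG.cj m W₁ = W₁' ∧ BG.cj m W₂ = W₂' := by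
  obtain ⟨a, ha, e⟩ := h.hK.conj (coatom_sol h.max) h'.hK
  have i := h.cj a
  rw [cj_of_mem ha, e] at i
  obtain ⟨c, hc, f⟩ := cop_hall_conj (h'.le1.trans (der_norm M)) h'.cop (sol_of_le h.max (der_le M))
    i.hallU h'.hallU i.norm h'.norm
  refine ⟨c * a, mul_mem (der_le M hc.1) ha, by rw [cj_mul, f], by rw [cj_mul, e, cj_of_mem_C hc.2], ?_⟩
  rw [cj_mul, ← i.eq2, h'.eq2, cj_of_mem_N]
  exact abel_norm h'.cyc2.abel le_rfl (h'.centW'.le hc)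
end PD

theorem TypeP.exists_pd (h : TypeP M) (hK : Hall κ[M] K M) : ∃ U, PD M U K (Mσ[M] ⊓ C[K]) := by
  obtain ⟨L, e⟩ := typeP_embedding h hK
  obtain ⟨U, a, b⟩ := cop_sdprod (hK.le.trans (der_norm M)) (hK.pi.coprime (e.der.hall_compl' hK).pi)
    (sol_of_le h.max (der_le M)) ((MF_hall M).sub ((MF_le_Msigma h.max).trans (Msigma_le_der h.max)) (der_le M))
    ((der_le M).trans (MF_norm M))
  exact ⟨U, h, hK, rfl, a, b⟩
theorem TypeP.exists_pd' (h : TypeP M) : ∃ U W₁ W₂, PD M U W₁ W₂ := by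
  obtain ⟨K, hK⟩ := hall_exists κ[M] (coatom_sol h.max)
  exact (h.exists_pd hK).imp fun _ i => ⟨_, _, i⟩
theorem pd_of_tyP (hM : IsCoatom M) (h : IsTypePWith M W₁ U W₂) : PD M U W₁ W₂ := by
  have s := sdprod_of_compl h.W₁_compl (h.W₁_compl.2.1.trans (der_norm M))
  have c : (#W₁).Coprime #⁅M, M⁆ := s.relIndex_r ▸ h.W₁_hall
  have k : PiG κ[M] W₁ := fun p a b => by
    have d : ¬ p ∣ #⁅M, M⁆ := fun i => a.one_lt.ne' (Nat.eq_one_of_dvd_coprimes c b i)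
    obtain ⟨P, e, f⟩ := exists_prime_sub a b
    obtain ⟨x, i, j⟩ := exists_mem_ne_one (ne_bot_of_prime (f ▸ a : (#P).Prime))
    refine mem_kappa.2 ⟨Or.inl (mem_tau1.2 ⟨a, fun o => d (((Msigma_hall hM).dvd a o (sigma_dvd o)).trans
      (cardS (Msigma_le_der hM))), ?_, d⟩), P, e.trans s.right, f, fun o => h.selfNormalizing.2.1 (eq_bot_iff.2 ?_)⟩
    · rw [← pRank_of_idx a s.right (s.relIndex_r ▸ d)]
      exact le_antisymm (Cyc.pRank_le h.W₁_cyclic a) ((pRank_pos_iff a).2 b)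
    · rw [← o, ← C1_eq_of_prime (f ▸ a) i j]
      exact le_inf ((h.W₂_le.trans inf_le_left).trans (MF_le_Msigma hM)) (h.W₂_centralizer x (e i) j ▸ inf_le_right)
  obtain ⟨K, hK, e⟩ := hall_superset (coatom_sol hM) s.right k
  have t : TypeP M := (typeP_iff hM hK).2 fun i => h.W₁_ne (eq_bot_iff.2 (i ▸ e))
  obtain ⟨V, i⟩ := t.exists_pd hK
  obtain rfl : W₁ = K := eq_of_card_le e (by rw [← s.relIndex_l, i.der.relIndex_l])
  obtain ⟨x, a, b⟩ := exists_mem_ne_one h.W₁_ne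
  exact ⟨t, hK, by rw [← i.cent a b, h.W₂_centralizer x a b],
    sdprod_of_compl h.U_compl ((h.U_compl.2.1.trans (der_le M)).trans (MF_norm M)), h.U_normal⟩
theorem PD.pair (h : PD S U W₁ W₂) : ∃ T V, PPair S T U V W₁ W₂ := by
  obtain ⟨T, e⟩ := h.emb
  obtain ⟨V, i⟩ := e.typeP.exists_pd e.hall
  exact ⟨T, V, h, e.cent ▸ i, e.inf, e.p2.imp (·.1) (·.1), e.not_cjg,
    fun M hM => (typeF_or_typeP hM).imp_right (e.trans M)⟩
omit [Finite G] hG in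
theorem PPair.symm (h : PPair S T U V W₁ W₂) : PPair T S V U W₂ W₁ :=
  ⟨h.hT, h.hS, by rw [inf_comm, h.inf, sup_comm], h.p2.symm, not_cjg_symm h.ncj, fun M hM => (h.all M hM).imp_right Or.symm⟩
/-- Theorem I (Peterfalvi 8.8) -/
theorem all_typeF_or_pair : (∀ M : Subgroup G, IsCoatom M → TypeF M) ∨
    ∃ S T U V W₁ W₂ : Subgroup G, PPair S T U V W₁ W₂ := by
  refine or_iff_not_imp_left.2 fun h => ?_
  obtain ⟨S, a⟩ := not_forall.1 h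
  obtain ⟨a, b⟩ := Classical.not_imp.1 a
  obtain ⟨U, W₁, W₂, c⟩ := ((typeF_or_typeP a).resolve_left b).exists_pd'
  obtain ⟨T, V, d⟩ := c.pair
  exact ⟨S, T, U, V, W₁, W₂, d⟩
theorem TypeF.kc (h : TypeF M) (hU : Sdprod MF[M] U M) : KappaCompl M U ⊥ :=
  ⟨hall_bot fun p _ _ => by simp [h.kappa], by
    rw [h.kappa, Set.union_empty]; exact (MF_eq_of_notP1 (Or.inl h) ▸ hU).hall_compl (Msigma_hall h.max), bot_le⟩
theorem TypeF.ofF (h : TypeF M) (hU : Sdprod MF[M] U M) : OfF M U := by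
  obtain ⟨-, -, -, a, b⟩ := kappa_structure h.max (h.kc hU)
  rw [← MF_eq_of_notP1 (Or.inl h)] at a b
  exact ⟨(MF_chain h.max).1, (h.kc hU).ne_bot (Or.inl h), hU, a, b⟩
theorem TypeF.exists_ofF (h : TypeF M) : ∃ U, OfF M U :=
  ((MF_hall M).exists_sdprod (MF_norm M)).imp fun _ => h.ofF
theorem OfF.typeF (h : OfF M U) (hM : IsCoatom M) : TypeF M := by
  refine (typeF_or_typeP hM).resolve_right fun i => ?_
  obtain ⟨V, W₁, W₂, a⟩ := i.exists_pd'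
  obtain ⟨U₀, b, c, d⟩ := h.reg
  obtain ⟨p, hp, e⟩ := exists_prime_dvd a.ne1
  have f : p ∣ #U := (hp.dvd_mul.1 (h.sd.card ▸ e.trans (cardS a.le1))).resolve_left
    fun j => a.hallD.pi p hp (j.trans (cardS a.sd.left)) (a.hK.pi p hp e)
  obtain ⟨u, j, k⟩ := cauchy hp f
  obtain ⟨P, l, m⟩ := exists_prime_sub hp (A := U₀) (dvd_trans (by
    rw [c, ← k, ← orderOf_mk u j]; exact Monoid.order_dvd_exponent _) Group.exponent_dvd_nat_card)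
  obtain ⟨g, hg, n⟩ := a.hK.cj_sub (coatom_sol hM) ((l.trans b).trans h.sd.right) (pig_of_card hp m (a.hK.pi p hp e))
  refine a.ne2 (eq_bot_iff.2 ((le_inf a.le2 (a.dp.cent.trans (centS n))).trans (Eq.le ?_)))
  rw [← cj_C, ← cj_of_mem_N (MF_norm M hg), ← cj_inf, d.cent l (ne_bot_of_prime (m ▸ hp)), cj_bot]
omit hG in
theorem ofTypeF_iff : IsOfTypeF M ↔ Sol M ∧ Odd #M ∧ ∃ U, OfF M U := by
  have inj := M.subtype_injective
  have ex : ∀ A : Subgroup M, Monoid.exponent (A.map M.subtype) = Monoid.exponent A := fun A =>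
    Monoid.exponent_eq_of_mulEquiv (A.equivMapOfInjective _ inj).symm
  refine and_congr_right fun _ => and_congr_right fun _ => ⟨?_, ?_⟩
  · rintro ⟨a, -, U, b, c, ⟨A, d1, d2, d3, d4⟩, U₀, e1, e2, e3⟩
    refine ⟨U.map M.subtype, mt (map_eq_bot_iff_of_injective _ inj).1 a, mt (map_eq_bot_iff_of_injective _ inj).1 b,
      ⟨by rw [fittingHallOf, ← Subgroup.map_sup, c.sup_eq_top, map_subtype_top],
        by rw [fittingHallOf, ← map_inf _ _ _ inj, c.disjoint.eq_bot, Subgroup.map_bot],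
        (map_subtype_le _).trans (MF_norm M)⟩,
      ⟨_, map_mono d1, norm_map d2 _, (abel_of d3).map _, ?_⟩, _, map_mono e1, by rw [ex, ex, e2], ?_⟩
    · rintro _ ⟨x, i, rfl⟩ j _ ⟨⟨u, k, rfl⟩, l⟩
      exact mem_map_of_mem _ (d4 x i (fun o => j (by simp [o])) ⟨k, mem_C1.2 (inj (mem_C1.1 l))⟩)
    · rintro _ ⟨u, i, rfl⟩ j
      refine eq_bot_iff.2 ?_
      rintro _ ⟨⟨x, k, rfl⟩, l⟩
      rw [e3 u i (fun o => j (by simp [o])) x k (inj (mem_C1'.1 l))]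
      exact one_mem _
  · rintro ⟨U, a, b, c, ⟨A, d1, d2, d3, d4⟩, U₀, e1, e2, e3⟩
    obtain ⟨U, rfl⟩ := exists_lift c.right
    obtain ⟨A, -, rfl⟩ := exists_map_eq_of_le d1
    obtain ⟨U₀, e0, rfl⟩ := exists_map_eq_of_le e1
    have i : fittingHall M ⊓ U = ⊥ := (map_eq_bot_iff_of_injective _ inj).1 (by rw [map_inf _ _ _ inj]; exact c.inf)
    have b' : U ≠ ⊥ := fun o => b (by rw [o, Subgroup.map_bot])
    refine ⟨fun o => a (by rw [fittingHallOf, o, Subgroup.map_bot]), fun o => b' (by rwa [o, top_inf_eq] at i), U, b',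
      isComplement'_of_disjoint_and_mul_eq_univ (disjoint_iff.2 i) (Set.eq_univ_of_forall fun m => ?_),
      ⟨A, (map_le_map_iff_of_injective inj).1 d1, (norm_map_inj inj).1 d2, abel_iff.1 ((cent_map_inj inj).1 d3),
        fun x k l u o => ?_⟩, U₀, e0, by rw [← ex, e2, ex], fun u k l x o q => inj ?_⟩
    · obtain ⟨_, ⟨x, k, rfl⟩, _, ⟨u, l, rfl⟩, o⟩ := c.prod.ex m m.2
      exact ⟨x, k, u, l, inj o.symm⟩
    · exact (mem_map_iff_mem inj).1 (d4 _ (mem_map_of_mem _ k) (fun q => l (inj q))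
        ⟨mem_map_of_mem _ o.1, mem_C1.2 (congrArg Subtype.val (mem_C1.1 o.2))⟩)
    · exact (e3 _ (mem_map_of_mem _ k) fun q => l (inj q)).le ⟨mem_map_of_mem _ o, mem_C1'.2 (congrArg Subtype.val q)⟩
theorem exists_nonTI (hM : IsCoatom M) (h : ¬ NTI ((MF[M] : Set G) \ {1}) M) :
    ∃ g ∉ M, F[M] ⊓ cj g F[M] ≠ ⊥ := by
  by_contra! i
  obtain ⟨x, a, b⟩ := exists_mem_ne_one (MF_chain hM).1
  exact h ⟨⟨x, a, b⟩, fun g hg x hx => ⟨conj_mem (MF_norm M hg) hx.1, by simpa using hx.2⟩, fun g x a b =>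
    by_contra fun j => b.2 ((i g j).le ⟨MF_le_F M b.1, mem_cj_conj.2 (MF_le_F M a.1)⟩)⟩
/-- the alternatives of type I (Peterfalvi 8.3) -/
theorem TypeF.cases (h : TypeF M) (hU : Sdprod MF[M] U M) : NTI ((MF[M] : Set G) \ {1}) M ∨
    (Abel MF[M] ∧ r(MF[M]) = 2) ∨ ((∀ q, q.Prime → q ∣ #MF[M] → Monoid.exponent U ∣ q - 1) ∧
      ∃ p, p.Prime ∧ p ∣ #MF[M] ∧ Cyc O[{p}ᶜ](MF[M])) := by
  refine or_iff_not_imp_left.2 fun i => ?_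
  obtain ⟨g, a, b⟩ := exists_nonTI h.max i
  obtain ⟨-, c, -, -, d | ⟨d1, -, -, -, d2, d⟩⟩ := nonTI_F_structure h.max a rfl b
  · exact Or.inl d.2
  · obtain ⟨e⟩ := hU.quo_equiv
    exact Or.inr ⟨Monoid.exponent_eq_of_mulEquiv e ▸ d.resolve_right fun j => h.not_typeP j.2.1.1, _, d1, cardS c.1, d2⟩
/-- the alternatives of type V (Peterfalvi 8.7) -/
theorem PD.cases5 (h : PD M ⊥ W₁ W₂) : NTI ((MF[M] : Set G) \ {1}) M ∨ ∃ p, p.Prime ∧ p ∣ #MF[M] ∧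
    Cyc O[{p}ᶜ](MF[M]) ∧ (#W₁ ∣ p - 1 ∨ (#O[{p}](MF[M]) = p ^ 3 ∧ ¬ Abel O[{p}](MF[M]) ∧ #W₁ ∣ p + 1)) := by
  refine or_iff_not_imp_left.2 fun i => ?_
  obtain ⟨g, a, b⟩ := exists_nonTI h.max i
  have s := bot_sup_eq W₁ ▸ h.sdF
  obtain ⟨-, c, -, -, d | ⟨d1, -, -, d3, d2, d⟩⟩ := nonTI_F_structure h.max a rfl b
  · exact absurd h.typeP d.1.not_typeP
  · obtain ⟨e⟩ := s.quo_equiv
    refine ⟨_, d1, cardS c.1, d2, d.imp (fun j => ?_) fun j => ⟨j.1, d3, s.relIndex_l ▸ j.2.2⟩⟩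
    haveI := h.cyc1
    rw [← IsCyclic.exponent_eq_card, Monoid.exponent_eq_of_mulEquiv e]
    exact j _ d1 (cardS c.1)
/-- for type II, `M'` is of type F -/
theorem PD.ofF (h : PD M U W₁ W₂) (h2 : TypeP2 M) : MF[⁅M, M⁆] = MF[M] ∧ OfF ⁅M, M⁆ U := by
  have e : MF[⁅M, M⁆] = MF[M] := le_antisymm
    (le_MF ((MF_hall _).trans h.hallD fun p a b => h.hallD.pi p (kappa_prime b) (a.trans (cardS (MF_le _))) b)
      (normMF (der_norm M)) (MF_nil _))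
    (le_MF ((MF_hall M).sub h.sd.left (der_le M)) h.sd.nl (MF_nil M))
  obtain ⟨-, -, -, a, b⟩ := kappa_structure h.max (h.kc h2)
  rw [← MF_eq_of_notP1 (Or.inr h2), ← e] at a b
  exact ⟨e, e ▸ (MF_chain h.max).1, (h.p2_iff.1 h2).1, e ▸ h.sd, a, b⟩
theorem typeI_typeF (hM : IsCoatom M) (h : IsOfTypeI M) : TypeF M :=
  (ofTypeF_iff.1 h.1).2.2.elim fun _ i => i.typeF hM
theorem typeII_iff (hM : IsCoatom M) : IsOfTypeII M ↔ TypeP2 M := by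
  refine ⟨fun ⟨_, _, _, a, b, _, _, _, c, _⟩ => (pd_of_tyP hM a).p2_iff.2 ⟨b, c⟩, fun h => ?_⟩
  obtain ⟨U, W₁, W₂, a⟩ := h.1.exists_pd'
  have b := a.p2_iff.1 h
  have c := a.prime_ti b.1
  exact ⟨_, _, _, a.tyP, b.1, c.1, (ti_F_iff hM).2 c.2, (a.p2_abel h).comm, b.2,
    ofTypeF_iff.2 ⟨sol_of_le hM (der_le M), mso_odd _, _, (a.ofF h).2⟩, (a.ofF h).1⟩
theorem type34_iff (hM : IsCoatom M) : IsOfTypeIII M ∨ IsOfTypeIV M ↔ TypeP1 M ∧ MF[M] ≠ Mσ[M] := by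
  constructor
  · rintro (⟨_, _, _, a, b, -, -, -, c⟩ | ⟨_, _, _, a, b, -, -, -, c⟩) <;>
    · have d := pd_of_tyP hM a
      have e := d.typeP.p1_or_p2.resolve_right fun i => (d.p2_iff.1 i).2 c
      exact ⟨e, fun i => b (d.bot_iff.2 ⟨e, i⟩)⟩
  · rintro ⟨h, i⟩
    obtain ⟨U, W₁, W₂, a⟩ := h.1.exists_pd'
    have b : U ≠ ⊥ := fun j => i (a.bot_iff.1 j).2
    have c := a.prime_ti b
    exact (em (IsMulCommutative U)).imp (fun j => ⟨_, _, _, a.tyP, b, c.1, (ti_F_iff hM).2 c.2, j, a.p1_norm h b⟩)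
      fun j => ⟨_, _, _, a.tyP, b, c.1, (ti_F_iff hM).2 c.2, j, a.p1_norm h b⟩
theorem typeV_iff (hM : IsCoatom M) : IsOfTypeV M ↔ TypeP1 M ∧ MF[M] = Mσ[M] := by
  refine ⟨fun ⟨_, _, _, a, b, _⟩ => (pd_of_tyP hM a).bot_iff.1 b, fun h => ?_⟩
  obtain ⟨U, W₁, W₂, a⟩ := h.1.1.exists_pd'
  obtain rfl := a.bot_iff.2 h
  have inj := MF[M].subtype_injective
  refine ⟨_, _, _, a.tyP, rfl, a.cases5.imp (ti_iff_nti hM (MF_le M) (MF_norm M) (MF_chain hM).1).2 ?_⟩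
  rintro ⟨p, b, c, d, e⟩
  rw [← pPrimeCore_map b, cyc_map_inj inj, ← pCore_map b, card_map_inj inj] at *
  exact e.imp (fun i => ⟨p, b, c, i, d⟩) fun i => ⟨p, b, c, i.1, i.2.2, d⟩
theorem TypeP.type25 (h : TypeP M) : IsOfTypeII M ∨ IsOfTypeIII M ∨ IsOfTypeIV M ∨ IsOfTypeV M := by
  rw [← or_assoc (a := IsOfTypeIII M), typeII_iff h.max, type34_iff h.max, typeV_iff h.max]
  exact h.p1_or_p2.symm.imp_right fun i => (em _).symm.imp (⟨i, ·⟩) (⟨i, ·⟩)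
theorem typeCore_eq (hM : IsCoatom M) : typeCore M = Mσ[M] := by
  rw [typeCore]
  split_ifs with h <;> rw [type34_iff hM] at h
  · obtain ⟨U, W₁, W₂, a⟩ := h.1.1.exists_pd'
    exact (a.p1_der h.1).symm
  · exact by_contra fun i => i (MF_eq_of_notP1 ((typeF_or_typeP hM).imp_right
      fun j => j.p1_or_p2.resolve_left fun k => h ⟨k, i⟩))
omit [Finite G] hG in
theorem mem_A1 : x ∈ A1 M ↔ x ∈ Mσ[M] ∧ x ≠ 1 := Iff.rfl
omit hG in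
theorem A1_sub (M : Subgroup G) : A1 M ⊆ AA M := fun x hx =>
  ⟨⟨O_le _ _ hx.1, x, hx.1, hx.2, rfl⟩, hx.2, ((O_pig _ _).elt hx.1).mono fun _ a b => kappa_sigma' b a⟩
omit [Finite G] hG in
theorem AA_sub (M : Subgroup G) : AA M ⊆ A0 M := fun _ hx => ⟨hx.1, fun i => hx.2.1 (i.eq_one hx.2.2)⟩
omit [Finite G] hG in
theorem A0_le (hx : x ∈ A0 M) : x ∈ M := hx.1.1
omit [Finite G] hG in
theorem A0_ne (hx : x ∈ A0 M) : x ≠ 1 := fun i => hx.2 (i ▸ pie_one _)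
omit [Finite G] hG in
theorem A1_conj (hg : g ∈ M) (hx : x ∈ A1 M) : g * x * g⁻¹ ∈ A1 M :=
  ⟨conj_mem (O_norm _ _ hg) hx.1, by simpa using hx.2⟩
omit [Finite G] hG in
theorem AA_conj (hg : g ∈ M) (hx : x ∈ AA M) : g * x * g⁻¹ ∈ AA M :=
  ⟨sigmaHat_conj hg hx.1, by simpa using hx.2.1, pie_conj.2 hx.2.2⟩
omit [Finite G] hG in
theorem A0_conj (hg : g ∈ M) (hx : x ∈ A0 M) : g * x * g⁻¹ ∈ A0 M := ⟨sigmaHat_conj hg hx.1, mt pie_conj.1 hx.2⟩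
omit hG in
theorem sigmaHat_cj (hx : x ∈ sigmaHat M) (g : G) : g * x * g⁻¹ ∈ sigmaHat (cj g M) := by
  obtain ⟨a, y, b, c, d⟩ := hx
  refine ⟨mem_cj_conj.2 a, g * y * g⁻¹, ?_, by simpa using c, by simp only [conj_mul, d]⟩
  rw [sigmaCore_eq, ← cj_Msigma]; exact mem_cj_conj.2 b
omit hG in
theorem A1_cj (hx : x ∈ A1 M) (g : G) : g * x * g⁻¹ ∈ A1 (cj g M) :=
  ⟨by rw [← cj_Msigma]; exact mem_cj_conj.2 hx.1, by simpa using hx.2⟩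
theorem AA_cj (hx : x ∈ AA M) (g : G) : g * x * g⁻¹ ∈ AA (cj g M) :=
  ⟨sigmaHat_cj hx.1 g, by simpa using hx.2.1, by rw [kappa_cj]; exact pie_conj.2 hx.2.2⟩
theorem A0_cj (hx : x ∈ A0 M) (g : G) : g * x * g⁻¹ ∈ A0 (cj g M) :=
  ⟨sigmaHat_cj hx.1 g, by rw [kappa_cj]; exact mt pie_conj.1 hx.2⟩
theorem A1_nonempty (hM : IsCoatom M) : (A1 M).Nonempty := exists_mem_ne_one (Msigma_ne_bot hM)
theorem KappaCompl.mem_AA (h : KappaCompl M U K) (hM : IsCoatom M) : x ∈ AA M ↔ x ∈ sigmaA M U ∧ x ≠ 1 :=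
  ⟨fun i => ⟨⟨i.1, by rw [sigmaCore_eq, sup_comm]; exact h.mem hM i.1.1 i.2.2⟩, i.2.1⟩,
    fun i => ⟨i.1.1, i.2, (h.hall' hM).pi.elt (sup_comm U _ ▸ i.1.2)⟩⟩
theorem Hall.mem_A0 (h : Hall κ[M] K M) (hM : IsCoatom M) : x ∈ A0 M ↔ x ∈ sigmaA0 M K ∧ x ≠ 1 := by
  refine ⟨fun i => ⟨⟨i.1, ?_⟩, A0_ne i⟩, fun i => ⟨i.1.1, fun j => i.1.2 ?_⟩⟩
  · rintro ⟨k, a, -, m, -, rfl⟩
    exact i.2 (pie_conj.2 (h.pi.elt a))
  · obtain ⟨m, a, b⟩ := h.cj_sub (coatom_sol hM) (zpowers_le.2 i.1.1.1) (pig_zpowers.2 j)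
    rw [cj_zpowers, zpowers_le] at b
    exact ⟨_, b, by simpa using i.2, m⁻¹, inv_mem a, by group⟩
theorem PD.mem_AA (h : PD M U W₁ W₂) : x ∈ AA M ↔ x ∈ ⁅M, M⁆ ∧ x ≠ 1 ∧ ∃ y ∈ Mσ[M], y ≠ 1 ∧ x * y = y * x :=
  ⟨fun i => ⟨h.hallD.mem_of_normal (der_norm M) i.2.2 i.1.1, i.2.1, i.1.2⟩,
    fun i => ⟨⟨der_le M i.1, i.2.2⟩, i.2.1, h.hallD.pi.elt i.1⟩⟩
theorem PD.mem_A0 (h : PD M U W₁ W₂) : x ∈ A0 M ↔ x ∈ AA M ∨ ∃ m ∈ M, ∃ z ∈ Zhat W₁ W₂, x = m * z * m⁻¹ := by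
  obtain ⟨V, hV⟩ := ex_kappa_compl h.max h.hK
  rw [← h.eq2, hV.mem_zhat h.max h.ne1]
  refine ⟨fun i => or_iff_not_imp_left.2 fun j => ⟨((h.hK.mem_A0 h.max).1 i).1,
    fun k => j ((hV.mem_AA h.max).2 ⟨k, A0_ne i⟩)⟩, fun i => i.elim (AA_sub M ·) fun i =>
      (h.hK.mem_A0 h.max).2 ⟨i.1, fun j => i.2 ⟨i.1.1, j ▸ one_mem _⟩⟩⟩
theorem PD.AA_eq (h : PD M U W₁ W₂) (h1 : TypeP1 M) : AA M = A1 M :=
  (A1_sub M).antisymm' fun _ i => ⟨(h.p1_der h1).ge (h.mem_AA.1 i).1, i.2.1⟩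
theorem TypeF.mem_AA (h : TypeF M) : x ∈ AA M ↔ x ∈ M ∧ x ≠ 1 ∧ ∃ y ∈ MF[M], y ≠ 1 ∧ x * y = y * x := by
  rw [MF_eq_of_notP1 (Or.inl h)]
  exact ⟨fun i => ⟨i.1.1, i.2.1, i.1.2⟩, fun i => ⟨⟨i.1, i.2.2⟩, i.2.1, fun p _ _ => by simp [h.kappa]⟩⟩
omit hG in
theorem TypeF.A0_eq (h : TypeF M) : A0 M = AA M :=
  (AA_sub M).antisymm' fun _ i => ⟨i.1, A0_ne i, fun p _ _ => by simp [h.kappa]⟩
theorem A0_ti (hM : IsCoatom M) (hx : x ∈ A0 M) (h1 : x ∉ Mσ[M]) (h2 : g * x * g⁻¹ ∈ A0 M) : g ∈ M := by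
  obtain ⟨K, hK⟩ := hall_exists κ[M] (coatom_sol hM)
  obtain ⟨U, hU⟩ := ex_kappa_compl hM hK
  by_cases i : PiE κ[M]ᶜ x
  · exact hU.ti_mem hM ⟨((hU.mem_AA hM).1 ⟨hx.1, A0_ne hx, i⟩).1, h1⟩
      ⟨((hU.mem_AA hM).1 ⟨h2.1, A0_ne h2, pie_conj.2 i⟩).1,
        fun j => h1 (mem_Msigma hM hx.1.1 (pie_conj.1 ((O_pig _ _).elt j)))⟩
  · exact hU.ti_zhat hM (fun j => i ((hK.eq_bot_iff.1 j).elt hx.1.1))
      ⟨((hK.mem_A0 hM).1 hx).1, fun j => i ((hU.mem_AA hM).2 ⟨j, A0_ne hx⟩).2.2⟩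
      ⟨((hK.mem_A0 hM).1 h2).1, fun j => i (pie_conj.1 ((hU.mem_AA hM).2 ⟨j, A0_ne h2⟩).2.2)⟩
/-- Theorem II (a) -/
theorem A0_fusion (hM : IsCoatom M) (hx : x ∈ A0 M) (h2 : g * x * g⁻¹ ∈ A0 M) :
    ∃ m ∈ M, m * x * m⁻¹ = g * x * g⁻¹ := by
  by_cases i : x ∈ Mσ[M]
  · obtain ⟨m, a, b⟩ := sigma_hall_tame hM (hall_self (O_pig _ _)) i
      (mem_Msigma hM h2.1.1 (pie_conj.2 ((O_pig _ _).elt i)))
    exact ⟨m, a.1, b⟩
  · exact ⟨g, A0_ti hM hx i h2, rfl⟩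
theorem A0_cent (hM : IsCoatom M) (hx : x ∈ A0 M) (h1 : x ∉ Mσ[M]) : C1[x] ≤ M := fun g hg =>
  A0_ti hM hx h1 (by rwa [mem_C1.1 hg, mul_inv_cancel_right])
theorem TypeF.frob_of_tau2 (h : TypeF M) (h2 : τ2[M] = ∅) (hU : Sdprod MF[M] U M) : Frob MF[M] U M := by
  refine ⟨hU, (MF_chain h.max).1, (h.ofF hU).une, semireg_of_prime_sub fun X a b => by_contra fun i => ?_⟩
  have := ((kappa_structure h.max (h.kc hU)).2.2.1 X a (ne_bot_of_prime b)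
    (MF_eq_of_notP1 (Or.inl h) ▸ i)).2.2 _ b dvd_rfl
  simp [h2] at this
omit [Finite G] hG in
/-- `L` supports `M` at `x` (conclusion of Theorem II c) -/
structure SuppAt (M L : Subgroup G) (x : G) : Prop where
  umax : UMax C1[x] L
  sd : Sdprod MF[L] (M ⊓ L) L
  sdC : Sdprod (MF[L] ⊓ C1[x]) (M ⊓ C1[x]) C1[x]
  cop : ∀ y ∈ A0 M, (#MF[L]).Coprime #(M ⊓ C1[y])
  mem : x ∈ AA L
  nmem : x ∉ A1 L
  ty : TypeF L ∨ TypeP2 L
  frob : ¬ TypeF L → TypeF M ∧ (∃ E, Frob MF[M] E M ∧ Cyc E) ∧ ¬ IsTISubset (MF[M] : Set G)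
  ncj : ¬ Cjg M L
  R : supportR M x = MF[L] ⊓ C1[x]
/-- Theorem II (b, c) -/
theorem A0_supp (hM : IsCoatom M) (hx : x ∈ A0 M) (h : ¬ C1[x] ≤ M) : x ∈ A1 M ∧ ∃ L, SuppAt M L x := by
  have a : x ∈ Mσ[M] := by_contra fun i => h (A0_cent hM hx i)
  have b := A0_ne hx
  obtain ⟨L, c1, c2, c3, c4, c5, c6, -, c7⟩ := signalizer_base hM a b h
  have e := MF_eq_of_notP1 c5
  obtain ⟨p, hp, d⟩ := exists_prime_dvd (zpowers_eq_bot.not.2 b)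
  have d := c4 p hp (card_zpowers' x ▸ d)
  have n : ¬ Cjg M L := not_cjg_symm (not_cjg_of_sigma (tau2_sigma' d) (c6 d))
  obtain ⟨z, z1, z2⟩ := exists_mem_ne_one c3
  rw [c2] at z1
  refine ⟨⟨a, b⟩, L, c1, e ▸ (Msigma_hall c1.max).sdprod (O_norm _ _) c7, e ▸ c2 ▸ (signalizer_context hM a b).1,
    fun y hy => ?_, ⟨⟨c1.le (mem_C1_self x), z, z1.1, z2, mem_C1'.1 z1.2⟩, b, c4.mono fun _ i j => kappa_tau2' j i⟩,
    fun i => b (((O_pig _ _).elt i.1).eq_one (c4.mono fun _ => tau2_sigma')), c5,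
    signalizer_frob hM a b h c1.max c1.le, n, by rw [supportR_eq hM a b, c2, e]⟩
  rw [e]
  refine (O_pig _ _).coprime ?_
  by_cases i : PiG σ[L]ᶜ M
  · exact i.of_le inf_le_left
  obtain ⟨j, k⟩ := non_disjoint_signalizer_frob hM a b h c1.max c1.le i
  obtain ⟨U, hU⟩ := j.exists_ofF
  have f := j.frob_of_tau2 k hU.sd
  obtain ⟨y1, y2, w, w1, w2, w3⟩ := j.mem_AA.1 (j.A0_eq ▸ hy)
  exact PiG.of_le (sigma_pig' hM c1.max n (O_pig _ _))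
    ((f.cent_le (f.cent_le w1 w2 ⟨y1, mem_C1.2 w3⟩) y2).trans (MF_le_Msigma hM))
theorem typeA1_eq (hM : IsCoatom M) : typeA1 M = A1 M := by rw [typeA1, typeCore_eq hM, A1]
theorem typeA_eq (hM : IsCoatom M) (h : IsOfTypeI M ∨ TypeP M) : typeA M = AA M := by
  ext x
  rw [typeA]
  split_ifs with i
  · exact (typeI_typeF hM i).mem_AA.symm
  · obtain ⟨U, W₁, W₂, a⟩ := (h.resolve_left i).exists_pd'
    rw [typeCore_eq hM, a.mem_AA]; rfl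
theorem typeA_sub (hM : IsCoatom M) : typeA M ⊆ AA M := by
  by_cases i : IsOfTypeI M ∨ TypeP M
  · exact (typeA_eq hM i).le
  have j := (typeF_or_typeP hM).resolve_right (mt Or.inr i)
  intro x hx
  rw [typeA, if_neg (mt Or.inl i), typeCore_eq hM, ← MF_eq_of_notP1 (Or.inl j)] at hx
  exact j.mem_AA.2 ⟨der_le M hx.1, hx.2⟩
theorem typeA0_sub (hM : IsCoatom M) : typeA0 M ⊆ A0 M := by
  rintro x (i | ⟨-, W₁, U, W₂, a, m, b, w, c, d, e, f⟩)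
  · exact AA_sub M (typeA_sub hM i)
  · exact (pd_of_tyP hM a).mem_A0.2 (Or.inr ⟨m, b, w, ⟨c, fun i => i.elim d e⟩, f⟩)
theorem typeA0_eq (hM : IsCoatom M) (h : IsOfTypeI M ∨ TypeP M) : typeA0 M = A0 M := by
  refine (typeA0_sub hM).antisymm fun x hx => ?_
  rw [typeA0, typeA_eq hM h]
  by_cases i : IsOfTypeI M
  · exact Or.inl ((typeI_typeF hM i).A0_eq ▸ hx)
  obtain ⟨U, W₁, W₂, a⟩ := (h.resolve_left i).exists_pd'
  exact (a.mem_A0.1 hx).imp_right fun ⟨m, b, w, c, d⟩ =>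
    ⟨i, _, _, _, a.tyP, m, b, w, c.1, fun j => c.2 (Or.inl j), fun j => c.2 (Or.inr j), d⟩
end types

/-- frozen statement S1380, `minsimple_odd_type_one_iff_kappa_trivial` -/
theorem bg1380' {G : Type*} [Group G] [Finite G] (hG : Cfsg.IsMinSimpleOddOrder G)
    (hI : ∀ M : Subgroup G, TypeF M → IsOfTypeI M)
    (M : Subgroup G) (hM : IsCoatom M) (K U : Subgroup G) (hKU : Cfsg.IsSigmaDecomposition M K U) :
    Cfsg.IsOfTypeI M ↔ (K = ⊥ ∧ U ≠ ⊥) := by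
  haveI : MSO G := ⟨hG⟩
  have h := (sigmaDec_iff hM).1 hKU
  exact ⟨fun i => ⟨(typeF_iff hM h.hK).1 (typeI_typeF hM i), h.ne_bot (Or.inl (typeI_typeF hM i))⟩,
    fun i => hI M ((typeF_iff hM h.hK).2 i.1)⟩

/-- frozen statement S1381, `minsimple_odd_type_two_iff_kappa_and_complement_nontrivial` -/
theorem bg1381 {G : Type*} [Group G] [Finite G] (hG : Cfsg.IsMinSimpleOddOrder G)
    (M : Subgroup G) (hM : IsCoatom M) (K U : Subgroup G) (hKU : Cfsg.IsSigmaDecomposition M K U) :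
    Cfsg.IsOfTypeII M ↔ (K ≠ ⊥ ∧ U ≠ ⊥) := by
  haveI : MSO G := ⟨hG⟩
  have h := (sigmaDec_iff hM).1 hKU
  exact (typeII_iff hM).trans ⟨fun i => ⟨i.1.ne_bot h.hK, h.ne_bot (Or.inr i)⟩, fun i => h.typeP2 hM i.1 i.2⟩

/-- frozen statement S1382, `minsimple_odd_type_three_or_four_iff` -/
theorem bg1382 {G : Type*} [Group G] [Finite G] (hG : Cfsg.IsMinSimpleOddOrder G)
    (M : Subgroup G) (hM : IsCoatom M) (K U : Subgroup G) (hKU : Cfsg.IsSigmaDecomposition M K U) :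
    (Cfsg.IsOfTypeIII M ∨ Cfsg.IsOfTypeIV M) ↔ (K ≠ ⊥ ∧ U = ⊥ ∧ Cfsg.fittingHallOf M ≠ Cfsg.sigmaCore M) := by
  haveI : MSO G := ⟨hG⟩
  have h := (sigmaDec_iff hM).1 hKU
  exact (type34_iff hM).trans ⟨fun i => ⟨i.1.1.ne_bot h.hK, h.eq_bot_iff.2 i.1.pi, i.2⟩,
    fun i => ⟨⟨h.typeP hM i.1, h.eq_bot_iff.1 i.2.1⟩, i.2.2⟩⟩

/-- frozen statement S1383, `minsimple_odd_type_five_iff` -/
theorem bg1383 {G : Type*} [Group G] [Finite G] (hG : Cfsg.IsMinSimpleOddOrder G)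
    (M : Subgroup G) (hM : IsCoatom M) (K U : Subgroup G) (hKU : Cfsg.IsSigmaDecomposition M K U) :
    Cfsg.IsOfTypeV M ↔ (K ≠ ⊥ ∧ U = ⊥ ∧ Cfsg.fittingHallOf M = Cfsg.sigmaCore M) := by
  haveI : MSO G := ⟨hG⟩
  have h := (sigmaDec_iff hM).1 hKU
  exact (typeV_iff hM).trans ⟨fun i => ⟨i.1.1.ne_bot h.hK, h.eq_bot_iff.2 i.1.pi, i.2⟩,
    fun i => ⟨⟨h.typeP hM i.1, h.eq_bot_iff.1 i.2.1⟩, i.2.2⟩⟩

/-- frozen statement S1384, `minsimple_odd_nilpotent_hall_fusion` -/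
theorem bg1384 {G : Type*} [Group G] [Finite G] (hG : Cfsg.IsMinSimpleOddOrder G)
    (H : Subgroup G) (hHn : Group.IsNilpotent H) (hHall : (Nat.card H).Coprime H.index) :
    ∀ x ∈ H, ∀ g : G, g * x * g⁻¹ ∈ H → ∃ n ∈ Subgroup.normalizer (H : Set G), n * x * n⁻¹ = g * x * g⁻¹ := by
  haveI : MSO G := ⟨hG⟩
  have a := hall_of_coprime (le_top (a := H)) (by rwa [relIndex_top_right])
  obtain ⟨M, b, c⟩ := nil_hall_sigma hHn a
  intro x i g j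
  obtain ⟨n, d, e⟩ := sigma_hall_tame b (a.sub c le_top) i j
  exact ⟨n, d.2, e⟩

/-- frozen statement S1385, `minsimple_odd_maximal_subgroups_structure` -/
theorem bg1385' {G : Type*} [Group G] [Finite G] (hG : Cfsg.IsMinSimpleOddOrder G)
    (hI : ∀ M : Subgroup G, TypeF M → IsOfTypeI M) :
    (∀ M : Subgroup G, IsCoatom M → Cfsg.IsOfTypeI M) ∨
      ∃ W₁ W₂ S T : Subgroup G, Cfsg.IsSelfNormalizingCyclic W₁ W₂ ∧ IsCoatom S ∧ IsCoatom T ∧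
        Cfsg.IsComplIn ⁅S, S⁆ W₁ S ∧ Cfsg.IsComplIn ⁅T, T⁆ W₂ T ∧ S ⊓ T = W₁ ⊔ W₂ ∧
        (Cfsg.IsOfTypeII S ∨ Cfsg.IsOfTypeII T) ∧
        (Cfsg.IsOfTypeII S ∨ Cfsg.IsOfTypeIII S ∨ Cfsg.IsOfTypeIV S ∨ Cfsg.IsOfTypeV S) ∧
        (Cfsg.IsOfTypeII T ∨ Cfsg.IsOfTypeIII T ∨ Cfsg.IsOfTypeIV T ∨ Cfsg.IsOfTypeV T) ∧
        ∀ M : Subgroup G, IsCoatom M → Cfsg.IsOfTypeI M ∨ ∃ g : G, M = S.map (MulAut.conj g).toMonoidHom ∨ M = T.map (MulAut.conj g).toMonoidHom := by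
  haveI : MSO G := ⟨hG⟩
  refine all_typeF_or_pair.imp (fun h M hM => hI M (h M hM)) fun ⟨S, T, U, V, W₁, W₂, h⟩ =>
    ⟨W₁, W₂, S, T, h.hS.snc, h.hS.max, h.hT.max, h.hS.der.compl, h.hT.der.compl, h.inf,
      h.p2.imp (typeII_iff h.hS.max).2 (typeII_iff h.hT.max).2, h.hS.typeP.type25, h.hT.typeP.type25,
      fun M hM => (h.all M hM).imp (hI M) ?_⟩
  rintro (⟨g, e⟩ | ⟨g, e⟩)
  exacts [⟨g, Or.inl e.symm⟩, ⟨g, Or.inr e.symm⟩]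

/-- frozen statement S1386, `type_p_w2_determined_by_self_normalizing_pair` -/
theorem bg1386 {G : Type*} [Group G] [Finite G] (W₁ W₂ S U W₂' : Subgroup G) (hW : Cfsg.IsSelfNormalizingCyclic W₁ W₂)
    (hSW : Cfsg.IsComplIn ⁅S, S⁆ W₁ S) (hW₂S : W₂ ≤ S) (hP : Cfsg.IsTypePWith S W₁ U W₂') :
    W₂' = W₂ := by
  obtain ⟨x, a, b⟩ := exists_mem_ne_one hP.W₁_ne
  obtain ⟨y, c, d⟩ := exists_mem_ne_one hW.2.1
  have p : Dprod W₁ W₂ (W₁ ⊔ W₂) := ⟨rfl, hW.2.2.1, cent_symm (le_C_iff.2 hW.2.2.2.1)⟩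
  have w := hP.selfNormalizing
  have q : Dprod W₁ W₂' (W₁ ⊔ W₂') := ⟨rfl, w.2.2.1, cent_symm (le_C_iff.2 w.2.2.2.1)⟩
  have i : W₁ ⊔ W₂ ≤ W₁ ⊔ W₂' := by
    have := ((compl_prod hSW).modr (X := C1[x]) ((Cyc.abel hP.W₁_cyclic).trans (C_le_C1 a))).sup
    rw [hP.W₂_centralizer x a b, sup_comm] at this
    exact this ▸ le_inf (sup_le hSW.2.1 hW₂S) ((Cyc.abel hW.2.2.2.2.1).trans (C_le_C1 (mem_sup_left a)))
  have j : W₁ ⊔ W₂' ≤ W₁ ⊔ W₂ := by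
    rw [← hW.2.2.2.2.2 {x * y} (Set.singleton_subset_iff.2 ⟨mul_mem_sup a c, ?_⟩) (Set.singleton_nonempty _)]
    · exact ((Cyc.abel w.2.2.2.2.1).trans (C_le_C1 (i (mul_mem_sup a c)))).trans (centralizer_le_normalizer _)
    · rintro (k | k)
      · exact d (p.inf.le ⟨(W₁.mul_mem_cancel_left a).1 k, c⟩)
      · exact b (p.inf.le ⟨a, (W₂.mul_mem_cancel_right c).1 k⟩)
  exact Cyc.eq_of_card hW.2.2.2.2.1 (le_sup_right.trans j) le_sup_right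
    (Nat.eq_of_mul_eq_mul_left (card_pos W₁) (by rw [p.card, q.card, i.antisymm j]))

/-- frozen statement S1387, `type_p_fitting_eq_kernel_mul_centralizer` -/
theorem bg1387 {G : Type*} [Group G] [Finite G] (M W₁ U W₂ : Subgroup G) (hP : Cfsg.IsTypePWith M W₁ U W₂) :
    Cfsg.fittingOf M = Cfsg.fittingHallOf M ⊔ (U ⊓ Subgroup.centralizer (Cfsg.fittingHallOf M : Set G)) := by
  exact tyP_F hP

/-- frozen statement S1388, `type_p_derived_complement_centralizes_kernel` -/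
theorem bg1388 {G : Type*} [Group G] [Finite G] (M W₁ U W₂ : Subgroup G) (hP : Cfsg.IsTypePWith M W₁ U W₂) :
    ⁅U, U⁆ ≤ Subgroup.centralizer (Cfsg.fittingHallOf M : Set G) ∧ (U ≠ ⊥ → ¬ U ≤ Subgroup.centralizer (Cfsg.fittingHallOf M : Set G)) := by
  exact ⟨tyP_der hP, tyP_not_cent hP⟩

/-- frozen statement S1389, `minsimple_odd_type_core_sylow_normalizers` -/
theorem bg1389 {G : Type*} [Group G] [Finite G] (hG : Cfsg.IsMinSimpleOddOrder G)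
    (M : Subgroup G) (hM : IsCoatom M) :
    (∀ (p : ℕ), p.Prime → ∀ (P : Sylow p ↥(Cfsg.typeCore M)), (P : Subgroup ↥(Cfsg.typeCore M)) ≠ ⊥ →
        Subgroup.normalizer ((((P : Subgroup ↥(Cfsg.typeCore M)).map (Cfsg.typeCore M).subtype : Subgroup G)) : Set G) ≤ M) ∧
      (Nat.card (Cfsg.fittingHallOf M)).Coprime (Cfsg.fittingHallOf M).index ∧
      (Nat.card (Cfsg.typeCore M)).Coprime (Cfsg.typeCore M).index := by
  haveI : MSO G := ⟨hG⟩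
  rw [typeCore_eq hM, ← relIndex_top_right, ← relIndex_top_right]
  refine ⟨fun p hp P h => ?_, Hall.coprime (π := piOf MF[M] ∩ σ[M]) ((((MF_hall M).sub (MF_le_Msigma hM)
    (O_le _ _)).congr fun p a b => (and_iff_left (O_pig _ _ p a b)).symm).trans (Msigma_hall_top hM)
      Set.inter_subset_right), (Msigma_hall_top hM).coprime⟩
  have a := syl_map hp P
  have b := a.pi.mem_of_ne (mt (map_eq_bot_iff_of_injective _ (subtype_injective _)).1 h) ((O_pig _ _).of_le a.le)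
  exact norm_sigma_syl b ((Msigma_hall hM).syl b a)

/-- frozen statement S1390, `minsimple_odd_type_one_two_complement_properties` -/
theorem bg1390 {G : Type*} [Group G] [Finite G] (hG : Cfsg.IsMinSimpleOddOrder G)
    (M : Subgroup G) (hM : IsCoatom M) (U : Subgroup G)
    (hU : (Cfsg.IsOfTypeI M ∧ Cfsg.IsComplIn (Cfsg.fittingHallOf M) U M) ∨ (Cfsg.IsOfTypeII M ∧ Cfsg.IsComplIn (Cfsg.fittingHallOf M) U ⁅M, M⁆)) :
    (∀ (p : ℕ), p.Prime → ∀ P : Sylow p U, IsMulCommutative (P : Subgroup U) ∧ Cfsg.PRankLE p 2 (P : Subgroup U)) ∧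
      (∀ X : Set G, X ⊆ (U : Set G) \ {1} → X.Nonempty → Cfsg.fittingHallOf M ⊓ Subgroup.centralizer X ≠ ⊥ →
        Subgroup.centralizer X ≤ M ∧ ∀ L : Subgroup G, IsCoatom L → Subgroup.centralizer X ≤ L → L = M) ∧
      Cfsg.IsTISubset (Cfsg.typeA M \ Cfsg.typeA1 M) := by
  haveI : MSO G := ⟨hG⟩
  obtain ⟨K, h, e, t⟩ : ∃ K, KappaCompl M U K ∧ MF[M] = Mσ[M] ∧ (IsOfTypeI M ∨ TypeP M) := by
    rcases hU with ⟨a, b⟩ | ⟨a, b⟩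
    · have c := typeI_typeF hM a
      exact ⟨_, c.kc (sdprod_of_compl b (b.2.1.trans (MF_norm M))), MF_eq_of_notP1 (Or.inl c), Or.inl a⟩
    · have c := (typeII_iff hM).1 a
      obtain ⟨V, W₁, W₂, d⟩ := c.1.exists_pd'
      obtain ⟨g, i, j⟩ := d.hallU.conj (sol_of_le hM (der_le M)) (((MF_hall M).sub b.1 (der_le M)).compl_hall b)
      have k := d.cj g
      rw [cj_of_mem (der_le M i), j] at k
      exact ⟨_, k.kc c, MF_eq_of_notP1 (Or.inr c), Or.inr c.1⟩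
  have d := (sigmaDec_iff hM).2 h
  refine ⟨bg1358 hG M hM K U d, fun X a ⟨x, b⟩ c => ?_, ?_⟩
  · rw [← centralizer_closure] at c ⊢
    exact bg1361 hG M hM K U d _ ((closure_le _).2 fun y i => (a i).1)
      (ne_bot_of_mem (subset_closure b) (a b).2) (by rwa [sigmaCore_eq, ← e])
  · rw [typeA_eq hM t, typeA1_eq hM]
    exact isTI_of (L := M) (fun g a x b => ⟨AA_conj a b.1, fun i => b.2 (by simpa [mul_assoc] using A1_conj (inv_mem a) i)⟩)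
      fun g x a b c => A0_ti hM (AA_sub M a.1) (fun i => a.2 ⟨i, c⟩) (AA_sub M b.1)

/-- frozen statement S1391, `minsimple_odd_tame_embedding_of_maximal_subgroup_sets` -/
theorem bg1391' {G : Type*} [Group G] [Finite G] (hG : Cfsg.IsMinSimpleOddOrder G)
    (hI : ∀ M : Subgroup G, TypeF M → IsOfTypeI M)
    (M : Subgroup G) (hM : IsCoatom M) (X : Set G) (hX : X = Cfsg.typeA M ∨ X = Cfsg.typeA0 M) :
    (∀ x ∈ X, ∀ g : G, g * x * g⁻¹ ∈ X → ∃ m ∈ M, m * x * m⁻¹ = g * x * g⁻¹) ∧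
      (∀ x ∈ X, ¬ Subgroup.centralizer ({x} : Set G) ≤ M → x ∈ Cfsg.typeA1 M ∧ ∃! L : Subgroup G, IsCoatom L ∧ Subgroup.centralizer ({x} : Set G) ≤ L) ∧
      ∀ x ∈ X, ¬ Subgroup.centralizer ({x} : Set G) ≤ M → ∀ L : Subgroup G, IsCoatom L → Subgroup.centralizer ({x} : Set G) ≤ L →
        Cfsg.IsComplIn (Cfsg.fittingHallOf L) (M ⊓ L) L ∧
        Subgroup.centralizer ({x} : Set G) ≤ Subgroup.normalizer ((Cfsg.fittingHallOf L ⊓ Subgroup.centralizer ({x} : Set G) : Subgroup G) : Set G) ∧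
        Cfsg.IsComplIn (Cfsg.fittingHallOf L ⊓ Subgroup.centralizer ({x} : Set G)) (M ⊓ Subgroup.centralizer ({x} : Set G)) (Subgroup.centralizer ({x} : Set G)) ∧
        (∀ y ∈ X, (Nat.card (Cfsg.fittingHallOf L)).Coprime (Nat.card ↥(M ⊓ Subgroup.centralizer ({y} : Set G)))) ∧
        (x ∈ Cfsg.typeA L ∧ x ∉ Cfsg.typeA1 L) ∧
        (Cfsg.IsOfTypeI L ∨ Cfsg.IsOfTypeII L) ∧
        (Cfsg.IsOfTypeII L → ∃ E : Subgroup ↥M, Cfsg.IsFrobeniusComplement E ∧ Cfsg.frobeniusKernel E = ((Cfsg.fittingHall ↥M : Subgroup ↥M) : Set ↥M)) := by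
  haveI : MSO G := ⟨hG⟩
  have s : X ⊆ A0 M := by
    rcases hX with rfl | rfl
    exacts [(typeA_sub hM).trans (AA_sub M), typeA0_sub hM]
  refine ⟨fun x a g b => A0_fusion hM (s a) (s b), fun x a b => ?_, fun x a b L c d => ?_⟩
  · obtain ⟨i, L, j⟩ := A0_supp hM (s a) b
    exact ⟨typeA1_eq hM ▸ i, inU_iff.1 j.umax.inU⟩
  · obtain ⟨-, H, j⟩ := A0_supp hM (s a) b
    obtain rfl := j.umax.uniq L c d
    have t := j.ty.imp (hI L) (typeII_iff c).2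
    refine ⟨j.sd.compl, j.sdC.nl, j.sdC.compl, fun y i => j.cop y (s i), ⟨?_, typeA1_eq c ▸ j.nmem⟩, t, fun i => ?_⟩
    · exact typeA_eq c (j.ty.imp (hI L) (·.1)) ▸ j.mem
    · obtain ⟨-, ⟨E, e, -⟩, -⟩ := j.frob fun k => k.not_typeP ((typeII_iff c).1 i).1
      exact ⟨_, e.isFrob.1, e.isFrob.2.trans (by
        rw [fittingHallOf, subgroupOf, comap_map_eq_self_of_injective M.subtype_injective])⟩

end Cfsg.Agent.BG
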