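import Cfsg.Agent.BG.S16b
/-!
Bender–Glauberman, section 16: frozen forms of results of sections 14 and 15.
The theorems `bgNNNN` have exactly the type of the frozen statements.
-/
set_option autoImplicit false

namespace Cfsg.Agent.BG
open Subgroup PHom

/-- frozen statement S1429, `minsimple_odd_non_p1_small_sylow_omega` -/
theorem bg1429 {G : Type*} [Group G] [Finite G] (hG : Cfsg.IsMinSimpleOddOrder G)
    (M : Subgroup G) (hM : IsCoatom M) (hP1 : ¬ (∀ q : ℕ, q.Prime → q ∣ Nat.card M → q ∉ Cfsg.sigma M → q ∈ Cfsg.kappa M))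
    (p : ℕ) [Fact p.Prime] (hpM : p ∣ Nat.card M) (hp : p ∉ Cfsg.sigma M ∪ Cfsg.kappa M) (S : Sylow p M) :
    Nat.card ↥(Subgroup.closure {x : G | x ∈ (S : Subgroup M).map M.subtype ∧ x ^ p = 1}) ≤ p ^ 2 ∧
      Cfsg.sigmaCore M ⊓ Subgroup.centralizer ((Subgroup.closure {x : G | x ∈ (S : Subgroup M).map M.subtype ∧ x ^ p = 1} : Subgroup G) : Set G) = ⊥ ∧
      Group.IsNilpotent (Cfsg.sigmaCore M) := by
  haveI : MSO G := ⟨hG⟩
  have hp' : p.Prime := Fact.out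
  obtain ⟨-, a, b, c⟩ := sigma'_kappa'_facts hM hp' (syl_map hp' S) hpM (fun h => hp (Or.inl h)) fun h => hp (Or.inr h)
  exact ⟨Nat.le_of_dvd (pow_pos hp'.pos 2) a, b, c⟩

/-- frozen statement S1430, `minsimple_odd_kappa_hall_prime_action` -/
theorem bg1430 {G : Type*} [Group G] [Finite G] (hG : Cfsg.IsMinSimpleOddOrder G)
    (M : Subgroup G) (hM : IsCoatom M) (K : Subgroup G) (hK : Cfsg.IsPiHallOf (Cfsg.kappa M) K M) (hK1 : K ≠ ⊥) :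
    (∀ k ∈ K, k ≠ 1 → Cfsg.sigmaCore M ⊓ Subgroup.centralizer ({k} : Set G) = (Cfsg.sigmaCore M ⊓ Subgroup.centralizer (K : Set G))) ∧
      (∃ U : Subgroup G, IsMulCommutative U ∧ Cfsg.IsPiHallOf {q | q.Prime ∧ q ∉ Cfsg.kappa M ∧ q ∉ Cfsg.sigma M} U M ∧
        K ≤ Subgroup.normalizer (U : Set G) ∧ ∀ k ∈ K, k ≠ 1 → U ⊓ Subgroup.centralizer ({k} : Set G) = ⊥) ∧
      ∀ X : Subgroup G, X ≤ K → (Nat.card X).Prime →
        M ⊓ Subgroup.normalizer (X : Set G) = K ⊔ (Cfsg.sigmaCore M ⊓ Subgroup.centralizer (K : Set G)) ∧ M ⊓ Subgroup.normalizer (K : Set G) = K ⊔ (Cfsg.sigmaCore M ⊓ Subgroup.centralizer (K : Set G)) ∧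
        ∀ Mstar : Subgroup G, IsCoatom Mstar → Subgroup.normalizer (X : Set G) ≤ Mstar → X ≤ Cfsg.sigmaCore Mstar := by
  haveI : MSO G := ⟨hG⟩
  replace hK := hall_iff.2 hK
  have hP := (typeP_iff hM hK).2 hK1
  obtain ⟨U, hU⟩ := ex_kappa_compl hM hK
  obtain ⟨-, -, a, b, c⟩ := kappa_compl_context hM hU
  refine ⟨a, ⟨U, (c hK1).comm, (hU.hU.congr fun q hq _ => ?_).of, hU.norm, b⟩, fun X i j =>
    ⟨hP.inf_N hK i (ne_bot_of_prime j) (hP.norm_prime hK i j), hP.inf_N hK le_rfl hK1 (normG K),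
      fun H => hP.le_Msigma hK i j⟩⟩
  simp [hq, and_comm]

/-- frozen statement S1431, `minsimple_odd_kappa_star_intersections` -/
theorem bg1431 {G : Type*} [Group G] [Finite G] (hG : Cfsg.IsMinSimpleOddOrder G)
    (M : Subgroup G) (hM : IsCoatom M) (K : Subgroup G) (hK : Cfsg.IsPiHallOf (Cfsg.kappa M) K M) (hK1 : K ≠ ⊥) :
    (∀ g : G, g ∉ M → (Cfsg.sigmaCore M ⊓ Subgroup.centralizer (K : Set G)) ⊓ M.map (MulAut.conj g).toMonoidHom = ⊥) ∧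
      (∀ g ∈ M, g ∉ K ⊔ (Cfsg.sigmaCore M ⊓ Subgroup.centralizer (K : Set G)) → K ⊓ K.map (MulAut.conj g).toMonoidHom = ⊥) ∧
      (∀ (p : ℕ), p.Prime → p ∣ Nat.card ↥(Cfsg.sigmaCore M ⊓ Subgroup.centralizer (K : Set G)) → ∀ S : Sylow p ↥(Cfsg.sigmaCore M),
        Cfsg.InUniqueMaximal ((S : Subgroup ↥(Cfsg.sigmaCore M)).map (Cfsg.sigmaCore M).subtype) ∧
        (S : Subgroup ↥(Cfsg.sigmaCore M)).map (Cfsg.sigmaCore M).subtype ≤ M ∧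
        ¬ (S : Subgroup ↥(Cfsg.sigmaCore M)).map (Cfsg.sigmaCore M).subtype ≤ (Cfsg.sigmaCore M ⊓ Subgroup.centralizer (K : Set G))) ∧
      ∀ Y : Subgroup G, (∀ p : ℕ, p.Prime → p ∣ Nat.card Y → p ∈ Cfsg.sigma M) → Y ⊓ (Cfsg.sigmaCore M ⊓ Subgroup.centralizer (K : Set G)) ≠ ⊥ → Y ≤ Cfsg.sigmaCore M := by
  haveI : MSO G := ⟨hG⟩
  replace hK := hall_iff.2 hK
  have hP := (typeP_iff hM hK).2 hK1
  obtain ⟨-, -, ⟨a, b⟩, c, d, -⟩ := typeP_structure hP hK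
  refine ⟨a, fun g i j => b g i fun k => j ((hP.inf_N hK le_rfl hK1 (normG K)).le ⟨i, k⟩), fun p hp h S => ?_, d⟩
  obtain ⟨i, j⟩ := c p hp h _ (syl_map hp S)
  exact ⟨inU_iff.1 i.inU, i.le, fun k => j (k.trans inf_le_right)⟩

/-- frozen statement S1432, `minsimple_odd_sigma_element_centralizer_dichotomy` -/
theorem bg1432 {G : Type*} [Group G] [Finite G] (hG : Cfsg.IsMinSimpleOddOrder G)
    (M : Subgroup G) (hM : IsCoatom M) (x : G) (hx : x ∈ Cfsg.sigmaCore M) (hx1 : x ≠ 1) (x' : G) (hx' : x' ∈ M ⊓ Subgroup.centralizer ({x} : Set G)) (hx'1 : x' ≠ 1)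
    (hσ : ∀ p : ℕ, p.Prime → p ∣ orderOf x' → p ∉ Cfsg.sigma M) :
    ((∀ p : ℕ, p.Prime → p ∣ orderOf x' → p ∈ Cfsg.kappa M) ∧ Subgroup.centralizer ({x} : Set G) ≤ M) ∨
      ((∀ p : ℕ, p.Prime → p ∣ orderOf x' → p ∈ Cfsg.tau2 M) ∧
        (∃ L : Subgroup G, IsCoatom L ∧ ∀ p : ℕ, p.Prime → p ∣ orderOf x' → p ∈ Cfsg.sigma L) ∧
        (Subgroup.centralizer ({x'} : Set G) ≤ M ∧ ∀ L : Subgroup G, IsCoatom L → Subgroup.centralizer ({x'} : Set G) ≤ L → L = M)) := by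
  haveI : MSO G := ⟨hG⟩
  refine (pi_of_cent_sigma hM hx hx1 hx' hx'1 hσ).imp_right fun ⟨a, ⟨_, L, b, c⟩, d⟩ =>
    ⟨a, ⟨L, b, (O_pig _ _).elt c⟩, d.pair⟩

/-- frozen statement S1433, `minsimple_odd_sigma_cosets_disjoint` -/
theorem bg1433 {G : Type*} [Group G] [Finite G] (hG : Cfsg.IsMinSimpleOddOrder G)
    (M N : Subgroup G) (hM : IsCoatom M) (hN : IsCoatom N) (x y : G) (hx : x ∈ Cfsg.sigmaCore M) (hy : y ∈ Cfsg.sigmaCore N)
    (hx1 : x ≠ 1) (hy1 : y ≠ 1) (hxy : x ≠ y) :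
    ∀ r ∈ Cfsg.supportR M x, ∀ s ∈ Cfsg.supportR N y, x * r ≠ y * s := by
  haveI : MSO G := ⟨hG⟩
  rw [supportR_eq hM hx hx1, supportR_eq hN hy hy1]
  exact fun r a s b e => hxy (sigma_cover_disjoint (g := x * r) ⟨hx1, M, hM, hx⟩ ⟨hy1, N, hN, hy⟩
    (by rwa [inv_mul_cancel_left]) (by rwa [e, inv_mul_cancel_left]))

/-- frozen statement S1434, `minsimple_odd_kappa_pair_centralizers_and_count` -/
theorem bg1434 {G : Type*} [Group G] [Finite G] (hG : Cfsg.IsMinSimpleOddOrder G)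
    (M : Subgroup G) (hM : IsCoatom M) (K U : Subgroup G) (hKU : Cfsg.IsSigmaDecomposition M K U) (hK1 : K ≠ ⊥) (Mstar : Subgroup G) (hMstar : IsCoatom Mstar)
    (hKst : K = Cfsg.sigmaCore Mstar ⊓ Subgroup.centralizer ((Cfsg.sigmaCore M ⊓ Subgroup.centralizer (K : Set G)) : Set G))
    (hKstH : Cfsg.IsPiHallOf (Cfsg.kappa Mstar) (Cfsg.sigmaCore M ⊓ Subgroup.centralizer (K : Set G)) Mstar) :
    Cfsg.kappa M = Cfsg.tau1 M ∧ Cfsg.IsPiHallOf (Cfsg.sigma M) (Cfsg.sigmaCore M ⊓ Subgroup.centralizer (K : Set G)) Mstar ∧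
      (∀ x ∈ K, x ≠ 1 → ∀ y ∈ (Cfsg.sigmaCore M ⊓ Subgroup.centralizer (K : Set G)), y ≠ 1 →
        M ⊓ Subgroup.centralizer ({x} : Set G) = K ⊔ (Cfsg.sigmaCore M ⊓ Subgroup.centralizer (K : Set G)) ∧ Mstar ⊓ Subgroup.centralizer ({y} : Set G) = K ⊔ (Cfsg.sigmaCore M ⊓ Subgroup.centralizer (K : Set G)) ∧
        Subgroup.centralizer ({x * y} : Set G) = K ⊔ (Cfsg.sigmaCore M ⊓ Subgroup.centralizer (K : Set G))) ∧
      (∀ g : G, g ∉ M → ∀ z ∈ ((↑(K ⊔ (Cfsg.sigmaCore M ⊓ Subgroup.centralizer (K : Set G))) : Set G) \ ((K : Set G) ∪ ↑(Cfsg.sigmaCore M ⊓ Subgroup.centralizer (K : Set G)))), z ∉ M.map (MulAut.conj g).toMonoidHom) ∧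
      Nat.card K * Nat.card ↥(Cfsg.sigmaCore M ⊓ Subgroup.centralizer (K : Set G)) * Set.ncard {a : G | ∃ g : G, ∃ z ∈ ((↑(K ⊔ (Cfsg.sigmaCore M ⊓ Subgroup.centralizer (K : Set G))) : Set G) \ ((K : Set G) ∪ ↑(Cfsg.sigmaCore M ⊓ Subgroup.centralizer (K : Set G)))), a = g * z * g⁻¹} =
        (Nat.card K * Nat.card ↥(Cfsg.sigmaCore M ⊓ Subgroup.centralizer (K : Set G)) - Nat.card K - Nat.card ↥(Cfsg.sigmaCore M ⊓ Subgroup.centralizer (K : Set G)) + 1) * Nat.card G ∧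
      Nat.card G < 2 * Set.ncard {a : G | ∃ g : G, ∃ z ∈ ((↑(K ⊔ (Cfsg.sigmaCore M ⊓ Subgroup.centralizer (K : Set G))) : Set G) \ ((K : Set G) ∪ ↑(Cfsg.sigmaCore M ⊓ Subgroup.centralizer (K : Set G)))), a = g * z * g⁻¹} := by
  haveI : MSO G := ⟨hG⟩
  replace hKU := (sigmaDec_iff hM).1 hKU
  have hP := hKU.typeP hM hK1
  have e := pemb_of hP hKU.hK hMstar hKst (hall_iff.2 hKstH)
  refine ⟨e.kappa, e.hall'.of, fun x a b y c d => ⟨e.c1 x a b, e.c2 y c d, e.c3 x a b y c d⟩, e.disj, ?_, e.half⟩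
  have d := hP.dprod hKU.hK
  have a := e.nti.card_clS
  have b1 := one_lt_card hK1
  have b2 := one_lt_card (hP.star_ne_bot hKU.hK)
  rw [sigmaCore_eq]
  generalize Mσ[M] ⊓ C[K] = L at *
  have c : (Zhat K L).ncard + (#K + #L) = #K * #L + 1 := by
    have i := Set.ncard_union_add_ncard_inter (K : Set G) L
    have j := Set.ncard_diff_add_ncard_of_subset (s := (K : Set G) ∪ L) (t := ((K ⊔ L : Subgroup G) : Set G))
      (Set.union_subset d.left d.right)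
    rw [← coe_inf, d.inf, coe_bot, Set.ncard_singleton] at i
    rw [d.card]
    simp only [← Nat.card_coe_set_eq] at i j ⊢
    exact (congrArg _ i.symm).trans ((add_assoc _ _ _).symm.trans (congrArg (· + 1) j))
  have f : #K + #L ≤ #K * #L := by nlinarith
  rw [show #K * #L - #K - #L + 1 = (Zhat K L).ncard by omega, ← (K ⊔ L).card_mul_index, ← d.card]
  exact (congrArg _ a).trans (by ring)

/-- frozen statement S1435, `minsimple_odd_type_p2_complement_sylow_normalizer` -/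
theorem bg1435 {G : Type*} [Group G] [Finite G] (hG : Cfsg.IsMinSimpleOddOrder G)
    (M : Subgroup G) (hM : IsCoatom M) (K U : Subgroup G) (hKU : Cfsg.IsSigmaDecomposition M K U) (hK1 : K ≠ ⊥) (hU1 : U ≠ ⊥) (Mstar : Subgroup G) (hMstar : IsCoatom Mstar)
    (hKst : K = Cfsg.sigmaCore Mstar ⊓ Subgroup.centralizer ((Cfsg.sigmaCore M ⊓ Subgroup.centralizer (K : Set G)) : Set G))
    (hKstH : Cfsg.IsPiHallOf (Cfsg.kappa Mstar) (Cfsg.sigmaCore M ⊓ Subgroup.centralizer (K : Set G)) Mstar)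
    (r : ℕ) [Fact r.Prime] (hr : r ∣ Nat.card U) (R : Sylow r U) (H : Subgroup G) (hH : IsCoatom H)
    (hNR : Subgroup.normalizer (((R : Subgroup U).map U.subtype : Subgroup G) : Set G) ≤ H) :
    Cfsg.kappa H = ∅ ∧ U ≤ Cfsg.sigmaCore H ∧ M ⊓ H = U ⊔ K ∧ ¬ H ⊓ Subgroup.normalizer (U : Set G) ≤ M ∧
      K ≤ Cfsg.fittingOf (H ⊓ Mstar) ∧ Cfsg.IsComplIn (H ⊓ Mstar) (Cfsg.sigmaCore H) H := by
  haveI : MSO G := ⟨hG⟩
  replace hKU := (sigmaDec_iff hM).1 hKU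
  have hr' : r.Prime := Fact.out
  have e := pemb_of (hKU.typeP hM hK1) hKU.hK hMstar hKst (hall_iff.2 hKstH)
  obtain ⟨X, i, j⟩ := exists_prime_sub' hK1
  obtain ⟨a, b, c, d, f, g⟩ := typeP2_signalizer (hKU.typeP2 hM hK1 hU1) hKU hMstar
    ((centS i).trans (e.uniq X i j).le) hr' (syl_map hr' R) hH hNR
  exact ⟨a.kappa, b, c.symm, d, f, compl_symm (sdprod_sigma hH g).compl⟩

/-- frozen statement S1436, `minsimple_odd_two_sigma_maximals_over_element` -/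
theorem bg1436 {G : Type*} [Group G] [Finite G] (hG : Cfsg.IsMinSimpleOddOrder G)
    (M : Subgroup G) (hM : IsCoatom M) (x : G) (hx : x ∈ Cfsg.sigmaCore M) (hx1 : x ≠ 1) (hxM : ¬ Subgroup.centralizer ({x} : Set G) ≤ M)
    (N : Subgroup G) (hN : IsCoatom N) (hxN : Subgroup.centralizer ({x} : Set G) ≤ N) :
    ((∃ p ∈ Cfsg.sigma N, p ∣ Nat.card M) → Cfsg.kappa M = ∅ ∧ Cfsg.tau2 M = ∅) ∧
      ∀ (y : G) (N' : Subgroup G) (g : G), y ∈ Cfsg.sigmaCore M → y ≠ 1 → ¬ Subgroup.centralizer ({y} : Set G) ≤ M → IsCoatom N' → Subgroup.centralizer ({y} : Set G) ≤ N' →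
        N'.map (MulAut.conj g).toMonoidHom = N → ∃ m ∈ M, N'.map (MulAut.conj m).toMonoidHom = N := by
  haveI : MSO G := ⟨hG⟩
  refine ⟨fun ⟨p, a, b⟩ => ?_, fun y L g a b c d e f => signalizer_base_conj hM hx hx1 hxM hN hxN a b c d e f⟩
  exact (non_disjoint_signalizer_frob hM hx hx1 hxM hN hxN fun h => h p (sigma_prime a) b a).imp_left (·.kappa)

/-- frozen statement S1437, `minsimple_odd_fitting_hall_ne_sigma_core_structure` -/
theorem bg1437 {G : Type*} [Group G] [Finite G] (hG : Cfsg.IsMinSimpleOddOrder G)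
    (M : Subgroup G) (hM : IsCoatom M) (K U : Subgroup G) (hKU : Cfsg.IsSigmaDecomposition M K U) (hne : Cfsg.fittingHallOf M ≠ Cfsg.sigmaCore M) :
    U = ⊥ ∧ Cfsg.sigmaCore M = ⁅M, M⁆ ∧ (Nat.card K).Prime ∧ (Nat.card ↥(Cfsg.sigmaCore M ⊓ Subgroup.centralizer (K : Set G))).Prime ∧
      Nat.card ↥(Cfsg.sigmaCore M ⊓ Subgroup.centralizer (K : Set G)) ∣ Nat.card (Cfsg.fittingHallOf M) ∧ Nat.card ↥(Cfsg.sigmaCore M ⊓ Subgroup.centralizer (K : Set G)) ∈ Cfsg.beta M ∧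
      ∃ Q : Subgroup G, Q ≤ Cfsg.fittingHallOf M ∧ M ≤ Subgroup.normalizer (Q : Set G) ∧ IsPGroup (Nat.card ↥(Cfsg.sigmaCore M ⊓ Subgroup.centralizer (K : Set G))) Q ∧
        ¬ Nat.card ↥(Cfsg.sigmaCore M ⊓ Subgroup.centralizer (K : Set G)) ∣ Q.relIndex (Cfsg.sigmaCore M) ∧
        ∀ D : Subgroup G, Cfsg.IsComplIn Q D (Cfsg.sigmaCore M) →
          Group.IsNilpotent D ∧ M ≤ Subgroup.normalizer ((Q ⊓ Subgroup.centralizer (D : Set G) : Subgroup G) : Set G) ∧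
          Q ⊓ Subgroup.centralizer (D : Set G) < Q ∧
          Nat.card Q = Nat.card ↥(Q ⊓ Subgroup.centralizer (D : Set G)) * Nat.card ↥(Cfsg.sigmaCore M ⊓ Subgroup.centralizer (K : Set G)) ^ Nat.card K ∧
          (∀ a ∈ Q, ∀ b ∈ Q, a ^ Nat.card ↥(Cfsg.sigmaCore M ⊓ Subgroup.centralizer (K : Set G)) ∈ Q ⊓ Subgroup.centralizer (D : Set G) ∧
            a * b * a⁻¹ * b⁻¹ ∈ Q ⊓ Subgroup.centralizer (D : Set G)) ∧
          ∀ N : Subgroup G, Q ⊓ Subgroup.centralizer (D : Set G) < N → N < Q → ¬ M ≤ Subgroup.normalizer (N : Set G) := by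
  haveI : MSO G := ⟨hG⟩
  replace hKU := (sigmaDec_iff hM).1 hKU
  obtain ⟨D, a, b, h⟩ := exists_MFne hM hKU.hK hne
  rw [sigmaCore_eq]
  generalize #(Mσ[M] ⊓ C[K]) = q at *
  have QM : O[{q}](M) ≤ MF[M] := O_MF h.dvd ▸ O_le _ _
  have s := h.syl.sub (QM.trans (MF_le_Msigma hM)) (O_le _ _)
  refine ⟨hKU.eq_bot_iff.2 h.p1.pi, h.der, h.primeK, h.prime, h.dvd, h.beta, _, QM, O_norm _ _, h.syl.pi.pg h.prime,
    Syl.not_dvd s h.prime, fun E hE => ?_⟩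
  obtain ⟨m, hm, rfl⟩ := a.conj (sol_of_le hM (O_le _ _)) (s.compl_hall hE)
  have mM := O_le _ _ hm
  rw [show O[{q}](M) ⊓ C[cj m D] = O[{q}](M) ⊓ C[D] by
    rw [← cj_of_mem_N (h.norm mM), cj_inf, cj_C, cj_of_mem_N (O_norm _ _ mM)]]
  obtain ⟨i, j⟩ := (abelem_im_iff h.chief.nUV).1 h.abelem
  rw [quo_ker] at i j
  exact ⟨nil_cj.2 h.nil, h.norm, h.chief.lt, by
    rw [← h.card, card_quo h.chief.nUV, card_mul_relIndex inf_le_left],
    fun x hx y hy => ⟨j x hx, i (comm_mem hx hy)⟩, fun N c d e => c.ne' (h.chief.max N c.le d e)⟩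

/-- frozen statement S1438, `minsimple_odd_hall_subgroup_of_sigma_core_fusion` -/
theorem bg1438 {G : Type*} [Group G] [Finite G] (hG : Cfsg.IsMinSimpleOddOrder G)
    (M : Subgroup G) (hM : IsCoatom M) (H : Subgroup G) (hH : H ≤ Cfsg.sigmaCore M) (hH1 : H ≠ ⊥)
    (hHall : (Nat.card H).Coprime (H.relIndex (Cfsg.sigmaCore M))) :
    (∃ X : Subgroup G, IsCyclic X ∧ (∀ p : ℕ, p.Prime → p ∣ Nat.card X → p ∈ Cfsg.tau2 M) ∧
        M ⊓ Subgroup.centralizer (H : Set G) = (Cfsg.sigmaCore M ⊓ Subgroup.centralizer (H : Set G)) ⊔ X) ∧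
      ∀ x ∈ H, ∀ g : G, g * x * g⁻¹ ∈ H → ∃ n ∈ M ⊓ Subgroup.normalizer (H : Set G), n * x * n⁻¹ = g * x * g⁻¹ := by
  haveI : MSO G := ⟨hG⟩
  have a := hall_of_coprime hH hHall
  obtain ⟨X, b, c, d⟩ := cent_hall_sigma_sdprod hM a hH1
  exact ⟨⟨X, c, d, b.sup.symm⟩, fun x i g j => sigma_hall_tame hM a i j⟩

/-- frozen statement S1439, `minsimple_odd_fitting_sigma_prime_part_cyclic` -/
theorem bg1439 {G : Type*} [Group G] [Finite G] (hG : Cfsg.IsMinSimpleOddOrder G)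
    (M : Subgroup G) (hM : IsCoatom M) :
    IsCyclic ↥(Cfsg.piCoreOf {q | q.Prime ∧ q ∉ Cfsg.sigma M} (Cfsg.fittingOf M)) ∧
      (∀ p : ℕ, p.Prime → p ∣ Nat.card ↥(Cfsg.piCoreOf {q | q.Prime ∧ q ∉ Cfsg.sigma M} (Cfsg.fittingOf M)) → p ∈ Cfsg.tau2 M) ∧
      Cfsg.fittingOf M = Cfsg.fittingOf (Cfsg.sigmaCore M) ⊔ Cfsg.piCoreOf {q | q.Prime ∧ q ∉ Cfsg.sigma M} (Cfsg.fittingOf M) := by
  haveI : MSO G := ⟨hG⟩
  rw [O_congr (π := {q | q.Prime ∧ q ∉ σ[M]}) (ρ := σ[M]ᶜ) fun q hq _ => and_iff_right hq]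
  obtain ⟨⟨a, b⟩, ⟨-, -, c⟩, -⟩ := F_structure hM
  exact ⟨a, b, c.sup.symm⟩

end Cfsg.Agent.BG
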