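import Cfsg.Agent.BG.S04a
/-!
Bridges between whole-group statements and the ambient-subgroup toolkit.
-/
set_option autoImplicit false

namespace Cfsg.Agent.BG
open Subgroup PHom
open scoped commutatorElement

variable {G : Type*} [Group G] [Finite G] {G' : Type*} [Group G'] [Finite G']
variable {A B E H K R S T X : Subgroup G} {x y g : G} {p q n : ℕ}

theorem pig_top (hp : p.Prime) (h : IsPGroup p G) : PiG {p} (⊤ : Subgroup G) := pig_of_pg hp (h.to_subgroup ⊤)
theorem pg_of_top (hp : p.Prime) (h : PiG {p} (⊤ : Subgroup G)) : IsPGroup p G :=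
  (h.pg hp).of_equiv topEquiv
omit [Finite G] in
theorem Om_top (p : ℕ) : Ω[p]((⊤ : Subgroup G)) = Subgroup.closure {x : G | x ^ p = 1} := by
  simp [omegaOne]
omit [Finite G] in
theorem C_top : C[(⊤ : Subgroup G)] = center G := by rw [coe_top, centralizer_univ]
omit [Finite G] in
theorem Z_top : Z[(⊤ : Subgroup G)] = center G := by rw [C_top, top_inf_eq]
omit [Finite G] in
theorem abel_top : Abel (⊤ : Subgroup G) ↔ IsMulCommutative G := by
  rw [Abel, le_C_iff]
  exact ⟨fun h => ⟨⟨fun a b => h a trivial b trivial⟩⟩, fun h a _ b _ => h.1.1 a b⟩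
omit [Finite G] in
theorem cyc_quo_top [K.Normal] : Cyc (⊤ ÷ K) ↔ IsCyclic (G ⧸ K) := by
  obtain ⟨e⟩ := exists_equiv_im (φ := quo K) (ψ := tot (QuotientGroup.mk' K)) (A := ⊤) (norm_of_normal _) le_rfl
    (by rw [quo_ker, tot_ker, QuotientGroup.ker_mk'])
  rw [← cyc_top, ← map_top_of_surjective _ (QuotientGroup.mk'_surjective K), ← tot_im]
  exact e.isCyclic
omit [Finite G] in
theorem metacyc_top : Metacyc (⊤ : Subgroup G) ↔ IsMetacyclic G := by
  constructor
  · rintro ⟨K, -, a, b, c⟩
    have := normal_iff.2 a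
    exact ⟨K, this, b, cyc_quo_top.1 c⟩
  · rintro ⟨K, a, b, c⟩
    exact ⟨K, le_top, normal_iff.1 a, b, cyc_quo_top.2 c⟩
omit [Finite G] in
theorem metacyc_iff : Metacyc R ↔ IsMetacyclic R := by
  rw [← metacyc_top]
  constructor
  · intro h
    have := h.im (φ := rst R) le_rfl
    rwa [rst_im_self] at this
  · intro h
    have := h.im (φ := tot R.subtype) le_rfl
    rwa [tot_im, map_subtype_top] at this
theorem prank_le_of_card (hp : p.Prime) (h : ∀ E : Subgroup G, IsElementaryAbelian p E → #E ≤ p ^ n) :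
    r[p](H) ≤ n := pRank_le_of hp fun E a =>
  absurd (a.card ▸ h E (abelem_iff.1 a.ab)) (not_le.2 (Nat.pow_lt_pow_right hp.one_lt n.lt_succ_self))
omit [Finite G] in
theorem Z2_top : Z2 (⊤ : Subgroup G) = Subgroup.upperCentralSeries G 2 := by
  ext x
  rw [mem_Z2, Subgroup.mem_upperCentralSeries_succ_iff, Subgroup.upperCentralSeries_one, C_top]
  simp [commutatorElement_def]

end Cfsg.Agent.BG
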