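import Cfsg.Agent.BG.S05
import Cfsg.Agent.BG.XTop
import Cfsg.Agent.PLoc.Hol
/-!
More bridges: automorphism groups, characteristic subgroups, BG 5.5(c).
-/
set_option autoImplicit false

namespace Cfsg.Agent.BG
open Subgroup PHom
open scoped commutatorElement

variable {G : Type*} [Group G] [Finite G] {G' : Type*} [Group G'] [Finite G']
variable {A B E H K R S T X : Subgroup G} {x y g : G} {p q n : ℕ} {π : Set ℕ}

theorem hol_faithful (A : Subgroup (MulAut G)) :
    (PLoc.holR A).range ⊓ C[(⊤ : Subgroup G).map (PLoc.holL A)] = ⊥ := by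
  rw [eq_bot_iff]
  rintro _ ⟨⟨a, rfl⟩, h⟩
  have : a = 1 := by
    ext x
    have e := PLoc.hol_conj a x
    rw [← mem_C.1 h _ (mem_map_of_mem _ (mem_top x)), mul_inv_cancel_right] at e
    exact (PLoc.holL_injective e).symm
  rw [this, map_one]; exact one_mem _
theorem hol_idx (A : Subgroup (MulAut G)) :
    (C[(⊤ : Subgroup G).map (PLoc.holL A)]).relIndex (PLoc.holR A).range = #A := by
  rw [← inf_relIndex_right, inf_comm, hol_faithful, relIndex_bot_left, PLoc.card_holR_range]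
omit [Finite G] in
theorem char_O_top (π : Set ℕ) [Finite G] : (O[π]((⊤ : Subgroup G))).Characteristic :=
  characteristic_iff_map_le.2 fun e => (map_O_le π ⊤ e.toMonoidHom).trans
    (by rw [map_top_of_surjective _ e.surjective])
omit [Finite G] in
theorem char_Om (h : H.Characteristic) (p : ℕ) : (Ω[p](H)).Characteristic :=
  characteristic_iff_map_le.2 fun e => (map_Om_le e.toMonoidHom).trans (Om_mono (characteristic_iff_map_le.1 h e))
theorem norm_of_char (T : Subgroup S) (h : T.Characteristic) : N[S] ≤ N[T.map S.subtype] := fun g hg =>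
  mem_N_of (by
    rintro _ ⟨t, ht, rfl⟩
    exact ⟨_, characteristic_iff_map_le.1 h ((aut S).app g) (mem_map_of_mem _ ht), aut_app hg t⟩)
theorem pin_compl_of_cop (hp : p.Prime) (h : (#A).Coprime p) : PiG {p}ᶜ A := (pin_compl_cop hp).2 h
theorem le_pPrimeCore_of_pnil (hp : p.Prime) (h : PNil p H) (L : Subgroup H) (h1 : (#L).Coprime p) :
    L ≤ pPrimeCore p H := by
  rw [← map_le_map_iff_of_injective H.subtype_injective, pPrimeCore_map hp]
  exact h.le_O (map_subtype_le _) ((pin_compl_of_cop hp h1).map _)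
theorem OM_bot (π : Set ℕ) (A : Subgroup G) : OM π ⊥ A = O[π](A) :=
  pre_O (φ := quo ⊥) (norm_bot _) (by rw [quo_ker]; exact bot_le) (by rw [quo_ker]; exact pig_bot _)

/-- BG 5.5(c) -/
theorem aut_narrow_prime (hp : p.Prime) (hR : PiG {p} R) (ho : Odd #R) (hn : Narrow p R) (hA : A ≤ N[R])
    (ho' : Odd #A) (h0 : A ⊓ C[R] = ⊥) (h1 : (#A).Prime) (h2 : ¬ #A ∣ p * (p - 1)) :
    2 * #A ∣ p + 1 ∧ (⁅R, A⁆ = R → ¬ Abel R → #R = p ^ 3) := by
  have a1 : #A ≠ p := fun e => h2 (e ▸ dvd_mul_right _ _)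
  have a2 : ¬ #A ∣ p - 1 := fun e => h2 (e.mul_left _)
  have a3 : PiG {p}ᶜ A := (pin_prime h1).2 a1
  have r0 : R ≠ ⊥ := fun e => ne_bot_of_prime h1 (by rw [← h0, e, C_bot, inf_top_eq])
  have a4 : r[p](R) ≤ 2 := by
    by_contra hh
    obtain ⟨x, x1, x2⟩ := cauchy h1 (dvd_refl #A)
    have : x ^ (p - 1) ∈ A ⊓ C[R] := ⟨pow_mem x1 _, aut_narrow_rank3' hp hR ho hn (by omega) (hA x1) (a3.elt x1)⟩
    rw [h0] at this
    exact a2 (x2 ▸ orderOf_dvd_of_pow_eq_one this)
  obtain ⟨b, hb⟩ := hR.odd ho r0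
  refine ⟨?_, fun c1 c2 => ?_⟩
  · have := (pi_aut_rank2 hp hR ho a4 hA h1 (by
      rw [← inf_relIndex_right, inf_comm, h0, relIndex_bot_left]) a1).2.2.resolve_right
      fun e => a2 (e.trans (Nat.div_dvd_of_dvd ⟨b, by omega⟩))
    rw [show p + 1 = 2 * ((p + 1) / 2) by omega]
    exact Nat.mul_dvd_mul_left 2 this
  · obtain ⟨d1, -, d2, -, d3, -⟩ := (rank2_cop_comm_cprod' hR ho r0 a4 c1 a3 ho').2.resolve_left c2
    have nS := normOm p hA
    set D := R ⊓ C[Ω[p](R)]
    have d4 : A ≤ C[D] := by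
      have e := d3.idx_cent_dvd (normI hA (normC nS))
      rcases (Nat.dvd_prime h1).1 (relIndex_dvd C[D] A) with f | f
      · exact relIndex_eq_one.1 f
      · obtain ⟨k, g⟩ := (hR.of_le (inf_le_left : D ≤ R)).card_pow hp
        rw [f, g] at e
        rcases k with _ | k
        · simp at e; exact absurd e (ne_bot_of_prime h1)
        · rw [Nat.totient_prime_pow_succ hp] at e
          exact absurd (((Nat.Prime.dvd_mul h1).1 e).elim
            (fun u => (h1.dvd_of_dvd_pow u).mul_right _) fun u => u.mul_left _) h2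
    have d5 : R ≤ Ω[p](R) := c1.ge.trans ((commS d1.ge le_rfl).trans ((comm_sup_cent (cent_symm d4)
      (cents_norm inf_le_right)).le.trans (commL nS)))
    rw [← d2, le_antisymm (Om_le p R) d5]

end Cfsg.Agent.BG
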